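import Cfsg.Agent.Lib.Helper25.Ind

set_option autoImplicit false

/-!
Mackey-type inner product formula for functions induced from a subgroup `B`
with exactly two double cosets `B` and `B s B`.
-/

namespace Cfsg.Agent.Lib.Helper38

open Cfsg Cfsg.Agent.Lib.Helper25
open scoped ComplexConjugate

variable {G : Type*} [Group G]

/-- extension by zero of a class function of `B` is invariant under conjugation by `B`. -/
theorem extendByZero_conj_mem (B : Subgroup G) (mu : B → ℂ) (hmu : IsClassFunction B mu)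
    (c : B) (g : G) :
    extendByZero B mu ((c : G) * g * (c : G)⁻¹) = extendByZero B mu g := by
  by_cases hg : g ∈ B
  · have h1 : (c : G) * g * (c : G)⁻¹ ∈ B := B.mul_mem (B.mul_mem c.2 hg) (B.inv_mem c.2)
    rw [extendByZero_of_mem B mu hg, extendByZero_of_mem B mu h1]
    have := hmu ⟨g, hg⟩ c
    rw [← this]
    rfl
  · have h1 : (c : G) * g * (c : G)⁻¹ ∉ B := by
      intro h
      apply hg
      have h2 : (c : G)⁻¹ * ((c : G) * g * (c : G)⁻¹) * (c : G) ∈ B :=
        B.mul_mem (B.mul_mem (B.inv_mem c.2) h) c.2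
      have h3 : (c : G)⁻¹ * ((c : G) * g * (c : G)⁻¹) * (c : G) = g := by group
      rwa [h3] at h2
    rw [extendByZero_of_not_mem B mu hg, extendByZero_of_not_mem B mu h1]

/-- The Mackey kernel `Φ(z) = Σ_{b ∈ B} λ(b) conj(μ°(z⁻¹ b z))`. -/
noncomputable def mackeyPhi (B : Subgroup G) [Fintype B] (lam mu : B → ℂ) (z : G) : ℂ :=
  ∑ b : B, lam b * conj (extendByZero B mu (z⁻¹ * (b : G) * z))

theorem classInner_indFun_indFun [Fintype G] (B : Subgroup G) [Fintype B] (lam mu : B → ℂ) :
    classInner (indFun B lam) (indFun B mu) =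
      ((Nat.card B : ℂ)⁻¹) ^ 2 * ∑ z : G, mackeyPhi B lam mu z := by
  rw [frobenius_reciprocity B lam (indFun B mu) (indFun_isClassFunction B mu)]
  simp only [classInner_def, indFun_apply, mackeyPhi, map_mul, map_inv₀, Complex.conj_natCast,
    map_sum]
  rw [Finset.sum_comm, pow_two, mul_assoc]
  congr 1
  rw [Finset.mul_sum]
  apply Finset.sum_congr rfl
  intro b _
  rw [Finset.mul_sum, Finset.mul_sum, Finset.mul_sum]
  apply Finset.sum_congr rfl
  intro z _
  ring

theorem mackeyPhi_mul (B : Subgroup G) [Fintype B] (lam mu : B → ℂ)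
    (hlam : IsClassFunction B lam) (hmu : IsClassFunction B mu) (b₁ b₂ : B) (z : G) :
    mackeyPhi B lam mu ((b₁ : G) * z * (b₂ : G)) = mackeyPhi B lam mu z := by
  unfold mackeyPhi
  apply Fintype.sum_equiv (MulAut.conj b₁⁻¹).toEquiv
  intro b
  simp only [MulEquiv.toEquiv_eq_coe, EquivLike.coe_coe, MulAut.conj_apply, inv_inv]
  have h1 : lam (b₁⁻¹ * b * b₁) = lam b := by
    have := hlam b b₁⁻¹
    simpa using this
  rw [h1]
  congr 2
  have h2 : ((b₁ : G) * z * (b₂ : G))⁻¹ * (b : G) * ((b₁ : G) * z * (b₂ : G)) =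
      ((b₂⁻¹ : B) : G) * (z⁻¹ * ((b₁⁻¹ * b * b₁ : B) : G) * z) * ((b₂⁻¹ : B) : G)⁻¹ := by
    simp only [Subgroup.coe_mul, Subgroup.coe_inv]
    group
  rw [h2, extendByZero_conj_mem B mu hmu]

theorem mackeyPhi_one (B : Subgroup G) [Fintype B] (lam mu : B → ℂ) :
    mackeyPhi B lam mu 1 = (Nat.card B : ℂ) * classInner lam mu := by
  unfold mackeyPhi
  rw [classInner_def, ← mul_assoc, mul_inv_cancel₀ card_ne_zero_complex, one_mul]
  apply Finset.sum_congr rfl
  intro b _
  simp only [inv_one, one_mul, mul_one, extendByZero_coe]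

/-- Two double cosets: inner product of two induced class functions. -/
theorem mackey_two_cosets [Fintype G] (B : Subgroup G) [Fintype B] (lam mu : B → ℂ)
    (hlam : IsClassFunction B lam) (hmu : IsClassFunction B mu) (s : G)
    (hdc : ∀ y : G, y ∉ B → ∃ b₁ b₂ : B, y = (b₁ : G) * s * (b₂ : G)) :
    classInner (indFun B lam) (indFun B mu) =
      classInner lam mu +
        ((Nat.card G : ℂ) - (Nat.card B : ℂ)) * ((Nat.card B : ℂ)⁻¹) ^ 2 *
          mackeyPhi B lam mu s := by
  classical
  rw [classInner_indFun_indFun]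
  have hval : ∀ z : G, mackeyPhi B lam mu z =
      if z ∈ B then (Nat.card B : ℂ) * classInner lam mu else mackeyPhi B lam mu s := by
    intro z
    split_ifs with hz
    · rw [← mackeyPhi_one]
      have := mackeyPhi_mul B lam mu hlam hmu 1 ⟨z, hz⟩ 1
      simpa using this
    · obtain ⟨b₁, b₂, rfl⟩ := hdc z hz
      exact mackeyPhi_mul B lam mu hlam hmu b₁ b₂ s
  rw [Finset.sum_congr rfl (fun z _ => hval z), Finset.sum_ite, Finset.sum_const, Finset.sum_const]
  have hc1 : (Finset.univ.filter (fun z : G => z ∈ B)).card = Nat.card B := by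
    rw [Nat.card_eq_fintype_card, ← Fintype.card_subtype]
  have hc2 : (Finset.univ.filter (fun z : G => ¬ z ∈ B)).card = Nat.card G - Nat.card B := by
    have := Finset.card_filter_add_card_filter_not (s := (Finset.univ : Finset G)) (fun z : G => z ∈ B)
    rw [hc1, Finset.card_univ, ← Nat.card_eq_fintype_card] at this
    omega
  have hle : Nat.card B ≤ Nat.card G := Subgroup.card_le_card_group B
  rw [hc1, hc2, nsmul_eq_mul, nsmul_eq_mul, Nat.cast_sub hle]
  have hB : (Nat.card B : ℂ) ≠ 0 := card_ne_zero_complex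
  field_simp

end Cfsg.Agent.Lib.Helper38
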