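import Mathlib

set_option autoImplicit false

namespace Cfsg.Agent.Lib.Helper38

open Matrix

variable {F : Type*} [Field F] [Fintype F]

/-- `|SL_n(F)| * (q - 1) = |GL_n(F)|` for `n ≥ 1`. -/
theorem card_SL_mul (n : ℕ) (hn : 1 ≤ n) :
    Nat.card (Matrix.SpecialLinearGroup (Fin n) F) * (Fintype.card F - 1) =
      Nat.card (GL (Fin n) F) := by
  classical
  let f : GL (Fin n) F →* Fˣ := Matrix.GeneralLinearGroup.det
  have hsurj : Function.Surjective f := by
    intro u
    let D : Matrix (Fin n) (Fin n) F := Matrix.diagonal (fun i => if (i : ℕ) = 0 then (u : F) else 1)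
    have hD : D.det = (u : F) := by
      rw [Matrix.det_diagonal]
      rw [Finset.prod_eq_single (⟨0, hn⟩ : Fin n)]
      · simp
      · intro b _ hb
        have : (b : ℕ) ≠ 0 := fun h => hb (Fin.ext h)
        simp [this]
      · intro h; exact absurd (Finset.mem_univ _) h
    refine ⟨Matrix.GeneralLinearGroup.mkOfDetNeZero D (by rw [hD]; exact u.ne_zero), ?_⟩
    apply Units.ext
    simp [f, hD]
  have hker : Nat.card f.ker = Nat.card (Matrix.SpecialLinearGroup (Fin n) F) := by
    apply Nat.card_congr
    refine Equiv.symm (Equiv.ofBijective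
      (fun s : Matrix.SpecialLinearGroup (Fin n) F =>
        (⟨Matrix.SpecialLinearGroup.toGL s, by
          rw [MonoidHom.mem_ker]
          apply Units.ext
          simp [f]⟩ : f.ker)) ⟨?_, ?_⟩)
    · intro s s' h
      have := congrArg Subtype.val h
      exact Matrix.SpecialLinearGroup.toGL_injective this
    · rintro ⟨g, hg⟩
      rw [MonoidHom.mem_ker] at hg
      have hdet : (g : Matrix (Fin n) (Fin n) F).det = 1 := by
        have := congrArg Units.val hg
        simpa [f] using this
      refine ⟨⟨(g : Matrix (Fin n) (Fin n) F), hdet⟩, ?_⟩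
      apply Subtype.ext
      apply Units.ext
      rfl
  have h1 := Subgroup.card_mul_index f.ker
  rw [Subgroup.index_ker, MonoidHom.range_eq_top.mpr hsurj, Subgroup.card_top, Nat.card_units,
    Nat.card_eq_fintype_card (α := F), hker] at h1
  exact h1

theorem card_SL2 :
    Nat.card (Matrix.SpecialLinearGroup (Fin 2) F) = Fintype.card F * (Fintype.card F ^ 2 - 1) := by
  have h := card_SL_mul (F := F) 2 (by norm_num)
  rw [Matrix.card_GL_field] at h
  simp only [Fin.prod_univ_two, Fin.val_zero, Fin.val_one, pow_zero, pow_one] at h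
  have hq : 2 ≤ Fintype.card F := Fintype.one_lt_card
  set q := Fintype.card F with hq'
  have h2 : q ^ 2 - q = q * (q - 1) := by
    rw [pow_two, Nat.mul_sub, mul_one]
  rw [h2] at h
  have h3 : 0 < q - 1 := by omega
  have h4 : Nat.card (Matrix.SpecialLinearGroup (Fin 2) F) * (q - 1) = (q * (q ^ 2 - 1)) * (q - 1) := by
    rw [h]; ring
  exact Nat.eq_of_mul_eq_mul_right h3 h4

end Cfsg.Agent.Lib.Helper38
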