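import Mathlib

/-! # Rh hive (helper38): the cyclic Hall tori of order `q ± r + 1` of the small Ree groups — definitions

`q = 3^(2m+1)`, `r = 3^(m+1)`, `N = q² - q + 1 = (q + r + 1)(q - r + 1)`. -/

set_option autoImplicit false

namespace Cfsg.Agent.Lib.Helper38.Rh

/-- `q = 3^(2m+1)` -/
def qq (m : ℕ) : ℕ := 3 ^ (2 * m + 1)

/-- `r = 3^(m+1)`, so `r² = 3q` -/
def rr (m : ℕ) : ℕ := 3 ^ (m + 1)

/-- `N = q² - q + 1` -/
def NN (m : ℕ) : ℕ := qq m ^ 2 - qq m + 1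

/-- the order of `²G₂(q)` -/
def gg (m : ℕ) : ℕ := qq m ^ 3 * (qq m - 1) * (qq m ^ 3 + 1)

/-- the proportion of fixed-point-free elements of `²G₂(q)` on the `q³ + 1` points: `(q-3)/(6(q+1)) + (q²-2q)/(3N)` -/
def EE (m : ℕ) : ℚ :=
  ((qq m : ℚ) - 3) / (6 * ((qq m : ℚ) + 1)) + ((qq m : ℚ) ^ 2 - 2 * (qq m : ℚ)) / (3 * (NN m : ℚ))

/-- `T` is a torus (w.r.t. `N`): the centraliser of an element of prime order `p ∣ N`. -/
def IsTorus {G : Type*} [Group G] (N : ℕ) (T : Subgroup G) : Prop :=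
  ∃ (x : G) (p : ℕ), p.Prime ∧ p ∣ N ∧ orderOf x = p ∧ T = Subgroup.centralizer ({x} : Set G)

/-- The hypotheses on the elements of prime order `p ∣ N`: cyclic centraliser of order dividing `N`, and
`|N(⟨x⟩) : C(x)|` divides `6`. -/
def TorusHyp (G : Type*) [Group G] (N : ℕ) : Prop :=
  ∀ (x : G) (p : ℕ), p.Prime → p ∣ N → orderOf x = p →
    IsCyclic ↥(Subgroup.centralizer ({x} : Set G)) ∧
    Nat.card ↥(Subgroup.centralizer ({x} : Set G)) ∣ N ∧
    Nat.card ↥(Subgroup.normalizer ((Subgroup.zpowers x : Subgroup G) : Set G)) ∣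
      6 * Nat.card ↥(Subgroup.centralizer ({x} : Set G))

/-- the non-identity elements lying in a conjugate of `T` -/
def conjUnion {G : Type*} [Group G] (T : Subgroup G) : Set G :=
  {y : G | y ≠ 1 ∧ ∃ g : G, y ∈ T.map (MulAut.conj g).toMonoidHom}

/-- a set of representatives of the conjugacy classes of tori -/
structure IsReps {G : Type*} [Group G] (N : ℕ) (R : Finset (Subgroup G)) : Prop where
  torus : ∀ T ∈ R, IsTorus N T
  cover : ∀ T : Subgroup G, IsTorus N T → ∃ T' ∈ R, ∃ g : G, T = T'.map (MulAut.conj g).toMonoidHom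
  distinct : ∀ T₁ ∈ R, ∀ T₂ ∈ R, (∃ g : G, T₂ = T₁.map (MulAut.conj g).toMonoidHom) → T₁ = T₂

end Cfsg.Agent.Lib.Helper38.Rh
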