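import Mathlib

set_option autoImplicit false

namespace Cfsg.Agent.Lib.Helper38

open Subgroup Equiv

theorem card_alt5 : Nat.card (alternatingGroup (Fin 5)) = 60 := by
  rw [nat_card_alternatingGroup]
  simp [Nat.factorial]

theorem alt5_no_normal_15 (K : Subgroup (alternatingGroup (Fin 5))) [K.Normal]
    (hK : Nat.card K = 15) : False := by
  have hsimple : IsSimpleGroup (alternatingGroup (Fin 5)) := alternatingGroup.isSimpleGroup (by simp)
  rcases Subgroup.Normal.eq_bot_or_eq_top (H := K) inferInstance with h | h
  · rw [h, Subgroup.card_bot] at hK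
    omega
  · rw [h, Subgroup.card_top, card_alt5] at hK
    omega

theorem alt5_sylow_two_card (P : Sylow 2 (alternatingGroup (Fin 5))) :
    Nat.card (P : Subgroup (alternatingGroup (Fin 5))) = 4 ∧
      (P : Subgroup (alternatingGroup (Fin 5))).index = 15 := by
  obtain ⟨k, hk⟩ := IsPGroup.iff_card.mp P.2
  have h1 := Subgroup.card_mul_index (P : Subgroup (alternatingGroup (Fin 5)))
  rw [card_alt5, hk] at h1
  have h2 : ¬ 2 ∣ (P : Subgroup (alternatingGroup (Fin 5))).index := P.not_dvd_index
  have hk5 : k < 6 := by
    by_contra hcon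
    push Not at hcon
    have : 2 ^ 6 ≤ 2 ^ k := Nat.pow_le_pow_right (by norm_num) hcon
    have hpos : 0 < (P : Subgroup (alternatingGroup (Fin 5))).index := by
      rcases Nat.eq_zero_or_pos ((P : Subgroup (alternatingGroup (Fin 5))).index) with h | h
      · rw [h] at h1; omega
      · exact h
    nlinarith
  rw [hk]
  interval_cases k <;> omega

theorem alt5_sylow_two_not_le (P : Sylow 2 (alternatingGroup (Fin 5)))
    (hle : normalizer ((P : Subgroup (alternatingGroup (Fin 5))) : Set (alternatingGroup (Fin 5))) ≤
      centralizer ((P : Subgroup (alternatingGroup (Fin 5))) : Set (alternatingGroup (Fin 5)))) : False := by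
  have hc := MonoidHom.ker_transferSylow_isComplement' P hle
  have h1 := hc.card_mul_card
  rw [(alt5_sylow_two_card P).1, card_alt5] at h1
  exact alt5_no_normal_15 (MonoidHom.transferSylow P hle).ker (by omega)

theorem alt5_sylow_two (P : Sylow 2 (alternatingGroup (Fin 5)))
    (hP : IsMulCommutative (P : Subgroup (alternatingGroup (Fin 5)))) :
    ((centralizer ((P : Subgroup (alternatingGroup (Fin 5))) : Set (alternatingGroup (Fin 5)))).subgroupOf
      (normalizer ((P : Subgroup (alternatingGroup (Fin 5))) : Set (alternatingGroup (Fin 5))))).index = 3 ∧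
    IsKleinFour (P : Subgroup (alternatingGroup (Fin 5))) := by
  obtain ⟨hcard, hidx⟩ := alt5_sylow_two_card P
  set PS : Subgroup (alternatingGroup (Fin 5)) := (P : Subgroup (alternatingGroup (Fin 5))) with hPS
  set N := normalizer (PS : Set (alternatingGroup (Fin 5))) with hN
  set C := centralizer (PS : Set (alternatingGroup (Fin 5))) with hC
  have hPC : PS ≤ C := by
    intro x hx y hy
    have := hP.is_comm.comm ⟨y, hy⟩ ⟨x, hx⟩
    exact congrArg Subtype.val this
  have hPN : PS ≤ N := le_normalizer
  constructor
  · change C.relIndex N = 3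
    -- divides 15
    have h15 : C.relIndex N ∣ 15 := by
      rw [← hidx]
      exact (relIndex_dvd_of_le_left N hPC).trans (relIndex_dvd_index_of_le hPN)
    -- divides 24
    have h24 : C.relIndex N ∣ 24 := by
      have h1 : C.relIndex N = Nat.card PS.normalizerMonoidHom.range := by
        rw [← index_ker, normalizerMonoidHom_ker]; rfl
      rw [h1]
      have h2 : Nat.card PS.normalizerMonoidHom.range ∣ Nat.card (MulAut PS) :=
        Subgroup.card_subgroup_dvd_card _
      have h3 : Nat.card (MulAut PS) ∣ Nat.card (Perm PS) :=
        Subgroup.card_dvd_of_injective (MulAut.toPerm PS) (fun a b h =>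
          MulEquiv.ext (fun x => DFunLike.congr_fun h x))
      have h4 : Nat.card (Perm PS) = 24 := by
        have : Fintype PS := Fintype.ofFinite _
        rw [Nat.card_eq_fintype_card, Fintype.card_perm, ← Nat.card_eq_fintype_card, hcard]
        rfl
      rw [h4] at h3
      exact h2.trans h3
    have h3 : C.relIndex N ∣ 3 := by
      have := Nat.dvd_gcd h15 h24
      simpa using this
    have hne : C.relIndex N ≠ 1 := by
      intro h
      exact alt5_sylow_two_not_le P (relIndex_eq_one.mp h)
    rcases (Nat.dvd_prime Nat.prime_three).mp h3 with h | h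
    · exact absurd h hne
    · exact h
  · -- Klein four
    have hncyc : ¬ IsCyclic PS := by
      intro hcyc
      have hmin : (Nat.card (alternatingGroup (Fin 5))).minFac = 2 := by
        rw [card_alt5]; norm_num
      exact alt5_sylow_two_not_le P (IsCyclic.normalizer_le_centralizer hmin hcyc)
    refine ⟨hcard, ?_⟩
    have hsq : ∀ x : PS, x ^ 2 = 1 := by
      intro x
      have hd : orderOf x ∣ 4 := by
        rw [← hcard]; exact orderOf_dvd_natCard x
      have h4 : orderOf x ≠ 4 := by
        intro h
        exact hncyc (isCyclic_of_orderOf_eq_card x (by rw [h, hcard]))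
      have hle : orderOf x ≤ 4 := Nat.le_of_dvd (by norm_num) hd
      have hpos : 0 < orderOf x := orderOf_pos x
      have h12 : orderOf x ∣ 2 := by
        interval_cases (orderOf x) <;> simp_all
      exact orderOf_dvd_iff_pow_eq_one.mp h12
    have hd2 : Monoid.exponent PS ∣ 2 := Monoid.exponent_dvd_of_forall_pow_eq_one hsq
    rcases (Nat.dvd_prime Nat.prime_two).mp hd2 with h | h
    · exfalso
      have hs : Subsingleton PS := Monoid.exp_eq_one_iff.mp h
      have : Nat.card PS = 1 := Nat.card_eq_one_iff_unique.mpr ⟨hs, ⟨1⟩⟩
      omega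
    · exact h

end Cfsg.Agent.Lib.Helper38
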