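import Mathlib
import Cfsg.Agent.Lib.Helper90.PsuDefs

/-! # Psu hive (S2412, helper90), leaf PSU-ALG (helper38): the two-character separation `algsep`

Pure field theory.  `K = {a | a ^ q = a}` is the fixed field.  The operator `D` (multiplication by
`thetaS` coordinatewise) satisfies `D ^ (q + 1) = ζ ^ (q + 1)`, a generator of `Kˣ`, so `M` is a
`K`-subspace.  Every element of `F` is `α + β θ` with `α β ∈ K` if `θ ∉ K`, which fills a coordinate
line from one non-zero vector of it; for `n = 4` the polynomial `(X - η₁) (X - η₁ ^ q) ∈ K[X]`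
applied to `D` isolates the coordinate `2`. -/

set_option autoImplicit false

namespace Cfsg.Agent.Lib.Helper90.Psu

open Matrix Cfsg.Agent.Lib.Helper99 Cfsg.Agent.Lib.Helper13

variable {F : Type*} [Field F] [Fintype F] {q n : ℕ}

local notation "hh" => Cfsg.hermForm n F q

/-- the eigenvalues of `D = ζ^q • (action of a)` on the coordinates `≥ 2` -/
def thetaS (q n : ℕ) (ζ : F) (j : Fin n) : F := if j.val + 1 = n then ζ ^ (2 * q - 1) else ζ ^ q

omit [Fintype F] in
/-- powers of an element are periodic with period its order -/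
theorem alg_pow_add_mul (ζ : F) (a k : ℕ) : ζ ^ (a + k * orderOf ζ) = ζ ^ a := by
  rw [pow_add, mul_comm k, pow_mul, pow_orderOf_eq_one, one_pow, mul_one]

omit [Fintype F] in
/-- powers below the order are distinct -/
theorem alg_pow_ne (ζ : F) {a b : ℕ} (ha : a < orderOf ζ) (hb : b < orderOf ζ) (hab : a ≠ b) :
    ζ ^ a ≠ ζ ^ b :=
  fun h => hab (pow_injOn_Iio_orderOf (Set.mem_Iio.2 ha) (Set.mem_Iio.2 hb) h)

/-- the Frobenius `a ↦ a ^ q` is an involution -/
theorem alg_pow_q_pow_q (hF : Fintype.card F = q ^ 2) (a : F) : (a ^ q) ^ q = a := by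
  rw [← pow_mul, ← sq, ← hF, FiniteField.pow_card]

/-- an element of full order generates the multiplicative group -/
theorem alg_exists_pow (hF : Fintype.card F = q ^ 2) (hq : 2 ≤ q) (ζ : F)
    (hζ : orderOf ζ = q ^ 2 - 1) (c : F) (hc : c ≠ 0) : ∃ i : ℕ, ζ ^ i = c := by
  classical
  have hpos : 0 < q ^ 2 - 1 := by
    have : 4 ≤ q ^ 2 := by nlinarith
    omega
  have hζ0 : ζ ≠ 0 := by
    intro h
    have h1 := pow_orderOf_eq_one ζ
    rw [hζ, h, zero_pow (by omega)] at h1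
    exact zero_ne_one h1
  set u : Fˣ := Units.mk0 ζ hζ0 with hu
  have hou : orderOf u = Fintype.card Fˣ := by
    rw [Fintype.card_units, hF, ← hζ, ← orderOf_units, hu, Units.val_mk0]
  have htop : Subgroup.zpowers u = ⊤ := by
    apply Subgroup.eq_top_of_card_eq
    rw [Nat.card_zpowers, hou, Nat.card_eq_fintype_card]
  have hmem : Units.mk0 c hc ∈ Subgroup.zpowers u := by
    rw [htop]
    exact Subgroup.mem_top _
  rw [← (isOfFinOrder_of_finite u).mem_powers_iff_mem_zpowers] at hmem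
  obtain ⟨i, hi⟩ := (Submonoid.mem_powers_iff _ _).mp hmem
  refine ⟨i, ?_⟩
  have := congrArg Units.val hi
  rwa [Units.val_pow_eq_pow_val, hu, Units.val_mk0, Units.val_mk0] at this

/-- the non-zero fixed elements are the powers of `ζ ^ (q + 1)` -/
theorem alg_fixed_eq_pow (hF : Fintype.card F = q ^ 2) (hq : 2 ≤ q) (ζ : F)
    (hζ : orderOf ζ = q ^ 2 - 1) (c : F) (hc0 : c ≠ 0) (hc : c ^ q = c) :
    ∃ k : ℕ, (ζ ^ (q + 1)) ^ k = c := by
  obtain ⟨i, rfl⟩ := alg_exists_pow hF hq ζ hζ c hc0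
  obtain ⟨m, rfl⟩ : ∃ m, q = m + 1 := ⟨q - 1, by omega⟩
  rw [← pow_mul] at hc
  have hζi : ζ ^ i ≠ 0 := hc0
  have h0 : ζ ^ (m * i) = 1 := by
    have h5 : ζ ^ (i * (m + 1)) = ζ ^ i * ζ ^ (m * i) := by
      rw [← pow_add]
      congr 1
      ring
    rw [h5] at hc
    exact mul_left_cancel₀ hζi (by rw [hc, mul_one])
  have h2 : (m + 1) ^ 2 - 1 ∣ m * i := by
    rw [← hζ]
    exact orderOf_dvd_of_pow_eq_one h0
  have h4 : (m + 1) ^ 2 - 1 = m * (m + 1 + 1) := by
    apply Nat.sub_eq_of_eq_add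
    ring
  rw [h4] at h2
  have hm : 0 < m := by omega
  obtain ⟨k, hk⟩ := Nat.dvd_of_mul_dvd_mul_left hm h2
  refine ⟨k, ?_⟩
  rw [← pow_mul, ← hk]

/-- every element is `α + β η` with `α`, `β` fixed, if `η` is not fixed -/
theorem alg_decomp (hF : Fintype.card F = q ^ 2) (η : F) (hη : η ^ q ≠ η) (a : F) :
    ∃ α β : F, α ^ q = α ∧ β ^ q = β ∧ a = α + β * η := by
  obtain ⟨φ, hφ⟩ := exists_powRingHom hF
  have hφφ : ∀ x, φ (φ x) = x := fun x => by rw [hφ, hφ, alg_pow_q_pow_q hF]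
  have hne : φ η - η ≠ 0 := sub_ne_zero.2 (by rw [hφ]; exact hη)
  obtain ⟨β, hβ⟩ : ∃ β, β = (φ a - a) / (φ η - η) := ⟨_, rfl⟩
  have hβφ : φ β = β := by
    rw [hβ, map_div₀, map_sub, map_sub, hφφ, hφφ, ← neg_sub (φ a) a, ← neg_sub (φ η) η,
      neg_div_neg_eq]
  have hmul : φ a - a = β * (φ η - η) := by
    rw [hβ, div_mul_cancel₀ _ hne]
  refine ⟨a - β * η, β, ?_, ?_, by ring⟩
  · rw [← hφ, map_sub, map_mul, hβφ]
    linear_combination hmul
  · rw [← hφ]
    exact hβφ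

omit [Fintype F] in
/-- stability under the powers of `D` -/
theorem alg_Dpow (ζ : F) (M : AddSubgroup (Fin n → F))
    (hD : ∀ r ∈ M, (fun j : Fin n => thetaS q n ζ j * r j) ∈ M) (m : ℕ) :
    ∀ r ∈ M, (fun j : Fin n => thetaS q n ζ j ^ m * r j) ∈ M := by
  induction m with
  | zero =>
    intro r hr
    have : (fun j : Fin n => thetaS q n ζ j ^ 0 * r j) = r := by
      funext j
      rw [pow_zero, one_mul]
    rw [this]
    exact hr
  | succ m ih =>
    intro r hr
    have h1 := hD _ (ih r hr)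
    have : (fun j : Fin n => thetaS q n ζ j ^ (m + 1) * r j) =
        fun j : Fin n => thetaS q n ζ j * (thetaS q n ζ j ^ m * r j) := by
      funext j
      rw [pow_succ]
      ring
    rw [this]
    exact h1

omit [Fintype F] in
/-- `θ ^ (q + 1) = ζ ^ (q + 1)` for both characters -/
theorem alg_theta_pow (s : ℕ) (ζ : F) (hζ : orderOf ζ = (s + 3) ^ 2 - 1) (j : Fin n) :
    thetaS (s + 3) n ζ j ^ (s + 3 + 1) = ζ ^ (s + 3 + 1) := by
  have hN : orderOf ζ = s ^ 2 + 6 * s + 8 := by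
    rw [hζ]
    apply Nat.sub_eq_of_eq_add
    ring
  have h25 : 2 * (s + 3) - 1 = 2 * s + 5 := by omega
  unfold thetaS
  split_ifs
  · rw [← pow_mul, h25]
    have : (2 * s + 5) * (s + 3 + 1) = (s + 3 + 1) + 2 * orderOf ζ := by
      rw [hN]
      ring
    rw [this, alg_pow_add_mul]
  · rw [← pow_mul]
    have : (s + 3) * (s + 3 + 1) = (s + 3 + 1) + 1 * orderOf ζ := by
      rw [hN]
      ring
    rw [this, alg_pow_add_mul]

/-- `M` is stable under the fixed field -/
theorem alg_smul_mem (hF : Fintype.card F = q ^ 2) (hq3 : 3 ≤ q) (ζ : F)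
    (hζ : orderOf ζ = q ^ 2 - 1) (M : AddSubgroup (Fin n → F))
    (hD : ∀ r ∈ M, (fun j : Fin n => thetaS q n ζ j * r j) ∈ M) (c : F) (hc : c ^ q = c) :
    ∀ r ∈ M, (fun j : Fin n => c * r j) ∈ M := by
  intro r hr
  by_cases hc0 : c = 0
  · have : (fun j : Fin n => c * r j) = 0 := by
      funext j
      rw [hc0, zero_mul]
      rfl
    rw [this]
    exact M.zero_mem
  · obtain ⟨k, hk⟩ := alg_fixed_eq_pow hF (by omega) ζ hζ c hc0 hc
    obtain ⟨s, rfl⟩ : ∃ s, q = s + 3 := ⟨q - 3, by omega⟩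
    have hg : ∀ r ∈ M, (fun j : Fin n => ζ ^ (s + 3 + 1) * r j) ∈ M := by
      intro r hr
      have h1 := alg_Dpow ζ M hD (s + 3 + 1) r hr
      have : (fun j : Fin n => thetaS (s + 3) n ζ j ^ (s + 3 + 1) * r j) =
          fun j : Fin n => ζ ^ (s + 3 + 1) * r j := by
        funext j
        rw [alg_theta_pow s ζ hζ j]
      rw [this] at h1
      exact h1
    have hgk : ∀ k : ℕ, ∀ r ∈ M, (fun j : Fin n => (ζ ^ (s + 3 + 1)) ^ k * r j) ∈ M := by
      intro k
      induction k with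
      | zero =>
        intro r hr
        have : (fun j : Fin n => (ζ ^ (s + 3 + 1)) ^ 0 * r j) = r := by
          funext j
          rw [pow_zero, one_mul]
        rw [this]
        exact hr
      | succ k ih =>
        intro r hr
        have h1 := hg _ (ih r hr)
        have : (fun j : Fin n => (ζ ^ (s + 3 + 1)) ^ (k + 1) * r j) =
            fun j : Fin n => ζ ^ (s + 3 + 1) * ((ζ ^ (s + 3 + 1)) ^ k * r j) := by
          funext j
          rw [pow_succ]
          ring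
        rw [this]
        exact h1
    rw [← hk]
    exact hgk k r hr

/-- one non-zero vector of a coordinate line whose character is not fixed gives the whole line -/
theorem alg_line (hF : Fintype.card F = q ^ 2) (ζ : F) (M : AddSubgroup (Fin n → F))
    (hD : ∀ r ∈ M, (fun j : Fin n => thetaS q n ζ j * r j) ∈ M)
    (hK : ∀ c : F, c ^ q = c → ∀ r ∈ M, (fun j : Fin n => c * r j) ∈ M)
    (j : Fin n) (κ : F) (hκ : κ ≠ 0) (hθ : thetaS q n ζ j ^ q ≠ thetaS q n ζ j)
    (hmem : (Pi.single j κ : Fin n → F) ∈ M) (a : F) : (Pi.single j a : Fin n → F) ∈ M := by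
  classical
  obtain ⟨α, β, hα, hβ, hab⟩ := alg_decomp hF (thetaS q n ζ j) hθ (a / κ)
  have h1 := hK α hα _ hmem
  have h2 := hK β hβ _ (hD _ hmem)
  have h3 := M.add_mem h1 h2
  have : (Pi.single j a : Fin n → F) =
      (fun k : Fin n => α * (Pi.single j κ : Fin n → F) k) +
        fun k : Fin n => β * (thetaS q n ζ k * (Pi.single j κ : Fin n → F) k) := by
    funext k
    rw [Pi.add_apply]
    by_cases hk : k = j
    · subst hk
      rw [Pi.single_eq_same, Pi.single_eq_same]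
      have : a = a / κ * κ := by rw [div_mul_cancel₀ _ hκ]
      rw [this, hab]
      ring
    · rw [Pi.single_eq_of_ne hk, Pi.single_eq_of_ne hk]
      ring
  rw [this]
  exact h3

/-- PSU-ALG (pure field theory).  `ζ` generates `Fˣ`. -/
theorem algsep (hF : Fintype.card F = q ^ 2) (hq3 : 3 ≤ q) (hn : n = 3 ∨ n = 4) (ζ : F)
    (hζ : orderOf ζ = q ^ 2 - 1) (M : AddSubgroup (Fin n → F))
    (hD : ∀ r ∈ M, (fun j : Fin n => thetaS q n ζ j * r j) ∈ M)
    (hgen : (fun j : Fin n => if 2 ≤ j.val then thetaS q n ζ j - 1 else 0) ∈ M) :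
    ∀ r : Fin n → F, SuppGe 2 r → r ∈ M := by
  classical
  have hK := alg_smul_mem hF hq3 ζ hζ M hD
  obtain ⟨s, rfl⟩ : ∃ s, q = s + 3 := ⟨q - 3, by omega⟩
  have hN : orderOf ζ = s ^ 2 + 6 * s + 8 := by
    rw [hζ]
    apply Nat.sub_eq_of_eq_add
    ring
  have h25 : 2 * (s + 3) - 1 = 2 * s + 5 := by omega
  -- the four exponents
  have hη1q : (ζ ^ (2 * s + 5)) ^ (s + 3) = ζ ^ (s ^ 2 + 5 * s + 7) := by
    rw [← pow_mul]
    have : (2 * s + 5) * (s + 3) = (s ^ 2 + 5 * s + 7) + 1 * orderOf ζ := by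
      rw [hN]
      ring
    rw [this, alg_pow_add_mul]
  have hη2q : (ζ ^ (s + 3)) ^ (s + 3) = ζ ^ 1 := by
    rw [← pow_mul]
    have : (s + 3) * (s + 3) = 1 + 1 * orderOf ζ := by
      rw [hN]
      ring
    rw [this, alg_pow_add_mul]
  have hlt1 : 2 * s + 5 < orderOf ζ := by rw [hN]; nlinarith
  have hlt1q : s ^ 2 + 5 * s + 7 < orderOf ζ := by rw [hN]; omega
  have hlt2 : s + 3 < orderOf ζ := by rw [hN]; nlinarith
  have hlt2q : 1 < orderOf ζ := by rw [hN]; omega
  have hlt0 : 0 < orderOf ζ := by omega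
  -- non-equalities
  have hN1 : (ζ ^ (2 * s + 5)) ^ (s + 3) ≠ ζ ^ (2 * s + 5) := by
    rw [hη1q]
    exact alg_pow_ne ζ hlt1q hlt1 (by nlinarith)
  have hN2 : (ζ ^ (s + 3)) ^ (s + 3) ≠ ζ ^ (s + 3) := by
    rw [hη2q]
    exact alg_pow_ne ζ hlt2q hlt2 (by omega)
  have hN3 : ζ ^ (s + 3) ≠ ζ ^ (2 * s + 5) := alg_pow_ne ζ hlt2 hlt1 (by omega)
  have hN4 : ζ ^ (s + 3) ≠ (ζ ^ (2 * s + 5)) ^ (s + 3) := by
    rw [hη1q]
    exact alg_pow_ne ζ hlt2 hlt1q (by nlinarith)
  have hN5 : ζ ^ (s + 3) ≠ 1 := by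
    rw [← pow_zero ζ]
    exact alg_pow_ne ζ hlt2 hlt0 (by omega)
  have hN6 : ζ ^ (2 * s + 5) ≠ 1 := by
    rw [← pow_zero ζ]
    exact alg_pow_ne ζ hlt1 hlt0 (by omega)
  rcases hn with rfl | rfl
  · -- n = 3
    have hθ2 : thetaS (s + 3) 3 ζ (2 : Fin 3) = ζ ^ (2 * s + 5) := by
      unfold thetaS
      rw [if_pos (by decide), h25]
    have hg : (fun j : Fin 3 => if 2 ≤ j.val then thetaS (s + 3) 3 ζ j - 1 else 0) =
        (Pi.single (2 : Fin 3) (ζ ^ (2 * s + 5) - 1) : Fin 3 → F) := by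
      funext j
      fin_cases j
      · simp
      · simp
      · simp [hθ2]
    rw [hg] at hgen
    have hline := alg_line hF ζ M hD hK (2 : Fin 3) (ζ ^ (2 * s + 5) - 1) (sub_ne_zero.2 hN6)
      (by rw [hθ2]; exact hN1) hgen
    intro r hr
    have : r = (Pi.single (2 : Fin 3) (r 2) : Fin 3 → F) := by
      funext j
      fin_cases j
      · simpa using hr 0 (by decide)
      · simpa using hr 1 (by decide)
      · simp
    rw [this]
    exact hline _
  · -- n = 4
    have hθ2 : thetaS (s + 3) 4 ζ (2 : Fin 4) = ζ ^ (s + 3) := by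
      unfold thetaS
      rw [if_neg (by decide)]
    have hθ3 : thetaS (s + 3) 4 ζ (3 : Fin 4) = ζ ^ (2 * s + 5) := by
      unfold thetaS
      rw [if_pos (by decide), h25]
    obtain ⟨η1, hη1⟩ : ∃ η1 : F, η1 = ζ ^ (2 * s + 5) := ⟨_, rfl⟩
    obtain ⟨η2, hη2⟩ : ∃ η2 : F, η2 = ζ ^ (s + 3) := ⟨_, rfl⟩
    rw [← hη1] at hθ3 hN1 hN3 hN4 hN6
    rw [← hη2] at hθ2 hN2 hN3 hN4 hN5
    have hg : (fun j : Fin 4 => if 2 ≤ j.val then thetaS (s + 3) 4 ζ j - 1 else 0) =
        (Pi.single (2 : Fin 4) (η2 - 1) : Fin 4 → F) + Pi.single (3 : Fin 4) (η1 - 1) := by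
      funext j
      fin_cases j
      · simp
      · simp
      · simp [hθ2]
      · simp [hθ3]
    obtain ⟨φ, hφ⟩ := exists_powRingHom hF
    have hφφ : ∀ x, φ (φ x) = x := fun x => by rw [hφ, hφ, alg_pow_q_pow_q hF]
    -- the coefficients of the polynomial
    have ht : (η1 + η1 ^ (s + 3)) ^ (s + 3) = η1 + η1 ^ (s + 3) := by
      rw [← hφ, ← hφ, map_add, hφφ, add_comm]
    have hnn : (η1 * η1 ^ (s + 3)) ^ (s + 3) = η1 * η1 ^ (s + 3) := by
      rw [← hφ, ← hφ, map_mul, hφφ, mul_comm]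
    set g : Fin 4 → F := fun j : Fin 4 => if 2 ≤ j.val then thetaS (s + 3) 4 ζ j - 1 else 0
      with hgdef
    have hDg := hD _ hgen
    have hDDg := hD _ hDg
    have h1 := hK _ ht _ hDg
    have h2 := hK _ hnn _ hgen
    have h3 := M.add_mem (M.sub_mem hDDg h1) h2
    have hκ : (η2 - η1) * (η2 - η1 ^ (s + 3)) * (η2 - 1) ≠ 0 :=
      mul_ne_zero (mul_ne_zero (sub_ne_zero.2 hN3) (sub_ne_zero.2 hN4)) (sub_ne_zero.2 hN5)
    have h4 : ((fun j : Fin 4 => thetaS (s + 3) 4 ζ j * (thetaS (s + 3) 4 ζ j * g j)) -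
          (fun j : Fin 4 => (η1 + η1 ^ (s + 3)) * (thetaS (s + 3) 4 ζ j * g j)) +
          fun j : Fin 4 => η1 * η1 ^ (s + 3) * g j) =
        (Pi.single (2 : Fin 4) ((η2 - η1) * (η2 - η1 ^ (s + 3)) * (η2 - 1)) : Fin 4 → F) := by
      funext j
      rw [Pi.add_apply, Pi.sub_apply]
      have hj : j = 0 ∨ j = 1 ∨ j = 2 ∨ j = 3 := by
        fin_cases j <;> simp
      rcases hj with rfl | rfl | rfl | rfl
      · simp [hgdef]
      · simp [hgdef]
      · have e1 : g (2 : Fin 4) = η2 - 1 := by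
          rw [hg]
          simp
        rw [e1, hθ2]
        simp
        ring
      · have e1 : g (3 : Fin 4) = η1 - 1 := by
          rw [hg]
          simp
        rw [e1, hθ3]
        simp
        ring
    rw [h4] at h3
    have hline2 := alg_line hF ζ M hD hK (2 : Fin 4) _ hκ (by rw [hθ2]; exact hN2) h3
    have h5 : (Pi.single (3 : Fin 4) (η1 - 1) : Fin 4 → F) ∈ M := by
      have := M.sub_mem hgen (hline2 (η2 - 1))
      rw [hg, add_sub_cancel_left] at this
      exact this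
    have hline3 := alg_line hF ζ M hD hK (3 : Fin 4) _ (sub_ne_zero.2 hN6)
      (by rw [hθ3]; exact hN1) h5
    intro r hr
    have : r = (Pi.single (2 : Fin 4) (r 2) : Fin 4 → F) + Pi.single (3 : Fin 4) (r 3) := by
      funext j
      fin_cases j
      · simpa using hr 0 (by decide)
      · simpa using hr 1 (by decide)
      · simp
      · simp
    rw [this]
    exact M.add_mem (hline2 _) (hline3 _)

end Cfsg.Agent.Lib.Helper90.Psu
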