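import Mathlib
import Cfsg.Prelude.Def_LinearParabolics

/-!
# Bruhat decomposition of `GL_n` (existence)

Every invertible matrix is `L * W σ * R` with `L`, `R` invertible upper triangular and `W σ` a
permutation matrix.  Proof: Gaussian elimination, by induction on the number of "clean" columns.
-/

set_option autoImplicit false
open scoped MatrixGroups

namespace Cfsg.Agent.Lib.Helper38.Flag

variable {F : Type*} [Field F] {n : ℕ}

/-- The permutation matrix of `σ`: it sends `e_j` to `e_{σ j}`. -/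
def Wm (σ : Equiv.Perm (Fin n)) : Matrix (Fin n) (Fin n) F :=
  Matrix.of fun i j => if i = σ j then 1 else 0

theorem Wm_apply (σ : Equiv.Perm (Fin n)) (i j : Fin n) :
    (Wm σ : Matrix (Fin n) (Fin n) F) i j = if i = σ j then 1 else 0 := rfl

theorem Wm_one : (Wm (1 : Equiv.Perm (Fin n)) : Matrix (Fin n) (Fin n) F) = 1 := by
  ext i j
  by_cases h : i = j <;> simp [Wm_apply, Matrix.one_apply, h]

theorem Wm_mul (σ τ : Equiv.Perm (Fin n)) :
    (Wm (σ * τ) : Matrix (Fin n) (Fin n) F) = Wm σ * Wm τ := by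
  ext i j
  rw [Matrix.mul_apply, Finset.sum_eq_single (τ j)]
  · by_cases h : i = σ (τ j) <;> simp [Wm_apply, h]
  · intro l _ hl
    have : ¬ l = τ j := hl
    simp [Wm_apply, this]
  · intro h; exact absurd (Finset.mem_univ _) h

/-- Permutation matrices as a homomorphism into `GL_n`. -/
def W : Equiv.Perm (Fin n) →* GL (Fin n) F where
  toFun σ := ⟨Wm σ, Wm σ⁻¹, by rw [← Wm_mul, mul_inv_cancel, Wm_one],
    by rw [← Wm_mul, inv_mul_cancel, Wm_one]⟩
  map_one' := Units.ext Wm_one
  map_mul' σ τ := Units.ext (Wm_mul σ τ)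

theorem W_val (σ : Equiv.Perm (Fin n)) : ((W σ : GL (Fin n) F) : Matrix (Fin n) (Fin n) F) = Wm σ :=
  rfl

theorem Wm_mulVec (σ : Equiv.Perm (Fin n)) (v : Fin n → F) (j : Fin n) :
    ((Wm σ : Matrix (Fin n) (Fin n) F).mulVec v) (σ j) = v j := by
  rw [Matrix.mulVec, dotProduct, Finset.sum_eq_single j]
  · simp [Wm_apply]
  · intro l _ hl
    have : ¬ σ j = σ l := fun h => hl (σ.injective h).symm
    simp [Wm_apply, this]
  · intro h; exact absurd (Finset.mem_univ _) h

/-- The row operation matrix `1 - c ⊗ e_{i₀}`. -/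
def rowM (i₀ : Fin n) (c : Fin n → F) : Matrix (Fin n) (Fin n) F :=
  1 - Matrix.vecMulVec c (Pi.single i₀ 1)

theorem rowM_mul (i₀ : Fin n) (c : Fin n → F) (M : Matrix (Fin n) (Fin n) F) (i j : Fin n) :
    (rowM i₀ c * M) i j = M i j - c i * M i₀ j := by
  rw [rowM, Matrix.sub_mul, Matrix.one_mul, Matrix.sub_apply, Matrix.mul_apply,
    Finset.sum_eq_single i₀]
  · simp [Matrix.vecMulVec_apply]
  · intro l _ hl
    simp [Matrix.vecMulVec_apply, hl]
  · intro h; exact absurd (Finset.mem_univ _) h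

/-- The column operation matrix `1 - e_k ⊗ d`. -/
def colM (k : Fin n) (d : Fin n → F) : Matrix (Fin n) (Fin n) F :=
  1 - Matrix.vecMulVec (Pi.single k 1) d

theorem mul_colM (k : Fin n) (d : Fin n → F) (M : Matrix (Fin n) (Fin n) F) (i j : Fin n) :
    (M * colM k d) i j = M i j - M i k * d j := by
  rw [colM, Matrix.mul_sub, Matrix.mul_one, Matrix.sub_apply, Matrix.mul_apply,
    Finset.sum_eq_single k]
  · simp [Matrix.vecMulVec_apply]
  · intro l _ hl
    simp [Matrix.vecMulVec_apply, hl]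
  · intro h; exact absurd (Finset.mem_univ _) h

theorem rowM_mul_rowM (i₀ : Fin n) (c c' : Fin n → F) (h : c' i₀ = 0) :
    rowM i₀ c * rowM i₀ c' = rowM i₀ (c + c') := by
  ext i j
  rw [rowM_mul]
  simp only [rowM, Matrix.sub_apply, Matrix.vecMulVec_apply, Pi.add_apply, Matrix.one_apply]
  by_cases hj : i₀ = j
  · subst hj; simp [h]; ring
  · simp [hj, Ne.symm hj]

theorem rowM_zero (i₀ : Fin n) : rowM i₀ (0 : Fin n → F) = 1 := by
  ext i j
  simp [rowM]

theorem colM_mul_colM (k : Fin n) (d d' : Fin n → F) (h : d k = 0) :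
    colM k d * colM k d' = colM k (d + d') := by
  ext i j
  rw [mul_colM]
  simp only [colM, Matrix.sub_apply, Matrix.vecMulVec_apply, Pi.add_apply, Matrix.one_apply]
  by_cases hi : i = k
  · subst hi; simp [h]; ring
  · simp [hi]

theorem colM_zero (k : Fin n) : colM k (0 : Fin n → F) = 1 := by
  ext i j
  simp [colM]

/-- The row operation as an element of `GL_n`. -/
def rowG (i₀ : Fin n) (c : Fin n → F) (h : c i₀ = 0) : GL (Fin n) F :=
  ⟨rowM i₀ c, rowM i₀ (-c),
    by rw [rowM_mul_rowM _ _ _ (by simp [h]), add_neg_cancel, rowM_zero],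
    by rw [rowM_mul_rowM _ _ _ h, neg_add_cancel, rowM_zero]⟩

/-- The column operation as an element of `GL_n`. -/
def colG (k : Fin n) (d : Fin n → F) (h : d k = 0) : GL (Fin n) F :=
  ⟨colM k d, colM k (-d),
    by rw [colM_mul_colM _ _ _ h, add_neg_cancel, colM_zero],
    by rw [colM_mul_colM _ _ _ (by simp [h]), neg_add_cancel, colM_zero]⟩

theorem rowG_mem (i₀ : Fin n) (c : Fin n → F) (hc : ∀ i, i₀ ≤ i → c i = 0) :
    rowG i₀ c (hc i₀ le_rfl) ∈ Cfsg.upperTriangularGL n F := by
  change (rowM i₀ c).BlockTriangular id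
  intro i j hij
  have hij' : j < i := hij
  simp only [rowM, Matrix.sub_apply, Matrix.vecMulVec_apply, Matrix.one_apply]
  rw [if_neg (ne_of_gt hij')]
  by_cases hj : i₀ = j
  · subst hj
    simp [hc i hij'.le]
  · simp [Ne.symm hj]

theorem colG_mem (k : Fin n) (d : Fin n → F) (hd : ∀ j, j ≤ k → d j = 0) :
    colG k d (hd k le_rfl) ∈ Cfsg.upperTriangularGL n F := by
  change (colM k d).BlockTriangular id
  intro i j hij
  have hij' : j < i := hij
  simp only [colM, Matrix.sub_apply, Matrix.vecMulVec_apply, Matrix.one_apply]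
  rw [if_neg (ne_of_gt hij')]
  by_cases hi : i = k
  · subst hi
    simp [hd j hij'.le]
  · simp [hi]

/-- Column `j` of `M` is clean: it has exactly one nonzero entry, and the row of that entry has
no other nonzero entry. -/
def Clean (M : Matrix (Fin n) (Fin n) F) (j : Fin n) : Prop :=
  ∃ i, M i j ≠ 0 ∧ (∀ i', M i' j ≠ 0 → i' = i) ∧ (∀ j', M i j' ≠ 0 → j' = j)

theorem step (M : GL (Fin n) F) (k : Fin n)
    (h : ∀ j, j < k → Clean (M : Matrix (Fin n) (Fin n) F) j) :
    ∃ L ∈ Cfsg.upperTriangularGL n F, ∃ R ∈ Cfsg.upperTriangularGL n F,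
      ∀ j, j ≤ k → Clean ((L * M * R : GL (Fin n) F) : Matrix (Fin n) (Fin n) F) j := by
  classical
  set A : Matrix (Fin n) (Fin n) F := (M : Matrix (Fin n) (Fin n) F) with hA
  -- column k is nonzero
  have hcol : ∃ i, A i k ≠ 0 := by
    by_contra hcon
    push Not at hcon
    have hdet : A.det = 0 := Matrix.det_eq_zero_of_column_eq_zero k hcon
    have := M.det_ne_zero
    exact this hdet
  have hne : (Finset.univ.filter fun i => A i k ≠ 0).Nonempty := by
    obtain ⟨i, hi⟩ := hcol
    exact ⟨i, by simp [hi]⟩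
  set i₀ := (Finset.univ.filter fun i => A i k ≠ 0).max' hne with hi₀
  have hi₀k : A i₀ k ≠ 0 := by
    have := Finset.max'_mem _ hne
    rw [← hi₀] at this
    simpa using this
  have hbelow : ∀ i, i₀ < i → A i k = 0 := by
    intro i hi
    by_contra hik
    have hmem : i ∈ Finset.univ.filter fun i => A i k ≠ 0 := by simp [hik]
    have := Finset.le_max' _ i hmem
    rw [← hi₀] at this
    exact absurd hi (not_lt.mpr this)
  -- row op
  set c : Fin n → F := fun i => if i < i₀ then A i k / A i₀ k else 0 with hc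
  have hc0 : ∀ i, i₀ ≤ i → c i = 0 := by
    intro i hi
    simp [hc, not_lt.mpr hi]
  set d : Fin n → F := fun j => if k < j then A i₀ j / A i₀ k else 0 with hd
  have hd0 : ∀ j, j ≤ k → d j = 0 := by
    intro j hj
    simp [hd, not_lt.mpr hj]
  refine ⟨rowG i₀ c (hc0 i₀ le_rfl), rowG_mem i₀ c hc0, colG k d (hd0 k le_rfl),
    colG_mem k d hd0, ?_⟩
  -- entries of the product
  have hent : ∀ i j, ((rowG i₀ c (hc0 i₀ le_rfl) * M * colG k d (hd0 k le_rfl) : GL (Fin n) F) :
      Matrix (Fin n) (Fin n) F) i j =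
      (A i j - c i * A i₀ j) - (A i k - c i * A i₀ k) * d j := by
    intro i j
    have : ((rowG i₀ c (hc0 i₀ le_rfl) * M * colG k d (hd0 k le_rfl) : GL (Fin n) F) :
      Matrix (Fin n) (Fin n) F) = rowM i₀ c * A * colM k d := rfl
    rw [this, mul_colM, rowM_mul, rowM_mul]
  -- facts on clean columns j < k
  have hclean : ∀ j, j < k → ∃ i, A i j ≠ 0 ∧ (∀ i', A i' j ≠ 0 → i' = i) ∧
      (∀ j', A i j' ≠ 0 → j' = j) ∧ A i k = 0 ∧ A i₀ j = 0 ∧ i ≠ i₀ := by
    intro j hj
    obtain ⟨i, h1, h2, h3⟩ := h j hj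
    have hik : A i k = 0 := by
      by_contra hne'
      exact absurd (h3 k hne') (ne_of_gt hj)
    have hii : i ≠ i₀ := by
      intro hh; rw [hh] at hik; exact hi₀k hik
    have hi0j : A i₀ j = 0 := by
      by_contra hne'
      exact hii (h2 i₀ hne').symm
    exact ⟨i, h1, h2, h3, hik, hi0j, hii⟩
  -- column k after row op
  have hck : ∀ i, A i k - c i * A i₀ k = if i = i₀ then A i₀ k else 0 := by
    intro i
    rcases lt_trichotomy i i₀ with hlt | heq | hgt
    · simp only [hc, if_pos hlt, if_neg (ne_of_lt hlt)]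
      field_simp
      ring
    · subst heq
      simp [hc0 i₀ le_rfl]
    · simp only [hc0 i hgt.le, if_neg (ne_of_gt hgt), hbelow i hgt]
      ring
  intro j hj
  rcases lt_or_eq_of_le hj with hlt | heq
  · -- old clean columns
    obtain ⟨i, h1, h2, h3, hik, hi0j, hii⟩ := hclean j hlt
    have hci : c i = 0 := by
      simp only [hc]
      split_ifs
      · rw [hik]; simp
      · rfl
    have hdj : d j = 0 := hd0 j hlt.le
    refine ⟨i, ?_, ?_, ?_⟩
    · rw [hent, hdj, hci]; simpa using h1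
    · intro i' hi'
      rw [hent, hdj, hi0j] at hi'
      apply h2
      simpa using hi'
    · intro j' hj'
      rw [hent, hci, hik] at hj'
      apply h3
      simpa using hj'
  · -- the new column k
    subst heq
    refine ⟨i₀, ?_, ?_, ?_⟩
    · rw [hent, hd0 j le_rfl, hc0 i₀ le_rfl]; simpa using hi₀k
    · intro i' hi'
      rw [hent, hd0 j le_rfl, hck] at hi'
      by_contra hne'
      simp [hne'] at hi'
    · intro j' hj'
      rw [hent, hck, if_pos rfl, hc0 i₀ le_rfl] at hj'
      by_contra hne'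
      rcases lt_or_gt_of_ne hne' with hlt | hgt
      · obtain ⟨i, h1, h2, h3, hik, hi0j, hii⟩ := hclean j' hlt
        have hdj : d j' = 0 := hd0 j' hlt.le
        rw [hdj, hi0j] at hj'
        simp at hj'
      · have hdj : d j' = A i₀ j' / A i₀ j := by simp [hd, hgt]
        rw [hdj] at hj'
        apply hj'
        field_simp
        ring

theorem exists_clean (g : GL (Fin n) F) : ∀ k : ℕ, k ≤ n →
    ∃ L ∈ Cfsg.upperTriangularGL n F, ∃ R ∈ Cfsg.upperTriangularGL n F,
      ∀ j : Fin n, j.val < k → Clean ((L * g * R : GL (Fin n) F) : Matrix (Fin n) (Fin n) F) j := by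
  intro k
  induction k with
  | zero =>
    intro _
    exact ⟨1, Subgroup.one_mem _, 1, Subgroup.one_mem _, fun j hj => absurd hj (Nat.not_lt_zero _)⟩
  | succ k ih =>
    intro hk
    obtain ⟨L, hL, R, hR, hcl⟩ := ih (Nat.le_of_succ_le hk)
    obtain ⟨L', hL', R', hR', hcl'⟩ := step (L * g * R) ⟨k, hk⟩ (fun j hj => hcl j hj)
    refine ⟨L' * L, Subgroup.mul_mem _ hL' hL, R * R', Subgroup.mul_mem _ hR hR', ?_⟩
    intro j hj
    have := hcl' j (Nat.lt_succ_iff.mp hj)
    have e : L' * L * g * (R * R') = L' * (L * g * R) * R' := by group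
    rw [e]
    exact this

/-- Bruhat decomposition (existence): `GL_n = B W B`. -/
theorem bruhat (g : GL (Fin n) F) : ∃ L ∈ Cfsg.upperTriangularGL n F,
    ∃ R ∈ Cfsg.upperTriangularGL n F, ∃ σ : Equiv.Perm (Fin n), g = L * W σ * R := by
  classical
  obtain ⟨L, hL, R, hR, hcl⟩ := exists_clean g n le_rfl
  set M : GL (Fin n) F := L * g * R with hM
  have hcl' : ∀ j, Clean (M : Matrix (Fin n) (Fin n) F) j := fun j => hcl j j.isLt
  choose ρ h1 h2 h3 using hcl'
  have hinj : Function.Injective ρ := by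
    intro j j' hjj
    have := h3 j j' (by rw [hjj]; exact h1 j')
    exact this.symm
  have hbij : Function.Bijective ρ := Finite.injective_iff_bijective.mp hinj
  set σ : Equiv.Perm (Fin n) := Equiv.ofBijective ρ hbij with hσ
  -- the diagonal part
  set dg : Fin n → F := fun j => (M : Matrix (Fin n) (Fin n) F) (ρ j) j with hdg
  have hdgne : ∀ j, dg j ≠ 0 := h1
  set D : GL (Fin n) F := ⟨Matrix.diagonal dg, Matrix.diagonal fun j => (dg j)⁻¹,
    by rw [Matrix.diagonal_mul_diagonal]; simp [hdgne],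
    by rw [Matrix.diagonal_mul_diagonal]; simp [hdgne]⟩ with hD
  have hDmem : D ∈ Cfsg.upperTriangularGL n F := by
    change (Matrix.diagonal dg).BlockTriangular id
    exact Matrix.blockTriangular_diagonal dg
  have hMeq : M = W σ * D := by
    apply Units.ext
    ext i j
    change (M : Matrix (Fin n) (Fin n) F) i j =
      ((Wm σ : Matrix (Fin n) (Fin n) F) * Matrix.diagonal dg) i j
    rw [Matrix.mul_diagonal, Wm_apply]
    by_cases hij : i = σ j
    · rw [if_pos hij, one_mul, hij]; rfl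
    · rw [if_neg hij, zero_mul]
      by_contra hne
      exact hij (h2 j i hne)
  refine ⟨L⁻¹, Subgroup.inv_mem _ hL, D * R⁻¹, Subgroup.mul_mem _ hDmem (Subgroup.inv_mem _ hR),
    σ, ?_⟩
  have : g = L⁻¹ * M * R⁻¹ := by rw [hM]; group
  rw [this, hMeq]; group

end Cfsg.Agent.Lib.Helper38.Flag
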