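import Cfsg.Agent.Lib.Helper23.U3Defs

/-! # U3 hive (S2283, owner helper23), leaf XE-8b (helper38): for `q = 8`, from the norm-scaling step to `e ∈ Tset H` -/

set_option autoImplicit false

namespace Cfsg.Agent.Lib.Helper23.U3

open Matrix Cfsg.Agent.Lib.Helper99 Cfsg.Agent.Lib.Helper13 Cfsg.Agent.Lib.Helper90.Psu

variable {F : Type*} [Field F] [Fintype F]

local notation "hh" => Cfsg.hermForm 3 F 8

/-- characteristic `2` -/
theorem u3xe8b_two (hF : Fintype.card F = 8 ^ 2) : (2 : F) = 0 := by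
  have h := FiniteField.cast_card_eq_zero F
  rw [hF] at h
  have h64 : ((8 ^ 2 : ℕ) : F) = (2 : F) ^ 6 := by norm_num
  rw [h64] at h
  exact pow_eq_zero_iff (by norm_num) |>.mp h

/-- `U3-REL` for `q = 8` -/
theorem u3xe8b_rel (hF : Fintype.card F = 8 ^ 2) (C : Cfg 8 F) :
    C.β + C.β ^ 8 + C.a ^ 9 = 0 := by
  have h2 := u3xe8b_two hF
  have hμ0 := C.μ_ne_zero
  have hμ9 : C.μ ^ 9 = 1 := C.hμ
  have hy : C.μ⁻¹ = C.μ ^ 8 := by
    rw [inv_eq_iff_eq_inv, eq_comm, inv_eq_of_mul_eq_one_right]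
    rw [← pow_succ]; exact hμ9
  have hc8 : C.c ^ 8 = C.c := by
    have := C.hc
    linear_combination this - C.c * h2
  -- Frobenius applied to `hβ`
  have hβ8 : C.c * C.β ^ 8 = C.μ + C.μ ^ 3 := by
    have h1 : (C.c * C.β) ^ 8 = (3 * C.μ⁻¹ - 2 - C.μ⁻¹ ^ 3) ^ 8 := by rw [C.hβ]
    rw [mul_pow, hc8, frob_sub hF, frob_sub hF, mul_pow, hy] at h1
    have e1 : (C.μ ^ 8) ^ 8 = C.μ := by
      calc (C.μ ^ 8) ^ 8 = (C.μ ^ 9) ^ 7 * C.μ := by ring
        _ = C.μ := by rw [hμ9, one_pow, one_mul]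
    have e2 : ((C.μ ^ 8) ^ 3) ^ 8 = C.μ ^ 3 := by
      calc ((C.μ ^ 8) ^ 3) ^ 8 = ((C.μ ^ 8) ^ 8) ^ 3 := by ring
        _ = C.μ ^ 3 := by rw [e1]
    have e3 : (3 : F) ^ 8 = 1 := by
      have : (3 : F) = 1 := by linear_combination h2
      rw [this, one_pow]
    have e4 : (2 : F) ^ 8 = 0 := by rw [h2]; norm_num
    rw [e1, e2, e3, e4] at h1
    linear_combination h1 - C.μ ^ 3 * h2
  have hβ' : C.c * C.β = C.μ ^ 8 + (C.μ ^ 8) ^ 3 := by
    have := C.hβ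
    rw [hy] at this
    linear_combination this + (C.μ ^ 8 - 1 - (C.μ ^ 8) ^ 3) * h2
  have ha' : C.c * C.a ^ 9 = C.μ ^ 8 + (C.μ ^ 8) ^ 3 + C.μ + C.μ ^ 3 := by
    have := C.ha
    rw [hy] at this
    have e : (C.μ ^ 8 - C.μ) ^ 3 =
        (C.μ ^ 8) ^ 3 - 3 * (C.μ ^ 9) * C.μ ^ 8 + 3 * (C.μ ^ 9) * C.μ - C.μ ^ 3 := by ring
    rw [e, hμ9] at this
    linear_combination this + (-2 * C.μ ^ 8 + C.μ - C.μ ^ 3) * h2
  have key : C.c * (C.β + C.β ^ 8 + C.a ^ 9) = 0 := by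
    linear_combination hβ' + hβ8 + ha' + (C.μ ^ 8 + (C.μ ^ 8) ^ 3 + C.μ + C.μ ^ 3) * h2
  exact (mul_eq_zero.mp key).resolve_left C.hc0

/-- XE-8b -/
theorem xe8_fin (hF : Fintype.card F = 8 ^ 2) (C : Cfg 8 F) (η : F) (hη0 : η ≠ 0) (hη1 : η ≠ 1) (hη8 : η ^ 8 = η)
    (hstep : ∀ z : F, z + z ^ 8 = 0 → utv 8 C.e z ∈ C.H → utv 8 C.e (z * η) ∈ C.H) : C.e ∈ Tset 8 C.H := by
  have h2 := u3xe8b_two hF
  have hrel := u3xe8b_rel hF C
  have ha0 : C.a ≠ 0 := by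
    intro h
    have h1 := C.ha
    rw [h, zero_pow (by norm_num), zero_mul] at h1
    have h3 : C.μ⁻¹ - C.μ = 0 := (pow_eq_zero_iff (by norm_num)).mp h1.symm
    apply C.hμ2
    have h4 : C.μ⁻¹ = C.μ := sub_eq_zero.mp h3
    calc C.μ ^ 2 = C.μ * C.μ := sq _
      _ = C.μ⁻¹ * C.μ := by rw [h4]
      _ = 1 := inv_mul_cancel₀ C.μ_ne_zero
  set z0 := C.a ^ 9 with hz0
  have hz0ne : z0 ≠ 0 := pow_ne_zero _ ha0
  have ha63 : C.a ^ 63 = 1 := by
    have h1 := FiniteField.pow_card_sub_one_eq_one C.a ha0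
    rw [hF] at h1
    exact h1
  have hz08 : z0 ^ 8 = z0 := by
    calc z0 ^ 8 = C.a ^ 63 * C.a ^ 9 := by rw [hz0]; ring
      _ = z0 := by rw [ha63, one_mul]
  have hre : hh (C.a • C.ε) C.e = 0 := by rw [hermForm_smul_left, C.hεe, mul_zero]
  have hrr : hh (C.a • C.ε) (C.a • C.ε) = C.a ^ 9 := by
    rw [hermForm_smul_left, hermForm_smul_right, C.hεε, mul_one]; ring
  have hβc : C.β + C.β ^ 8 + hh (C.a • C.ε) (C.a • C.ε) = 0 := by rw [hrr]; exact hrel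
  have htr0 : z0 + z0 ^ 8 = 0 := by rw [hz08]; linear_combination z0 * h2
  have hsq : C.u1 * C.u1 = utv 8 C.e z0 := by
    unfold Cfg.u1
    rw [heis_mul hF C.hee hre hβc hre hβc]
    have e1 : C.a • C.ε + C.a • C.ε = 0 := by rw [← two_smul F, h2, zero_smul]
    have e2 : C.β + C.β - hh (C.a • C.ε) (C.a • C.ε) = z0 := by
      rw [hrr]; linear_combination (C.β - z0) * h2
    rw [e1, e2]
    exact heis_zero hF C.hee htr0
  have hz0H : utv 8 C.e z0 ∈ C.H := by rw [← hsq]; exact C.H.mul_mem C.u1_mem_H C.u1_mem_H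
  have hpow : ∀ i : ℕ, (z0 * η ^ i) + (z0 * η ^ i) ^ 8 = 0 ∧ utv 8 C.e (z0 * η ^ i) ∈ C.H := by
    intro i
    induction i with
    | zero =>
      rw [pow_zero, mul_one]
      exact ⟨htr0, hz0H⟩
    | succ k ih =>
      have e : z0 * η ^ (k + 1) = (z0 * η ^ k) * η := by ring
      refine ⟨?_, ?_⟩
      · rw [e, mul_pow, hη8]
        linear_combination η * ih.1
      · rw [e]; exact hstep _ ih.1 ih.2
  have seven : ∀ x : F, x ≠ 0 → x ^ 8 = x → x ^ 7 = 1 := by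
    intro x hx hx8
    have h1 : x * (x ^ 7 - 1) = 0 := by linear_combination hx8
    rcases mul_eq_zero.mp h1 with h | h
    · exact absurd h hx
    · linear_combination h
  refine ⟨C.hee, fun z hz => ?_⟩
  by_cases hz0' : z = 0
  · rw [hz0', utv_zero C.e C.hee]; exact C.H.one_mem
  · have hz8 : z ^ 8 = z := by linear_combination hz - z * h2
    have hz7 : z ^ 7 = 1 := seven z hz0' hz8
    have hη7 : η ^ 7 = 1 := seven η hη0 hη8
    have hz07 : z0 ^ 7 = 1 := seven z0 hz0ne hz08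
    have hprim : IsPrimitiveRoot η 7 := by
      have : Fact (Nat.Prime 7) := ⟨by norm_num⟩
      have h1 : orderOf η = 7 := orderOf_eq_prime hη7 hη1
      rw [← h1]; exact IsPrimitiveRoot.orderOf η
    have hw : (z / z0) ^ 7 = 1 := by rw [div_pow, hz7, hz07, div_one]
    obtain ⟨i, -, hi⟩ := hprim.eq_pow_of_pow_eq_one hw
    have hzz : z = z0 * η ^ i := by rw [hi]; field_simp
    rw [hzz]; exact (hpow i).2

end Cfsg.Agent.Lib.Helper23.U3
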