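import Cfsg.Agent.Lib.Helper38.RhDefsB
import Cfsg.Agent.Lib.Helper4.ClassCount

/-! # Rh hive (helper38): RH-INVC `card_involutions` -/

set_option autoImplicit false

namespace Cfsg.Agent.Lib.Helper38.Rh

open Cfsg.Agent.Lib.Helper12.Rt Cfsg.Agent.Lib.Helper12.ReeInv Matrix

/-- `|C(a)| = 2 |φ.range|` -/
theorem invcb_card_cent {K : Type*} [Field K] {G : Type*} [Group G] [Finite G] (I : InvData K G) :
    Nat.card ↥(Subgroup.centralizer ({I.a} : Set G)) = 2 * Nat.card ↥I.φ.range := by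
  classical
  set N : Subgroup G := Subgroup.centralizer ({I.a} : Set G) with hN
  set M : Subgroup G := I.φ.range with hM
  have haa : I.a * I.a = 1 := I.ha2
  have haN : I.a ∈ N := Subgroup.mem_centralizer_singleton_iff.mpr rfl
  have hMN : M ≤ N := by
    rintro g ⟨s, rfl⟩
    exact Subgroup.mem_centralizer_singleton_iff.mpr (I.hcomm s).symm
  have hMmem : ∀ s, I.φ s ∈ M := fun s => ⟨s, rfl⟩
  have hMnot : ∀ s, I.a * I.φ s ∉ M := by
    rintro s ⟨s', hs'⟩
    apply I.hne (s' * s⁻¹)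
    rw [map_mul, map_inv, hs', mul_assoc, mul_inv_cancel, mul_one]
  have hidx : (M.subgroupOf N).index = 2 := by
    rw [Subgroup.index_eq_two_iff]
    refine ⟨⟨I.a, haN⟩, ?_⟩
    rintro ⟨b, hb⟩
    simp only [Subgroup.mem_subgroupOf, Subgroup.coe_mul]
    have hba : I.a * b = b * I.a := (Subgroup.mem_centralizer_singleton_iff.mp hb).symm
    obtain ⟨s, rfl | rfl⟩ := I.hcent b hba
    · right
      refine ⟨hMmem s, ?_⟩
      rw [← I.hcomm s]
      exact hMnot s
    · left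
      refine ⟨?_, hMnot s⟩
      have : I.a * I.φ s * I.a = I.φ s := by
        rw [I.hcomm s, mul_assoc, haa, mul_one]
      rw [this]
      exact hMmem s
  have h1 := Subgroup.card_mul_index (M.subgroupOf N)
  rw [hidx, Nat.card_congr (Subgroup.subgroupOfEquivOfLe hMN).toEquiv] at h1
  rw [← h1, mul_comm]

theorem invcb_arith (q S : ℕ) (hq : 3 ≤ q) (h : S * (q * (q ^ 2 - 1)) = q ^ 3 * (q - 1) * (q ^ 3 + 1)) :
    S = q ^ 2 * (q ^ 2 - q + 1) := by
  obtain ⟨k, rfl⟩ : ∃ k, q = k + 1 := ⟨q - 1, by omega⟩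
  have h1 : (k + 1) ^ 2 - 1 = k * (k + 2) := by
    have : (k + 1) ^ 2 = k * (k + 2) + 1 := by ring
    omega
  have h2 : (k + 1) ^ 2 - (k + 1) + 1 = k ^ 2 + k + 1 := by
    have : (k + 1) ^ 2 = (k ^ 2 + k) + (k + 1) := by ring
    omega
  rw [h1, Nat.add_sub_cancel] at h
  rw [h2]
  have hpos : 0 < (k + 1) * (k * (k + 2)) := by
    have : 0 < k := by omega
    positivity
  apply Nat.eq_of_mul_eq_mul_right hpos
  rw [h]
  ring

section partB
variable {K : Type*} [Field K] [Fintype K] {G : Type*} [Group G] {m : ℕ} (D : RtData K G m)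

include D

/-- RH-INVC -/
theorem card_involutions : Nat.card {g : G // g ≠ 1 ∧ g * g = 1} = qq m ^ 2 * (qq m ^ 2 - qq m + 1) := by
  have hfin : Finite G := D.finite
  have hcent : Nat.card ↥(Subgroup.centralizer ({D.I.a} : Set G)) = 3 ^ (2 * m + 1) * ((3 ^ (2 * m + 1)) ^ 2 - 1) := by
    rw [invcb_card_cent D.I, D.card_phi_range]
  have hcls := Cfsg.Agent.Lib.Helper4.card_conj_mul_card_centralizer D.I.a
  rw [hcent, D.card_G] at hcls
  have hequiv : Nat.card {g : G // g ≠ 1 ∧ g * g = 1} = Nat.card {v : G // IsConj D.I.a v} := by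
    apply Nat.card_congr
    apply Equiv.subtypeEquivRight
    intro g
    constructor
    · rintro ⟨hg1, hg2⟩
      obtain ⟨c, hc⟩ := D.inv_conj g hg1 hg2
      exact isConj_iff.2 ⟨c, hc⟩
    · intro h
      obtain ⟨c, rfl⟩ := isConj_iff.1 h
      constructor
      · intro h1
        apply D.I.ha1
        have : D.I.a = c⁻¹ * (c * D.I.a * c⁻¹) * c := by group
        rw [this, h1]; group
      · calc c * D.I.a * c⁻¹ * (c * D.I.a * c⁻¹) = c * (D.I.a * D.I.a) * c⁻¹ := by group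
          _ = 1 := by rw [D.I.ha2]; group
  rw [hequiv]
  have hq3 : 3 ≤ 3 ^ (2 * m + 1) := by
    calc 3 = 3 ^ 1 := by norm_num
      _ ≤ 3 ^ (2 * m + 1) := Nat.pow_le_pow_right (by norm_num) (by omega)
  exact invcb_arith (3 ^ (2 * m + 1)) _ hq3 hcls

end partB

end Cfsg.Agent.Lib.Helper38.Rh
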