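import Cfsg.Agent.Lib.Helper3.Ortho
import Cfsg.Agent.Lib.Helper3.CharOps
import Cfsg.Agent.Lib.Helper79.Abelian
import Cfsg.Agent.Lib.Helper15.LinearChar

set_option autoImplicit false
set_option linter.unusedSimpArgs false
set_option linter.unusedSectionVars false

/-!
Characters of a finite abelian group with a central involution acting by a sign: multiplicities
when the norm is as small as possible.
-/

namespace Cfsg.Agent.Lib.Helper38

open Cfsg
open scoped ComplexConjugate

/-- integers with sum `j` and sum of squares at most `j` are `0` or `1`. -/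
theorem zero_one_of_sum_sq_le {ι : Type*} (s : Finset ι) (e : ι → ℤ) (j : ℤ)
    (h1 : ∑ i ∈ s, e i = j) (h2 : ∑ i ∈ s, e i ^ 2 ≤ j) :
    ∀ i ∈ s, e i = 0 ∨ e i = 1 := by
  have h3 : ∑ i ∈ s, (e i ^ 2 - e i) ≤ 0 := by
    rw [Finset.sum_sub_distrib]; linarith
  have h4 : ∀ i ∈ s, 0 ≤ e i ^ 2 - e i := by
    intro i _
    rcases le_or_gt (e i) 0 with h | h <;> nlinarith
  have h5 := (Finset.sum_eq_zero_iff_of_nonneg h4).mp (le_antisymm h3 (Finset.sum_nonneg h4))
  intro i hi
  have h6 := h5 i hi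
  have h7 : e i * (e i - 1) = 0 := by linear_combination h6
  rcases mul_eq_zero.mp h7 with h | h
  · left; exact h
  · right; linarith

theorem card_filter_eq_one_of_zero_one {ι : Type*} [DecidableEq ι] (s : Finset ι) (e : ι → ℤ)
    (h : ∀ i ∈ s, e i = 0 ∨ e i = 1) :
    ((s.filter (fun i => e i = 1)).card : ℤ) = ∑ i ∈ s, e i := by
  rw [Finset.card_filter]
  push_cast
  apply Finset.sum_congr rfl
  intro i hi
  rcases h i hi with h0 | h0 <;> simp [h0]

section Abelian

universe u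

variable {A : Type u} [Group A] [Fintype A] [IsMulCommutative A]

theorem irr_linear (φ : IrrCharacter A) : IsCharacter A (φ : A → ℂ) ∧ (φ : A → ℂ) 1 = 1 :=
  ⟨Cfsg.Agent.Lib.Helper3.IsIrrCharacter.isCharacter φ.2,
    Cfsg.Agent.Lib.Helper79.irr_one_eq_one_of_comm φ⟩

/-- orthogonality of the irreducible characters of a finite abelian group. -/
theorem irr_orthogonality [Fintype (IrrCharacter A)] (a b : A) [Decidable (a = b)] :
    ∑ φ : IrrCharacter A, (φ : A → ℂ) a * conj ((φ : A → ℂ) b) =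
      if a = b then (Fintype.card A : ℂ) else 0 := by
  classical
  rw [Cfsg.Agent.Lib.Helper3.column_orthogonality]
  have h1 : IsConj a b ↔ a = b := by
    rw [isConj_iff]
    constructor
    · rintro ⟨c, hc⟩
      rw [← hc, mul_comm' c a, mul_inv_cancel_right]
    · rintro rfl
      exact ⟨1, by simp⟩
  have h2 : Subgroup.centralizer ({a} : Set A) = ⊤ := by
    rw [eq_top_iff]
    intro x _
    rw [Subgroup.mem_centralizer_iff]
    intro h _
    exact mul_comm' h x
  rw [h2, Subgroup.card_top, Nat.card_eq_fintype_card]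
  by_cases hab : a = b
  · rw [if_pos (h1.mpr hab), if_pos hab]
  · rw [if_neg (fun h => hab (h1.mp h)), if_neg hab]

/-- the complex conjugate of an irreducible character. -/
noncomputable def conjIrr (φ : IrrCharacter A) : IrrCharacter A :=
  ⟨fun a => conj ((φ : A → ℂ) a), by
    apply Cfsg.Agent.Lib.Helper3.isIrrCharacter_of_classInner_self_eq_one
      (Cfsg.Agent.Lib.Helper3.IsCharacter.conj (Cfsg.Agent.Lib.Helper3.IsIrrCharacter.isCharacter φ.2))
    have h := Cfsg.Agent.Lib.Helper3.classInner_irr φ.2 φ.2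
    rw [if_pos rfl] at h
    rw [← h]
    unfold classInner
    congr 1
    apply Finset.sum_congr rfl
    intro a _
    rw [Complex.conj_conj, mul_comm]⟩

@[simp] theorem conjIrr_apply (φ : IrrCharacter A) (a : A) :
    (conjIrr φ : A → ℂ) a = conj ((φ : A → ℂ) a) := rfl

theorem irr_mul_conj (φ : IrrCharacter A) (a : A) :
    (φ : A → ℂ) a * conj ((φ : A → ℂ) a) = 1 := by
  have hl := irr_linear φ
  rw [← Cfsg.Agent.Lib.Helper3.IsCharacter.inv hl.1, ← Cfsg.Agent.Lib.Helper15.linChar_mul hl,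
    mul_inv_cancel, hl.2]

/-- the homomorphism attached to an irreducible character of an abelian group. -/
noncomputable def irrHom (φ : IrrCharacter A) : A →* ℂˣ :=
  Cfsg.Agent.Lib.Helper15.linCharUnitsHom (irr_linear φ)

@[simp] theorem irrHom_apply (φ : IrrCharacter A) (a : A) :
    ((irrHom φ a : ℂˣ) : ℂ) = (φ : A → ℂ) a := rfl

theorem irrHom_injective : Function.Injective (irrHom (A := A)) := by
  intro φ φ' h
  apply Subtype.ext
  funext a
  rw [← irrHom_apply, ← irrHom_apply, h]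

theorem irrHom_surjective : Function.Surjective (irrHom (A := A)) := by
  intro θ
  refine ⟨⟨fun a => ((θ a : ℂˣ) : ℂ), Cfsg.Agent.Lib.Helper79.isIrrCharacter_of_monoidHom θ⟩, ?_⟩
  ext a
  rfl

theorem irrHom_conjIrr (φ : IrrCharacter A) : irrHom (conjIrr φ) = (irrHom φ)⁻¹ := by
  ext a
  rw [irrHom_apply, conjIrr_apply, MonoidHom.inv_apply, Units.val_inv_eq_inv_val, irrHom_apply]
  have := irr_mul_conj φ a
  exact eq_inv_of_mul_eq_one_right this

variable [Fintype (IrrCharacter A)]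

theorem card_irr_abelian : (Fintype.card (IrrCharacter A) : ℂ) = (Fintype.card A : ℂ) := by
  classical
  have h := irr_orthogonality (A := A) 1 1
  rw [if_pos rfl] at h
  rw [← h]
  have : ∀ φ : IrrCharacter A, (φ : A → ℂ) 1 * conj ((φ : A → ℂ) 1) = 1 := by
    intro φ
    rw [(irr_linear φ).2]; simp
  rw [Finset.sum_congr rfl (fun φ _ => this φ), Finset.sum_const, Finset.card_univ, nsmul_eq_mul,
    mul_one]

/-- the value of an irreducible character at an involution is `±1`. -/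
theorem irr_involution (φ : IrrCharacter A) (z : A) (hzz : z * z = 1) :
    (φ : A → ℂ) z = 1 ∨ (φ : A → ℂ) z = -1 := by
  have hl := irr_linear φ
  have h := Cfsg.Agent.Lib.Helper15.linChar_mul hl z z
  rw [hzz, hl.2] at h
  have : ((φ : A → ℂ) z - 1) * ((φ : A → ℂ) z + 1) = 0 := by linear_combination -h
  rcases mul_eq_zero.mp this with h1 | h1
  · left; linear_combination h1
  · right; linear_combination h1

theorem irr_involution_conj (φ : IrrCharacter A) (z : A) (hzz : z * z = 1) :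
    conj ((φ : A → ℂ) z) = (φ : A → ℂ) z := by
  rcases irr_involution φ z hzz with h | h <;> rw [h] <;> simp

open Classical in
/-- half of the irreducible characters take the value `ε` at the involution `z`. -/
theorem card_irr_sign (z : A) (hz1 : z ≠ 1) (hzz : z * z = 1) (ε : ℂ) (hε : ε = 1 ∨ ε = -1) :
    2 * ((Finset.univ.filter (fun φ : IrrCharacter A => (φ : A → ℂ) z = ε)).card : ℂ) =
      (Fintype.card A : ℂ) := by
  have h0 : ∑ φ : IrrCharacter A, (φ : A → ℂ) z = 0 := by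
    have h := irr_orthogonality (A := A) z 1
    rw [if_neg hz1] at h
    rw [← h]
    apply Finset.sum_congr rfl
    intro φ _
    rw [(irr_linear φ).2]; simp
  have hεε : ε * ε = 1 := by rcases hε with h | h <;> rw [h] <;> norm_num
  have h1 : ∀ φ : IrrCharacter A, (1 + ε * (φ : A → ℂ) z) =
      if (φ : A → ℂ) z = ε then 2 else 0 := by
    intro φ
    by_cases h : (φ : A → ℂ) z = ε
    · rw [if_pos h, h, hεε]; norm_num
    · rw [if_neg h]
      rcases irr_involution φ z hzz with h3 | h3 <;> rcases hε with h4 | h4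
      · exact absurd (h3.trans h4.symm) h
      · rw [h3, h4]; norm_num
      · rw [h3, h4]; norm_num
      · exact absurd (h3.trans h4.symm) h
  have h2 : ∑ φ : IrrCharacter A, (1 + ε * (φ : A → ℂ) z) = (Fintype.card A : ℂ) := by
    rw [Finset.sum_add_distrib, ← Finset.mul_sum, h0, mul_zero, add_zero, Finset.sum_const,
      Finset.card_univ, nsmul_eq_mul, mul_one, card_irr_abelian]
  rw [Finset.sum_congr rfl (fun φ _ => h1 φ), Finset.sum_ite, Finset.sum_const,
    Finset.sum_const_zero, add_zero, nsmul_eq_mul] at h2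
  rw [← h2]; ring

open Classical in
/-- the sum of the irreducible characters with sign `ε` vanishes off `{1, z}`. -/
theorem sum_irr_sign (z : A) (hzz : z * z = 1) (ε : ℂ) (hε : ε = 1 ∨ ε = -1) (a : A)
    (ha1 : a ≠ 1) (haz : a ≠ z) :
    ∑ φ ∈ Finset.univ.filter (fun φ : IrrCharacter A => (φ : A → ℂ) z = ε), (φ : A → ℂ) a = 0 := by
  have hεε : ε * ε = 1 := by rcases hε with h | h <;> rw [h] <;> norm_num
  have h0 : ∑ φ : IrrCharacter A, (φ : A → ℂ) a = 0 := by
    have h := irr_orthogonality (A := A) a 1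
    rw [if_neg ha1] at h
    rw [← h]
    apply Finset.sum_congr rfl
    intro φ _
    rw [(irr_linear φ).2]; simp
  have h1 : ∑ φ : IrrCharacter A, (φ : A → ℂ) a * (φ : A → ℂ) z = 0 := by
    have h := irr_orthogonality (A := A) a z
    rw [if_neg haz] at h
    rw [← h]
    apply Finset.sum_congr rfl
    intro φ _
    rw [irr_involution_conj φ z hzz]
  have h2 : ∀ φ : IrrCharacter A, (if (φ : A → ℂ) z = ε then (φ : A → ℂ) a else 0) =
      (1 / 2 : ℂ) * ((φ : A → ℂ) a + ε * ((φ : A → ℂ) a * (φ : A → ℂ) z)) := by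
    intro φ
    by_cases h : (φ : A → ℂ) z = ε
    · rw [if_pos h, h]
      linear_combination (-(1 / 2 : ℂ) * (φ : A → ℂ) a) * hεε
    · rw [if_neg h]
      have h3 : (φ : A → ℂ) z = -ε := by
        rcases irr_involution φ z hzz with h3 | h3 <;> rcases hε with h4 | h4
        · exact absurd (h3.trans h4.symm) h
        · rw [h3, h4]; norm_num
        · rw [h3, h4]
        · exact absurd (h3.trans h4.symm) h
      rw [h3]
      linear_combination ((1 / 2 : ℂ) * (φ : A → ℂ) a) * hεε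
  rw [Finset.sum_filter, Finset.sum_congr rfl (fun φ _ => h2 φ), ← Finset.mul_sum,
    Finset.sum_add_distrib, ← Finset.mul_sum, h0, h1]
  ring

open Classical in
/-- multiplicities of the irreducible characters in a character on which the involution `z`
acts by the sign `ε`. -/
theorem restrict_mult {f : A → ℂ} (hf : IsCharacter A f) (z : A) (hzz : z * z = 1)
    (ε : ℂ) (hε : ε = 1 ∨ ε = -1) (hfz : ∀ a, f (z * a) = ε * f a) (hinv : ∀ a, f a⁻¹ = f a) :
    ∃ m : IrrCharacter A → ℕ,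
      (∀ φ : IrrCharacter A, (φ : A → ℂ) z ≠ ε → m φ = 0) ∧
      (∀ a, f a = ∑ φ ∈ Finset.univ.filter (fun φ : IrrCharacter A => (φ : A → ℂ) z = ε),
        (m φ : ℂ) * (φ : A → ℂ) a) ∧
      (classInner f f = ∑ φ ∈ Finset.univ.filter (fun φ : IrrCharacter A => (φ : A → ℂ) z = ε),
        (m φ : ℂ) ^ 2) ∧
      (∀ φ : IrrCharacter A, m (conjIrr φ) = m φ) := by
  obtain ⟨m, hm, hsum⟩ := Cfsg.Agent.Lib.Helper3.IsCharacter.exists_mult hf
  have hεε : ε * ε = 1 := by rcases hε with h | h <;> rw [h] <;> norm_num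
  have hcard : (Nat.card A : ℂ) ≠ 0 := by
    rw [Nat.card_eq_fintype_card]
    exact Nat.cast_ne_zero.mpr Fintype.card_ne_zero
  have hzero : ∀ φ : IrrCharacter A, (φ : A → ℂ) z ≠ ε → m φ = 0 := by
    intro φ hne
    have h3 : (φ : A → ℂ) z = -ε := by
      rcases irr_involution φ z hzz with h3 | h3 <;> rcases hε with h4 | h4
      · exact absurd (h3.trans h4.symm) hne
      · rw [h3, h4]; norm_num
      · rw [h3, h4]
      · exact absurd (h3.trans h4.symm) hne
    have hS : ∑ a, f a * conj ((φ : A → ℂ) a) = -∑ a, f a * conj ((φ : A → ℂ) a) := by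
      conv_lhs => rw [← Equiv.sum_comp (Equiv.mulLeft z)]
      rw [← Finset.sum_neg_distrib]
      apply Finset.sum_congr rfl
      intro a _
      rw [Equiv.coe_mulLeft, hfz, Cfsg.Agent.Lib.Helper15.linChar_mul (irr_linear φ), map_mul,
        irr_involution_conj φ z hzz, h3]
      linear_combination (-(f a * conj ((φ : A → ℂ) a))) * hεε
    have hS0 : ∑ a, f a * conj ((φ : A → ℂ) a) = 0 := by
      have : (2 : ℂ) * ∑ a, f a * conj ((φ : A → ℂ) a) = 0 := by linear_combination hS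
      exact (mul_eq_zero.mp this).resolve_left two_ne_zero
    have h4 := hm φ
    unfold classInner at h4
    rw [hS0, mul_zero] at h4
    exact_mod_cast h4.symm
  have hfa : ∀ a, f a = ∑ φ : IrrCharacter A, (m φ : ℂ) * (φ : A → ℂ) a := by
    intro a
    conv_lhs => rw [hsum]
    rw [Finset.sum_apply]
    apply Finset.sum_congr rfl
    intro φ _
    rfl
  refine ⟨m, hzero, ?_, ?_, ?_⟩
  · intro a
    rw [hfa a, Finset.sum_filter]
    apply Finset.sum_congr rfl
    intro φ _
    by_cases h : (φ : A → ℂ) z = ε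
    · rw [if_pos h]
    · rw [if_neg h, hzero φ h]; simp
  · conv_lhs => rw [hsum]
    rw [Cfsg.Agent.Lib.Helper3.classInner_sum_sum, Finset.sum_filter]
    apply Finset.sum_congr rfl
    intro φ _
    by_cases h : (φ : A → ℂ) z = ε
    · rw [if_pos h, Complex.conj_natCast]; ring
    · rw [if_neg h, hzero φ h]; simp
  · intro φ
    have h1 := hm (conjIrr φ)
    have h2 := hm φ
    have : classInner f (conjIrr φ : A → ℂ) = classInner f (φ : A → ℂ) := by
      unfold classInner
      congr 1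
      conv_lhs => rw [← Equiv.sum_comp (Equiv.inv A)]
      apply Finset.sum_congr rfl
      intro a _
      rw [Equiv.inv_apply, hinv, conjIrr_apply, Complex.conj_conj,
        Cfsg.Agent.Lib.Helper3.IsCharacter.inv (irr_linear φ).1]
    rw [this, h2] at h1
    exact_mod_cast h1.symm

theorem conjIrr_sign (φ : IrrCharacter A) (z : A) (hzz : z * z = 1) (ε : ℂ)
    (h : (φ : A → ℂ) z = ε) : (conjIrr φ : A → ℂ) z = ε := by
  rw [conjIrr_apply, irr_involution_conj φ z hzz, h]

open Classical in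
/-- a character of degree `|A| - 2` and norm `2|A| - 6`: all irreducible characters of sign `ε`
occur twice except two which occur once. -/
theorem restrict_two {f : A → ℂ} (hf : IsCharacter A f) (z : A) (hz1 : z ≠ 1) (hzz : z * z = 1)
    (ε : ℂ) (hε : ε = 1 ∨ ε = -1) (hfz : ∀ a, f (z * a) = ε * f a) (hinv : ∀ a, f a⁻¹ = f a)
    (hdeg : f 1 = (Fintype.card A : ℂ) - 2)
    (hnorm : classInner f f = 2 * (Fintype.card A : ℂ) - 6) :
    ∃ φ₁ φ₂ : IrrCharacter A, φ₁ ≠ φ₂ ∧ (φ₁ : A → ℂ) z = ε ∧ (φ₂ : A → ℂ) z = ε ∧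
      (∀ a, a ≠ 1 → a ≠ z → f a = -((φ₁ : A → ℂ) a + (φ₂ : A → ℂ) a)) ∧
      (φ₂ = conjIrr φ₁ ∨ (conjIrr φ₁ = φ₁ ∧ conjIrr φ₂ = φ₂)) := by
  obtain ⟨m, hzero, hfa, hn, hconj⟩ := restrict_mult hf z hzz ε hε hfz hinv
  obtain ⟨I, hI⟩ : ∃ I : Finset (IrrCharacter A),
      I = Finset.univ.filter (fun φ : IrrCharacter A => (φ : A → ℂ) z = ε) := ⟨_, rfl⟩
  rw [← hI] at hfa hn
  have hcardI : 2 * (I.card : ℂ) = (Fintype.card A : ℂ) := by
    rw [hI]; exact card_irr_sign z hz1 hzz ε hε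
  have hm1 : ∑ φ ∈ I, (m φ : ℂ) = (Fintype.card A : ℂ) - 2 := by
    rw [← hdeg, hfa 1]
    apply Finset.sum_congr rfl
    intro φ _
    rw [(irr_linear φ).2, mul_one]
  have hm2 : ∑ φ ∈ I, (m φ : ℂ) ^ 2 = 2 * (Fintype.card A : ℂ) - 6 := by rw [← hn, hnorm]
  obtain ⟨e, he⟩ : ∃ e : IrrCharacter A → ℤ, e = fun φ => 2 - (m φ : ℤ) := ⟨_, rfl⟩
  have hE1 : ∑ φ ∈ I, e φ = 2 := by
    have : ((∑ φ ∈ I, e φ : ℤ) : ℂ) = ((2 : ℤ) : ℂ) := by
      rw [he]
      push_cast
      rw [Finset.sum_sub_distrib, Finset.sum_const, nsmul_eq_mul, hm1]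
      linear_combination hcardI
    exact_mod_cast this
  have hE2 : ∑ φ ∈ I, e φ ^ 2 = 2 := by
    have : ((∑ φ ∈ I, e φ ^ 2 : ℤ) : ℂ) = ((2 : ℤ) : ℂ) := by
      rw [he]
      push_cast
      have : ∀ φ ∈ I, ((2 : ℂ) - (m φ : ℂ)) ^ 2 = 4 - 4 * (m φ : ℂ) + (m φ : ℂ) ^ 2 := by
        intro φ _; ring
      rw [Finset.sum_congr rfl this, Finset.sum_add_distrib, Finset.sum_sub_distrib,
        Finset.sum_const, nsmul_eq_mul, ← Finset.mul_sum, hm1, hm2]
      linear_combination 2 * hcardI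
    exact_mod_cast this
  have h01 := zero_one_of_sum_sq_le I e 2 hE1 (le_of_eq hE2)
  have hc := card_filter_eq_one_of_zero_one I e h01
  rw [hE1] at hc
  have hc2 : (I.filter (fun φ => e φ = 1)).card = 2 := by exact_mod_cast hc
  obtain ⟨φ₁, φ₂, hne, hpair⟩ := Finset.card_eq_two.mp hc2
  have hφ₁ : φ₁ ∈ I.filter (fun φ => e φ = 1) := by rw [hpair]; simp
  have hφ₂ : φ₂ ∈ I.filter (fun φ => e φ = 1) := by rw [hpair]; simp
  rw [Finset.mem_filter] at hφ₁ hφ₂
  have hz₁ : (φ₁ : A → ℂ) z = ε := by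
    have := hφ₁.1; rw [hI, Finset.mem_filter] at this; exact this.2
  have hz₂ : (φ₂ : A → ℂ) z = ε := by
    have := hφ₂.1; rw [hI, Finset.mem_filter] at this; exact this.2
  refine ⟨φ₁, φ₂, hne, hz₁, hz₂, ?_, ?_⟩
  · intro a ha1 haz
    have hs0 : ∑ φ ∈ I, (φ : A → ℂ) a = 0 := by
      rw [hI]; exact sum_irr_sign z hzz ε hε a ha1 haz
    have hmφ : ∀ φ ∈ I, (m φ : ℂ) * (φ : A → ℂ) a =
        2 * (φ : A → ℂ) a - (if e φ = 1 then (φ : A → ℂ) a else 0) := by
      intro φ hφ
      have hmφ' : (m φ : ℂ) = 2 - ((e φ : ℤ) : ℂ) := by rw [he]; push_cast; ring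
      rcases h01 φ hφ with h0 | h0
      · rw [if_neg (by rw [h0]; norm_num), hmφ', h0]; push_cast; ring
      · rw [if_pos h0, hmφ', h0]; push_cast; ring
    rw [hfa a, Finset.sum_congr rfl hmφ, Finset.sum_sub_distrib, ← Finset.mul_sum, hs0,
      ← Finset.sum_filter, hpair, Finset.sum_pair hne]
    ring
  · have h3 : conjIrr φ₁ ∈ I.filter (fun φ => e φ = 1) := by
      rw [Finset.mem_filter]
      refine ⟨?_, ?_⟩
      · rw [hI, Finset.mem_filter]
        exact ⟨Finset.mem_univ _, conjIrr_sign φ₁ z hzz ε hz₁⟩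
      · have := hφ₁.2
        rw [he] at this ⊢
        simp only at this ⊢
        rw [hconj φ₁]; exact this
    have h4 : conjIrr φ₂ ∈ I.filter (fun φ => e φ = 1) := by
      rw [Finset.mem_filter]
      refine ⟨?_, ?_⟩
      · rw [hI, Finset.mem_filter]
        exact ⟨Finset.mem_univ _, conjIrr_sign φ₂ z hzz ε hz₂⟩
      · have := hφ₂.2
        rw [he] at this ⊢
        simp only at this ⊢
        rw [hconj φ₂]; exact this
    rw [hpair, Finset.mem_insert, Finset.mem_singleton] at h3 h4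
    rcases h3 with h3 | h3
    · rcases h4 with h4 | h4
      · left
        -- conj φ₂ = φ₁, so φ₂ = conj φ₁
        apply Subtype.ext
        funext a
        have := congrArg (fun ψ : IrrCharacter A => conj ((ψ : A → ℂ) a)) h4
        simp only [conjIrr_apply, Complex.conj_conj] at this
        rw [conjIrr_apply, this]
      · right; exact ⟨h3, h4⟩
    · left; exact h3.symm

open Classical in
/-- a character of degree `|A|/2 - 1` and norm equal to its degree: all irreducible characters of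
sign `ε` occur once except one. -/
theorem restrict_one {f : A → ℂ} (hf : IsCharacter A f) (z : A) (hz1 : z ≠ 1) (hzz : z * z = 1)
    (ε : ℂ) (hε : ε = 1 ∨ ε = -1) (hfz : ∀ a, f (z * a) = ε * f a) (hinv : ∀ a, f a⁻¹ = f a)
    (hdeg : 2 * f 1 = (Fintype.card A : ℂ) - 2)
    (hnorm : classInner f f = f 1) :
    ∃ φ₀ : IrrCharacter A, (φ₀ : A → ℂ) z = ε ∧
      (∀ a, a ≠ 1 → a ≠ z → f a = -((φ₀ : A → ℂ) a)) ∧ conjIrr φ₀ = φ₀ := by
  obtain ⟨m, hzero, hfa, hn, hconj⟩ := restrict_mult hf z hzz ε hε hfz hinv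
  obtain ⟨I, hI⟩ : ∃ I : Finset (IrrCharacter A),
      I = Finset.univ.filter (fun φ : IrrCharacter A => (φ : A → ℂ) z = ε) := ⟨_, rfl⟩
  rw [← hI] at hfa hn
  have hcardI : 2 * (I.card : ℂ) = (Fintype.card A : ℂ) := by
    rw [hI]; exact card_irr_sign z hz1 hzz ε hε
  have hm1 : ∑ φ ∈ I, (m φ : ℂ) = f 1 := by
    rw [hfa 1]
    apply Finset.sum_congr rfl
    intro φ _
    rw [(irr_linear φ).2, mul_one]
  have hm2 : ∑ φ ∈ I, (m φ : ℂ) ^ 2 = f 1 := by rw [← hn, hnorm]
  obtain ⟨e, he⟩ : ∃ e : IrrCharacter A → ℤ, e = fun φ => 1 - (m φ : ℤ) := ⟨_, rfl⟩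
  have hE1 : ∑ φ ∈ I, e φ = 1 := by
    have : ((∑ φ ∈ I, e φ : ℤ) : ℂ) = ((1 : ℤ) : ℂ) := by
      rw [he]
      push_cast
      rw [Finset.sum_sub_distrib, Finset.sum_const, nsmul_eq_mul, hm1]
      apply mul_left_cancel₀ (two_ne_zero (α := ℂ))
      linear_combination hcardI - hdeg
    exact_mod_cast this
  have hE2 : ∑ φ ∈ I, e φ ^ 2 = 1 := by
    have : ((∑ φ ∈ I, e φ ^ 2 : ℤ) : ℂ) = ((1 : ℤ) : ℂ) := by
      rw [he]
      push_cast
      have : ∀ φ ∈ I, ((1 : ℂ) - (m φ : ℂ)) ^ 2 = 1 - 2 * (m φ : ℂ) + (m φ : ℂ) ^ 2 := by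
        intro φ _; ring
      rw [Finset.sum_congr rfl this, Finset.sum_add_distrib, Finset.sum_sub_distrib,
        Finset.sum_const, nsmul_eq_mul, ← Finset.mul_sum, hm1, hm2]
      apply mul_left_cancel₀ (two_ne_zero (α := ℂ))
      linear_combination hcardI - hdeg
    exact_mod_cast this
  have h01 := zero_one_of_sum_sq_le I e 1 hE1 (le_of_eq hE2)
  have hc := card_filter_eq_one_of_zero_one I e h01
  rw [hE1] at hc
  have hc2 : (I.filter (fun φ => e φ = 1)).card = 1 := by exact_mod_cast hc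
  obtain ⟨φ₀, hsing⟩ := Finset.card_eq_one.mp hc2
  have hφ₀ : φ₀ ∈ I.filter (fun φ => e φ = 1) := by rw [hsing]; simp
  rw [Finset.mem_filter] at hφ₀
  have hz₀ : (φ₀ : A → ℂ) z = ε := by
    have := hφ₀.1; rw [hI, Finset.mem_filter] at this; exact this.2
  refine ⟨φ₀, hz₀, ?_, ?_⟩
  · intro a ha1 haz
    have hs0 : ∑ φ ∈ I, (φ : A → ℂ) a = 0 := by
      rw [hI]; exact sum_irr_sign z hzz ε hε a ha1 haz
    have hmφ : ∀ φ ∈ I, (m φ : ℂ) * (φ : A → ℂ) a =
        (φ : A → ℂ) a - (if e φ = 1 then (φ : A → ℂ) a else 0) := by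
      intro φ hφ
      have hmφ' : (m φ : ℂ) = 1 - ((e φ : ℤ) : ℂ) := by rw [he]; push_cast; ring
      rcases h01 φ hφ with h0 | h0
      · rw [if_neg (by rw [h0]; norm_num), hmφ', h0]; push_cast; ring
      · rw [if_pos h0, hmφ', h0]; push_cast; ring
    rw [hfa a, Finset.sum_congr rfl hmφ, Finset.sum_sub_distrib, hs0,
      ← Finset.sum_filter, hsing, Finset.sum_singleton]
    ring
  · have h3 : conjIrr φ₀ ∈ I.filter (fun φ => e φ = 1) := by
      rw [Finset.mem_filter]
      refine ⟨?_, ?_⟩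
      · rw [hI, Finset.mem_filter]
        exact ⟨Finset.mem_univ _, conjIrr_sign φ₀ z hzz ε hz₀⟩
      · have := hφ₀.2
        rw [he] at this ⊢
        simp only at this ⊢
        rw [hconj φ₀]; exact this
    rw [hsing, Finset.mem_singleton] at h3
    exact h3

end Abelian

end Cfsg.Agent.Lib.Helper38
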