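import Mathlib

set_option autoImplicit false

namespace Cfsg.Agent.Lib.Helper38

open Subgroup

theorem aut_pow_inverted {A : Type*} [Group A] (φ : MulAut A) (x : A) (h : φ x = x⁻¹) (k : ℕ) :
    (φ ^ (2 * k)) x = x ∧ (φ ^ (2 * k + 1)) x = x⁻¹ := by
  induction k with
  | zero => simp [h]
  | succ k ih =>
    have h2 : (φ ^ (2 * (k + 1))) x = x := by
      have : 2 * (k + 1) = (2 * k + 1) + 1 := by ring
      rw [this, pow_succ', MulAut.mul_apply, ih.2, map_inv, h, inv_inv]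
    refine ⟨h2, ?_⟩
    rw [pow_succ', MulAut.mul_apply, h2, h]

theorem two_dvd_orderOf_of_inverted {A : Type*} [Group A] [Finite A] (φ : MulAut A) (x : A)
    (h : φ x = x⁻¹) (hx : x ≠ x⁻¹) : 2 ∣ orderOf φ := by
  by_contra hnd
  have hodd : orderOf φ % 2 = 1 := by omega
  have hk : orderOf φ = 2 * (orderOf φ / 2) + 1 := by omega
  have h1 := (aut_pow_inverted φ x h (orderOf φ / 2)).2
  rw [← hk, pow_orderOf_eq_one] at h1
  exact hx (by simpa using h1)

/-- If an element `m` of the normalizer of `H` inverts some `x ∈ H` with `x ≠ x⁻¹`,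
then the automizer `N(H)/C(H)` has even order. -/
theorem two_dvd_automizer_of_inverted {G : Type*} [Group G] [Finite G] (H : Subgroup G) (x : G)
    (hx : x ∈ H) (hxx : x ≠ x⁻¹) (m : G) (hm : m ∈ normalizer (H : Set G))
    (hmx : m * x * m⁻¹ = x⁻¹) :
    2 ∣ ((centralizer (H : Set G)).subgroupOf (normalizer (H : Set G))).index := by
  rw [← normalizerMonoidHom_ker, index_ker]
  set f := H.normalizerMonoidHom with hf
  set φ : MulAut H := f ⟨m, hm⟩ with hφ
  have hφx : φ ⟨x, hx⟩ = (⟨x, hx⟩ : H)⁻¹ := by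
    apply Subtype.ext
    simp [hφ, hf, hmx]
  have hne : (⟨x, hx⟩ : H) ≠ (⟨x, hx⟩ : H)⁻¹ := by
    intro h
    apply hxx
    exact congrArg Subtype.val h
  have h2 : 2 ∣ orderOf φ := two_dvd_orderOf_of_inverted φ ⟨x, hx⟩ hφx hne
  have hmem : φ ∈ f.range := ⟨⟨m, hm⟩, rfl⟩
  have h3 : orderOf (⟨φ, hmem⟩ : f.range) = orderOf φ := by
    rw [← Subgroup.orderOf_coe]
  have h4 : orderOf (⟨φ, hmem⟩ : f.range) ∣ Nat.card f.range := orderOf_dvd_natCard _
  rw [h3] at h4
  exact h2.trans h4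

/-- For an abelian Sylow subgroup `P`, if some `x ∈ P` with `x ≠ x⁻¹` is conjugate in `G` to its
inverse then the automizer has even order. -/
theorem two_dvd_automizer_of_conj_inv {G : Type*} [Group G] [Finite G] {p : ℕ} [Fact p.Prime]
    (P : Sylow p G) (hP : IsMulCommutative (P : Subgroup G)) (x : G) (hx : x ∈ (P : Subgroup G))
    (hxx : x ≠ x⁻¹) (g : G) (hg : g⁻¹ * x * g = x⁻¹) :
    2 ∣ ((centralizer ((P : Subgroup G) : Set G)).subgroupOf
      (normalizer ((P : Subgroup G) : Set G))).index := by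
  haveI := hP
  obtain ⟨n, hn, hn2⟩ := Sylow.conj_eq_normalizer_conj_of_mem P x g hx
    (by rw [hg]; exact inv_mem hx)
  rw [hg] at hn2
  have hn' : n⁻¹ ∈ normalizer ((P : Subgroup G) : Set G) := inv_mem hn
  refine two_dvd_automizer_of_inverted (P : Subgroup G) x hx hxx n⁻¹ hn' ?_
  rw [inv_inv]; exact hn2.symm

end Cfsg.Agent.Lib.Helper38
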