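import Mathlib
import Cfsg.Agent.Lib.Helper38.Automizer

set_option autoImplicit false

namespace Cfsg.Agent.Lib.Helper38

open Subgroup Equiv

/-- An element of `p`-power order with `p` odd which equals its inverse is trivial. -/
theorem eq_one_of_eq_inv_of_pow_odd_prime {G : Type*} [Group G] {p : ℕ} (hpp : p.Prime) (hp : p ≠ 2)
    (x : G) (k : ℕ) (hk : x ^ (p ^ k) = 1) (h : x = x⁻¹) : x = 1 := by
  have h2 : x ^ 2 = 1 := by
    rw [pow_two]
    nth_rewrite 2 [h]
    exact mul_inv_cancel x
  have hd2 : orderOf x ∣ 2 := orderOf_dvd_of_pow_eq_one h2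
  have hdp : orderOf x ∣ p ^ k := orderOf_dvd_of_pow_eq_one hk
  have hcop : Nat.Coprime 2 (p ^ k) := by
    apply Nat.Coprime.pow_right
    rw [Nat.coprime_primes Nat.prime_two hpp]
    exact fun h => hp h.symm
  have : orderOf x ∣ 1 := by
    have := Nat.dvd_gcd hd2 hdp
    rwa [hcop] at this
  exact orderOf_eq_one_iff.mp (Nat.dvd_one.mp this)

theorem sq_prime_not_dvd_factorial {p n : ℕ} (hpp : p.Prime) (hn : n ≤ p + 1) (hp3 : 3 ≤ p) :
    ¬ p ^ 2 ∣ n.factorial := by
  intro h
  have h1 : p ^ 2 ∣ (p + 1).factorial := h.trans (Nat.factorial_dvd_factorial hn)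
  have h2 : (p + 1).factorial = p * ((p + 1) * (p - 1).factorial) := by
    obtain ⟨m, rfl⟩ : ∃ m, p = m + 1 := ⟨p - 1, by omega⟩
    rw [Nat.factorial_succ, Nat.factorial_succ]
    simp
    ring
  rw [h2, pow_two] at h1
  have h3 : p ∣ (p + 1) * (p - 1).factorial := Nat.dvd_of_mul_dvd_mul_left hpp.pos h1
  rcases (Nat.Prime.dvd_mul hpp).mp h3 with h4 | h4
  · have : p ∣ 1 := (Nat.dvd_add_right (dvd_refl p)).mp h4
    exact hpp.one_lt.ne' (Nat.dvd_one.mp this)
  · have := (Nat.Prime.dvd_factorial hpp).mp h4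
    omega

theorem alt_sylow_odd (n : ℕ) (hn : 5 ≤ n) {p : ℕ} [Fact p.Prime] (hp2 : p ≠ 2)
    (P : Sylow p (alternatingGroup (Fin n)))
    (hP : IsMulCommutative (P : Subgroup (alternatingGroup (Fin n)))) :
    2 ∣ ((centralizer ((P : Subgroup (alternatingGroup (Fin n))) : Set (alternatingGroup (Fin n)))).subgroupOf
      (normalizer ((P : Subgroup (alternatingGroup (Fin n))) : Set (alternatingGroup (Fin n))))).index ∨
    IsCyclic (P : Subgroup (alternatingGroup (Fin n))) := by
  have hpp : p.Prime := Fact.out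
  have hp3 : 3 ≤ p := by
    have := hpp.two_le
    omega
  by_cases hbot : (P : Subgroup (alternatingGroup (Fin n))) = ⊥
  · right
    have : Subsingleton (P : Subgroup (alternatingGroup (Fin n))) := by
      rw [hbot]; infer_instance
    exact isCyclic_of_subsingleton
  by_cases hcase : ∃ x ∈ (P : Subgroup (alternatingGroup (Fin n))), x ≠ 1 ∧
      ¬ (Subgroup.centralizer {(x : Perm (Fin n))} ≤ alternatingGroup (Fin n))
  · left
    obtain ⟨x, hxP, hx1, hcent⟩ := hcase
    obtain ⟨τ, hτc, hτa⟩ := SetLike.not_le_iff_exists.mp hcent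
    obtain ⟨k, hk⟩ := P.2 ⟨x, hxP⟩
    have hk' : x ^ (p ^ k) = 1 := by
      have := congrArg Subtype.val hk
      simpa using this
    have hxx : x ≠ x⁻¹ := fun h => hx1 (eq_one_of_eq_inv_of_pow_odd_prime hpp hp2 x k hk' h)
    have hconj : IsConj (x : Perm (Fin n)) (x : Perm (Fin n))⁻¹ := by
      rw [Equiv.Perm.isConj_iff_cycleType_eq, Equiv.Perm.cycleType_inv]
    obtain ⟨σ, hσ⟩ := isConj_iff.mp hconj
    have hτcomm : τ * (x : Perm (Fin n)) = (x : Perm (Fin n)) * τ := by
      rw [Subgroup.mem_centralizer_singleton_iff] at hτc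
      exact hτc
    -- find an even conjugator
    have hex : ∃ g : Perm (Fin n), g ∈ alternatingGroup (Fin n) ∧
        g * (x : Perm (Fin n)) * g⁻¹ = (x : Perm (Fin n))⁻¹ := by
      by_cases hσa : σ ∈ alternatingGroup (Fin n)
      · exact ⟨σ, hσa, hσ⟩
      · refine ⟨σ * τ, ?_, ?_⟩
        · rw [Equiv.Perm.mem_alternatingGroup] at hσa hτa ⊢
          rw [map_mul]
          rcases Int.units_eq_one_or (Perm.sign σ) with h1 | h1
          · exact absurd h1 hσa
          rcases Int.units_eq_one_or (Perm.sign τ) with h2 | h2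
          · exact absurd h2 hτa
          rw [h1, h2]; rfl
        · rw [mul_inv_rev, ← hσ]
          have : τ * (x : Perm (Fin n)) * τ⁻¹ = (x : Perm (Fin n)) := by
            rw [hτcomm, mul_inv_cancel_right]
          calc σ * τ * ↑x * (τ⁻¹ * σ⁻¹) = σ * (τ * ↑x * τ⁻¹) * σ⁻¹ := by group
            _ = σ * ↑x * σ⁻¹ := by rw [this]
    obtain ⟨g, hga, hg⟩ := hex
    refine two_dvd_automizer_of_conj_inv P hP x hxP hxx (⟨g, hga⟩ : alternatingGroup (Fin n))⁻¹ ?_
    apply Subtype.ext
    simpa using hg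
  · right
    push Not at hcase
    -- P is a nontrivial p-group
    have hPG : IsPGroup p (P : Subgroup (alternatingGroup (Fin n))) := P.2
    obtain ⟨k, hk⟩ := IsPGroup.iff_card.mp hPG
    have hk1 : k ≠ 0 := by
      rintro rfl
      rw [pow_zero] at hk
      exact hbot ((Subgroup.card_eq_one).mp hk)
    have hpd : p ∣ Nat.card (P : Subgroup (alternatingGroup (Fin n))) := by
      rw [hk]; exact dvd_pow_self p hk1
    obtain ⟨y, hy⟩ := exists_prime_orderOf_dvd_card' p hpd
    have hy1 : (y : alternatingGroup (Fin n)) ≠ 1 := by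
      intro h
      have : y = 1 := Subtype.ext h
      rw [this, orderOf_one] at hy
      exact hpp.one_lt.ne hy
    have hc := hcase (y : alternatingGroup (Fin n)) y.2 hy1
    set σ : Perm (Fin n) := ((y : alternatingGroup (Fin n)) : Perm (Fin n)) with hσdef
    have hσo : orderOf σ = p := by
      rw [hσdef, Subgroup.orderOf_coe, Subgroup.orderOf_coe, hy]
    obtain ⟨m, hm⟩ := Equiv.Perm.cycleType_prime_order (σ := σ) (by rw [hσo]; exact hpp)
    rw [hσo] at hm
    have hcount := Equiv.Perm.count_le_one_of_centralizer_le_alternating hc p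
    rw [hm, Multiset.count_replicate_self] at hcount
    have hm0 : m = 0 := by omega
    have hsum : σ.cycleType.sum = p := by
      rw [hm, hm0]; simp
    have hcard := Equiv.Perm.card_le_of_centralizer_le_alternating hc
    rw [hsum, Fintype.card_fin] at hcard
    -- |P| = p
    have hnot := sq_prime_not_dvd_factorial hpp hcard hp3
    have hdvd1 : Nat.card (P : Subgroup (alternatingGroup (Fin n))) ∣ Nat.card (alternatingGroup (Fin n)) :=
      Subgroup.card_subgroup_dvd_card _
    have hdvd2 : Nat.card (alternatingGroup (Fin n)) ∣ n.factorial := by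
      have h := Subgroup.card_subgroup_dvd_card (alternatingGroup (Fin n))
      rwa [Nat.card_eq_fintype_card (α := Perm (Fin n)), Fintype.card_perm, Fintype.card_fin] at h
    have hk2 : k = 1 := by
      by_contra hne
      have hk2 : 2 ≤ k := by omega
      apply hnot
      calc p ^ 2 ∣ p ^ k := pow_dvd_pow p hk2
        _ ∣ n.factorial := by rw [← hk]; exact hdvd1.trans hdvd2
    rw [hk2, pow_one] at hk
    exact isCyclic_of_prime_card hk

end Cfsg.Agent.Lib.Helper38
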