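import Mathlib

set_option autoImplicit false

namespace Cfsg.Agent.Lib.Helper38

open Subgroup Equiv

theorem dihedral_isPGroup {G : Type*} [Group G] (r s : G) (hr : r ^ 4 = 1) (hs : s ^ 2 = 1)
    (hrs : s * r * s⁻¹ = r⁻¹) : IsPGroup 2 (zpowers r ⊔ zpowers s : Subgroup G) := by
  have h1 : IsPGroup 2 (zpowers r) := by
    apply IsPGroup.of_card_dvd_pow (n := 2)
    rw [Nat.card_zpowers]
    exact orderOf_dvd_of_pow_eq_one (by simpa using hr)
  have h2 : IsPGroup 2 (zpowers s) := by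
    apply IsPGroup.of_card_dvd_pow (n := 1)
    rw [Nat.card_zpowers]
    exact orderOf_dvd_of_pow_eq_one (by simpa using hs)
  have hfwd : ∀ h, h ∈ zpowers r → s * h * s⁻¹ ∈ zpowers r := by
    rintro _ ⟨k, rfl⟩
    have : s * r ^ k * s⁻¹ = (MulAut.conj s) (r ^ k) := rfl
    rw [this, map_zpow]
    have : (MulAut.conj s) r = r⁻¹ := hrs
    rw [this]
    exact zpow_mem (inv_mem (mem_zpowers r)) k
  have hsinv : s⁻¹ = s := by
    rw [inv_eq_iff_mul_eq_one, ← pow_two, hs]
  refine IsPGroup.to_sup_of_normal_left' h1 h2 ?_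
  rw [zpowers_le, Subgroup.mem_normalizer_iff]
  intro h
  refine ⟨hfwd h, fun hh => ?_⟩
  have := hfwd _ hh
  have h3 : s * (s * h * s⁻¹) * s⁻¹ = h := by
    rw [hsinv]
    have hss : s * s = 1 := by rw [← pow_two, hs]
    calc s * (s * h * s) * s = (s * s) * h * (s * s) := by group
      _ = h := by rw [hss]; simp
  rwa [h3] at this

def r6 : Perm (Fin 6) := swap 0 1 * swap 1 2 * swap 2 3 * swap 4 5
def s6 : Perm (Fin 6) := swap 0 2 * swap 4 5

theorem r6_pow : r6 ^ 4 = 1 := by decide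
theorem s6_pow : s6 ^ 2 = 1 := by decide
theorem r6_s6_rel : s6 * r6 * s6⁻¹ = r6⁻¹ := by decide
theorem r6_s6_ne : r6 * s6 ≠ s6 * r6 := by decide
theorem r6_sign : Perm.sign r6 = 1 := by decide
theorem s6_sign : Perm.sign s6 = 1 := by decide

theorem alt_sylow_two_not_comm (n : ℕ) (hn : 6 ≤ n) (P : Sylow 2 (alternatingGroup (Fin n)))
    (hP : IsMulCommutative (P : Subgroup (alternatingGroup (Fin n)))) : False := by
  let φ : Perm (Fin 6) →* Perm (Fin n) := Perm.extendDomainHom (Fin.castLEquiv hn)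
  have hφinj : Function.Injective φ := Perm.extendDomainHom_injective _
  have hφsign : ∀ e, Perm.sign (φ e) = Perm.sign e := fun e => Perm.sign_extendDomain e _
  have hr_mem : φ r6 ∈ alternatingGroup (Fin n) := by
    rw [Perm.mem_alternatingGroup, hφsign, r6_sign]
  have hs_mem : φ s6 ∈ alternatingGroup (Fin n) := by
    rw [Perm.mem_alternatingGroup, hφsign, s6_sign]
  set r : alternatingGroup (Fin n) := ⟨φ r6, hr_mem⟩ with hrdef
  set s : alternatingGroup (Fin n) := ⟨φ s6, hs_mem⟩ with hsdef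
  have hr4 : r ^ 4 = 1 := by
    apply Subtype.ext
    simp only [hrdef, SubgroupClass.coe_pow, OneMemClass.coe_one]
    rw [← map_pow, r6_pow, map_one]
  have hs2 : s ^ 2 = 1 := by
    apply Subtype.ext
    simp only [hsdef, SubgroupClass.coe_pow, OneMemClass.coe_one]
    rw [← map_pow, s6_pow, map_one]
  have hrs : s * r * s⁻¹ = r⁻¹ := by
    apply Subtype.ext
    simp only [hrdef, hsdef, Subgroup.coe_mul, Subgroup.coe_inv]
    rw [← map_inv, ← map_mul, ← map_mul, r6_s6_rel, map_inv]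
  have hD := dihedral_isPGroup r s hr4 hs2 hrs
  obtain ⟨Q, hQ⟩ := hD.exists_le_sylow
  obtain ⟨g, rfl⟩ := MulAction.exists_smul_eq (alternatingGroup (Fin n)) P Q
  have hrQ : r ∈ ((g • P : Sylow 2 (alternatingGroup (Fin n))) : Subgroup (alternatingGroup (Fin n))) :=
    hQ (mem_sup_left (mem_zpowers r))
  have hsQ : s ∈ ((g • P : Sylow 2 (alternatingGroup (Fin n))) : Subgroup (alternatingGroup (Fin n))) :=
    hQ (mem_sup_right (mem_zpowers s))
  let e := P.equivSMul g
  have hcomm : ∀ a b : ((g • P : Sylow 2 (alternatingGroup (Fin n))) : Subgroup (alternatingGroup (Fin n))),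
      a * b = b * a := by
    intro a b
    have h1 : e.symm a * e.symm b = e.symm b * e.symm a := hP.is_comm.comm _ _
    have h2 := congrArg e h1
    simpa using h2
  have h3 := hcomm ⟨r, hrQ⟩ ⟨s, hsQ⟩
  have h4 : r * s = s * r := congrArg Subtype.val h3
  have h5 : φ r6 * φ s6 = φ s6 * φ r6 := congrArg Subtype.val h4
  rw [← map_mul, ← map_mul] at h5
  exact r6_s6_ne (hφinj h5)

end Cfsg.Agent.Lib.Helper38
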