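import Cfsg.Agent.Lib.Helper38.PSL2Steinberg
import Cfsg.Prelude.Def_DegreeGraph

set_option autoImplicit false
set_option linter.unusedSimpArgs false
set_option linter.unusedSectionVars false

/-!
Transfer of character degrees along group isomorphisms (across universes) and quotients.
-/

namespace Cfsg.Agent.Lib.Helper38

open Matrix Cfsg

universe u v

/-- composition of an irreducible character with a surjective homomorphism (universe
polymorphic). -/
theorem isIrrCharacter_comp_surjective' {G : Type u} {H : Type v} [Group G] [Group H]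
    {χ : G → ℂ} (h : IsIrrCharacter G χ) (f : H →* G) (hf : Function.Surjective f) :
    IsIrrCharacter H (fun x : H => χ (f x)) := by
  obtain ⟨n, ρ, hirr, rfl⟩ := h
  refine ⟨n, ρ.comp f, ?_, rfl⟩
  apply Cfsg.Agent.Lib.Helper79.isIrreducible_of_forall_exists ρ (ρ.comp f) _ hirr
  intro g
  obtain ⟨k, rfl⟩ := hf g
  exact ⟨k, rfl⟩

theorem charDegrees_subset_of_surjective {G : Type u} {H : Type v} [Group G] [Group H]
    (f : H →* G) (hf : Function.Surjective f) : charDegrees G ⊆ charDegrees H := by
  rintro d ⟨χ, hd⟩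
  refine ⟨⟨fun x => χ.1 (f x), isIrrCharacter_comp_surjective' χ.2 f hf⟩, ?_⟩
  rw [← hd]
  unfold charDegree
  simp only [map_one]

theorem charDegrees_congr {G : Type u} {H : Type v} [Group G] [Group H] (e : H ≃* G) :
    charDegrees H = charDegrees G :=
  Set.Subset.antisymm
    (charDegrees_subset_of_surjective e.symm.toMonoidHom e.symm.surjective)
    (charDegrees_subset_of_surjective e.toMonoidHom e.surjective)

theorem degreePrimes_congr {G : Type u} {H : Type v} [Group G] [Group H] (e : H ≃* G) :
    degreePrimes H = degreePrimes G := by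
  unfold degreePrimes
  rw [charDegrees_congr e]

theorem degreeGraph_adj_congr {G : Type u} {H : Type v} [Group G] [Group H] (e : H ≃* G)
    (r s : ℕ) : (degreeGraph H).Adj r s ↔ (degreeGraph G).Adj r s := by
  change (r ≠ s ∧ r.Prime ∧ s.Prime ∧ ∃ d ∈ charDegrees H, r * s ∣ d) ↔
    (r ≠ s ∧ r.Prime ∧ s.Prime ∧ ∃ d ∈ charDegrees G, r * s ∣ d)
  rw [charDegrees_congr e]

end Cfsg.Agent.Lib.Helper38
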