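import Cfsg.Agent.Lib.Helper24.E8m_FF
import Cfsg.Agent.Lib.Helper97.E8m_CAN
import Cfsg.Agent.Lib.Helper33.E8m_MOVE2

/-! # E8m hive (S2107, owner helper76), leaf E-KEY, private-name backup `keyb_key` by helper38 (same statement as `key`), used by `Helper38.E8m_REL` -/

set_option autoImplicit false

namespace Cfsg.Agent.Lib.Helper76.E8m

open Cfsg Cfsg.Lie Cfsg.Agent.Lib.Helper39.Sm
open scoped commutatorElement

/-- sign bookkeeping: `x y = z w`, all `± 1`, gives `y w = x z` -/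
theorem keyb_sign (x y z w : ℤ) (hs : x * y = z * w) (hy : y = 1 ∨ y = -1) (hz : z = 1 ∨ z = -1) :
    y * w = x * z := by
  have hy2 : y * y = 1 := by rcases hy with h | h <;> rw [h] <;> norm_num
  have hz2 : z * z = 1 := by rcases hz with h | h <;> rw [h] <;> norm_num
  linear_combination (-(y * z)) * hs + (x * z) * hy2 - (y * w) * hz2

section A
variable {D : ChevalleyDatum} {dec : ℕ → ℕ × ℕ} {K : Type*} [Field K] {G : Type*} [Group G]
  {Y : Type*} [Group Y] (S : SLSys D K G) (φ : Y →* G) (hφ : Function.Surjective φ)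

/-- E-KEY -/
theorem keyb_key (T : Tab D dec) (hc : φ.ker ≤ Subgroup.center Y) (hL : LAp S φ) {a b e : ℕ}
    (h : sm D a b = some e) (t u : K) :
    ff S φ hφ a b t u = sl dec S φ hφ e (((ep D a b : ℤ) : K) * t * u) := by
  obtain ⟨-, -, he⟩ := T.basic.sm_lt a b e h
  have hcd := T.dc.dec_sum e he
  have hsq : ∀ {a b e : ℕ}, sm D a b = some e →
      ((ep D a b : ℤ) : K) * ((ep D a b : ℤ) : K) = 1 := by
    intro a b e h
    rcases T.basic.ep_sq a b e h with h1 | h1 <;> rw [h1] <;> simp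
  have hdc : ep D (dec e).2 (dec e).1 = - ep D (dec e).1 (dec e).2 := (T.basic.sm_symm _ _ _ hcd).2
  -- `ff d c 1 V = ff c d 1 (-V)`
  have hswap : ∀ V : K, ff S φ hφ (dec e).2 (dec e).1 1 V = ff S φ hφ (dec e).1 (dec e).2 1 (-V) := by
    intro V
    rw [ff_symm S φ hφ (dec e).1 (dec e).2 V 1, ff_dec S φ hφ T hc hL he V 1, mul_one,
      ff_neg_right S φ hφ T.basic hc hL hcd]
  unfold sl
  rcases T.conn a b e h with ⟨rfl, rfl⟩ | ⟨rfl, rfl⟩ | h3 | h3
  · rw [ff_dec S φ hφ T hc hL he t u]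
    congr 1
    calc t * u = (((ep D (dec e).1 (dec e).2 : ℤ) : K) * ((ep D (dec e).1 (dec e).2 : ℤ) : K)) * (t * u) := by
          rw [hsq hcd, one_mul]
      _ = _ := by ring
  · rw [ff_symm S φ hφ (dec e).1 (dec e).2 u t, ff_dec S φ hφ T hc hL he u t,
      ← ff_neg_right S φ hφ T.basic hc hL hcd]
    congr 1
    rw [hdc]
    push_cast
    calc -(u * t) = -((((ep D (dec e).1 (dec e).2 : ℤ) : K) * ((ep D (dec e).1 (dec e).2 : ℤ) : K)) * (u * t)) := by
          rw [hsq hcd, one_mul]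
      _ = _ := by ring
  · -- `A3 D c q b a d e`
    rw [move_one S φ hφ T.basic hc hL h3 t u]
    congr 1
    have hsg := keyb_sign _ _ _ _ h3.sgn (T.basic.ep_sq _ _ _ h3.hqr) (T.basic.ep_sq _ _ _ h3.hpqr)
    have hsgK : ((ep D (sb D a (dec e).1) b : ℤ) : K) * ((ep D (dec e).1 (sb D a (dec e).1) : ℤ) : K) =
        ((ep D (dec e).1 (dec e).2 : ℤ) : K) * ((ep D a b : ℤ) : K) := by
      have h5 := congrArg (Int.cast : ℤ → K) hsg
      push_cast at h5
      exact h5
    calc ((ep D (sb D a (dec e).1) b : ℤ) : K) * ((ep D (dec e).1 (sb D a (dec e).1) : ℤ) : K) * t * u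
        = (((ep D (sb D a (dec e).1) b : ℤ) : K) * ((ep D (dec e).1 (sb D a (dec e).1) : ℤ) : K)) * (t * u) := by ring
      _ = _ := by rw [hsgK]; ring
  · -- `A3 D d q b a c e`
    rw [move_one S φ hφ T.basic hc hL h3 t u, hswap]
    congr 1
    have hsg := keyb_sign _ _ _ _ h3.sgn (T.basic.ep_sq _ _ _ h3.hqr) (T.basic.ep_sq _ _ _ h3.hpqr)
    have hsgK : ((ep D (sb D a (dec e).2) b : ℤ) : K) * ((ep D (dec e).2 (sb D a (dec e).2) : ℤ) : K) =
        ((ep D (dec e).2 (dec e).1 : ℤ) : K) * ((ep D a b : ℤ) : K) := by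
      have h5 := congrArg (Int.cast : ℤ → K) hsg
      push_cast at h5
      exact h5
    calc -(((ep D (sb D a (dec e).2) b : ℤ) : K) * ((ep D (dec e).2 (sb D a (dec e).2) : ℤ) : K) * t * u)
        = -((((ep D (sb D a (dec e).2) b : ℤ) : K) * ((ep D (dec e).2 (sb D a (dec e).2) : ℤ) : K)) * (t * u)) := by ring
      _ = _ := by rw [hsgK, hdc]; push_cast; ring

end A

end Cfsg.Agent.Lib.Helper76.E8m
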