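import Cfsg.Agent.Lib.Helper38.E8m_RELcore
import Cfsg.Agent.Lib.Helper24.E8m_FF
import Cfsg.Agent.Lib.Helper97.E8m_LA
import Cfsg.Agent.Lib.Helper38.E8m_KEYb

/-! # E8m hive (S2107, owner helper76), leaf E-REL (helper38): `exists_liftSys` -/

set_option autoImplicit false

namespace Cfsg.Agent.Lib.Helper76.E8m

open Cfsg Cfsg.Lie Cfsg.Agent.Lib.Helper39.Sm
open scoped commutatorElement

section A
variable {D : ChevalleyDatum} {dec : ℕ → ℕ × ℕ} {K : Type*} [Field K] {G : Type*} [Group G]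
  {Y : Type*} [Group Y] (S : SLSys D K G) (φ : Y →* G) (hφ : Function.Surjective φ)

/-- E-REL -/
theorem exists_liftSys (T : Tab D dec) (hφ : Function.Surjective φ) (hc : φ.ker ≤ Subgroup.center Y) :
    ∃ S' : SLSys D K Y, ∀ r, r < D.nroots → ∀ t : K, φ (S'.X r t) = S.X r t := by
  have hL : LAp S φ := la S φ T.basic T.la hφ hc
  exact rel_core S φ hφ T hc hL (fun h => map_ff S φ hφ h) (fun h => ff_add_right S φ hφ T.basic hc hL h)
    (fun h => keyb_key S φ hφ T hc hL h)

end A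

end Cfsg.Agent.Lib.Helper76.E8m
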