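import Cfsg.Agent.Lib.Helper76.E8mDefs
import Cfsg.Agent.Lib.Helper24.Sm_GCM

/-! # E8m hive (S2107, owner helper76), leaf E-REL (helper38): the core, with the statements of
`la`, `map_ff`, `ff_add_right`, `key` as hypotheses -/

set_option autoImplicit false

namespace Cfsg.Agent.Lib.Helper76.E8m

open Cfsg Cfsg.Lie Cfsg.Agent.Lib.Helper39.Sm
open scoped commutatorElement

section A
variable {D : ChevalleyDatum} {dec : ℕ → ℕ × ℕ} {K : Type*} [Field K] {G : Type*} [Group G]
  {Y : Type*} [Group Y] (S : SLSys D K G) (φ : Y →* G) (hφ : Function.Surjective φ)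

/-- the core of E-REL -/
theorem rel_core (T : Tab D dec) (hc : φ.ker ≤ Subgroup.center Y) (hL : LAp S φ)
    (hmap : ∀ {a b e : ℕ}, sm D a b = some e → ∀ t u : K,
      φ (ff S φ hφ a b t u) = S.X e (((ep D a b : ℤ) : K) * t * u))
    (hadd : ∀ {a b e : ℕ}, sm D a b = some e → ∀ t u u' : K,
      ff S φ hφ a b t (u + u') = ff S φ hφ a b t u * ff S φ hφ a b t u')
    (hkey : ∀ {a b e : ℕ}, sm D a b = some e → ∀ t u : K,
      ff S φ hφ a b t u = sl dec S φ hφ e (((ep D a b : ℤ) : K) * t * u)) :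
    ∃ S' : SLSys D K Y, ∀ r, r < D.nroots → ∀ t : K, φ (S'.X r t) = S.X r t := by
  classical
  -- `N² = 1`
  have hsq : ∀ {a b e : ℕ}, sm D a b = some e →
      ((ep D a b : ℤ) : K) * ((ep D a b : ℤ) : K) = 1 := by
    intro a b e h
    rcases T.basic.ep_sq a b e h with h1 | h1 <;> rw [h1] <;> simp
  -- `φ (sl e t) = S.X e t`
  have hmapsl : ∀ e, e < D.nroots → ∀ t : K, φ (sl dec S φ hφ e t) = S.X e t := by
    intro e he t
    have h := T.dc.dec_sum e he
    unfold sl
    rw [hmap h]
    congr 1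
    calc ((ep D (dec e).1 (dec e).2 : ℤ) : K) * 1 * (((ep D (dec e).1 (dec e).2 : ℤ) : K) * t)
        = (((ep D (dec e).1 (dec e).2 : ℤ) : K) * ((ep D (dec e).1 (dec e).2 : ℤ) : K)) * t := by ring
      _ = t := by rw [hsq h, one_mul]
  refine ⟨{ X := fun r t => if r < D.nroots then sl dec S φ hφ r t else 1
            X_add := ?_
            X_cm := ?_
            X_sum := ?_ }, ?_⟩
  · intro r t u
    by_cases hr : r < D.nroots
    · simp only [if_pos hr]
      have h := T.dc.dec_sum r hr
      unfold sl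
      rw [mul_add, hadd h]
    · simp only [if_neg hr, mul_one]
  · intro a b hab t u
    have ha : a < D.nroots := hab.1
    have hb : b < D.nroots := hab.2.1
    simp only [if_pos ha, if_pos hb]
    exact hL hab t u (hmapsl a ha t) (hmapsl b hb u)
  · intro a b e h t u
    obtain ⟨ha, hb, he⟩ := T.basic.sm_lt a b e h
    simp only [if_pos ha, if_pos hb, if_pos he]
    rw [← hkey h]
    unfold ff
    exact (cm_eq φ hφ hc (hmapsl a ha t) (hmapsl b hb u)).symm
  · intro r hr t
    simp only [if_pos hr]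
    exact hmapsl r hr t

end A

end Cfsg.Agent.Lib.Helper76.E8m
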