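import Mathlib
import Cfsg.Prelude.Def_ParabolicCharacters

/-!
# Inner product of two permutation characters = number of orbits on pairs
-/

set_option autoImplicit false

namespace Cfsg.Agent.Lib.Helper38.Flag

open MulAction

theorem card_fixedBy_prod {G X Y : Type*} [Group G] [MulAction G X] [MulAction G Y] (g : G) :
    Nat.card (fixedBy (X × Y) g) = Nat.card (fixedBy X g) * Nat.card (fixedBy Y g) := by
  rw [← Nat.card_prod]
  apply Nat.card_congr
  refine ⟨fun p => (⟨p.1.1, ?_⟩, ⟨p.1.2, ?_⟩), fun p => ⟨(p.1.1, p.2.1), ?_⟩, ?_, ?_⟩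
  · have := p.2
    rw [mem_fixedBy] at this ⊢
    exact congrArg Prod.fst this
  · have := p.2
    rw [mem_fixedBy] at this ⊢
    exact congrArg Prod.snd this
  · rw [mem_fixedBy]
    have h1 := p.1.2
    have h2 := p.2.2
    rw [mem_fixedBy] at h1 h2
    exact Prod.ext h1 h2
  · intro p; rfl
  · intro p; rfl

theorem inner_fpc_eq_card_orbits {G : Type*} [Group G] [Fintype G] (H K : Subgroup G) :
    (Nat.card G : ℂ)⁻¹ * ∑ g : G, Cfsg.fixedPointCharacter H g * Cfsg.fixedPointCharacter K g =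
      (Nat.card (Quotient (MulAction.orbitRel G ((G ⧸ H) × (G ⧸ K)))) : ℂ) := by
  classical
  have hfin : Finite G := Finite.of_fintype G
  have key : ∑ g : G, Nat.card (fixedBy ((G ⧸ H) × (G ⧸ K)) g) =
      Nat.card (Quotient (MulAction.orbitRel G ((G ⧸ H) × (G ⧸ K)))) * Nat.card G := by
    have := MulAction.sum_card_fixedBy_eq_card_orbits_mul_card_group G ((G ⧸ H) × (G ⧸ K))
    simp only [← Nat.card_eq_fintype_card] at this
    exact this
  have hsum : ∑ g : G, Cfsg.fixedPointCharacter H g * Cfsg.fixedPointCharacter K g =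
      ((∑ g : G, Nat.card (fixedBy ((G ⧸ H) × (G ⧸ K)) g) : ℕ) : ℂ) := by
    rw [Nat.cast_sum]
    apply Finset.sum_congr rfl
    intro g _
    rw [card_fixedBy_prod, Nat.cast_mul]
    rfl
  rw [hsum, key, Nat.cast_mul]
  have hne : (Nat.card G : ℂ) ≠ 0 := by
    have : Nat.card G ≠ 0 := Nat.card_pos.ne'
    exact_mod_cast this
  field_simp

end Cfsg.Agent.Lib.Helper38.Flag
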