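import Mathlib
import Cfsg.Agent.Lib.Helper38.FlagB

/-!
# Counting invariants of parabolic double cosets in `GL_n` over a finite field

For labellings `a b : Fin n → ℕ` and a matrix `A`, the number of vectors `v` supported on
`{j | b j ≤ t}` with `A v` supported on `{i | a i < s}` is invariant under
`A ↦ p * A * p'` with `p` (resp. `p'`) block triangular for `a` (resp. `b`).  For permutation
matrices it is a power of `|F|` whose exponent is a contingency count; hence two permutation
matrices in the same parabolic double coset are in the same Young double coset.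
-/

set_option autoImplicit false
open scoped MatrixGroups

namespace Cfsg.Agent.Lib.Helper38.Flag

variable {F : Type*} [Field F] {n : ℕ}

/-- `v` is supported on `{j | b j ≤ t}`. -/
def Ucond (b : Fin n → ℕ) (t : ℕ) (v : Fin n → F) : Prop := ∀ j, t < b j → v j = 0

/-- `w` is supported on `{i | a i < s}`. -/
def Vcond (a : Fin n → ℕ) (s : ℕ) (w : Fin n → F) : Prop := ∀ i, s ≤ a i → w i = 0

theorem Ucond_mulVec {b : Fin n → ℕ} {t : ℕ} {P : Matrix (Fin n) (Fin n) F}
    (hP : P.BlockTriangular b) {v : Fin n → F} (hv : Ucond b t v) : Ucond b t (P.mulVec v) := by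
  intro j hj
  rw [Matrix.mulVec, dotProduct]
  apply Finset.sum_eq_zero
  intro l _
  by_cases hl : t < b l
  · rw [hv l hl, mul_zero]
  · have : b l < b j := lt_of_le_of_lt (not_lt.mp hl) hj
    rw [hP this, zero_mul]

theorem Vcond_mulVec {a : Fin n → ℕ} {s : ℕ} {P : Matrix (Fin n) (Fin n) F}
    (hP : P.BlockTriangular a) {w : Fin n → F} (hw : Vcond a s w) : Vcond a s (P.mulVec w) := by
  intro i hi
  rw [Matrix.mulVec, dotProduct]
  apply Finset.sum_eq_zero
  intro l _
  by_cases hl : a l < a i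
  · rw [hP hl, zero_mul]
  · have : s ≤ a l := le_trans hi (not_lt.mp hl)
    rw [hw l this, mul_zero]

/-- The invariant set. -/
def Iset (a b : Fin n → ℕ) (s t : ℕ) (A : Matrix (Fin n) (Fin n) F) : Set (Fin n → F) :=
  {v | Ucond b t v ∧ Vcond a s (A.mulVec v)}

theorem card_Iset_mul (a b : Fin n → ℕ) (s t : ℕ) (p p' A : GL (Fin n) F)
    (hp : (p : Matrix (Fin n) (Fin n) F).BlockTriangular a)
    (hpi : ((p⁻¹ : GL (Fin n) F) : Matrix (Fin n) (Fin n) F).BlockTriangular a)
    (hp' : (p' : Matrix (Fin n) (Fin n) F).BlockTriangular b)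
    (hpi' : ((p'⁻¹ : GL (Fin n) F) : Matrix (Fin n) (Fin n) F).BlockTriangular b) :
    Nat.card (Iset a b s t ((p * A * p' : GL (Fin n) F) : Matrix (Fin n) (Fin n) F)) =
      Nat.card (Iset a b s t (A : Matrix (Fin n) (Fin n) F)) := by
  have e1 : ((p'⁻¹ : GL (Fin n) F) : Matrix (Fin n) (Fin n) F) * (p' : Matrix (Fin n) (Fin n) F)
      = 1 := by
    rw [← Matrix.GeneralLinearGroup.coe_mul, inv_mul_cancel]; rfl
  have e2 : (p' : Matrix (Fin n) (Fin n) F) * ((p'⁻¹ : GL (Fin n) F) : Matrix (Fin n) (Fin n) F)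
      = 1 := by
    rw [← Matrix.GeneralLinearGroup.coe_mul, mul_inv_cancel]; rfl
  have e3 : ((p⁻¹ : GL (Fin n) F) : Matrix (Fin n) (Fin n) F) * (p : Matrix (Fin n) (Fin n) F)
      = 1 := by
    rw [← Matrix.GeneralLinearGroup.coe_mul, inv_mul_cancel]; rfl
  have eprod : ((p * A * p' : GL (Fin n) F) : Matrix (Fin n) (Fin n) F) =
      (p : Matrix (Fin n) (Fin n) F) * (A : Matrix (Fin n) (Fin n) F) *
        (p' : Matrix (Fin n) (Fin n) F) := rfl
  apply Nat.card_congr
  refine ⟨fun v => ⟨(p' : Matrix (Fin n) (Fin n) F).mulVec v.1, ?_⟩,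
    fun w => ⟨((p'⁻¹ : GL (Fin n) F) : Matrix (Fin n) (Fin n) F).mulVec w.1, ?_⟩, ?_, ?_⟩
  · rcases v with ⟨v, hv1, hv2⟩
    refine ⟨Ucond_mulVec hp' hv1, ?_⟩
    have := Vcond_mulVec (s := s) hpi hv2
    rw [eprod, Matrix.mulVec_mulVec, ← Matrix.mul_assoc, ← Matrix.mul_assoc, e3,
      Matrix.one_mul, ← Matrix.mulVec_mulVec] at this
    exact this
  · rcases w with ⟨w, hw1, hw2⟩
    refine ⟨Ucond_mulVec hpi' hw1, ?_⟩
    have := Vcond_mulVec (s := s) hp hw2
    rw [Matrix.mulVec_mulVec] at this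
    change Vcond a s (((p * A * p' : GL (Fin n) F) : Matrix (Fin n) (Fin n) F).mulVec
      (((p'⁻¹ : GL (Fin n) F) : Matrix (Fin n) (Fin n) F).mulVec w))
    rw [eprod, Matrix.mulVec_mulVec, Matrix.mul_assoc, e2, Matrix.mul_one]
    exact this
  · intro v
    apply Subtype.ext
    change ((p'⁻¹ : GL (Fin n) F) : Matrix (Fin n) (Fin n) F).mulVec
      ((p' : Matrix (Fin n) (Fin n) F).mulVec v.1) = v.1
    rw [Matrix.mulVec_mulVec, e1, Matrix.one_mulVec]
  · intro w
    apply Subtype.ext
    change (p' : Matrix (Fin n) (Fin n) F).mulVec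
      (((p'⁻¹ : GL (Fin n) F) : Matrix (Fin n) (Fin n) F).mulVec w.1) = w.1
    rw [Matrix.mulVec_mulVec, e2, Matrix.one_mulVec]

/-- The contingency count. -/
def cnt (a b : Fin n → ℕ) (σ : Equiv.Perm (Fin n)) (s t : ℕ) : ℕ :=
  (Finset.univ.filter fun j : Fin n => b j ≤ t ∧ a (σ j) < s).card

theorem card_Iset_W [Finite F] (a b : Fin n → ℕ) (s t : ℕ) (σ : Equiv.Perm (Fin n)) :
    Nat.card (Iset a b s t (Wm σ : Matrix (Fin n) (Fin n) F)) = Nat.card F ^ cnt a b σ s t := by
  classical
  set S : Finset (Fin n) := Finset.univ.filter fun j : Fin n => b j ≤ t ∧ a (σ j) < s with hS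
  have hmem : ∀ v : Fin n → F, v ∈ Iset a b s t (Wm σ : Matrix (Fin n) (Fin n) F) ↔
      ∀ j, j ∉ S → v j = 0 := by
    intro v
    constructor
    · rintro ⟨h1, h2⟩ j hj
      simp only [hS, Finset.mem_filter, Finset.mem_univ, true_and, not_and, not_lt] at hj
      by_cases hb : b j ≤ t
      · have := h2 (σ j) (hj hb)
        rwa [Wm_mulVec] at this
      · exact h1 j (not_le.mp hb)
    · intro h
      refine ⟨fun j hj => h j ?_, fun i hi => ?_⟩
      · simp only [hS, Finset.mem_filter, Finset.mem_univ, true_and, not_and]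
        intro hb; exact absurd hb (not_le.mpr hj)
      · obtain ⟨j, rfl⟩ := σ.surjective i
        rw [Wm_mulVec]
        apply h j
        simp only [hS, Finset.mem_filter, Finset.mem_univ, true_and, not_and, not_lt]
        intro _; exact hi
  have e : Iset a b s t (Wm σ : Matrix (Fin n) (Fin n) F) ≃ (S → F) :=
    { toFun := fun v j => v.1 j.1
      invFun := fun f => ⟨fun j => if h : j ∈ S then f ⟨j, h⟩ else 0, by
        rw [hmem]; intro j hj; simp [hj]⟩
      left_inv := by
        intro v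
        apply Subtype.ext
        funext j
        by_cases hj : j ∈ S
        · simp [hj]
        · simp only [hj, dif_neg, not_false_eq_true]
          exact ((hmem v.1).mp v.2 j hj).symm
      right_inv := by
        intro f
        funext j
        simp [j.2] }
  rw [Nat.card_congr e, Nat.card_fun]
  congr 1
  rw [Nat.card_eq_fintype_card, Fintype.card_coe]
  rfl

theorem cnt_eq_of_W_eq [Finite F] (a b : Fin n → ℕ) (σ τ : Equiv.Perm (Fin n))
    (p p' : GL (Fin n) F)
    (hp : (p : Matrix (Fin n) (Fin n) F).BlockTriangular a)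
    (hpi : ((p⁻¹ : GL (Fin n) F) : Matrix (Fin n) (Fin n) F).BlockTriangular a)
    (hp' : (p' : Matrix (Fin n) (Fin n) F).BlockTriangular b)
    (hpi' : ((p'⁻¹ : GL (Fin n) F) : Matrix (Fin n) (Fin n) F).BlockTriangular b)
    (h : (W σ : GL (Fin n) F) = p * W τ * p') (s t : ℕ) :
    cnt a b σ s t = cnt a b τ s t := by
  have h1 := card_Iset_mul a b s t p p' (W τ) hp hpi hp' hpi'
  rw [← h, W_val, W_val, card_Iset_W, card_Iset_W] at h1
  have h2 : 2 ≤ Nat.card F := Finite.one_lt_card
  exact Nat.pow_right_injective h2 h1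

end Cfsg.Agent.Lib.Helper38.Flag
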