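import Mathlib
import Cfsg.Agent.Lib.Helper38.FlagC

/-!
# Equal contingency counts give the same Young double coset
-/

set_option autoImplicit false

namespace Cfsg.Agent.Lib.Helper38.Flag

variable {n : ℕ}

theorem card_filter_split (p q r : Fin n → Prop) [DecidablePred p] [DecidablePred q]
    [DecidablePred r] (h : ∀ j, r j ↔ (p j ∨ q j)) (hd : ∀ j, ¬ (p j ∧ q j)) :
    (Finset.univ.filter r).card = (Finset.univ.filter p).card + (Finset.univ.filter q).card := by
  classical
  rw [Finset.filter_congr (fun j _ => h j), Finset.filter_or,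
    Finset.card_union_of_disjoint (Finset.disjoint_filter.mpr fun j _ hp hq => hd j ⟨hp, hq⟩)]

/-- the row counts -/
def rowc (a b : Fin n → ℕ) (σ : Equiv.Perm (Fin n)) (s t : ℕ) : ℕ :=
  (Finset.univ.filter fun j : Fin n => b j ≤ t ∧ a (σ j) = s).card

/-- the cell counts -/
def cellc (a b : Fin n → ℕ) (σ : Equiv.Perm (Fin n)) (s t : ℕ) : ℕ :=
  (Finset.univ.filter fun j : Fin n => b j = t ∧ a (σ j) = s).card

theorem cnt_succ (a b : Fin n → ℕ) (σ : Equiv.Perm (Fin n)) (s t : ℕ) :
    cnt a b σ (s + 1) t = cnt a b σ s t + rowc a b σ s t := by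
  apply card_filter_split
  · intro j; omega
  · intro j; omega

theorem rowc_succ (a b : Fin n → ℕ) (σ : Equiv.Perm (Fin n)) (s t : ℕ) :
    rowc a b σ s (t + 1) = rowc a b σ s t + cellc a b σ s (t + 1) := by
  apply card_filter_split
  · intro j; omega
  · intro j; omega

theorem rowc_zero (a b : Fin n → ℕ) (σ : Equiv.Perm (Fin n)) (s : ℕ) :
    rowc a b σ s 0 = cellc a b σ s 0 := by
  unfold rowc cellc
  congr 1
  apply Finset.filter_congr
  intro j _; omega

theorem cellc_eq (a b : Fin n → ℕ) (σ τ : Equiv.Perm (Fin n))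
    (h : ∀ s t, cnt a b σ s t = cnt a b τ s t) (s t : ℕ) :
    cellc a b σ s t = cellc a b τ s t := by
  have hrow : ∀ s t, rowc a b σ s t = rowc a b τ s t := by
    intro s t
    have h1 := cnt_succ a b σ s t
    have h2 := cnt_succ a b τ s t
    have h3 := h (s + 1) t
    have h4 := h s t
    omega
  cases t with
  | zero => rw [← rowc_zero, ← rowc_zero, hrow]
  | succ t =>
    have h1 := rowc_succ a b σ s t
    have h2 := rowc_succ a b τ s t
    have h3 := hrow s (t + 1)
    have h4 := hrow s t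
    omega

theorem exists_perm_of_fiber_card_eq {γ : Type*} [DecidableEq γ] (f g : Fin n → γ)
    (h : ∀ y, (Finset.univ.filter fun j => f j = y).card =
      (Finset.univ.filter fun j => g j = y).card) :
    ∃ β : Equiv.Perm (Fin n), ∀ j, f (β j) = g j := by
  classical
  have e : ∀ y, {j // g j = y} ≃ {j // f j = y} := by
    intro y
    apply Fintype.equivOfCardEq
    rw [Fintype.card_subtype, Fintype.card_subtype]
    exact (h y).symm
  refine ⟨(Equiv.sigmaFiberEquiv g).symm.trans
    ((Equiv.sigmaCongrRight e).trans (Equiv.sigmaFiberEquiv f)), ?_⟩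
  intro j
  simp only [Equiv.trans_apply, Equiv.sigmaFiberEquiv_symm_apply_fst,
    Equiv.sigmaCongrRight_apply, Equiv.sigmaFiberEquiv_apply]
  exact ((e (g j)) ⟨j, rfl⟩).2

theorem exists_young_of_cnt_eq (a b : Fin n → ℕ) (σ τ : Equiv.Perm (Fin n))
    (h : ∀ s t, cnt a b σ s t = cnt a b τ s t) :
    ∃ α β : Equiv.Perm (Fin n), (∀ i, a (α i) = a i) ∧ (∀ j, b (β j) = b j) ∧
      σ = α * τ * β := by
  classical
  have hfib : ∀ y : ℕ × ℕ,
      (Finset.univ.filter fun j : Fin n => (b j, a (σ j)) = y).card =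
      (Finset.univ.filter fun j : Fin n => (b j, a (τ j)) = y).card := by
    rintro ⟨t, s⟩
    have := cellc_eq a b σ τ h s t
    unfold cellc at this
    simp only [Prod.mk.injEq]
    exact this
  obtain ⟨β, hβ⟩ := exists_perm_of_fiber_card_eq (fun j => (b j, a (σ j)))
    (fun j => (b j, a (τ j))) hfib
  have hβ1 : ∀ j, b (β j) = b j := fun j => congrArg Prod.fst (hβ j)
  have hβ2 : ∀ j, a (σ (β j)) = a (τ j) := fun j => congrArg Prod.snd (hβ j)
  refine ⟨σ * β * τ⁻¹, β⁻¹, ?_, ?_, ?_⟩
  · intro i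
    have := hβ2 (τ⁻¹ i)
    simpa using this
  · intro j
    have := hβ1 (β⁻¹ j)
    simpa using this.symm
  · group

end Cfsg.Agent.Lib.Helper38.Flag
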