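import Mathlib
import Cfsg.Agent.Lib.Helper38.FlagA
import Cfsg.Agent.Lib.Helper38.FlagD

/-!
# Orbits of `GL_n(q)` on pairs of partial flags = orbits of `S_n` on pairs of Young cosets
-/

set_option autoImplicit false
open scoped MatrixGroups

namespace Cfsg.Agent.Lib.Helper38.Flag

open MulAction

variable {F : Type*} [Field F] {n : ℕ}

theorem compLabel_mono (ν : Fin n → ℕ) : Monotone (Cfsg.compLabel ν) := by
  intro i i' h
  unfold Cfsg.compLabel
  apply Finset.card_le_card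
  intro j hj
  simp only [Finset.mem_filter, Finset.mem_univ, true_and] at hj ⊢
  exact le_trans hj h

theorem upper_le_parabolic (ν : Fin n → ℕ) :
    Cfsg.upperTriangularGL n F ≤ Cfsg.parabolicGL n F ν := by
  intro g hg
  change (g : Matrix (Fin n) (Fin n) F).BlockTriangular (Cfsg.compLabel ν)
  have hg' : (g : Matrix (Fin n) (Fin n) F).BlockTriangular id := hg
  intro i j hij
  apply hg'
  by_contra hcon
  have : i ≤ j := not_lt.mp hcon
  exact absurd hij (not_lt.mpr (compLabel_mono ν this))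

theorem W_mem_parabolic (ν : Fin n → ℕ) {σ : Equiv.Perm (Fin n)} (hσ : σ ∈ Cfsg.youngSubgroup ν) :
    (W σ : GL (Fin n) F) ∈ Cfsg.parabolicGL n F ν := by
  change (Wm σ : Matrix (Fin n) (Fin n) F).BlockTriangular (Cfsg.compLabel ν)
  intro i j hij
  rw [Wm_apply, if_neg]
  intro h
  rw [h, hσ j] at hij
  exact lt_irrefl _ hij

theorem young_of_W_mem [Finite F] (ν μ : Fin n → ℕ) (σ τ : Equiv.Perm (Fin n))
    (p p' : GL (Fin n) F) (hp : p ∈ Cfsg.parabolicGL n F ν) (hp' : p' ∈ Cfsg.parabolicGL n F μ)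
    (h : (W σ : GL (Fin n) F) = p * W τ * p') :
    ∃ α ∈ Cfsg.youngSubgroup ν, ∃ β ∈ Cfsg.youngSubgroup μ, σ = α * τ * β := by
  have hpi : p⁻¹ ∈ Cfsg.parabolicGL n F ν := Subgroup.inv_mem _ hp
  have hpi' : p'⁻¹ ∈ Cfsg.parabolicGL n F μ := Subgroup.inv_mem _ hp'
  obtain ⟨α, β, hα, hβ, hσ⟩ := exists_young_of_cnt_eq (Cfsg.compLabel ν) (Cfsg.compLabel μ) σ τ
    (cnt_eq_of_W_eq _ _ σ τ p p' hp hpi hp' hpi' h)
  exact ⟨α, hα, β, hβ, hσ⟩

/-- the map on coset spaces induced by permutation matrices -/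
def cosetMap (ν : Fin n → ℕ) :
    Equiv.Perm (Fin n) ⧸ Cfsg.youngSubgroup ν → GL (Fin n) F ⧸ Cfsg.parabolicGL n F ν :=
  Quotient.map' (fun σ => (W σ : GL (Fin n) F)) (by
    intro x y hxy
    rw [QuotientGroup.leftRel_apply] at hxy ⊢
    have := W_mem_parabolic (F := F) ν hxy
    rwa [map_mul, map_inv] at this)

theorem cosetMap_mk (ν : Fin n → ℕ) (σ : Equiv.Perm (Fin n)) :
    cosetMap (F := F) ν (QuotientGroup.mk σ) = QuotientGroup.mk (W σ : GL (Fin n) F) := rfl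

theorem cosetMap_smul (ν : Fin n → ℕ) (σ : Equiv.Perm (Fin n))
    (x : Equiv.Perm (Fin n) ⧸ Cfsg.youngSubgroup ν) :
    cosetMap (F := F) ν (σ • x) = (W σ : GL (Fin n) F) • cosetMap ν x := by
  induction x using QuotientGroup.induction_on with
  | H τ =>
    rw [MulAction.Quotient.smul_mk, cosetMap_mk, cosetMap_mk, MulAction.Quotient.smul_mk,
      smul_eq_mul, smul_eq_mul, map_mul]

/-- the map on pairs -/
def pairMap (ν μ : Fin n → ℕ) :
    (Equiv.Perm (Fin n) ⧸ Cfsg.youngSubgroup ν) × (Equiv.Perm (Fin n) ⧸ Cfsg.youngSubgroup μ) →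
    (GL (Fin n) F ⧸ Cfsg.parabolicGL n F ν) × (GL (Fin n) F ⧸ Cfsg.parabolicGL n F μ) :=
  Prod.map (cosetMap ν) (cosetMap μ)

/-- the map on orbit spaces -/
def orbitMap (ν μ : Fin n → ℕ) :
    Quotient (orbitRel (Equiv.Perm (Fin n))
      ((Equiv.Perm (Fin n) ⧸ Cfsg.youngSubgroup ν) × (Equiv.Perm (Fin n) ⧸ Cfsg.youngSubgroup μ))) →
    Quotient (orbitRel (GL (Fin n) F)
      ((GL (Fin n) F ⧸ Cfsg.parabolicGL n F ν) × (GL (Fin n) F ⧸ Cfsg.parabolicGL n F μ))) :=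
  Quotient.map' (pairMap ν μ) (by
    intro x y hxy
    rw [orbitRel_apply, mem_orbit_iff] at hxy ⊢
    obtain ⟨σ, rfl⟩ := hxy
    refine ⟨(W σ : GL (Fin n) F), ?_⟩
    obtain ⟨y1, y2⟩ := y
    simp only [pairMap, Prod.smul_mk, Prod.map_apply, cosetMap_smul])

theorem orbitMap_injective [Finite F] (ν μ : Fin n → ℕ) :
    Function.Injective (orbitMap (F := F) ν μ) := by
  intro X Y hXY
  induction X using Quotient.inductionOn' with
  | h x =>
  induction Y using Quotient.inductionOn' with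
  | h y =>
  obtain ⟨x1, x2⟩ := x
  obtain ⟨y1, y2⟩ := y
  induction x1 using QuotientGroup.induction_on with
  | H x1 =>
  induction x2 using QuotientGroup.induction_on with
  | H x2 =>
  induction y1 using QuotientGroup.induction_on with
  | H y1 =>
  induction y2 using QuotientGroup.induction_on with
  | H y2 =>
  have h1 : orbitRel (GL (Fin n) F) _ (pairMap (F := F) ν μ (QuotientGroup.mk x1, QuotientGroup.mk x2))
      (pairMap ν μ (QuotientGroup.mk y1, QuotientGroup.mk y2)) := Quotient.eq''.mp hXY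
  rw [orbitRel_apply, mem_orbit_iff] at h1
  obtain ⟨g, hg⟩ := h1
  simp only [pairMap, Prod.map_apply, cosetMap_mk, Prod.smul_mk, MulAction.Quotient.smul_mk,
    smul_eq_mul, Prod.mk.injEq] at hg
  obtain ⟨hg1, hg2⟩ := hg
  rw [QuotientGroup.eq] at hg1 hg2
  -- p := (g * W y1)⁻¹ * W x1 ∈ P_ν, p' := (g * W y2)⁻¹ * W x2 ∈ P_μ
  set p : GL (Fin n) F := (g * W y1)⁻¹ * W x1 with hp
  set p' : GL (Fin n) F := (g * W y2)⁻¹ * W x2 with hp'
  have hW : (W (x1⁻¹ * x2) : GL (Fin n) F) = p⁻¹ * W (y1⁻¹ * y2) * p' := by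
    rw [hp, hp', map_mul, map_mul, map_inv, map_inv]
    group
  obtain ⟨α, hα, β, hβ, hαβ⟩ := young_of_W_mem ν μ (x1⁻¹ * x2) (y1⁻¹ * y2) p⁻¹ p'
    (Subgroup.inv_mem _ hg1) hg2 hW
  apply Quotient.sound'
  rw [orbitRel_apply, mem_orbit_iff]
  refine ⟨x1 * α * y1⁻¹, ?_⟩
  simp only [Prod.smul_mk, MulAction.Quotient.smul_mk, smul_eq_mul, Prod.mk.injEq]
  constructor
  · rw [QuotientGroup.eq]
    have : (x1 * α * y1⁻¹ * y1)⁻¹ * x1 = α⁻¹ := by group
    rw [this]
    exact Subgroup.inv_mem _ hα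
  · rw [QuotientGroup.eq]
    have : (x1 * α * y1⁻¹ * y2)⁻¹ * x2 = (y1⁻¹ * y2)⁻¹ * α⁻¹ * (x1⁻¹ * x2) := by group
    rw [this, hαβ]
    have : (y1⁻¹ * y2)⁻¹ * α⁻¹ * (α * (y1⁻¹ * y2) * β) = β := by group
    rw [this]
    exact hβ

theorem orbitMap_surjective (ν μ : Fin n → ℕ) :
    Function.Surjective (orbitMap (F := F) ν μ) := by
  intro X
  induction X using Quotient.inductionOn' with
  | h x =>
  obtain ⟨x1, x2⟩ := x
  induction x1 using QuotientGroup.induction_on with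
  | H g1 =>
  induction x2 using QuotientGroup.induction_on with
  | H g2 =>
  obtain ⟨L, hL, R, hR, σ, hσ⟩ := bruhat (g1⁻¹ * g2)
  refine ⟨Quotient.mk'' (QuotientGroup.mk 1, QuotientGroup.mk σ), ?_⟩
  apply Quotient.sound'
  rw [orbitRel_apply, mem_orbit_iff]
  refine ⟨(g1 * L)⁻¹, ?_⟩
  simp only [pairMap, Prod.map_apply, cosetMap_mk, Prod.smul_mk, MulAction.Quotient.smul_mk,
    smul_eq_mul, Prod.mk.injEq]
  constructor
  · rw [QuotientGroup.eq, map_one]
    have : ((g1 * L)⁻¹ * g1)⁻¹ * 1 = L := by group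
    rw [this]
    exact upper_le_parabolic ν hL
  · rw [QuotientGroup.eq]
    have : ((g1 * L)⁻¹ * g2)⁻¹ * W σ = (g1⁻¹ * g2)⁻¹ * L * W σ := by group
    rw [this, hσ]
    have : (L * W σ * R)⁻¹ * L * W σ = R⁻¹ := by group
    rw [this]
    exact Subgroup.inv_mem _ (upper_le_parabolic μ hR)

theorem card_orbits_eq [Finite F] (ν μ : Fin n → ℕ) :
    Nat.card (Quotient (orbitRel (GL (Fin n) F)
      ((GL (Fin n) F ⧸ Cfsg.parabolicGL n F ν) × (GL (Fin n) F ⧸ Cfsg.parabolicGL n F μ)))) =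
    Nat.card (Quotient (orbitRel (Equiv.Perm (Fin n))
      ((Equiv.Perm (Fin n) ⧸ Cfsg.youngSubgroup ν) ×
        (Equiv.Perm (Fin n) ⧸ Cfsg.youngSubgroup μ)))) :=
  (Nat.card_congr (Equiv.ofBijective (orbitMap (F := F) ν μ)
    ⟨orbitMap_injective ν μ, orbitMap_surjective ν μ⟩)).symm

/-- **Flag characters of `GL_n(q)` versus Young characters of `S_n`**: for arbitrary
compositions `ν`, `μ` the inner products of the permutation characters agree. -/
theorem inner_flag_eq_inner_young [Fintype F] [Fintype (GL (Fin n) F)] (ν μ : Fin n → ℕ) :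
    (Nat.card (GL (Fin n) F) : ℂ)⁻¹ * ∑ g : GL (Fin n) F,
        Cfsg.fixedPointCharacter (Cfsg.parabolicGL n F ν) g *
          Cfsg.fixedPointCharacter (Cfsg.parabolicGL n F μ) g =
      (Nat.card (Equiv.Perm (Fin n)) : ℂ)⁻¹ * ∑ σ : Equiv.Perm (Fin n),
        Cfsg.fixedPointCharacter (Cfsg.youngSubgroup ν) σ *
          Cfsg.fixedPointCharacter (Cfsg.youngSubgroup μ) σ := by
  rw [inner_fpc_eq_card_orbits, inner_fpc_eq_card_orbits, card_orbits_eq]

end Cfsg.Agent.Lib.Helper38.Flag
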