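import Mathlib

/-!
# Jacobi–Trudi (bialternant form) in `n` variables

`det (h_{λ_i - k}) * det (X_j ^ i) = det (X_j ^ λ_i)` in `MvPolynomial (Fin n) ℤ`, where `h_k` is the
complete homogeneous symmetric polynomial, written as a sum of monomials over `finsuppAntidiag`.
-/

set_option autoImplicit false

namespace Cfsg.Agent.Lib.Helper38.Flag

open Finset MvPolynomial

variable {n : ℕ}

/-- the complete homogeneous symmetric polynomial of degree `k` in `n` variables -/
noncomputable def hh (n k : ℕ) : MvPolynomial (Fin n) ℤ :=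
  ∑ l ∈ finsuppAntidiag (univ : Finset (Fin n)) k, monomial l 1

/-- the geometric series `∑ X_l^m t^m` -/
noncomputable def geo (l : Fin n) : PowerSeries (MvPolynomial (Fin n) ℤ) :=
  PowerSeries.mk fun m => (X l : MvPolynomial (Fin n) ℤ) ^ m

/-- the linear factor `1 - X_l t` -/
noncomputable def lin (l : Fin n) : PowerSeries (MvPolynomial (Fin n) ℤ) :=
  1 - PowerSeries.C (X l : MvPolynomial (Fin n) ℤ) * PowerSeries.X

theorem geo_mul_lin (l : Fin n) : geo l * lin l = 1 := by
  ext m
  rw [lin, mul_sub, mul_one, ← mul_assoc, map_sub]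
  cases m with
  | zero =>
    simp [geo, PowerSeries.coeff_zero_mul_X]
  | succ m =>
    rw [PowerSeries.coeff_succ_mul_X, mul_comm, PowerSeries.coeff_C_mul]
    simp [geo, PowerSeries.coeff_mk, pow_succ, mul_comm]

theorem hh_eq_coeff (k : ℕ) :
    hh n k = PowerSeries.coeff k (∏ l : Fin n, geo l) := by
  classical
  rw [PowerSeries.coeff_prod, hh]
  apply Finset.sum_congr rfl
  intro l _
  simp only [geo, PowerSeries.coeff_mk]
  rw [MvPolynomial.monomial_eq, map_one, one_mul, Finsupp.prod_fintype]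
  intro i; simp

/-- the cofactor series `∏_{l ≠ j} (1 - X_l t)` -/
noncomputable def cof (j : Fin n) : PowerSeries (MvPolynomial (Fin n) ℤ) :=
  ∏ l ∈ (univ : Finset (Fin n)).erase j, lin l

theorem prod_geo_mul_cof (j : Fin n) : (∏ l : Fin n, geo l) * cof j = geo j := by
  rw [← Finset.mul_prod_erase univ geo (mem_univ j), cof, mul_assoc, ← Finset.prod_mul_distrib]
  rw [Finset.prod_congr rfl (fun l _ => geo_mul_lin l), Finset.prod_const_one, mul_one]

theorem coeff_prod_lin_eq_zero (s : Finset (Fin n)) (k : ℕ) (hk : s.card < k) :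
    PowerSeries.coeff k (∏ l ∈ s, lin l) = 0 := by
  classical
  induction s using Finset.induction_on generalizing k with
  | empty =>
    rw [Finset.prod_empty, PowerSeries.coeff_one, if_neg]
    rw [Finset.card_empty] at hk
    omega
  | insert a s ha ih =>
    rw [Finset.prod_insert ha, Finset.card_insert_of_notMem ha] at *
    rw [lin, sub_mul, one_mul, map_sub, ih k (by omega)]
    obtain ⟨k', rfl⟩ : ∃ k', k = k' + 1 := ⟨k - 1, by omega⟩
    rw [mul_assoc, PowerSeries.coeff_C_mul, mul_comm PowerSeries.X, PowerSeries.coeff_succ_mul_X,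
      ih k' (by omega)]
    simp

theorem coeff_cof_eq_zero (j : Fin n) (k : ℕ) (hk : n ≤ k) : PowerSeries.coeff k (cof j) = 0 := by
  apply coeff_prod_lin_eq_zero
  rw [Finset.card_erase_of_mem (mem_univ j), Finset.card_univ, Fintype.card_fin]
  have : 0 < n := Fin.pos j
  omega

/-- the key linear relation: `X_j^m = ∑_{k<n, k ≤ m} h_{m-k} c_{k j}`. -/
theorem X_pow_eq_sum (j : Fin n) (m : ℕ) :
    (X j : MvPolynomial (Fin n) ℤ) ^ m =
      ∑ k : Fin n, (if (k : ℕ) ≤ m then hh n (m - k) else 0) * PowerSeries.coeff (k : ℕ) (cof j) := by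
  have h1 : (X j : MvPolynomial (Fin n) ℤ) ^ m = PowerSeries.coeff m (geo j) := by
    simp [geo, PowerSeries.coeff_mk]
  rw [h1, ← prod_geo_mul_cof j, mul_comm, PowerSeries.coeff_mul,
    Finset.Nat.sum_antidiagonal_eq_sum_range_succ
      (fun k p => PowerSeries.coeff k (cof j) * PowerSeries.coeff p (∏ l : Fin n, geo l))]
  rw [Fin.sum_univ_eq_sum_range
    (fun k => (if k ≤ m then hh n (m - k) else 0) * PowerSeries.coeff k (cof j)) n]
  have e1 : ∑ k ∈ range m.succ,
      PowerSeries.coeff k (cof j) * PowerSeries.coeff (m - k) (∏ l : Fin n, geo l) =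
      ∑ k ∈ (range m.succ).filter (· < n),
        PowerSeries.coeff k (cof j) * PowerSeries.coeff (m - k) (∏ l : Fin n, geo l) := by
    rw [Finset.sum_filter_of_ne]
    intro k _ hne
    by_contra hcon
    exact hne (by rw [coeff_cof_eq_zero j k (not_lt.mp hcon), zero_mul])
  have e2 : ∑ k ∈ range n, (if k ≤ m then hh n (m - k) else 0) * PowerSeries.coeff k (cof j) =
      ∑ k ∈ (range n).filter (· ≤ m),
        (if k ≤ m then hh n (m - k) else 0) * PowerSeries.coeff k (cof j) := by
    rw [Finset.sum_filter_of_ne]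
    intro k _ hne
    by_contra hcon
    exact hne (by rw [if_neg hcon, zero_mul])
  rw [e1, e2]
  have e3 : (range m.succ).filter (· < n) = (range n).filter (· ≤ m) := by
    ext k; simp only [mem_filter, mem_range, Nat.succ_eq_add_one]; omega
  rw [e3]
  apply Finset.sum_congr rfl
  intro k hk
  rw [mem_filter] at hk
  rw [if_pos hk.2, hh_eq_coeff, mul_comm]

/-- the Jacobi–Trudi matrix `h_{λ_i - k}` -/
noncomputable def JT (lam : Fin n → ℕ) : Matrix (Fin n) (Fin n) (MvPolynomial (Fin n) ℤ) :=
  Matrix.of fun i k => if (k : ℕ) ≤ lam i then hh n (lam i - k) else 0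

/-- the alternant matrix `X_j ^ λ_i` -/
noncomputable def AL (lam : Fin n → ℕ) : Matrix (Fin n) (Fin n) (MvPolynomial (Fin n) ℤ) :=
  Matrix.of fun i j => (X j : MvPolynomial (Fin n) ℤ) ^ lam i

/-- the cofactor matrix -/
noncomputable def CO (n : ℕ) : Matrix (Fin n) (Fin n) (MvPolynomial (Fin n) ℤ) :=
  Matrix.of fun k j => PowerSeries.coeff (k : ℕ) (cof j)

theorem AL_eq (lam : Fin n → ℕ) : AL lam = JT lam * CO n := by
  apply Matrix.ext
  intro i j
  rw [Matrix.mul_apply]
  exact X_pow_eq_sum j (lam i)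

theorem hh_zero : hh n 0 = 1 := by
  classical
  rw [hh_eq_coeff, PowerSeries.coeff_zero_eq_constantCoeff_apply, map_prod]
  apply Finset.prod_eq_one
  intro l _
  simp [geo]

theorem det_JT_id : (JT (fun i : Fin n => (i : ℕ))).det = 1 := by
  rw [Matrix.det_of_isLowerTriangular]
  · apply Finset.prod_eq_one
    intro i _
    simp [JT, hh_zero]
  · intro i k hik
    have : (i : ℕ) < (k : ℕ) := hik
    simp only [JT, Matrix.of_apply]
    rw [if_neg (by omega)]

/-- **Jacobi–Trudi**, bialternant form. -/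
theorem det_AL (lam : Fin n → ℕ) :
    (AL lam).det = (JT lam).det * (AL (fun i : Fin n => (i : ℕ))).det := by
  have h1 : (AL (fun i : Fin n => (i : ℕ))).det = (CO n).det := by
    rw [AL_eq, Matrix.det_mul, det_JT_id, one_mul]
  rw [h1, AL_eq, Matrix.det_mul]

end Cfsg.Agent.Lib.Helper38.Flag
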