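import Mathlib
import Cfsg.Agent.Lib.Helper38.FlagF

/-!
# Coefficient extraction from Jacobi–Trudi: orthonormality of the determinantal sums of
contingency-table counts
-/

set_option autoImplicit false

namespace Cfsg.Agent.Lib.Helper38.Flag

open Finset MvPolynomial

variable {n : ℕ}

/-- a function as a finitely supported function -/
noncomputable def toF (v : Fin n → ℕ) : Fin n →₀ ℕ := Finsupp.equivFunOnFinite.symm v

@[simp] theorem toF_apply (v : Fin n → ℕ) (i : Fin n) : toF v i = v i := rfl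

theorem toF_injective : Function.Injective (toF : (Fin n → ℕ) → (Fin n →₀ ℕ)) :=
  Finsupp.equivFunOnFinite.symm.injective

/-- the number of contingency tables with row sums `c` and column sums `d`, as tuples of rows -/
noncomputable def CTf (c : Fin n → ℕ) (d : Fin n →₀ ℕ) : ℕ :=
  ((Fintype.piFinset fun i => finsuppAntidiag (univ : Finset (Fin n)) (c i)).filter
    fun v => ∑ i, v i = d).card

theorem coeff_prod_hh (c : Fin n → ℕ) (d : Fin n →₀ ℕ) :
    coeff d (∏ i, hh n (c i)) = (CTf c d : ℤ) := by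
  classical
  simp only [hh]
  rw [Finset.prod_univ_sum]
  simp only [← monomial_sum_one]
  rw [coeff_sum]
  simp only [coeff_monomial]
  rw [CTf, Finset.card_filter, Nat.cast_sum]
  apply Finset.sum_congr rfl
  intro v _
  split_ifs <;> simp

theorem prod_X_pow (v : Fin n → ℕ) :
    ∏ i, (X i : MvPolynomial (Fin n) ℤ) ^ v i = monomial (toF v) 1 := by
  rw [MvPolynomial.monomial_eq, map_one, one_mul, Finsupp.prod_fintype]
  · rfl
  · intro i; simp

theorem det_AL_eq_sum (lam : Fin n → ℕ) :
    (AL lam).det = ∑ σ : Equiv.Perm (Fin n),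
      C ((Equiv.Perm.sign σ : ℤˣ) : ℤ) * monomial (toF fun i => lam (σ i)) 1 := by
  rw [Matrix.det_apply']
  apply Finset.sum_congr rfl
  intro σ _
  have hC : (((Equiv.Perm.sign σ : ℤˣ) : ℤ) : MvPolynomial (Fin n) ℤ) =
      C ((Equiv.Perm.sign σ : ℤˣ) : ℤ) := by simp
  rw [hC]
  congr 1
  simp only [AL, Matrix.of_apply]
  exact prod_X_pow fun i => lam (σ i)

theorem perm_eq_one_of_strictMono {lam lam' : Fin n → ℕ} (h : StrictMono lam)
    (h' : StrictMono lam') (σ : Equiv.Perm (Fin n)) (hσ : ∀ i, lam (σ i) = lam' i) : σ = 1 := by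
  have hmono : StrictMono σ := by
    intro i j hij
    have := h' hij
    rw [← hσ i, ← hσ j] at this
    exact h.lt_iff_lt.mp this
  have hmono' : StrictMono (σ⁻¹ : Equiv.Perm (Fin n)) := by
    intro i j hij
    by_contra hcon
    rcases (not_lt.mp hcon).lt_or_eq with hlt | heq
    · have := hmono hlt
      simp at this
      exact absurd this (not_lt.mpr hij.le)
    · have := congrArg σ heq
      simp at this
      exact absurd this.symm (ne_of_lt hij)
  ext i
  have h1 : i ≤ σ i := hmono.le_apply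
  have h2 : σ i ≤ σ⁻¹ (σ i) := hmono'.le_apply
  simp at h2
  simp [le_antisymm h2 h1]

theorem coeff_det_AL {lam lam' : Fin n → ℕ} (h : StrictMono lam) (h' : StrictMono lam') :
    coeff (toF lam') (AL lam).det = if lam = lam' then 1 else 0 := by
  classical
  rw [det_AL_eq_sum, coeff_sum]
  simp only [coeff_C_mul, coeff_monomial]
  by_cases hl : lam = lam'
  · rw [if_pos hl, Finset.sum_eq_single (1 : Equiv.Perm (Fin n))]
    · simp [hl]
    · intro σ _ hσ
      rw [if_neg, mul_zero]
      intro heq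
      apply hσ
      apply perm_eq_one_of_strictMono h h' σ
      intro i
      have := congrArg (fun f => f i) heq
      simpa using this
    · intro hh; exact absurd (mem_univ _) hh
  · rw [if_neg hl]
    apply Finset.sum_eq_zero
    intro σ _
    rw [if_neg, mul_zero]
    intro heq
    have hσ : ∀ i, lam (σ i) = lam' i := by
      intro i
      have := congrArg (fun f => f i) heq
      simpa using this
    have := perm_eq_one_of_strictMono h h' σ hσ
    apply hl
    funext i
    have := hσ i
    rw [this] at *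
    subst_vars
    simpa using hσ i

theorem coeff_det_JT (lam : Fin n → ℕ) (d : Fin n →₀ ℕ) :
    coeff d (JT lam).det = ∑ κ : Equiv.Perm (Fin n), ((Equiv.Perm.sign κ : ℤˣ) : ℤ) *
      (if ∀ i, ((κ i : Fin n) : ℕ) ≤ lam i then (CTf (fun i => lam i - (κ i : ℕ)) d : ℤ) else 0) := by
  classical
  rw [← Matrix.det_transpose, Matrix.det_apply', coeff_sum]
  apply Finset.sum_congr rfl
  intro κ _
  have e : ((Equiv.Perm.sign κ : ℤˣ) : ℤ) = ((Equiv.Perm.sign κ : ℤˣ) : ℤ) := rfl
  have hC : (((Equiv.Perm.sign κ : ℤˣ) : ℤ) : MvPolynomial (Fin n) ℤ) =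
      C ((Equiv.Perm.sign κ : ℤˣ) : ℤ) := by simp
  rw [hC, coeff_C_mul]
  congr 1
  simp only [Matrix.transpose_apply, JT, Matrix.of_apply]
  split_ifs with hadm
  · rw [← coeff_prod_hh]
    congr 1
    apply Finset.prod_congr rfl
    intro i _
    rw [if_pos (hadm i)]
  · push Not at hadm
    obtain ⟨i, hi⟩ := hadm
    rw [Finset.prod_eq_zero (mem_univ i) (by rw [if_neg (not_le.mpr hi)]), coeff_zero]

theorem coeff_mul_det_AL_id (P : MvPolynomial (Fin n) ℤ) (m : Fin n →₀ ℕ) :
    coeff m (P * (AL (fun i : Fin n => (i : ℕ))).det) =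
      ∑ κ : Equiv.Perm (Fin n), ((Equiv.Perm.sign κ : ℤˣ) : ℤ) *
        (if toF (fun i => ((κ i : Fin n) : ℕ)) ≤ m then
          coeff (m - toF (fun i => ((κ i : Fin n) : ℕ))) P else 0) := by
  classical
  rw [det_AL_eq_sum, Finset.mul_sum, coeff_sum]
  apply Finset.sum_congr rfl
  intro κ _
  rw [← mul_assoc, mul_comm P, mul_assoc, coeff_C_mul, coeff_mul_monomial']
  congr 1
  split_ifs <;> simp

/-- **Orthonormality of the determinantal sums.** -/
theorem sum_CTf_eq {lam lam' : Fin n → ℕ} (h : StrictMono lam) (h' : StrictMono lam') :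
    ∑ κ' : Equiv.Perm (Fin n), ∑ κ : Equiv.Perm (Fin n),
      ((Equiv.Perm.sign κ' : ℤˣ) : ℤ) * ((Equiv.Perm.sign κ : ℤˣ) : ℤ) *
        (if toF (fun i => ((κ' i : Fin n) : ℕ)) ≤ toF lam' ∧ ∀ i, ((κ i : Fin n) : ℕ) ≤ lam i then
          (CTf (fun i => lam i - (κ i : ℕ)) (toF lam' - toF (fun i => ((κ' i : Fin n) : ℕ))) : ℤ)
        else 0) = if lam = lam' then 1 else 0 := by
  classical
  rw [← coeff_det_AL h h', det_AL, coeff_mul_det_AL_id]
  apply Finset.sum_congr rfl
  intro κ' _
  by_cases hk : toF (fun i => ((κ' i : Fin n) : ℕ)) ≤ toF lam'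
  · rw [if_pos hk, coeff_det_JT, Finset.mul_sum]
    apply Finset.sum_congr rfl
    intro κ _
    simp only [hk, true_and]
    ring
  · rw [if_neg hk, mul_zero]
    apply Finset.sum_eq_zero
    intro κ _
    simp [hk]

end Cfsg.Agent.Lib.Helper38.Flag
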