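import Mathlib
import Cfsg.Prelude.Def_LinearParabolics

/-!
# Fibre sizes of the block labelling `compLabel`
-/

set_option autoImplicit false

namespace Cfsg.Agent.Lib.Helper38.Flag

open Finset

variable {n : ℕ}

/-- extension of a composition by zero -/
def ext0 (c : Fin n → ℕ) (k : ℕ) : ℕ := if h : k < n then c ⟨k, h⟩ else 0

/-- partial sums -/
def psum (c : Fin n → ℕ) (m : ℕ) : ℕ := ∑ k ∈ range m, ext0 c k

theorem psum_succ (c : Fin n → ℕ) (m : ℕ) : psum c (m + 1) = psum c m + ext0 c m :=
  Finset.sum_range_succ _ _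

theorem psum_mono (c : Fin n → ℕ) : Monotone (psum c) := by
  intro m m' h
  exact Finset.sum_le_sum_of_subset (Finset.range_mono h)

theorem psum_n (c : Fin n → ℕ) : psum c n = ∑ i, c i := by
  rw [psum, ← Fin.sum_univ_eq_sum_range]
  apply Finset.sum_congr rfl
  intro i _
  simp [ext0]

theorem inner_sum_eq (c : Fin n → ℕ) (j : Fin n) :
    (∑ k ∈ Finset.univ.filter (fun k : Fin n => k ≤ j), c k) = psum c (j + 1) := by
  rw [Finset.sum_filter]
  have h1 : ∀ k : Fin n, (if k ≤ j then c k else 0) =
      (fun k : ℕ => if k ≤ (j : ℕ) then ext0 c k else 0) k := by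
    intro k
    simp only [ext0, k.isLt, dif_pos, Fin.eta]
    rfl
  rw [Finset.sum_congr rfl (fun k _ => h1 k), Fin.sum_univ_eq_sum_range
    (fun k : ℕ => if k ≤ (j : ℕ) then ext0 c k else 0) n, ← Finset.sum_filter, psum]
  congr 1
  ext k
  simp only [mem_filter, mem_range]
  have := j.isLt
  omega

theorem lt_compLabel_iff (c : Fin n → ℕ) (i s : Fin n) :
    (s : ℕ) < Cfsg.compLabel c i ↔ psum c (s + 1) ≤ i := by
  unfold Cfsg.compLabel
  simp only [inner_sum_eq]
  constructor
  · intro h
    by_contra hcon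
    have hsub : (univ.filter fun j : Fin n => psum c (j + 1) ≤ i) ⊆ Finset.Iio s := by
      intro j hj
      simp only [mem_filter, mem_univ, true_and] at hj
      rw [Finset.mem_Iio]
      by_contra hjs
      have : s ≤ j := not_lt.mp hjs
      have h2 : psum c (s + 1) ≤ psum c (j + 1) := psum_mono c (by
        have : (s : ℕ) ≤ j := this
        omega)
      omega
    have := Finset.card_le_card hsub
    rw [Fin.card_Iio] at this
    omega
  · intro h
    have hsub : Finset.Iic s ⊆ (univ.filter fun j : Fin n => psum c (j + 1) ≤ i) := by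
      intro j hj
      rw [Finset.mem_Iic] at hj
      simp only [mem_filter, mem_univ, true_and]
      have h2 : psum c (j + 1) ≤ psum c (s + 1) := psum_mono c (by
        have : (j : ℕ) ≤ s := hj
        omega)
      omega
    have := Finset.card_le_card hsub
    rw [Fin.card_Iic] at this
    omega

theorem compLabel_lt (c : Fin n → ℕ) (hc : ∑ i, c i = n) (i : Fin n) :
    Cfsg.compLabel c i < n := by
  have hn : 0 < n := Fin.pos i
  by_contra hcon
  have hge : n ≤ Cfsg.compLabel c i := not_lt.mp hcon
  have h1 := (lt_compLabel_iff c i ⟨n - 1, by omega⟩).mp (by simp; omega)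
  have h2 : psum c ((⟨n - 1, by omega⟩ : Fin n) + 1) = n := by
    have : ((⟨n - 1, by omega⟩ : Fin n) : ℕ) + 1 = n := by simp; omega
    rw [this, psum_n, hc]
  rw [h2] at h1
  have := i.isLt
  omega

theorem compLabel_eq_iff (c : Fin n → ℕ) (i s : Fin n) :
    Cfsg.compLabel c i = s ↔ psum c s ≤ i ∧ (i : ℕ) < psum c (s + 1) := by
  have h1 := lt_compLabel_iff c i s
  constructor
  · intro h
    refine ⟨?_, ?_⟩
    · rcases Nat.eq_zero_or_pos (s : ℕ) with h0 | hpos
      · rw [h0]; simp [psum]
      · have hlt : (s : ℕ) - 1 < n := by have := s.isLt; omega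
        have h2 := (lt_compLabel_iff c i ⟨(s : ℕ) - 1, hlt⟩).mp (by simp; omega)
        have : ((⟨(s : ℕ) - 1, hlt⟩ : Fin n) : ℕ) + 1 = s := by simp; omega
        rwa [this] at h2
    · by_contra hcon
      have := h1.mpr (not_lt.mp hcon)
      omega
  · rintro ⟨hlo, hhi⟩
    have hle : Cfsg.compLabel c i ≤ s := by
      by_contra hcon
      have := h1.mp (not_le.mp hcon)
      omega
    rcases Nat.eq_zero_or_pos (s : ℕ) with h0 | hpos
    · omega
    · have hlt : (s : ℕ) - 1 < n := by have := s.isLt; omega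
      have e : ((⟨(s : ℕ) - 1, hlt⟩ : Fin n) : ℕ) + 1 = s := by simp; omega
      have h2 := (lt_compLabel_iff c i ⟨(s : ℕ) - 1, hlt⟩).mpr (by rw [e]; exact hlo)
      simp at h2
      omega

theorem card_compLabel_eq (c : Fin n → ℕ) (hc : ∑ i, c i = n) (s : Fin n) :
    (univ.filter fun i : Fin n => Cfsg.compLabel c i = s).card = c s := by
  have h1 : (univ.filter fun i : Fin n => Cfsg.compLabel c i = s).card =
      ((range n).filter fun i : ℕ => psum c s ≤ i ∧ i < psum c (s + 1)).card := by
    rw [Finset.card_filter, Finset.card_filter,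
      ← Fin.sum_univ_eq_sum_range (fun i : ℕ => if psum c s ≤ i ∧ i < psum c (s + 1) then 1 else 0) n]
    apply Finset.sum_congr rfl
    intro i _
    simp only [compLabel_eq_iff]
  have h2 : psum c (s + 1) ≤ n := by
    have h4 : psum c (s + 1) ≤ psum c n := psum_mono c s.isLt
    rw [psum_n, hc] at h4
    exact h4
  have h3 : ((range n).filter fun i : ℕ => psum c s ≤ i ∧ i < psum c (s + 1)) =
      Finset.Ico (psum c s) (psum c (s + 1)) := by
    ext i
    simp only [mem_filter, mem_range, Finset.mem_Ico]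
    omega
  rw [h1, h3, Nat.card_Ico, psum_succ]
  simp [ext0]

end Cfsg.Agent.Lib.Helper38.Flag
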