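import Mathlib
import Cfsg.Agent.Lib.Helper38.FlagA
import Cfsg.Agent.Lib.Helper38.FlagD
import Cfsg.Agent.Lib.Helper38.FlagG
import Cfsg.Agent.Lib.Helper38.FlagH

/-!
# Inner product of Young permutation characters = number of contingency tables
-/

set_option autoImplicit false

namespace Cfsg.Agent.Lib.Helper38.Flag

open Finset MulAction

variable {n : ℕ}

theorem exists_equiv_of_fiber_card_eq {α β γ : Type*} [Fintype α] [Fintype β] [DecidableEq γ]
    (f : α → γ) (g : β → γ)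
    (h : ∀ y, (Finset.univ.filter fun x => f x = y).card =
      (Finset.univ.filter fun x => g x = y).card) :
    ∃ e : β ≃ α, ∀ x, f (e x) = g x := by
  classical
  have e : ∀ y, {x // g x = y} ≃ {x // f x = y} := by
    intro y
    apply Fintype.equivOfCardEq
    rw [Fintype.card_subtype, Fintype.card_subtype]
    exact (h y).symm
  refine ⟨(Equiv.sigmaFiberEquiv g).symm.trans
    ((Equiv.sigmaCongrRight e).trans (Equiv.sigmaFiberEquiv f)), ?_⟩
  intro j
  simp only [Equiv.trans_apply, Equiv.sigmaCongrRight_apply, Equiv.sigmaFiberEquiv_apply]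
  exact ((e (g j)) ⟨j, rfl⟩).2

theorem exists_young_of_cellc_eq (a b : Fin n → ℕ) (σ τ : Equiv.Perm (Fin n))
    (h : ∀ s t, cellc a b σ s t = cellc a b τ s t) :
    ∃ α β : Equiv.Perm (Fin n), (∀ i, a (α i) = a i) ∧ (∀ j, b (β j) = b j) ∧
      σ = α * τ * β := by
  classical
  have hfib : ∀ y : ℕ × ℕ,
      (Finset.univ.filter fun j : Fin n => (b j, a (σ j)) = y).card =
      (Finset.univ.filter fun j : Fin n => (b j, a (τ j)) = y).card := by
    rintro ⟨t, s⟩
    have := h s t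
    unfold cellc at this
    simp only [Prod.mk.injEq]
    exact this
  obtain ⟨β, hβ⟩ := exists_perm_of_fiber_card_eq (fun j => (b j, a (σ j)))
    (fun j => (b j, a (τ j))) hfib
  have hβ1 : ∀ j, b (β j) = b j := fun j => congrArg Prod.fst (hβ j)
  have hβ2 : ∀ j, a (σ (β j)) = a (τ j) := fun j => congrArg Prod.snd (hβ j)
  refine ⟨σ * β * τ⁻¹, β⁻¹, ?_, ?_, ?_⟩
  · intro i
    have := hβ2 (τ⁻¹ i)
    simpa using this
  · intro j
    have := hβ1 (β⁻¹ j)
    simpa using this.symm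
  · group

/-- the contingency table of a permutation, as a tuple of rows -/
noncomputable def tab (ν μ : Fin n → ℕ) (σ : Equiv.Perm (Fin n)) : Fin n → (Fin n →₀ ℕ) :=
  fun s => toF fun t => cellc (Cfsg.compLabel ν) (Cfsg.compLabel μ) σ s t

/-- the set of contingency tables with margins `ν`, `μ` -/
noncomputable def tables (ν μ : Fin n → ℕ) : Finset (Fin n → (Fin n →₀ ℕ)) :=
  (Fintype.piFinset fun i => finsuppAntidiag (univ : Finset (Fin n)) (ν i)).filter
    fun v => ∑ i, v i = toF μ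

theorem card_tables (ν μ : Fin n → ℕ) : (tables ν μ).card = CTf ν (toF μ) := rfl

theorem row_sum (ν μ : Fin n → ℕ) (hν : ∑ i, ν i = n) (hμ : ∑ i, μ i = n)
    (σ : Equiv.Perm (Fin n)) (s : Fin n) :
    ∑ t : Fin n, cellc (Cfsg.compLabel ν) (Cfsg.compLabel μ) σ s t = ν s := by
  classical
  have h1 : (univ.filter fun j : Fin n => Cfsg.compLabel ν (σ j) = s).card = ν s := by
    rw [← card_compLabel_eq ν hν s]
    exact Finset.card_equiv σ (by intro i; simp)
  rw [← h1, Finset.card_eq_sum_card_fiberwise (f := fun j : Fin n =>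
    (⟨Cfsg.compLabel μ j, compLabel_lt μ hμ j⟩ : Fin n)) (t := univ) (fun _ _ => mem_univ _)]
  apply Finset.sum_congr rfl
  intro t _
  unfold cellc
  rw [Finset.filter_filter]
  congr 1
  apply Finset.filter_congr
  intro j _
  rw [Fin.ext_iff]
  exact and_comm

theorem col_sum (ν μ : Fin n → ℕ) (hν : ∑ i, ν i = n) (hμ : ∑ i, μ i = n)
    (σ : Equiv.Perm (Fin n)) (t : Fin n) :
    ∑ s : Fin n, cellc (Cfsg.compLabel ν) (Cfsg.compLabel μ) σ s t = μ t := by
  classical
  rw [← card_compLabel_eq μ hμ t, Finset.card_eq_sum_card_fiberwise (f := fun j : Fin n =>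
    (⟨Cfsg.compLabel ν (σ j), compLabel_lt ν hν (σ j)⟩ : Fin n)) (t := univ)
    (fun _ _ => mem_univ _)]
  apply Finset.sum_congr rfl
  intro s _
  unfold cellc
  rw [Finset.filter_filter]
  congr 1
  apply Finset.filter_congr
  intro j _
  rw [Fin.ext_iff]

theorem tab_mem (ν μ : Fin n → ℕ) (hν : ∑ i, ν i = n) (hμ : ∑ i, μ i = n)
    (σ : Equiv.Perm (Fin n)) : tab ν μ σ ∈ tables ν μ := by
  classical
  rw [tables, mem_filter, Fintype.mem_piFinset]
  refine ⟨fun s => ?_, ?_⟩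
  · rw [mem_finsuppAntidiag]
    refine ⟨?_, Finset.subset_univ _⟩
    simp only [tab, toF_apply]
    exact row_sum ν μ hν hμ σ s
  · ext t
    rw [Finsupp.finsetSum_apply]
    simp only [tab, toF_apply]
    exact col_sum ν μ hν hμ σ t

theorem cellc_mul (ν μ : Fin n → ℕ) {α β : Equiv.Perm (Fin n)}
    (hα : α ∈ Cfsg.youngSubgroup ν) (hβ : β ∈ Cfsg.youngSubgroup μ) (σ : Equiv.Perm (Fin n))
    (s t : ℕ) :
    cellc (Cfsg.compLabel ν) (Cfsg.compLabel μ) (α * σ * β) s t =
      cellc (Cfsg.compLabel ν) (Cfsg.compLabel μ) σ s t := by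
  unfold cellc
  apply Finset.card_equiv β
  intro j
  have h1 : Cfsg.compLabel ν ((α * σ * β) j) = Cfsg.compLabel ν (σ (β j)) := hα (σ (β j))
  have h2 : Cfsg.compLabel μ (β j) = Cfsg.compLabel μ j := hβ j
  rw [mem_filter, mem_filter, h1, h2]
  simp

theorem tab_mul (ν μ : Fin n → ℕ) {α β : Equiv.Perm (Fin n)}
    (hα : α ∈ Cfsg.youngSubgroup ν) (hβ : β ∈ Cfsg.youngSubgroup μ) (σ : Equiv.Perm (Fin n)) :
    tab ν μ (α * σ * β) = tab ν μ σ := by
  funext s
  simp only [tab]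
  congr 1
  funext t
  exact cellc_mul ν μ hα hβ σ s t

theorem cellc_eq_zero_left (ν μ : Fin n → ℕ) (hν : ∑ i, ν i = n) (σ : Equiv.Perm (Fin n))
    (s t : ℕ) (hs : n ≤ s) : cellc (Cfsg.compLabel ν) (Cfsg.compLabel μ) σ s t = 0 := by
  unfold cellc
  rw [Finset.card_eq_zero, Finset.filter_eq_empty_iff]
  intro j _ hj
  have := compLabel_lt ν hν (σ j)
  omega

theorem cellc_eq_zero_right (ν μ : Fin n → ℕ) (hμ : ∑ i, μ i = n) (σ : Equiv.Perm (Fin n))
    (s t : ℕ) (ht : n ≤ t) : cellc (Cfsg.compLabel ν) (Cfsg.compLabel μ) σ s t = 0 := by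
  unfold cellc
  rw [Finset.card_eq_zero, Finset.filter_eq_empty_iff]
  intro j _ hj
  have := compLabel_lt μ hμ j
  omega

theorem young_of_tab_eq (ν μ : Fin n → ℕ) (hν : ∑ i, ν i = n) (hμ : ∑ i, μ i = n)
    (σ τ : Equiv.Perm (Fin n)) (h : tab ν μ σ = tab ν μ τ) :
    ∃ α ∈ Cfsg.youngSubgroup ν, ∃ β ∈ Cfsg.youngSubgroup μ, σ = α * τ * β := by
  have hc : ∀ s t, cellc (Cfsg.compLabel ν) (Cfsg.compLabel μ) σ s t =
      cellc (Cfsg.compLabel ν) (Cfsg.compLabel μ) τ s t := by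
    intro s t
    by_cases hs : s < n
    · by_cases ht : t < n
      · have h1 := congrFun h ⟨s, hs⟩
        have h2 := DFunLike.congr_fun h1 ⟨t, ht⟩
        simpa [tab] using h2
      · rw [cellc_eq_zero_right ν μ hμ σ s t (not_lt.mp ht),
          cellc_eq_zero_right ν μ hμ τ s t (not_lt.mp ht)]
    · rw [cellc_eq_zero_left ν μ hν σ s t (not_lt.mp hs),
        cellc_eq_zero_left ν μ hν τ s t (not_lt.mp hs)]
  obtain ⟨α, β, hα, hβ, hσ⟩ := exists_young_of_cellc_eq _ _ σ τ hc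
  exact ⟨α, hα, β, hβ, hσ⟩

end Cfsg.Agent.Lib.Helper38.Flag
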