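import Mathlib
import Cfsg.Agent.Lib.Helper38.FlagI

/-!
# Every contingency table comes from a permutation; the Young inner product formula
-/

set_option autoImplicit false

namespace Cfsg.Agent.Lib.Helper38.Flag

open Finset MulAction

theorem card_filter_sigma_fst {ι : Type*} [Fintype ι] [DecidableEq ι] (β : ι → Type*)
    [∀ i, Fintype (β i)] (i₀ : ι) :
    (univ.filter fun z : (Σ i, β i) => z.1 = i₀).card = Fintype.card (β i₀) := by
  rw [← Fintype.card_subtype]
  exact Fintype.card_congr (Equiv.sigmaSubtype i₀)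

variable {n : ℕ}
theorem card_sigma_fst (w : Fin n → Fin n → ℕ) (t : Fin n) :
    (univ.filter fun z : (Σ t : Fin n, Σ s : Fin n, Fin (w s t)) => z.1 = t).card = ∑ s, w s t := by
  classical
  rw [card_filter_sigma_fst, Fintype.card_sigma]
  simp

theorem card_sigma_both (w : Fin n → Fin n → ℕ) (s t : Fin n) :
    (univ.filter fun z : (Σ t : Fin n, Σ s : Fin n, Fin (w s t)) => z.1 = t ∧ z.2.1 = s).card = w s t := by
  classical
  have h1 : (univ.filter fun z : (Σ t : Fin n, Σ s : Fin n, Fin (w s t)) => z.1 = t ∧ z.2.1 = s).card =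
      (univ.filter fun y : (Σ s : Fin n, Fin (w s t)) => y.1 = s).card := by
    symm
    apply Finset.card_bij (fun y _ => ⟨t, y⟩)
    · intro y hy
      simp only [mem_filter, mem_univ, true_and] at hy ⊢
      exact hy
    · intro y _ y' _ h
      simpa using h
    · rintro ⟨t', y⟩ hz
      simp only [mem_filter, mem_univ, true_and] at hz
      obtain ⟨h1, hy⟩ := hz
      subst h1
      exact ⟨y, by simp [hy], rfl⟩
  rw [h1, card_filter_sigma_fst]
  simp

theorem card_sigma_snd (w : Fin n → Fin n → ℕ) (s : Fin n) :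
    (univ.filter fun z : (Σ t : Fin n, Σ s : Fin n, Fin (w s t)) => z.2.1 = s).card = ∑ t, w s t := by
  classical
  rw [Finset.card_eq_sum_card_fiberwise (f := fun z : (Σ t : Fin n, Σ s : Fin n, Fin (w s t)) => z.1)
    (t := univ) (fun _ _ => mem_univ _)]
  apply Finset.sum_congr rfl
  intro t _
  rw [Finset.filter_filter, ← card_sigma_both w s t]
  congr 1
  apply Finset.filter_congr
  intro z _
  exact and_comm

theorem exists_perm_tab (ν μ : Fin n → ℕ) (hν : ∑ i, ν i = n) (hμ : ∑ i, μ i = n)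
    (v : Fin n → (Fin n →₀ ℕ)) (hv : v ∈ tables ν μ) : ∃ σ : Equiv.Perm (Fin n), tab ν μ σ = v := by
  classical
  rw [tables, mem_filter, Fintype.mem_piFinset] at hv
  obtain ⟨hv1, hv2⟩ := hv
  have hrow : ∀ s, ∑ t, v s t = ν s := by
    intro s
    have := hv1 s
    rw [mem_finsuppAntidiag] at this
    exact this.1
  have hcol : ∀ t, ∑ s, v s t = μ t := by
    intro t
    have := DFunLike.congr_fun hv2 t
    rw [Finsupp.finsetSum_apply] at this
    simpa using this
  set w : Fin n → Fin n → ℕ := fun s t => v s t with hw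
  -- the equivalence with the sigma type
  obtain ⟨e, he⟩ := exists_equiv_of_fiber_card_eq
    (fun z : (Σ t : Fin n, Σ s : Fin n, Fin (w s t)) => z.1)
    (fun j : Fin n => (⟨Cfsg.compLabel μ j, compLabel_lt μ hμ j⟩ : Fin n)) (by
      intro t
      rw [card_sigma_fst, hcol t, ← card_compLabel_eq μ hμ t]
      congr 1
      apply Finset.filter_congr
      intro j _
      rw [Fin.ext_iff])
  -- the target labels
  obtain ⟨σ, hσ⟩ := exists_perm_of_fiber_card_eq
    (fun i : Fin n => (⟨Cfsg.compLabel ν i, compLabel_lt ν hν i⟩ : Fin n))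
    (fun j : Fin n => (e j).2.1) (by
      intro s
      have h1 : (univ.filter fun j : Fin n => (e j).2.1 = s).card =
          (univ.filter fun z : (Σ t : Fin n, Σ s : Fin n, Fin (w s t)) => z.2.1 = s).card :=
        Finset.card_equiv e (by intro j; simp)
      rw [h1, card_sigma_snd, hrow s, ← card_compLabel_eq ν hν s]
      congr 1
      apply Finset.filter_congr
      intro j _
      rw [Fin.ext_iff])
  refine ⟨σ, ?_⟩
  funext s
  ext t
  simp only [tab, toF_apply]
  have h2 : cellc (Cfsg.compLabel ν) (Cfsg.compLabel μ) σ s t =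
      (univ.filter fun z : (Σ t : Fin n, Σ s : Fin n, Fin (w s t)) => z.1 = t ∧ z.2.1 = s).card := by
    unfold cellc
    apply Finset.card_equiv e
    intro j
    simp only [mem_filter, mem_univ, true_and]
    have h3 := he j
    have h4 := hσ j
    rw [Fin.ext_iff] at h3 h4
    simp only at h3 h4
    rw [Fin.ext_iff, Fin.ext_iff, h3, h4]
  rw [h2, card_sigma_both]

/-- the table attached to a pair of cosets -/
noncomputable def tabPair (ν μ : Fin n → ℕ) (hν : ∑ i, ν i = n) (hμ : ∑ i, μ i = n)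
    (p : (Equiv.Perm (Fin n) ⧸ Cfsg.youngSubgroup ν) × (Equiv.Perm (Fin n) ⧸ Cfsg.youngSubgroup μ)) :
    tables ν μ :=
  Quotient.liftOn₂' p.1 p.2 (fun x y => (⟨tab ν μ (x⁻¹ * y), tab_mem ν μ hν hμ _⟩ : tables ν μ)) (by
    intro x y x' y' hx hy
    rw [QuotientGroup.leftRel_apply] at hx hy
    apply Subtype.ext
    change tab ν μ (x⁻¹ * y) = tab ν μ (x'⁻¹ * y')
    have : x'⁻¹ * y' = (x⁻¹ * x')⁻¹ * (x⁻¹ * y) * (y⁻¹ * y') := by group
    rw [this, tab_mul ν μ (Subgroup.inv_mem _ hx) hy])

theorem tabPair_mk (ν μ : Fin n → ℕ) (hν : ∑ i, ν i = n) (hμ : ∑ i, μ i = n)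
    (x y : Equiv.Perm (Fin n)) :
    (tabPair ν μ hν hμ (QuotientGroup.mk x, QuotientGroup.mk y) : Fin n → (Fin n →₀ ℕ)) =
      tab ν μ (x⁻¹ * y) := rfl

/-- the table attached to an orbit of pairs of cosets -/
noncomputable def tabOrbit (ν μ : Fin n → ℕ) (hν : ∑ i, ν i = n) (hμ : ∑ i, μ i = n) :
    Quotient (orbitRel (Equiv.Perm (Fin n))
      ((Equiv.Perm (Fin n) ⧸ Cfsg.youngSubgroup ν) × (Equiv.Perm (Fin n) ⧸ Cfsg.youngSubgroup μ))) →
    tables ν μ :=
  Quotient.lift (tabPair ν μ hν hμ) (by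
    intro p q hpq
    have hpq' : orbitRel (Equiv.Perm (Fin n)) _ p q := hpq
    rw [orbitRel_apply, mem_orbit_iff] at hpq'
    obtain ⟨g, rfl⟩ := hpq'
    obtain ⟨q1, q2⟩ := q
    induction q1 using QuotientGroup.induction_on with
    | H x =>
    induction q2 using QuotientGroup.induction_on with
    | H y =>
    apply Subtype.ext
    simp only [Prod.smul_mk, MulAction.Quotient.smul_mk, smul_eq_mul]
    rw [tabPair_mk, tabPair_mk]
    congr 1
    group)

theorem tabOrbit_bijective (ν μ : Fin n → ℕ) (hν : ∑ i, ν i = n) (hμ : ∑ i, μ i = n) :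
    Function.Bijective (tabOrbit ν μ hν hμ) := by
  constructor
  · intro X Y hXY
    induction X using Quotient.inductionOn with
    | h p =>
    induction Y using Quotient.inductionOn with
    | h q =>
    obtain ⟨x1, x2⟩ := p
    obtain ⟨y1, y2⟩ := q
    induction x1 using QuotientGroup.induction_on with
    | H x1 =>
    induction x2 using QuotientGroup.induction_on with
    | H x2 =>
    induction y1 using QuotientGroup.induction_on with
    | H y1 =>
    induction y2 using QuotientGroup.induction_on with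
    | H y2 =>
    have h1 : tab ν μ (x1⁻¹ * x2) = tab ν μ (y1⁻¹ * y2) := by
      have := congrArg Subtype.val hXY
      exact this
    obtain ⟨α, hα, β, hβ, hαβ⟩ := young_of_tab_eq ν μ hν hμ _ _ h1
    apply Quotient.sound
    change orbitRel (Equiv.Perm (Fin n)) _ _ _
    rw [orbitRel_apply, mem_orbit_iff]
    refine ⟨x1 * α * y1⁻¹, ?_⟩
    simp only [Prod.smul_mk, MulAction.Quotient.smul_mk, smul_eq_mul, Prod.mk.injEq]
    constructor
    · rw [QuotientGroup.eq]
      have : (x1 * α * y1⁻¹ * y1)⁻¹ * x1 = α⁻¹ := by group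
      rw [this]
      exact Subgroup.inv_mem _ hα
    · rw [QuotientGroup.eq]
      have : (x1 * α * y1⁻¹ * y2)⁻¹ * x2 = (y1⁻¹ * y2)⁻¹ * α⁻¹ * (x1⁻¹ * x2) := by group
      rw [this, hαβ]
      have : (y1⁻¹ * y2)⁻¹ * α⁻¹ * (α * (y1⁻¹ * y2) * β) = β := by group
      rw [this]
      exact hβ
  · rintro ⟨v, hv⟩
    obtain ⟨σ, hσ⟩ := exists_perm_tab ν μ hν hμ v hv
    refine ⟨Quotient.mk _ (QuotientGroup.mk 1, QuotientGroup.mk σ), ?_⟩
    apply Subtype.ext
    change (tabPair ν μ hν hμ (QuotientGroup.mk 1, QuotientGroup.mk σ) : Fin n → (Fin n →₀ ℕ)) = v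
    rw [tabPair_mk, inv_one, one_mul, hσ]

/-- **The inner product of two Young permutation characters** is the number of contingency
tables with the given margins. -/
theorem inner_young_eq_CTf (ν μ : Fin n → ℕ) (hν : ∑ i, ν i = n) (hμ : ∑ i, μ i = n) :
    (Nat.card (Equiv.Perm (Fin n)) : ℂ)⁻¹ * ∑ σ : Equiv.Perm (Fin n),
        Cfsg.fixedPointCharacter (Cfsg.youngSubgroup ν) σ *
          Cfsg.fixedPointCharacter (Cfsg.youngSubgroup μ) σ = (CTf ν (toF μ) : ℂ) := by
  rw [inner_fpc_eq_card_orbits,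
    Nat.card_congr (Equiv.ofBijective _ (tabOrbit_bijective ν μ hν hμ)), Nat.card_eq_fintype_card,
    Fintype.card_coe, card_tables]

end Cfsg.Agent.Lib.Helper38.Flag
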