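import Mathlib
import Cfsg.Agent.Lib.Helper38.FlagE
import Cfsg.Agent.Lib.Helper38.FlagJ

/-!
# Orthonormality of the unipotent characters of `GL_n(q)`
-/

set_option autoImplicit false
open scoped MatrixGroups

namespace Cfsg.Agent.Lib.Helper38.Flag

open Finset

variable {F : Type*} [Field F] [Fintype F] [DecidableEq F] {n : ℕ}

/-- the inner product on functions on `GL_n(q)` (no conjugation: used for real-valued functions) -/
noncomputable def ipGL (F : Type*) [Field F] [Fintype F] [DecidableEq F] (n : ℕ)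
    (φ ψ : GL (Fin n) F → ℂ) : ℂ :=
  (Nat.card (GL (Fin n) F) : ℂ)⁻¹ * ∑ g : GL (Fin n) F, φ g * ψ g

/-- the composition `ν + δ - κ` -/
def compOf (ν : Fin n → ℕ) (κ : Equiv.Perm (Fin n)) : Fin n → ℕ :=
  fun i => ν i + i.val - (κ i).val

theorem sum_compOf (ν : Fin n → ℕ) (hν : ∑ i, ν i = n) (κ : Equiv.Perm (Fin n))
    (hadm : ∀ i : Fin n, (κ i).val ≤ ν i + i.val) : ∑ i, compOf ν κ i = n := by
  have h1 : ∑ i, compOf ν κ i + ∑ i : Fin n, (κ i).val = ∑ i : Fin n, (ν i + i.val) := by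
    rw [← Finset.sum_add_distrib]
    apply Finset.sum_congr rfl
    intro i _
    exact Nat.sub_add_cancel (hadm i)
  have h2 : ∑ i : Fin n, (κ i).val = ∑ i : Fin n, i.val :=
    Equiv.sum_comp κ (fun i : Fin n => i.val)
  rw [Finset.sum_add_distrib, hν, h2] at h1
  omega

theorem unipotent_apply (ν : Fin n → ℕ) (g : GL (Fin n) F) :
    Cfsg.unipotentCharacterGL n F ν g = ∑ κ : Equiv.Perm (Fin n),
      if ∀ i : Fin n, (κ i).val ≤ ν i + i.val then
        ((Equiv.Perm.sign κ : ℤ) : ℂ) *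
          Cfsg.fixedPointCharacter (Cfsg.parabolicGL n F (compOf ν κ)) g
      else 0 := rfl

theorem ip_sum_sum {G ι ι' : Type*} [Fintype G] [Fintype ι] [Fintype ι'] (c : ℂ)
    (A : ι → G → ℂ) (B : ι' → G → ℂ) :
    c * ∑ g : G, (∑ i, A i g) * (∑ j, B j g) = ∑ j, ∑ i, c * ∑ g : G, A i g * B j g := by
  have h1 : ∀ g : G, (∑ i, A i g) * (∑ j, B j g) = ∑ j, ∑ i, A i g * B j g := by
    intro g
    rw [Finset.sum_mul_sum, Finset.sum_comm]
  simp only [h1]
  rw [Finset.sum_comm, Finset.mul_sum]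
  apply Finset.sum_congr rfl
  intro j _
  rw [Finset.sum_comm, Finset.mul_sum]

theorem ipGL_unipotent (ν ν' : Fin n → ℕ) (hν : ∑ i, ν i = n) (hν' : ∑ i, ν' i = n) :
    ipGL F n (Cfsg.unipotentCharacterGL n F ν) (Cfsg.unipotentCharacterGL n F ν') =
      ∑ κ' : Equiv.Perm (Fin n), ∑ κ : Equiv.Perm (Fin n),
        if (∀ i : Fin n, (κ i).val ≤ ν i + i.val) ∧ (∀ i : Fin n, (κ' i).val ≤ ν' i + i.val) then
          ((Equiv.Perm.sign κ' : ℤ) : ℂ) * ((Equiv.Perm.sign κ : ℤ) : ℂ) *
            (CTf (compOf ν κ) (toF (compOf ν' κ')) : ℂ)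
        else 0 := by
  classical
  unfold ipGL
  simp only [unipotent_apply]
  rw [ip_sum_sum]
  apply Finset.sum_congr rfl
  intro κ' _
  apply Finset.sum_congr rfl
  intro κ _
  by_cases h1 : ∀ i : Fin n, (κ i).val ≤ ν i + i.val
  · by_cases h2 : ∀ i : Fin n, (κ' i).val ≤ ν' i + i.val
    · rw [if_pos ⟨h1, h2⟩]
      simp only [if_pos h1, if_pos h2]
      have := inner_flag_eq_inner_young (F := F) (compOf ν κ) (compOf ν' κ')
      rw [inner_young_eq_CTf _ _ (sum_compOf ν hν κ h1) (sum_compOf ν' hν' κ' h2)] at this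
      rw [← this, Finset.mul_sum, Finset.mul_sum, Finset.mul_sum]
      apply Finset.sum_congr rfl
      intro g _
      ring
    · rw [if_neg (fun h => h2 h.2)]
      simp only [if_neg h2, mul_zero, Finset.sum_const_zero]
  · rw [if_neg (fun h => h1 h.1)]
    simp only [if_neg h1, zero_mul, Finset.sum_const_zero, mul_zero]

theorem ipGL_unipotent_eq (ν ν' : Fin n → ℕ) (hmono : Monotone ν) (hν : ∑ i, ν i = n)
    (hmono' : Monotone ν') (hν' : ∑ i, ν' i = n) :
    ipGL F n (Cfsg.unipotentCharacterGL n F ν) (Cfsg.unipotentCharacterGL n F ν') =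
      if ν = ν' then 1 else 0 := by
  classical
  rw [ipGL_unipotent ν ν' hν hν']
  have hs : StrictMono (fun i : Fin n => ν i + i.val) := by
    intro i j hij
    have := hmono hij.le
    have : i.val < j.val := hij
    simp only
    omega
  have hs' : StrictMono (fun i : Fin n => ν' i + i.val) := by
    intro i j hij
    have := hmono' hij.le
    have : i.val < j.val := hij
    simp only
    omega
  have key := sum_CTf_eq hs hs'
  have hiff : ((fun i : Fin n => ν i + i.val) = fun i : Fin n => ν' i + i.val) ↔ ν = ν' := by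
    constructor
    · intro h
      funext i
      have h3 : ν i + i.val = ν' i + i.val := congrFun h i
      omega
    · intro h; rw [h]
  have hR : (if ν = ν' then (1 : ℂ) else 0) =
      (((if (fun i : Fin n => ν i + i.val) = (fun i : Fin n => ν' i + i.val) then 1 else 0 : ℤ)) :
        ℂ) := by
    by_cases h : ν = ν'
    · rw [if_pos h, if_pos (hiff.mpr h)]; simp
    · rw [if_neg h, if_neg (fun h' => h (hiff.mp h'))]; simp
  rw [hR, ← key]
  simp only [Int.cast_sum, Int.cast_mul, Int.cast_ite, Int.cast_natCast, Int.cast_zero]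
  apply Finset.sum_congr rfl
  intro κ' _
  apply Finset.sum_congr rfl
  intro κ _
  have hle : toF (fun i => ((κ' i : Fin n) : ℕ)) ≤ toF (fun i : Fin n => ν' i + i.val) ↔
      ∀ i : Fin n, (κ' i).val ≤ ν' i + i.val := by
    rw [Finsupp.le_def]
    simp
  have hsub : toF (fun i : Fin n => ν' i + i.val) - toF (fun i => ((κ' i : Fin n) : ℕ)) =
      toF (compOf ν' κ') := by
    ext i
    simp [compOf]
  rw [hsub]
  by_cases h1 : ∀ i : Fin n, (κ i).val ≤ ν i + i.val
  · by_cases h2 : ∀ i : Fin n, (κ' i).val ≤ ν' i + i.val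
    · rw [if_pos ⟨h1, h2⟩, if_pos ⟨hle.mpr h2, h1⟩]
      rfl
    · rw [if_neg (fun h => h2 h.2), if_neg (fun h => h2 (hle.mp h.1)), mul_zero]
  · rw [if_neg (fun h => h1 h.1), if_neg (fun h => h1 h.2), mul_zero]

end Cfsg.Agent.Lib.Helper38.Flag
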