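import Mathlib
import Cfsg.Agent.Lib.Helper38.FlagK
import Cfsg.Agent.Lib.Helper25.Coherence
import Cfsg.Agent.Lib.Helper12.PermChar2
import Cfsg.Agent.S1529
import Cfsg.Agent.S2424

/-!
# The unipotent characters of `GL_n(q)` are irreducible
-/

set_option autoImplicit false
open scoped MatrixGroups

namespace Cfsg.Agent.Lib.Helper38.Flag

open Finset Cfsg
open scoped ComplexConjugate

variable {F : Type*} [Field F] [Fintype F] [DecidableEq F] {n : ℕ}

theorem isCharacter_fpc {G : Type*} [Group G] [Fintype G] (H : Subgroup G) :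
    IsCharacter G (Cfsg.fixedPointCharacter H) := by
  classical
  have : Fintype (G ⧸ H) := Fintype.ofFinite _
  exact Cfsg.Agent.Lib.Helper12.PermChar.isCharacter_permChar (G := G) (Ω := G ⧸ H)

theorem isGenChar_unipotent (ν : Fin n → ℕ) :
    IsGeneralizedCharacter (GL (Fin n) F) (Cfsg.unipotentCharacterGL n F ν) := by
  classical
  have e : Cfsg.unipotentCharacterGL n F ν = ∑ κ : Equiv.Perm (Fin n),
      (if ∀ i : Fin n, (κ i).val ≤ ν i + i.val then
        (((Equiv.Perm.sign κ : ℤˣ) : ℤ) : ℂ) •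
          Cfsg.fixedPointCharacter (Cfsg.parabolicGL n F (compOf ν κ))
      else (0 : GL (Fin n) F → ℂ)) := by
    funext g
    rw [unipotent_apply, Finset.sum_apply]
    apply Finset.sum_congr rfl
    intro κ _
    split_ifs <;> simp
  rw [e]
  apply Cfsg.Agent.Lib.Helper25.genChar_sum
  intro κ _
  split_ifs
  · exact Cfsg.Agent.Lib.Helper25.genChar_intCast_smul
      (Cfsg.Agent.Lib.Helper25.genChar_of_char (isCharacter_fpc _)) _
  · exact Cfsg.Agent.Lib.Helper25.genChar_zero

theorem conj_unipotent (ν : Fin n → ℕ) (g : GL (Fin n) F) :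
    conj (Cfsg.unipotentCharacterGL n F ν g) = Cfsg.unipotentCharacterGL n F ν g := by
  rw [unipotent_apply, map_sum]
  apply Finset.sum_congr rfl
  intro κ _
  split_ifs
  · rw [map_mul, map_intCast]
    congr 1
    exact map_natCast _ _
  · exact map_zero _

theorem classInner_unipotent (ν : Fin n → ℕ) (hmono : Monotone ν) (hν : ∑ i, ν i = n) :
    classInner (Cfsg.unipotentCharacterGL n F ν) (Cfsg.unipotentCharacterGL n F ν) = 1 := by
  have h := ipGL_unipotent_eq (F := F) ν ν hmono hν hmono hν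
  rw [if_pos rfl] at h
  rw [← h]
  unfold classInner ipGL
  congr 1
  apply Finset.sum_congr rfl
  intro g _
  rw [conj_unipotent]

/-- the `q`-integer -/
def Qn (q r : ℕ) : ℕ := ∑ l ∈ Finset.range r, q ^ l

theorem Qn_strictMono {q : ℕ} (hq : 0 < q) : StrictMono (Qn q) := by
  apply strictMono_nat_of_lt_succ
  intro r
  unfold Qn
  rw [Finset.sum_range_succ]
  have : 0 < q ^ r := Nat.pow_pos hq
  omega

theorem Qn_pos {q : ℕ} (r : ℕ) : 0 < Qn q (r + 1) := by
  unfold Qn
  rw [Finset.sum_range_succ']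
  simp

theorem degree_not_neg (ν : Fin n → ℕ) (hmono : Monotone ν) (hν : ∑ i, ν i = n) (m : ℕ)
    (hm : 0 < m) (h : Cfsg.unipotentCharacterGL n F ν 1 = -(m : ℂ)) : False := by
  classical
  have hq : 0 < Fintype.card F := Fintype.card_pos
  have key := Cfsg.Agent.S2424.result (F := F) (q := Fintype.card F) rfl ν hmono hν
  set q := Fintype.card F with hqdef
  -- the left factor
  set a : ℕ := q ^ (n * (n - 1) * (n - 2) / 6) *
    ∏ i : Fin n, ∏ j ∈ Finset.range (ν i + i.val), Qn q (j + 1) with ha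
  have hapos : 0 < a := by
    rw [ha]
    apply Nat.mul_pos (Nat.pow_pos hq)
    apply Finset.prod_pos
    intro i _
    apply Finset.prod_pos
    intro j _
    exact Qn_pos j
  set b : ℕ := (∏ j ∈ Finset.range n, Qn q (j + 1)) *
    ∏ i : Fin n, ∏ j ∈ Finset.univ.filter (fun j : Fin n => i < j),
      (Qn q (ν j + j.val) - Qn q (ν i + i.val)) with hb
  have hlt : ∀ i j : Fin n, i < j → Qn q (ν i + i.val) < Qn q (ν j + j.val) := by
    intro i j hij
    apply Qn_strictMono hq
    have := hmono hij.le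
    have : i.val < j.val := hij
    omega
  have hbpos : 0 < b := by
    rw [hb]
    apply Nat.mul_pos
    · apply Finset.prod_pos
      intro j _
      exact Qn_pos j
    · apply Finset.prod_pos
      intro i _
      apply Finset.prod_pos
      intro j hj
      rw [Finset.mem_filter] at hj
      exact Nat.sub_pos_of_lt (hlt i j hj.2)
  have hL : Cfsg.unipotentCharacterGL n F ν 1 * (q : ℂ) ^ (n * (n - 1) * (n - 2) / 6) *
        ∏ i : Fin n, ∏ j ∈ Finset.range (ν i + i.val),
          ((∑ l ∈ Finset.range (j + 1), q ^ l : ℕ) : ℂ) =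
      Cfsg.unipotentCharacterGL n F ν 1 * (a : ℂ) := by
    rw [ha, mul_assoc, Nat.cast_mul, Nat.cast_pow, Nat.cast_prod]
    congr 2
    apply Finset.prod_congr rfl
    intro i _
    rw [Nat.cast_prod]
    rfl
  have hR : (∏ j ∈ Finset.range n, ((∑ l ∈ Finset.range (j + 1), q ^ l : ℕ) : ℂ)) *
        ∏ i : Fin n, ∏ j ∈ Finset.univ.filter (fun j : Fin n => i < j),
          (((∑ l ∈ Finset.range (ν j + j.val), q ^ l : ℕ) : ℂ) -
            ((∑ l ∈ Finset.range (ν i + i.val), q ^ l : ℕ) : ℂ)) = (b : ℂ) := by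
    rw [hb, Nat.cast_mul, Nat.cast_prod, Nat.cast_prod]
    congr 1
    apply Finset.prod_congr rfl
    intro i _
    rw [Nat.cast_prod]
    apply Finset.prod_congr rfl
    intro j hj
    rw [Finset.mem_filter] at hj
    rw [Nat.cast_sub (hlt i j hj.2).le]
    rfl
  rw [hL, hR, h] at key
  have key2 : ((m * a + b : ℕ) : ℂ) = 0 := by
    push_cast
    rw [← key]
    ring
  have key3 : m * a + b = 0 := by exact_mod_cast key2
  omega

theorem isIrr_unipotent (ν : Fin n → ℕ) (hmono : Monotone ν) (hν : ∑ i, ν i = n) :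
    IsIrrCharacter (GL (Fin n) F) (Cfsg.unipotentCharacterGL n F ν) := by
  obtain ⟨ε, μ, hε, hμ, hY⟩ := Cfsg.Agent.S1529.genChar_norm_one (isGenChar_unipotent (F := F) ν)
    (classInner_unipotent ν hmono hν)
  obtain ⟨m, hm, hm1⟩ := Cfsg.Agent.Lib.Helper25.irr_degree hμ
  rcases hε with rfl | rfl
  · rw [hY, one_smul]
    exact hμ
  · exfalso
    apply degree_not_neg (F := F) ν hmono hν m hm
    rw [hY]
    simp [hm1]

end Cfsg.Agent.Lib.Helper38.Flag
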