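import Mathlib

set_option autoImplicit false

namespace Cfsg.Agent.Lib.Helper38

open Matrix

variable {F : Type*} [Field F]

/-- Build a `GL₂` element from its entries. -/
noncomputable def gl2 (x y z w : F) (h : x * w - y * z ≠ 0) : GL (Fin 2) F :=
  Matrix.GeneralLinearGroup.mkOfDetNeZero !![x, y; z, w] (by rw [Matrix.det_fin_two_of]; exact h)

@[simp] theorem gl2_00 (x y z w : F) (h : x * w - y * z ≠ 0) :
    ((gl2 x y z w h : GL (Fin 2) F) : Matrix (Fin 2) (Fin 2) F) 0 0 = x := rfl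
@[simp] theorem gl2_01 (x y z w : F) (h : x * w - y * z ≠ 0) :
    ((gl2 x y z w h : GL (Fin 2) F) : Matrix (Fin 2) (Fin 2) F) 0 1 = y := rfl
@[simp] theorem gl2_10 (x y z w : F) (h : x * w - y * z ≠ 0) :
    ((gl2 x y z w h : GL (Fin 2) F) : Matrix (Fin 2) (Fin 2) F) 1 0 = z := rfl
@[simp] theorem gl2_11 (x y z w : F) (h : x * w - y * z ≠ 0) :
    ((gl2 x y z w h : GL (Fin 2) F) : Matrix (Fin 2) (Fin 2) F) 1 1 = w := rfl

theorem gl2_ext (g h : GL (Fin 2) F)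
    (h00 : (g : Matrix (Fin 2) (Fin 2) F) 0 0 = (h : Matrix (Fin 2) (Fin 2) F) 0 0)
    (h01 : (g : Matrix (Fin 2) (Fin 2) F) 0 1 = (h : Matrix (Fin 2) (Fin 2) F) 0 1)
    (h10 : (g : Matrix (Fin 2) (Fin 2) F) 1 0 = (h : Matrix (Fin 2) (Fin 2) F) 1 0)
    (h11 : (g : Matrix (Fin 2) (Fin 2) F) 1 1 = (h : Matrix (Fin 2) (Fin 2) F) 1 1) : g = h := by
  apply Matrix.GeneralLinearGroup.ext
  intro i j
  fin_cases i <;> fin_cases j <;> assumption

theorem gl2_det_ne_zero (g : GL (Fin 2) F) :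
    (g : Matrix (Fin 2) (Fin 2) F) 0 0 * (g : Matrix (Fin 2) (Fin 2) F) 1 1 -
      (g : Matrix (Fin 2) (Fin 2) F) 0 1 * (g : Matrix (Fin 2) (Fin 2) F) 1 0 ≠ 0 := by
  have h := Matrix.GeneralLinearGroup.det_ne_zero g
  rwa [Matrix.det_fin_two] at h

theorem gl2_mul_apply (g h : GL (Fin 2) F) (i j : Fin 2) :
    ((g * h : GL (Fin 2) F) : Matrix (Fin 2) (Fin 2) F) i j =
      (g : Matrix (Fin 2) (Fin 2) F) i 0 * (h : Matrix (Fin 2) (Fin 2) F) 0 j +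
      (g : Matrix (Fin 2) (Fin 2) F) i 1 * (h : Matrix (Fin 2) (Fin 2) F) 1 j := by
  rw [Matrix.GeneralLinearGroup.coe_mul, Matrix.mul_apply, Fin.sum_univ_two]

/-- commutation of two `GL₂` elements in terms of entries -/
theorem gl2_comm_iff (k g : GL (Fin 2) F) :
    k * g = g * k ↔
      ((k : Matrix (Fin 2) (Fin 2) F) 0 1 * (g : Matrix (Fin 2) (Fin 2) F) 1 0 =
        (g : Matrix (Fin 2) (Fin 2) F) 0 1 * (k : Matrix (Fin 2) (Fin 2) F) 1 0) ∧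
      ((k : Matrix (Fin 2) (Fin 2) F) 0 0 * (g : Matrix (Fin 2) (Fin 2) F) 0 1 +
          (k : Matrix (Fin 2) (Fin 2) F) 0 1 * (g : Matrix (Fin 2) (Fin 2) F) 1 1 =
        (g : Matrix (Fin 2) (Fin 2) F) 0 0 * (k : Matrix (Fin 2) (Fin 2) F) 0 1 +
          (g : Matrix (Fin 2) (Fin 2) F) 0 1 * (k : Matrix (Fin 2) (Fin 2) F) 1 1) ∧
      ((k : Matrix (Fin 2) (Fin 2) F) 1 0 * (g : Matrix (Fin 2) (Fin 2) F) 0 0 +
          (k : Matrix (Fin 2) (Fin 2) F) 1 1 * (g : Matrix (Fin 2) (Fin 2) F) 1 0 =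
        (g : Matrix (Fin 2) (Fin 2) F) 1 0 * (k : Matrix (Fin 2) (Fin 2) F) 0 0 +
          (g : Matrix (Fin 2) (Fin 2) F) 1 1 * (k : Matrix (Fin 2) (Fin 2) F) 1 0) := by
  constructor
  · intro h
    have e00 := congrArg (fun m : GL (Fin 2) F => (m : Matrix (Fin 2) (Fin 2) F) 0 0) h
    have e01 := congrArg (fun m : GL (Fin 2) F => (m : Matrix (Fin 2) (Fin 2) F) 0 1) h
    have e10 := congrArg (fun m : GL (Fin 2) F => (m : Matrix (Fin 2) (Fin 2) F) 1 0) h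
    simp only [gl2_mul_apply] at e00 e01 e10
    refine ⟨?_, e01, e10⟩
    linear_combination e00
  · rintro ⟨h1, h2, h3⟩
    apply gl2_ext
    · rw [gl2_mul_apply, gl2_mul_apply]; linear_combination h1
    · rw [gl2_mul_apply, gl2_mul_apply]; exact h2
    · rw [gl2_mul_apply, gl2_mul_apply]; exact h3
    · rw [gl2_mul_apply, gl2_mul_apply]; linear_combination -h1

end Cfsg.Agent.Lib.Helper38
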