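import Mathlib
import Cfsg.Prelude.Def_ParabolicCharacters
import Cfsg.Agent.Lib.Helper38.GL2

set_option autoImplicit false

namespace Cfsg.Agent.Lib.Helper38

open Matrix

variable {F : Type*} [Field F]

theorem mem_upperTriangularGL_two (z : GL (Fin 2) F) :
    z ∈ Cfsg.upperTriangularGL 2 F ↔ (z : Matrix (Fin 2) (Fin 2) F) 1 0 = 0 := by
  change (z : Matrix (Fin 2) (Fin 2) F).BlockTriangular id ↔ _
  constructor
  · intro h
    exact h (by decide : (id (0 : Fin 2)) < id (1 : Fin 2))
  · intro h i j hij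
    fin_cases i <;> fin_cases j <;> simp_all

theorem borel_aux (x z : GL (Fin 2) F) :
    (z : Matrix (Fin 2) (Fin 2) F) 1 0 = 0 ↔
      (x : Matrix (Fin 2) (Fin 2) F) 0 0 * ((x * z : GL (Fin 2) F) : Matrix (Fin 2) (Fin 2) F) 1 0 =
        (x : Matrix (Fin 2) (Fin 2) F) 1 0 * ((x * z : GL (Fin 2) F) : Matrix (Fin 2) (Fin 2) F) 0 0 := by
  have hdet := gl2_det_ne_zero x
  rw [gl2_mul_apply, gl2_mul_apply]
  constructor
  · intro h
    rw [h]; ring
  · intro h
    have : ((x : Matrix (Fin 2) (Fin 2) F) 0 0 * (x : Matrix (Fin 2) (Fin 2) F) 1 1 -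
      (x : Matrix (Fin 2) (Fin 2) F) 0 1 * (x : Matrix (Fin 2) (Fin 2) F) 1 0) *
        (z : Matrix (Fin 2) (Fin 2) F) 1 0 = 0 := by linear_combination h
    rcases mul_eq_zero.mp this with h1 | h1
    · exact absurd h1 hdet
    · exact h1

/-- `x⁻¹ * y` is upper triangular iff the first columns of `x` and `y` are proportional. -/
theorem inv_mul_mem_borel_iff (x y : GL (Fin 2) F) :
    x⁻¹ * y ∈ Cfsg.upperTriangularGL 2 F ↔
      (x : Matrix (Fin 2) (Fin 2) F) 0 0 * (y : Matrix (Fin 2) (Fin 2) F) 1 0 =
        (x : Matrix (Fin 2) (Fin 2) F) 1 0 * (y : Matrix (Fin 2) (Fin 2) F) 0 0 := by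
  rw [mem_upperTriangularGL_two, borel_aux x (x⁻¹ * y), mul_inv_cancel_left]

open Classical in
/-- The class of the first column of `x` in the projective line `F ∪ {∞}`. -/
noncomputable def colClass (x : GL (Fin 2) F) : Option F :=
  if (x : Matrix (Fin 2) (Fin 2) F) 0 0 = 0 then none
  else some ((x : Matrix (Fin 2) (Fin 2) F) 1 0 / (x : Matrix (Fin 2) (Fin 2) F) 0 0)

theorem col_ne_zero (x : GL (Fin 2) F) (h : (x : Matrix (Fin 2) (Fin 2) F) 0 0 = 0) :
    (x : Matrix (Fin 2) (Fin 2) F) 1 0 ≠ 0 := by
  intro h1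
  apply gl2_det_ne_zero x
  rw [h, h1]; ring

theorem colClass_eq_iff (x y : GL (Fin 2) F) :
    colClass x = colClass y ↔
      (x : Matrix (Fin 2) (Fin 2) F) 0 0 * (y : Matrix (Fin 2) (Fin 2) F) 1 0 =
        (x : Matrix (Fin 2) (Fin 2) F) 1 0 * (y : Matrix (Fin 2) (Fin 2) F) 0 0 := by
  unfold colClass
  by_cases hx : (x : Matrix (Fin 2) (Fin 2) F) 0 0 = 0
  · by_cases hy : (y : Matrix (Fin 2) (Fin 2) F) 0 0 = 0
    · simp [hx, hy]
    · simp only [hx, hy, if_true, if_false, zero_mul]
      constructor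
      · intro h; exact absurd h (by simp)
      · intro h
        exfalso
        rcases mul_eq_zero.mp h.symm with h1 | h1
        · exact col_ne_zero x hx h1
        · exact hy h1
  · by_cases hy : (y : Matrix (Fin 2) (Fin 2) F) 0 0 = 0
    · simp only [hx, hy, if_true, if_false, mul_zero]
      constructor
      · intro h; exact absurd h (by simp)
      · intro h
        exfalso
        rcases mul_eq_zero.mp h with h1 | h1
        · exact hx h1
        · exact col_ne_zero y hy h1
    · simp only [hx, hy, if_false, Option.some.injEq]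
      rw [div_eq_div_iff hx hy]
      constructor
      · intro h; linear_combination -h
      · intro h; linear_combination -h

/-- The bijection `GL₂ / B → F ∪ {∞}`. -/
noncomputable def lineMap : (GL (Fin 2) F ⧸ Cfsg.upperTriangularGL 2 F) → Option F :=
  Quotient.lift colClass (by
    intro x y h
    have h' : x⁻¹ * y ∈ Cfsg.upperTriangularGL 2 F := QuotientGroup.leftRel_apply.mp h
    rw [colClass_eq_iff, ← inv_mul_mem_borel_iff]
    exact h')

theorem lineMap_mk (x : GL (Fin 2) F) :
    lineMap (QuotientGroup.mk x : GL (Fin 2) F ⧸ Cfsg.upperTriangularGL 2 F) = colClass x := rfl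

theorem lineMap_bijective : Function.Bijective (lineMap (F := F)) := by
  constructor
  · intro p q h
    induction p using QuotientGroup.induction_on with
    | H x =>
      induction q using QuotientGroup.induction_on with
      | H y =>
        rw [lineMap_mk, lineMap_mk, colClass_eq_iff, ← inv_mul_mem_borel_iff] at h
        exact QuotientGroup.eq.mpr h
  · intro ℓ
    cases ℓ with
    | none =>
      refine ⟨QuotientGroup.mk (gl2 0 1 1 0 (by norm_num)), ?_⟩
      rw [lineMap_mk]
      simp [colClass]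
    | some t =>
      refine ⟨QuotientGroup.mk (gl2 1 0 t 1 (by norm_num)), ?_⟩
      rw [lineMap_mk]
      simp [colClass]

/-- The condition that the line `ℓ` is fixed by `g`. -/
def lineFixed (g : GL (Fin 2) F) : Option F → Prop
  | none => (g : Matrix (Fin 2) (Fin 2) F) 0 1 = 0
  | some t => (g : Matrix (Fin 2) (Fin 2) F) 1 0 + (g : Matrix (Fin 2) (Fin 2) F) 1 1 * t =
      t * ((g : Matrix (Fin 2) (Fin 2) F) 0 0 + (g : Matrix (Fin 2) (Fin 2) F) 0 1 * t)

theorem smul_mk_eq_iff (g x : GL (Fin 2) F) :
    g • (QuotientGroup.mk x : GL (Fin 2) F ⧸ Cfsg.upperTriangularGL 2 F) = QuotientGroup.mk x ↔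
      lineFixed g (colClass x) := by
  rw [MulAction.Quotient.smul_mk, QuotientGroup.eq, inv_mul_mem_borel_iff, smul_eq_mul,
    gl2_mul_apply, gl2_mul_apply]
  unfold colClass
  by_cases hx : (x : Matrix (Fin 2) (Fin 2) F) 0 0 = 0
  · have hv := col_ne_zero x hx
    simp only [hx, if_true, lineFixed, mul_zero, zero_add]
    constructor
    · intro h
      have h2 : (g : Matrix (Fin 2) (Fin 2) F) 0 1 * ((x : Matrix (Fin 2) (Fin 2) F) 1 0 * (x : Matrix (Fin 2) (Fin 2) F) 1 0) = 0 := by
        linear_combination h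
      rcases mul_eq_zero.mp h2 with h3 | h3
      · exact h3
      · exact absurd (mul_self_eq_zero.mp h3) hv
    · intro h
      rw [h]; ring
  · simp only [hx, if_false, lineFixed]
    constructor
    · intro h
      field_simp
      linear_combination -h
    · intro h
      field_simp at h
      linear_combination -h

/-- The fixed cosets of `g` on `GL₂/B` correspond to the fixed lines. -/
theorem card_fixedBy_eq (g : GL (Fin 2) F) :
    Nat.card (MulAction.fixedBy (GL (Fin 2) F ⧸ Cfsg.upperTriangularGL 2 F) g) =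
      Nat.card {ℓ : Option F // lineFixed g ℓ} := by
  apply Nat.card_congr
  refine Equiv.subtypeEquiv (Equiv.ofBijective lineMap lineMap_bijective) ?_
  intro q
  induction q using QuotientGroup.induction_on with
  | H x =>
    rw [MulAction.mem_fixedBy, smul_mk_eq_iff]
    rfl

end Cfsg.Agent.Lib.Helper38
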