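import Cfsg.Agent.Lib.Helper38.SL2Borel
import Cfsg.Agent.Lib.Helper3.CharOps
import Cfsg.Agent.Lib.Helper3.Induced
import Cfsg.Agent.Lib.Helper15.LinearChar

set_option autoImplicit false

/-!
Principal series of `SL₂(F)`: characters, irreducibility.
-/

namespace Cfsg.Agent.Lib.Helper38

open Matrix Cfsg Cfsg.Agent.Lib.Helper25
open scoped ComplexConjugate

variable {F : Type*} [Field F]

theorem isCharacter_of_mul {H : Type*} [Group H] (f : H → ℂ)
    (hmul : ∀ a b, f (a * b) = f a * f b) (h1 : f 1 = 1) : IsCharacter H f :=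
  (Cfsg.Agent.Lib.Helper15.isCharacter_of_hom ⟨⟨f, h1⟩, hmul⟩).1

theorem isCharacter_psFun (α : MulChar F ℂ) : IsCharacter (borelSL F) (psFun α) :=
  isCharacter_of_mul _ (psFun_mul α) (psFun_one α)

theorem isCharacter_ps_SL [Fintype F] [DecidableEq F] (α : MulChar F ℂ) :
    IsCharacter (Matrix.SpecialLinearGroup (Fin 2) F) (indFun (borelSL F) (psFun α)) :=
  Cfsg.Agent.Lib.Helper3.isCharacter_indFun (borelSL F) (isCharacter_psFun α)

theorem isIrr_ps_SL_iff [Fintype F] [DecidableEq F] (α : MulChar F ℂ) :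
    IsIrrCharacter (Matrix.SpecialLinearGroup (Fin 2) F) (indFun (borelSL F) (psFun α)) ↔
      α ^ 2 ≠ 1 := by
  classical
  have hform := classInner_ps_SL α α
  rw [if_pos rfl] at hform
  have hsq : α ^ 2 = 1 ↔ α = α⁻¹ := by
    rw [pow_two, mul_eq_one_iff_eq_inv]
  constructor
  · intro h
    have h1 := Cfsg.Agent.Lib.Helper3.classInner_irr h h
    rw [if_pos rfl] at h1
    rw [h1] at hform
    intro h2
    rw [if_pos (hsq.mp h2)] at hform
    norm_num at hform
  · intro h
    rw [if_neg (fun h2 => h (hsq.mpr h2)), add_zero] at hform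
    exact Cfsg.Agent.Lib.Helper3.isIrrCharacter_of_classInner_self_eq_one (isCharacter_ps_SL α) hform

end Cfsg.Agent.Lib.Helper38
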