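import Mathlib
import Cfsg.Prelude.Def_ParabolicCharacters
import Cfsg.Agent.Lib.Helper38.GL2Lines
import Cfsg.Agent.Lib.Helper38.SL2PS

set_option autoImplicit false
set_option linter.unusedSimpArgs false

/-!
The Borel subgroup of `GL₂(F)`, its parametrisation by `Fˣ × Fˣ × F`, the Bruhat decomposition, and
the inner products of principal series functions.
-/

namespace Cfsg.Agent.Lib.Helper38

open Matrix Cfsg Cfsg.Agent.Lib.Helper25
open scoped ComplexConjugate

variable {F : Type*} [Field F]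

/-- The upper triangular subgroup of `GL₂(F)`. -/
abbrev borelGL (F : Type*) [Field F] : Subgroup (GL (Fin 2) F) := Cfsg.upperTriangularGL 2 F

theorem mem_borelGL (g : GL (Fin 2) F) :
    g ∈ borelGL F ↔ (g : Matrix (Fin 2) (Fin 2) F) 1 0 = 0 :=
  mem_upperTriangularGL_two g

theorem borelGL_diag (b : borelGL F) :
    ((b : GL (Fin 2) F) : Matrix (Fin 2) (Fin 2) F) 0 0 *
      ((b : GL (Fin 2) F) : Matrix (Fin 2) (Fin 2) F) 1 1 ≠ 0 := by
  have h := gl2_det_ne_zero (b : GL (Fin 2) F)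
  have h0 := (mem_borelGL b.1).mp b.2
  rw [h0, mul_zero, sub_zero] at h
  exact h

theorem borelGL_00_ne_zero (b : borelGL F) :
    ((b : GL (Fin 2) F) : Matrix (Fin 2) (Fin 2) F) 0 0 ≠ 0 :=
  left_ne_zero_of_mul (borelGL_diag b)

theorem borelGL_11_ne_zero (b : borelGL F) :
    ((b : GL (Fin 2) F) : Matrix (Fin 2) (Fin 2) F) 1 1 ≠ 0 :=
  right_ne_zero_of_mul (borelGL_diag b)

/-- The Weyl element of `GL₂`. -/
noncomputable def weylGL (F : Type*) [Field F] : GL (Fin 2) F :=
  gl2 0 (-1) 1 0 (by norm_num)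

/-- upper triangular element of `GL₂` with given diagonal entries and upper right entry. -/
noncomputable def borelGLMk (t u : Fˣ) (x : F) : borelGL F :=
  ⟨gl2 (t : F) x 0 (u : F) (by simp), by rw [mem_borelGL]; rfl⟩

/-- `B ≃ Fˣ × Fˣ × F`. -/
noncomputable def borelGLEquiv : borelGL F ≃ Fˣ × Fˣ × F where
  toFun b := (Units.mk0 _ (borelGL_00_ne_zero b), Units.mk0 _ (borelGL_11_ne_zero b),
    ((b : GL (Fin 2) F) : Matrix (Fin 2) (Fin 2) F) 0 1)
  invFun p := borelGLMk p.1 p.2.1 p.2.2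
  left_inv b := by
    apply Subtype.ext
    apply gl2_ext
    · rfl
    · rfl
    · exact ((mem_borelGL b.1).mp b.2).symm
    · rfl
  right_inv p := by
    refine Prod.ext ?_ (Prod.ext ?_ ?_)
    · apply Units.ext; rfl
    · apply Units.ext; rfl
    · rfl

noncomputable instance instFintypeBorelGL [Fintype F] [DecidableEq F] : Fintype (borelGL F) :=
  Fintype.ofEquiv _ (borelGLEquiv (F := F)).symm

theorem card_borelGL [Fintype F] :
    Nat.card (borelGL F) = Fintype.card F * (Fintype.card F - 1) ^ 2 := by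
  rw [Nat.card_congr (borelGLEquiv (F := F)), Nat.card_prod, Nat.card_prod, Nat.card_units,
    Nat.card_eq_fintype_card]
  ring

theorem card_GL2 [Fintype F] [DecidableEq F] :
    Nat.card (GL (Fin 2) F) =
      (Fintype.card F ^ 2 - 1) * (Fintype.card F ^ 2 - Fintype.card F) := by
  rw [Matrix.card_GL_field]
  simp only [Fin.prod_univ_two, Fin.val_zero, Fin.val_one, pow_zero, pow_one, Fintype.card_fin]

/-- Bruhat decomposition of `GL₂`. -/
theorem bruhat_GL (y : GL (Fin 2) F) (hy : y ∉ borelGL F) :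
    ∃ b₁ b₂ : borelGL F, y = (b₁ : GL (Fin 2) F) * weylGL F * b₂ := by
  rw [mem_borelGL] at hy
  have hdet := gl2_det_ne_zero y
  set a := (y : Matrix (Fin 2) (Fin 2) F) 0 0 with ha
  set b := (y : Matrix (Fin 2) (Fin 2) F) 0 1 with hb
  set c := (y : Matrix (Fin 2) (Fin 2) F) 1 0 with hc
  set d := (y : Matrix (Fin 2) (Fin 2) F) 1 1 with hd
  refine ⟨⟨gl2 1 (a / c) 0 1 (by norm_num), by rw [mem_borelGL]; rfl⟩,
    ⟨gl2 c d 0 ((a * d - b * c) / c) (by
      rw [mul_zero, sub_zero, mul_div_cancel₀ _ hy]; exact hdet),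
      by rw [mem_borelGL]; rfl⟩, ?_⟩
  apply gl2_ext
  · simp only [gl2_mul_apply, weylGL, gl2_00, gl2_01, gl2_10, gl2_11, ← ha]
    field_simp
    ring
  · simp only [gl2_mul_apply, weylGL, gl2_00, gl2_01, gl2_10, gl2_11, ← hb]
    field_simp
    ring
  · simp only [gl2_mul_apply, weylGL, gl2_00, gl2_01, gl2_10, gl2_11, ← hc]
    ring
  · simp only [gl2_mul_apply, weylGL, gl2_00, gl2_01, gl2_10, gl2_11, ← hd]
    ring

/-! ### the principal series linear characters of `B` -/

/-- the linear character `b ↦ α(b₀₀) β(b₁₁)` of `B`. -/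
noncomputable def psFunGL (α β : MulChar F ℂ) : borelGL F → ℂ :=
  fun b => α (((b : GL (Fin 2) F) : Matrix (Fin 2) (Fin 2) F) 0 0) *
    β (((b : GL (Fin 2) F) : Matrix (Fin 2) (Fin 2) F) 1 1)

theorem psFunGL_mul (α β : MulChar F ℂ) (a b : borelGL F) :
    psFunGL α β (a * b) = psFunGL α β a * psFunGL α β b := by
  unfold psFunGL
  rw [Subgroup.coe_mul, gl2_mul_apply, gl2_mul_apply, (mem_borelGL b.1).mp b.2,
    (mem_borelGL a.1).mp a.2, mul_zero, add_zero, zero_mul, zero_add, map_mul, map_mul]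
  ring

theorem gl2_one_00 : ((1 : GL (Fin 2) F) : Matrix (Fin 2) (Fin 2) F) 0 0 = 1 := by simp
theorem gl2_one_01 : ((1 : GL (Fin 2) F) : Matrix (Fin 2) (Fin 2) F) 0 1 = 0 := by simp
theorem gl2_one_10 : ((1 : GL (Fin 2) F) : Matrix (Fin 2) (Fin 2) F) 1 0 = 0 := by simp
theorem gl2_one_11 : ((1 : GL (Fin 2) F) : Matrix (Fin 2) (Fin 2) F) 1 1 = 1 := by simp

theorem psFunGL_one (α β : MulChar F ℂ) : psFunGL α β (1 : borelGL F) = 1 := by
  unfold psFunGL
  rw [Subgroup.coe_one, gl2_one_00, gl2_one_11, map_one, map_one, one_mul]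

theorem psFunGL_isClassFunction (α β : MulChar F ℂ) :
    IsClassFunction (borelGL F) (psFunGL α β) :=
  isClassFunction_of_mul _ (psFunGL_mul α β) (psFunGL_one α β)

theorem isCharacter_psFunGL (α β : MulChar F ℂ) : IsCharacter (borelGL F) (psFunGL α β) :=
  isCharacter_of_mul _ (psFunGL_mul α β) (psFunGL_one α β)

theorem isCharacter_ps_GL [Fintype F] [DecidableEq F] (α β : MulChar F ℂ) :
    IsCharacter (GL (Fin 2) F) (indFun (borelGL F) (psFunGL α β)) :=
  Cfsg.Agent.Lib.Helper3.isCharacter_indFun (borelGL F) (isCharacter_psFunGL α β)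

theorem weylGL_inv : (weylGL F)⁻¹ = gl2 0 1 (-1) 0 (by norm_num) := by
  rw [inv_eq_iff_mul_eq_one]
  apply gl2_ext
  · simp only [gl2_mul_apply, weylGL, gl2_00, gl2_01, gl2_10, gl2_11, gl2_one_00]; ring
  · simp only [gl2_mul_apply, weylGL, gl2_00, gl2_01, gl2_10, gl2_11, gl2_one_01]; ring
  · simp only [gl2_mul_apply, weylGL, gl2_00, gl2_01, gl2_10, gl2_11, gl2_one_10]; ring
  · simp only [gl2_mul_apply, weylGL, gl2_00, gl2_01, gl2_10, gl2_11, gl2_one_11]; ring

theorem weylGL_conj_10 (b : GL (Fin 2) F) :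
    (((weylGL F)⁻¹ * b * weylGL F : GL (Fin 2) F) : Matrix (Fin 2) (Fin 2) F) 1 0 =
      - (b : Matrix (Fin 2) (Fin 2) F) 0 1 := by
  rw [weylGL_inv]
  simp only [gl2_mul_apply, weylGL, gl2_00, gl2_01, gl2_10, gl2_11]
  ring

theorem weylGL_conj_00 (b : GL (Fin 2) F) :
    (((weylGL F)⁻¹ * b * weylGL F : GL (Fin 2) F) : Matrix (Fin 2) (Fin 2) F) 0 0 =
      (b : Matrix (Fin 2) (Fin 2) F) 1 1 := by
  rw [weylGL_inv]
  simp only [gl2_mul_apply, weylGL, gl2_00, gl2_01, gl2_10, gl2_11]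
  ring

theorem weylGL_conj_11 (b : GL (Fin 2) F) :
    (((weylGL F)⁻¹ * b * weylGL F : GL (Fin 2) F) : Matrix (Fin 2) (Fin 2) F) 1 1 =
      (b : Matrix (Fin 2) (Fin 2) F) 0 0 := by
  rw [weylGL_inv]
  simp only [gl2_mul_apply, weylGL, gl2_00, gl2_01, gl2_10, gl2_11]
  ring

theorem mackeyPhi_psFunGL [Fintype F] [DecidableEq F] (α β α' β' : MulChar F ℂ) :
    mackeyPhi (borelGL F) (psFunGL α β) (psFunGL α' β') (weylGL F) =
      (∑ t : Fˣ, (α * β'⁻¹) (t : F)) * ∑ u : Fˣ, (β * α'⁻¹) (u : F) := by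
  unfold mackeyPhi
  rw [← (borelGLEquiv (F := F)).symm.sum_comp, Fintype.sum_prod_type, Finset.sum_mul_sum]
  apply Finset.sum_congr rfl
  intro t _
  rw [Fintype.sum_prod_type]
  apply Finset.sum_congr rfl
  intro u _
  rw [Finset.sum_eq_single (0 : F)]
  · have hmem : (weylGL F)⁻¹ * ((borelGLEquiv.symm (t, u, (0 : F)) : borelGL F) :
        GL (Fin 2) F) * weylGL F ∈ borelGL F := by
      rw [mem_borelGL, weylGL_conj_10]
      simp [borelGLEquiv, borelGLMk]
    rw [extendByZero_of_mem _ _ hmem]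
    unfold psFunGL
    simp only [weylGL_conj_00, weylGL_conj_11]
    simp only [borelGLEquiv, borelGLMk, Equiv.coe_fn_symm_mk, gl2_00, gl2_11]
    rw [map_mul, conj_mulChar, conj_mulChar, MulChar.mul_apply, MulChar.mul_apply]
    ring
  · intro x _ hx
    have hmem : (weylGL F)⁻¹ * ((borelGLEquiv.symm (t, u, x) : borelGL F) :
        GL (Fin 2) F) * weylGL F ∉ borelGL F := by
      rw [mem_borelGL, weylGL_conj_10]
      simpa [borelGLEquiv, borelGLMk] using hx
    rw [extendByZero_of_not_mem _ _ hmem, map_zero, mul_zero]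
  · intro h
    exact absurd (Finset.mem_univ _) h

theorem classInner_psFunGL [Fintype F] [DecidableEq F] (α β α' β' : MulChar F ℂ) :
    classInner (psFunGL α β) (psFunGL α' β') =
      (((Fintype.card F : ℂ) - 1) ^ 2)⁻¹ *
        ((∑ t : Fˣ, (α * α'⁻¹) (t : F)) * ∑ u : Fˣ, (β * β'⁻¹) (u : F)) := by
  rw [classInner_def, ← (borelGLEquiv (F := F)).symm.sum_comp, Fintype.sum_prod_type,
    Finset.sum_mul_sum]
  have h1 : ∀ t u : Fˣ, ∑ x : F, psFunGL α β (borelGLEquiv.symm (t, u, x)) *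
      conj (psFunGL α' β' (borelGLEquiv.symm (t, u, x))) =
        (Fintype.card F : ℂ) * ((α * α'⁻¹) (t : F) * (β * β'⁻¹) (u : F)) := by
    intro t u
    have : ∀ x : F, psFunGL α β (borelGLEquiv.symm (t, u, x)) *
      conj (psFunGL α' β' (borelGLEquiv.symm (t, u, x))) =
        (α * α'⁻¹) (t : F) * (β * β'⁻¹) (u : F) := by
      intro x
      unfold psFunGL
      simp only [borelGLEquiv, borelGLMk, Equiv.coe_fn_symm_mk, gl2_00, gl2_11]
      rw [map_mul, conj_mulChar, conj_mulChar, MulChar.mul_apply, MulChar.mul_apply]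
      ring
    rw [Finset.sum_congr rfl (fun x _ => this x), Finset.sum_const, Finset.card_univ, nsmul_eq_mul]
  have h2 : ∀ t : Fˣ, ∑ p : Fˣ × F, psFunGL α β (borelGLEquiv.symm (t, p)) *
      conj (psFunGL α' β' (borelGLEquiv.symm (t, p))) =
        ∑ u : Fˣ, (Fintype.card F : ℂ) * ((α * α'⁻¹) (t : F) * (β * β'⁻¹) (u : F)) := by
    intro t
    rw [Fintype.sum_prod_type]
    exact Finset.sum_congr rfl (fun u _ => h1 t u)
  rw [Finset.sum_congr rfl (fun t _ => h2 t)]
  simp only [← Finset.mul_sum]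
  rw [card_borelGL, Nat.cast_mul, Nat.cast_pow, Nat.cast_sub Fintype.card_pos, Nat.cast_one]
  have hq := card_field_ne_zero_complex (F := F)
  have hq1 := card_field_sub_one_ne_zero_complex (F := F)
  field_simp
  apply Finset.sum_congr rfl
  intro x _
  ring

/-- The Mackey inner product formula for the principal series of `GL₂(F)`. -/
theorem classInner_ps_GL [Fintype F] [DecidableEq F] (α β α' β' : MulChar F ℂ) :
    classInner (indFun (borelGL F) (psFunGL α β)) (indFun (borelGL F) (psFunGL α' β')) =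
      (if α = α' ∧ β = β' then 1 else 0) + (if α = β' ∧ β = α' then 1 else 0) := by
  classical
  rw [mackey_two_cosets (borelGL F) (psFunGL α β) (psFunGL α' β') (psFunGL_isClassFunction α β)
    (psFunGL_isClassFunction α' β') (weylGL F) bruhat_GL, classInner_psFunGL, mackeyPhi_psFunGL,
    sum_units_mulChar, sum_units_mulChar, sum_units_mulChar, sum_units_mulChar, card_borelGL,
    card_GL2]
  have hq := card_field_ne_zero_complex (F := F)
  have hq1 := card_field_sub_one_ne_zero_complex (F := F)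
  simp only [mul_inv_eq_one]
  have hpos : 1 ≤ Fintype.card F ^ 2 := Nat.one_le_pow _ _ Fintype.card_pos
  have hle : Fintype.card F ≤ Fintype.card F ^ 2 := by
    rw [pow_two]; exact Nat.le_mul_of_pos_left _ Fintype.card_pos
  simp only [Nat.cast_mul, Nat.cast_pow, Nat.cast_sub hpos, Nat.cast_sub hle,
    Nat.cast_sub (Fintype.card_pos (α := F)), Nat.cast_one]
  congr 1
  · by_cases h1 : α = α' <;> by_cases h2 : β = β' <;> simp [h1, h2]
    field_simp
  · by_cases h1 : α = β' <;> by_cases h2 : β = α' <;> simp [h1, h2]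
    field_simp
    ring

theorem isIrr_ps_GL [Fintype F] [DecidableEq F] (α β : MulChar F ℂ) (h : α ≠ β) :
    IsIrrCharacter (GL (Fin 2) F) (indFun (borelGL F) (psFunGL α β)) := by
  classical
  have hform := classInner_ps_GL α β α β
  rw [if_pos ⟨rfl, rfl⟩, if_neg (fun h2 => h h2.1), add_zero] at hform
  exact Cfsg.Agent.Lib.Helper3.isIrrCharacter_of_classInner_self_eq_one (isCharacter_ps_GL α β) hform

theorem ps_GL_swap [Fintype F] [DecidableEq F] (α β : MulChar F ℂ) :
    indFun (borelGL F) (psFunGL α β) = indFun (borelGL F) (psFunGL β α) := by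
  classical
  by_cases h : α = β
  · rw [h]
  · have h1 := isIrr_ps_GL α β h
    have h2 := isIrr_ps_GL β α (fun h' => h h'.symm)
    have h3 := Cfsg.Agent.Lib.Helper3.classInner_irr h1 h2
    rw [classInner_ps_GL, if_neg (fun h2 => h h2.1), if_pos ⟨rfl, rfl⟩, zero_add] at h3
    by_contra hne
    rw [if_neg hne] at h3
    exact one_ne_zero h3

theorem ps_GL_eq_iff [Fintype F] [DecidableEq F] (α β α' β' : MulChar F ℂ) :
    indFun (borelGL F) (psFunGL α β) = indFun (borelGL F) (psFunGL α' β') ↔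
      (α = α' ∧ β = β') ∨ (α = β' ∧ β = α') := by
  classical
  constructor
  · intro h
    have h1 := classInner_ps_GL α β α' β'
    have h0 := classInner_ps_GL α β α β
    rw [← h, h0] at h1
    by_contra hcon
    push Not at hcon
    rw [if_pos ⟨rfl, rfl⟩, if_neg (fun h2 : α = α' ∧ β = β' => hcon.1 h2.1 h2.2),
      if_neg (fun h2 : α = β' ∧ β = α' => hcon.2 h2.1 h2.2), add_zero] at h1
    split_ifs at h1 <;> norm_num at h1
  · rintro (⟨rfl, rfl⟩ | ⟨rfl, rfl⟩)
    · rfl
    · exact ps_GL_swap α β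

end Cfsg.Agent.Lib.Helper38
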