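import Mathlib
import Cfsg.Agent.Lib.Helper38.GL2

set_option autoImplicit false
set_option linter.unusedSimpArgs false

/-!
Conjugacy classes of `GL₂(F)`: a non-scalar element is conjugate to the companion matrix of its
characteristic polynomial; the class number of `GL₂(F_q)` is `q² - 1`.
-/

namespace Cfsg.Agent.Lib.Helper38

open Matrix

variable {F : Type*} [Field F]

/-- `g` is a scalar matrix. -/
def IsScalarGL (g : GL (Fin 2) F) : Prop :=
  (g : Matrix (Fin 2) (Fin 2) F) 0 1 = 0 ∧ (g : Matrix (Fin 2) (Fin 2) F) 1 0 = 0 ∧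
    (g : Matrix (Fin 2) (Fin 2) F) 0 0 = (g : Matrix (Fin 2) (Fin 2) F) 1 1

/-- trace of a `GL₂` element. -/
def trGL (g : GL (Fin 2) F) : F :=
  (g : Matrix (Fin 2) (Fin 2) F) 0 0 + (g : Matrix (Fin 2) (Fin 2) F) 1 1

/-- determinant of a `GL₂` element, in entries. -/
def detGL (g : GL (Fin 2) F) : F :=
  (g : Matrix (Fin 2) (Fin 2) F) 0 0 * (g : Matrix (Fin 2) (Fin 2) F) 1 1 -
    (g : Matrix (Fin 2) (Fin 2) F) 0 1 * (g : Matrix (Fin 2) (Fin 2) F) 1 0

theorem detGL_ne_zero (g : GL (Fin 2) F) : detGL g ≠ 0 := gl2_det_ne_zero g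

theorem trGL_mul_comm (g h : GL (Fin 2) F) : trGL (g * h) = trGL (h * g) := by
  unfold trGL
  simp only [gl2_mul_apply]
  ring

theorem detGL_mul (g h : GL (Fin 2) F) : detGL (g * h) = detGL g * detGL h := by
  unfold detGL
  simp only [gl2_mul_apply]
  ring

theorem trGL_conj (g h : GL (Fin 2) F) : trGL (h * g * h⁻¹) = trGL g := by
  rw [trGL_mul_comm, ← mul_assoc, inv_mul_cancel, one_mul]

theorem detGL_conj (g h : GL (Fin 2) F) : detGL (h * g * h⁻¹) = detGL g := by
  have h1 : detGL (h * g * h⁻¹) * detGL h = detGL g * detGL h := by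
    rw [← detGL_mul, inv_mul_cancel_right, detGL_mul, mul_comm]
  exact mul_right_cancel₀ (detGL_ne_zero h) h1

/-- the scalar matrix `a`. -/
noncomputable def scalarGL (a : Fˣ) : GL (Fin 2) F :=
  gl2 (a : F) 0 0 (a : F) (by simp)

theorem isScalarGL_scalarGL (a : Fˣ) : IsScalarGL (scalarGL a) := ⟨rfl, rfl, rfl⟩

theorem IsScalarGL.eq_scalarGL {g : GL (Fin 2) F} (h : IsScalarGL g) :
    g = scalarGL (Units.mk0 _ (by
      have := gl2_det_ne_zero g
      rw [h.1, zero_mul, sub_zero] at this
      exact left_ne_zero_of_mul this)) := by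
  apply gl2_ext
  · rfl
  · exact h.1
  · exact h.2.1
  · exact h.2.2.symm

theorem scalarGL_comm (a : Fˣ) (h : GL (Fin 2) F) : h * scalarGL a = scalarGL a * h := by
  apply gl2_ext <;> simp only [gl2_mul_apply, scalarGL, gl2_00, gl2_01, gl2_10, gl2_11] <;> ring

theorem IsScalarGL.conj {g : GL (Fin 2) F} (hg : IsScalarGL g) (h : GL (Fin 2) F) :
    h * g * h⁻¹ = g := by
  rw [hg.eq_scalarGL, scalarGL_comm, mul_inv_cancel_right]

theorem isScalarGL_conj_iff (g h : GL (Fin 2) F) : IsScalarGL (h * g * h⁻¹) ↔ IsScalarGL g := by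
  constructor
  · intro hs
    have := hs.conj h⁻¹
    rw [inv_inv] at this
    have e : g = h * g * h⁻¹ := by
      rw [← this]; group
    rw [e]; exact hs
  · intro hs
    rw [hs.conj]; exact hs

/-- the companion matrix with trace `t` and determinant `d`. -/
noncomputable def companionGL (t : F) (d : Fˣ) : GL (Fin 2) F :=
  gl2 0 (-(d : F)) 1 t (by simp)

theorem not_isScalarGL_companionGL (t : F) (d : Fˣ) : ¬ IsScalarGL (companionGL t d) := by
  intro h
  have := h.2.1
  simp [companionGL] at this

theorem trGL_companionGL (t : F) (d : Fˣ) : trGL (companionGL t d) = t := by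
  simp [trGL, companionGL]

theorem detGL_companionGL (t : F) (d : Fˣ) : detGL (companionGL t d) = d := by
  simp [detGL, companionGL]

/-- a non-scalar element is conjugate to its companion matrix. -/
theorem isConj_companionGL (g : GL (Fin 2) F) (hg : ¬ IsScalarGL g) :
    IsConj g (companionGL (trGL g) (Units.mk0 (detGL g) (detGL_ne_zero g))) := by
  classical
  -- find a cyclic vector
  have hv : ∃ v₀ v₁ : F,
      v₀ * ((g : Matrix (Fin 2) (Fin 2) F) 1 0 * v₀ + (g : Matrix (Fin 2) (Fin 2) F) 1 1 * v₁) -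
        ((g : Matrix (Fin 2) (Fin 2) F) 0 0 * v₀ + (g : Matrix (Fin 2) (Fin 2) F) 0 1 * v₁) * v₁
          ≠ 0 := by
    by_cases h10 : (g : Matrix (Fin 2) (Fin 2) F) 1 0 = 0
    · by_cases h01 : (g : Matrix (Fin 2) (Fin 2) F) 0 1 = 0
      · have hne : (g : Matrix (Fin 2) (Fin 2) F) 0 0 ≠ (g : Matrix (Fin 2) (Fin 2) F) 1 1 :=
          fun h => hg ⟨h01, h10, h⟩
        refine ⟨1, 1, ?_⟩
        rw [h10, h01]
        intro h
        apply hne
        linear_combination -h
      · refine ⟨0, 1, ?_⟩
        intro h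
        apply h01
        linear_combination -h
    · refine ⟨1, 0, ?_⟩
      intro h
      apply h10
      linear_combination h
  obtain ⟨v₀, v₁, hv⟩ := hv
  set P : GL (Fin 2) F := gl2 v₀
    ((g : Matrix (Fin 2) (Fin 2) F) 0 0 * v₀ + (g : Matrix (Fin 2) (Fin 2) F) 0 1 * v₁) v₁
    ((g : Matrix (Fin 2) (Fin 2) F) 1 0 * v₀ + (g : Matrix (Fin 2) (Fin 2) F) 1 1 * v₁) hv with hP
  have key : g * P = P * companionGL (trGL g) (Units.mk0 (detGL g) (detGL_ne_zero g)) := by
    apply gl2_ext <;>
    simp only [gl2_mul_apply, hP, companionGL, gl2_00, gl2_01, gl2_10, gl2_11, trGL, detGL,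
      Units.val_mk0] <;> ring
  rw [isConj_iff]
  refine ⟨P⁻¹, ?_⟩
  rw [inv_inv, mul_assoc, key, ← mul_assoc, inv_mul_cancel, one_mul]

theorem IsScalarGL.ne_zero {g : GL (Fin 2) F} (h : IsScalarGL g) :
    (g : Matrix (Fin 2) (Fin 2) F) 0 0 ≠ 0 := by
  have := gl2_det_ne_zero g
  rw [h.1, zero_mul, sub_zero] at this
  exact left_ne_zero_of_mul this

open Classical in
/-- the conjugacy invariant of an element of `GL₂`. -/
noncomputable def clsInv (g : GL (Fin 2) F) : Fˣ ⊕ (F × Fˣ) :=
  if h : IsScalarGL g then Sum.inl (Units.mk0 _ h.ne_zero)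
  else Sum.inr (trGL g, Units.mk0 (detGL g) (detGL_ne_zero g))

theorem clsInv_of_scalar {g : GL (Fin 2) F} (h : IsScalarGL g) :
    clsInv g = Sum.inl (Units.mk0 _ h.ne_zero) := by
  unfold clsInv
  rw [dif_pos h]

theorem clsInv_of_not_scalar {g : GL (Fin 2) F} (h : ¬ IsScalarGL g) :
    clsInv g = Sum.inr (trGL g, Units.mk0 (detGL g) (detGL_ne_zero g)) := by
  unfold clsInv
  rw [dif_neg h]

theorem clsInv_eq_iff (g g' : GL (Fin 2) F) : clsInv g = clsInv g' ↔ IsConj g g' := by
  constructor
  · intro h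
    by_cases hg : IsScalarGL g
    · by_cases hg' : IsScalarGL g'
      · rw [clsInv_of_scalar hg, clsInv_of_scalar hg'] at h
        have h1 := congrArg Units.val (Sum.inl_injective h)
        simp only [Units.val_mk0] at h1
        have : g = g' := by
          apply gl2_ext
          · exact h1
          · rw [hg.1, hg'.1]
          · rw [hg.2.1, hg'.2.1]
          · rw [← hg.2.2, ← hg'.2.2, h1]
        rw [this]
      · rw [clsInv_of_scalar hg, clsInv_of_not_scalar hg'] at h
        exact absurd h (by simp)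
    · by_cases hg' : IsScalarGL g'
      · rw [clsInv_of_not_scalar hg, clsInv_of_scalar hg'] at h
        exact absurd h (by simp)
      · have h1 := isConj_companionGL g hg
        have h2 := isConj_companionGL g' hg'
        rw [clsInv_of_not_scalar hg, clsInv_of_not_scalar hg'] at h
        have h3 := Sum.inr_injective h
        have h4 : trGL g = trGL g' := congrArg Prod.fst h3
        have h5 : detGL g = detGL g' := by
          have := congrArg (fun p : F × Fˣ => (p.2 : F)) h3
          simpa using this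
        have h6 : companionGL (trGL g) (Units.mk0 (detGL g) (detGL_ne_zero g)) =
            companionGL (trGL g') (Units.mk0 (detGL g') (detGL_ne_zero g')) := by
          congr 1
          exact Units.ext h5
        rw [h6] at h1
        exact h1.trans h2.symm
  · intro h
    rw [isConj_iff] at h
    obtain ⟨c, rfl⟩ := h
    by_cases hg : IsScalarGL g
    · rw [hg.conj]
    · have hg' : ¬ IsScalarGL (c * g * c⁻¹) := fun h => hg ((isScalarGL_conj_iff g c).mp h)
      rw [clsInv_of_not_scalar hg, clsInv_of_not_scalar hg']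
      congr 2
      · exact (trGL_conj g c).symm
      · apply Units.ext
        exact (detGL_conj g c).symm

theorem clsInv_surjective : Function.Surjective (clsInv (F := F)) := by
  rintro (a | ⟨t, d⟩)
  · refine ⟨scalarGL a, ?_⟩
    rw [clsInv_of_scalar (isScalarGL_scalarGL a)]
    congr 1
    apply Units.ext
    rfl
  · refine ⟨companionGL t d, ?_⟩
    rw [clsInv_of_not_scalar (not_isScalarGL_companionGL t d)]
    congr 2
    · exact trGL_companionGL t d
    · apply Units.ext
      exact detGL_companionGL t d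

/-- the conjugacy classes of `GL₂(F)` are parametrised by `Fˣ ⊕ F × Fˣ`. -/
noncomputable def conjClassesGL2Equiv : ConjClasses (GL (Fin 2) F) ≃ Fˣ ⊕ (F × Fˣ) :=
  Equiv.ofBijective
    (Quotient.lift clsInv (fun a b (h : IsConj a b) => (clsInv_eq_iff a b).mpr h))
    ⟨by
      intro x y
      induction x using Quotient.inductionOn with | _ a => ?_
      induction y using Quotient.inductionOn with | _ b => ?_
      intro h
      exact Quotient.sound ((clsInv_eq_iff a b).mp h),
     by
      intro z
      obtain ⟨g, hg⟩ := clsInv_surjective z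
      exact ⟨Quotient.mk _ g, hg⟩⟩

theorem card_conjClasses_GL2 [Fintype F] :
    Nat.card (ConjClasses (GL (Fin 2) F)) = Fintype.card F ^ 2 - 1 := by
  rw [Nat.card_congr (conjClassesGL2Equiv (F := F)), Nat.card_sum, Nat.card_prod, Nat.card_units,
    Nat.card_eq_fintype_card]
  have h : 1 ≤ Fintype.card F := Fintype.card_pos
  have h2 : 1 ≤ Fintype.card F ^ 2 := Nat.one_le_pow _ _ h
  zify [h, h2]
  ring

end Cfsg.Agent.Lib.Helper38
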