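import Cfsg.Agent.Lib.Helper38.GL2Steinberg
import Cfsg.Agent.Lib.Helper38.GL2Classes
import Cfsg.Agent.Lib.Helper3.Ortho
import Cfsg.Agent.Lib.Helper3.Degree
import Cfsg.Agent.Lib.Helper3.OddOrder

set_option autoImplicit false
set_option linter.unusedSimpArgs false
set_option linter.unusedSectionVars false

/-!
Cuspidal characters of `GL₂(F)` and the classification of the irreducible characters.
-/

namespace Cfsg.Agent.Lib.Helper38

open Matrix Cfsg Cfsg.Agent.Lib.Helper25
open scoped ComplexConjugate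

variable {F : Type*} [Field F] [Fintype F] [DecidableEq F]

noncomputable instance instFintypeMulChar : Fintype (MulChar F ℂ) := Fintype.ofFinite _

theorem card_mulChar : Fintype.card (MulChar F ℂ) = Fintype.card F - 1 := by
  rw [← Nat.card_eq_fintype_card, MulChar.card_eq_card_units_of_hasEnoughRootsOfUnity F ℂ,
    Nat.card_units, Nat.card_eq_fintype_card]

/-- dual orthogonality for multiplicative characters. -/
theorem sum_mulChar_apply (t : Fˣ) :
    ∑ α : MulChar F ℂ, α (t : F) = if t = 1 then ((Fintype.card F : ℂ) - 1) else 0 := by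
  split_ifs with h
  · subst h
    simp only [Units.val_one, map_one, Finset.sum_const, Finset.card_univ, nsmul_eq_mul, mul_one]
    rw [card_mulChar, Nat.cast_sub Fintype.card_pos, Nat.cast_one]
  · have ht : (t : F) ≠ 1 := fun h' => h (Units.ext h')
    obtain ⟨χ, hχ⟩ := MulChar.exists_apply_ne_one_of_hasEnoughRootsOfUnity F ℂ ht
    refine eq_zero_of_mul_eq_self_left hχ ?_
    simp only [Finset.mul_sum, ← MulChar.mul_apply]
    exact Fintype.sum_bijective _ (Group.mulLeft_bijective χ) _ _ fun χ' ↦ rfl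

/-- A cuspidal character: an irreducible character orthogonal to all principal series. -/
def IsCuspidalGL (χ : GL (Fin 2) F → ℂ) : Prop :=
  IsIrrCharacter (GL (Fin 2) F) χ ∧
    ∀ α β : MulChar F ℂ, classInner (indFun (borelGL F) (psFunGL α β)) χ = 0

/-- the Fourier coefficient computation on the Borel subgroup. -/
theorem classInner_psFunGL_restrict (α β : MulChar F ℂ) (χ : GL (Fin 2) F → ℂ) :
    classInner (psFunGL α β) (fun b : borelGL F => χ b) =
      ((Fintype.card F : ℂ) * ((Fintype.card F : ℂ) - 1) ^ 2)⁻¹ *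
        ∑ t : Fˣ, ∑ u : Fˣ, α (t : F) * β (u : F) *
          ∑ x : F, conj (χ (borelGLMk t u x : borelGL F)) := by
  rw [classInner_def, ← (borelGLEquiv (F := F)).symm.sum_comp, Fintype.sum_prod_type, card_borelGL,
    Nat.cast_mul, Nat.cast_pow, Nat.cast_sub Fintype.card_pos, Nat.cast_one]
  congr 1
  apply Finset.sum_congr rfl
  intro t _
  rw [Fintype.sum_prod_type]
  apply Finset.sum_congr rfl
  intro u _
  rw [Finset.mul_sum]
  apply Finset.sum_congr rfl
  intro x _
  rfl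

theorem cusp_sum {χ : GL (Fin 2) F → ℂ} (hχ : IsCuspidalGL χ) (a b : Fˣ) :
    ∑ x : F, χ (borelGLMk a b x : borelGL F) = 0 := by
  have hcf : IsClassFunction (GL (Fin 2) F) χ :=
    Cfsg.Agent.Lib.Helper3.IsCharacter.isClassFunction
      (Cfsg.Agent.Lib.Helper3.IsIrrCharacter.isCharacter hχ.1)
  have h0 : ∀ α β : MulChar F ℂ, ∑ t : Fˣ, ∑ u : Fˣ, α (t : F) * β (u : F) *
      ∑ x : F, conj (χ (borelGLMk t u x : borelGL F)) = 0 := by
    intro α β
    have h1 := hχ.2 α β
    rw [frobenius_reciprocity _ _ _ hcf, classInner_psFunGL_restrict] at h1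
    have hq := card_field_ne_zero_complex (F := F)
    have hq1 := card_field_sub_one_ne_zero_complex (F := F)
    rcases mul_eq_zero.mp h1 with h2 | h2
    · exfalso
      rw [inv_eq_zero] at h2
      rcases mul_eq_zero.mp h2 with h3 | h3
      · exact hq h3
      · exact hq1 (pow_eq_zero_iff (two_ne_zero) |>.mp h3)
    · exact h2
  -- Fourier inversion
  obtain ⟨S, hS⟩ : ∃ S : Fˣ × Fˣ → ℂ,
      S = fun z => ∑ x : F, conj (χ (borelGLMk z.1 z.2 x : borelGL F)) := ⟨_, rfl⟩
  have h0' : ∀ p : MulChar F ℂ × MulChar F ℂ,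
      ∑ z : Fˣ × Fˣ, p.1 (z.1 : F) * p.2 (z.2 : F) * S z = 0 := by
    intro p
    rw [Fintype.sum_prod_type, hS]
    exact h0 p.1 p.2
  have h1 : ∑ p : MulChar F ℂ × MulChar F ℂ, (p.1 ((a⁻¹ : Fˣ) : F) * p.2 ((b⁻¹ : Fˣ) : F)) *
      ∑ z : Fˣ × Fˣ, p.1 (z.1 : F) * p.2 (z.2 : F) * S z = 0 := by
    apply Finset.sum_eq_zero
    intro p _
    rw [h0', mul_zero]
  have h2 : ∑ p : MulChar F ℂ × MulChar F ℂ, (p.1 ((a⁻¹ : Fˣ) : F) * p.2 ((b⁻¹ : Fˣ) : F)) *
      ∑ z : Fˣ × Fˣ, p.1 (z.1 : F) * p.2 (z.2 : F) * S z =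
      ∑ z : Fˣ × Fˣ, ((∑ α : MulChar F ℂ, α ((a⁻¹ * z.1 : Fˣ) : F)) *
        (∑ β : MulChar F ℂ, β ((b⁻¹ * z.2 : Fˣ) : F))) * S z := by
    have e1 : ∀ p : MulChar F ℂ × MulChar F ℂ, (p.1 ((a⁻¹ : Fˣ) : F) * p.2 ((b⁻¹ : Fˣ) : F)) *
        ∑ z : Fˣ × Fˣ, p.1 (z.1 : F) * p.2 (z.2 : F) * S z =
        ∑ z : Fˣ × Fˣ, (p.1 ((a⁻¹ * z.1 : Fˣ) : F) * p.2 ((b⁻¹ * z.2 : Fˣ) : F)) * S z := by
      intro p
      rw [Finset.mul_sum]
      apply Finset.sum_congr rfl
      intro z _
      rw [Units.val_mul, Units.val_mul, map_mul, map_mul]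
      ring
    rw [Finset.sum_congr rfl (fun p _ => e1 p), Finset.sum_comm]
    apply Finset.sum_congr rfl
    intro z _
    rw [← Finset.sum_mul, Finset.sum_mul_sum, ← Fintype.sum_prod_type']
  rw [h2] at h1
  simp only [sum_mulChar_apply] at h1
  rw [Finset.sum_eq_single (a, b)] at h1
  · rw [if_pos (inv_mul_cancel a), if_pos (inv_mul_cancel b)] at h1
    have hq1 := card_field_sub_one_ne_zero_complex (F := F)
    have h3 : S (a, b) = 0 := by
      rcases mul_eq_zero.mp h1 with h4 | h4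
      · exfalso
        rcases mul_eq_zero.mp h4 with h5 | h5 <;> exact hq1 h5
      · exact h4
    have h4 := congrArg conj h3
    rw [hS, map_sum, map_zero] at h4
    simpa using h4
  · intro z _ hz
    by_cases h5 : z.1 = a
    · have h6 : ¬ (b⁻¹ * z.2 = 1) := by
        intro h
        rw [inv_mul_eq_one] at h
        exact hz (Prod.ext h5 h.symm)
      rw [if_neg h6, mul_zero, zero_mul]
    · have h6 : ¬ (a⁻¹ * z.1 = 1) := by
        intro h
        rw [inv_mul_eq_one] at h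
        exact h5 h.symm
      rw [if_neg h6, zero_mul, zero_mul]
  · intro h; exact absurd (Finset.mem_univ _) h

theorem isConj_of_tr_det {g g' : GL (Fin 2) F} (hg : ¬ IsScalarGL g) (hg' : ¬ IsScalarGL g')
    (ht : trGL g = trGL g') (hd : detGL g = detGL g') : IsConj g g' := by
  rw [← clsInv_eq_iff, clsInv_of_not_scalar hg, clsInv_of_not_scalar hg']
  congr 2
  apply Units.ext
  exact hd

theorem IsCuspidalGL.isClassFunction {χ : GL (Fin 2) F → ℂ} (hχ : IsCuspidalGL χ) :
    IsClassFunction (GL (Fin 2) F) χ :=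
  Cfsg.Agent.Lib.Helper3.IsCharacter.isClassFunction
    (Cfsg.Agent.Lib.Helper3.IsIrrCharacter.isCharacter hχ.1)

/-- a cuspidal character vanishes on the split regular semisimple elements. -/
theorem cusp_diag {χ : GL (Fin 2) F → ℂ} (hχ : IsCuspidalGL χ) (g : GL (Fin 2) F)
    (h01 : (g : Matrix (Fin 2) (Fin 2) F) 0 1 = 0) (h10 : (g : Matrix (Fin 2) (Fin 2) F) 1 0 = 0)
    (hne : (g : Matrix (Fin 2) (Fin 2) F) 0 0 ≠ (g : Matrix (Fin 2) (Fin 2) F) 1 1) :
    χ g = 0 := by
  have hdet := gl2_det_ne_zero g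
  rw [h01, zero_mul, sub_zero] at hdet
  have ha : (g : Matrix (Fin 2) (Fin 2) F) 0 0 ≠ 0 := left_ne_zero_of_mul hdet
  have hb : (g : Matrix (Fin 2) (Fin 2) F) 1 1 ≠ 0 := right_ne_zero_of_mul hdet
  have hsum := cusp_sum hχ (Units.mk0 _ ha) (Units.mk0 _ hb)
  have hg : ¬ IsScalarGL g := fun h => hne h.2.2
  have hterm : ∀ x : F, χ (borelGLMk (Units.mk0 _ ha) (Units.mk0 _ hb) x : borelGL F) = χ g := by
    intro x
    apply Cfsg.Agent.Lib.Helper3.IsClassFunction.eq_of_isConj hχ.isClassFunction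
    apply isConj_of_tr_det
    · intro h
      exact hne h.2.2
    · exact hg
    · simp [trGL, borelGLMk]
    · simp [detGL, borelGLMk, h01]
  rw [Finset.sum_congr rfl (fun x _ => hterm x), Finset.sum_const, Finset.card_univ,
    nsmul_eq_mul] at hsum
  rcases mul_eq_zero.mp hsum with h | h
  · exact absurd h (card_field_ne_zero_complex (F := F))
  · exact h

/-- the relation between the degree of a cuspidal character and its value at a transvection. -/
theorem cusp_unipotent {χ : GL (Fin 2) F → ℂ} (hχ : IsCuspidalGL χ) (u : GL (Fin 2) F)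
    (h10 : (u : Matrix (Fin 2) (Fin 2) F) 1 0 = 0) (h00 : (u : Matrix (Fin 2) (Fin 2) F) 0 0 = 1)
    (h11 : (u : Matrix (Fin 2) (Fin 2) F) 1 1 = 1) (h01 : (u : Matrix (Fin 2) (Fin 2) F) 0 1 ≠ 0) :
    χ 1 + ((Fintype.card F : ℂ) - 1) * χ u = 0 := by
  have hsum := cusp_sum hχ 1 1
  have hu : ¬ IsScalarGL u := fun h => h01 h.1
  rw [← Finset.add_sum_erase Finset.univ _ (Finset.mem_univ (0 : F))] at hsum
  have h1 : ((borelGLMk (1 : Fˣ) (1 : Fˣ) (0 : F) : borelGL F) : GL (Fin 2) F) = 1 := by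
    apply gl2_ext
    · simp [borelGLMk]
    · simp [borelGLMk]
    · simp [borelGLMk]
    · simp [borelGLMk]
  have hterm : ∀ x ∈ Finset.univ.erase (0 : F),
      χ (borelGLMk (1 : Fˣ) (1 : Fˣ) x : borelGL F) = χ u := by
    intro x hx
    have hx0 : x ≠ 0 := Finset.ne_of_mem_erase hx
    apply Cfsg.Agent.Lib.Helper3.IsClassFunction.eq_of_isConj hχ.isClassFunction
    apply isConj_of_tr_det
    · intro h
      apply hx0
      have := h.1
      simpa [borelGLMk] using this
    · exact hu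
    · simp [trGL, borelGLMk, h00, h11]
    · simp [detGL, borelGLMk, h00, h11, h10]
  rw [h1, Finset.sum_congr rfl hterm, Finset.sum_const, Finset.card_erase_of_mem (Finset.mem_univ _),
    Finset.card_univ, nsmul_eq_mul, Nat.cast_sub Fintype.card_pos, Nat.cast_one] at hsum
  exact hsum

/-- the standard transvection. -/
noncomputable def unipGL (F : Type*) [Field F] : GL (Fin 2) F := gl2 1 1 0 1 (by simp)

theorem cusp_degree {χ : GL (Fin 2) F → ℂ} (hχ : IsCuspidalGL χ) :
    ∃ m : ℕ, 0 < m ∧ χ 1 = (m : ℂ) * ((Fintype.card F : ℂ) - 1) ∧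
      ∀ u : GL (Fin 2) F, (u : Matrix (Fin 2) (Fin 2) F) 1 0 = 0 →
        (u : Matrix (Fin 2) (Fin 2) F) 0 0 = 1 → (u : Matrix (Fin 2) (Fin 2) F) 1 1 = 1 →
        (u : Matrix (Fin 2) (Fin 2) F) 0 1 ≠ 0 → χ u = -(m : ℂ) := by
  obtain ⟨n, hn, -, hn0⟩ := Cfsg.Agent.Lib.Helper3.IsIrrCharacter.apply_one_dvd_card hχ.1
  have hq1 := card_field_sub_one_ne_zero_complex (F := F)
  have hq1' : Fintype.card F - 1 ≠ 0 := by
    have : 1 < Fintype.card F := Fintype.one_lt_card
    omega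
  have hcast : ((Fintype.card F - 1 : ℕ) : ℂ) = (Fintype.card F : ℂ) - 1 := by
    rw [Nat.cast_sub Fintype.card_pos, Nat.cast_one]
  have hu := cusp_unipotent hχ (unipGL F) rfl rfl rfl (by simp [unipGL])
  have hval : χ (unipGL F) = -((n : ℂ) / ((Fintype.card F - 1 : ℕ) : ℂ)) := by
    rw [hcast]
    rw [hn] at hu
    field_simp
    linear_combination hu
  have hint : IsIntegral ℤ ((n : ℂ) / ((Fintype.card F - 1 : ℕ) : ℂ)) := by
    have h1 := Cfsg.Agent.Lib.Helper3.IsCharacter.isIntegral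
      (Cfsg.Agent.Lib.Helper3.IsIrrCharacter.isCharacter hχ.1) (unipGL F)
    rw [hval] at h1
    have h2 := h1.neg
    rwa [neg_neg] at h2
  obtain ⟨m, hm⟩ := Cfsg.Agent.Lib.Helper3.nat_dvd_of_isIntegral_div hq1' hint
  have hm0 : 0 < m := by
    rcases Nat.eq_zero_or_pos m with h | h
    · rw [h, mul_zero] at hm
      exact absurd hm hn0
    · exact h
  refine ⟨m, hm0, ?_, ?_⟩
  · rw [hn, hm, Nat.cast_mul, hcast]
    ring
  · intro u h10 h00 h11 h01
    have hu' := cusp_unipotent hχ u h10 h00 h11 h01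
    rw [hn, hm, Nat.cast_mul, hcast] at hu'
    have : ((Fintype.card F : ℂ) - 1) * ((m : ℂ) + χ u) = 0 := by linear_combination hu'
    rcases mul_eq_zero.mp this with h | h
    · exact absurd h hq1
    · linear_combination h

end Cfsg.Agent.Lib.Helper38
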