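import Cfsg.Agent.Lib.Helper38.GL2Cusp

set_option autoImplicit false
set_option linter.unusedSimpArgs false
set_option linter.unusedSectionVars false

/-!
Classification of the irreducible characters of `GL₂(F)`.
-/

namespace Cfsg.Agent.Lib.Helper38

open Matrix Cfsg Cfsg.Agent.Lib.Helper25
open scoped ComplexConjugate

variable {F : Type*} [Field F] [Fintype F] [DecidableEq F]

theorem irr_GL2_cases (χ : GL (Fin 2) F → ℂ) (hχ : IsIrrCharacter (GL (Fin 2) F) χ) :
    (∃ γ : MulChar F ℂ, χ = detChar γ) ∨ (∃ γ : MulChar F ℂ, χ = steinbergGL γ) ∨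
      (∃ α β : MulChar F ℂ, α ≠ β ∧ χ = indFun (borelGL F) (psFunGL α β)) ∨ IsCuspidalGL χ := by
  classical
  by_cases h1 : ∃ γ : MulChar F ℂ, χ = detChar γ
  · exact Or.inl h1
  by_cases h2 : ∃ γ : MulChar F ℂ, χ = steinbergGL γ
  · exact Or.inr (Or.inl h2)
  by_cases h3 : ∃ α β : MulChar F ℂ, α ≠ β ∧ χ = indFun (borelGL F) (psFunGL α β)
  · exact Or.inr (Or.inr (Or.inl h3))
  refine Or.inr (Or.inr (Or.inr ⟨hχ, ?_⟩))
  intro α β
  by_cases hab : α = β
  · subst hab
    rw [ps_GL_diag_eq, classInner_add_left,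
      Cfsg.Agent.Lib.Helper3.classInner_irr (isIrr_detChar α) hχ,
      Cfsg.Agent.Lib.Helper3.classInner_irr (isIrr_steinbergGL α) hχ,
      if_neg (fun h => h1 ⟨α, h.symm⟩), if_neg (fun h => h2 ⟨α, h.symm⟩), add_zero]
  · rw [Cfsg.Agent.Lib.Helper3.classInner_irr (isIrr_ps_GL α β hab) hχ,
      if_neg (fun h => h3 ⟨α, β, hab, h.symm⟩)]

theorem IsCuspidalGL.ne_detChar {χ : GL (Fin 2) F → ℂ} (hχ : IsCuspidalGL χ) (γ : MulChar F ℂ) :
    χ ≠ detChar γ := by
  intro h
  have h1 := hχ.2 γ γ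
  rw [h, classInner_ps_detChar, if_pos ⟨rfl, rfl⟩] at h1
  exact one_ne_zero h1

theorem IsCuspidalGL.ne_steinbergGL {χ : GL (Fin 2) F → ℂ} (hχ : IsCuspidalGL χ)
    (γ : MulChar F ℂ) : χ ≠ steinbergGL γ := by
  intro h
  have h1 := hχ.2 γ γ
  rw [h, ps_GL_diag_eq, classInner_add_left,
    Cfsg.Agent.Lib.Helper3.classInner_irr (isIrr_detChar γ) (isIrr_steinbergGL γ),
    Cfsg.Agent.Lib.Helper3.classInner_irr (isIrr_steinbergGL γ) (isIrr_steinbergGL γ),
    if_pos rfl] at h1
  split_ifs at h1 <;> norm_num at h1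

theorem IsCuspidalGL.ne_ps {χ : GL (Fin 2) F → ℂ} (hχ : IsCuspidalGL χ)
    (α β : MulChar F ℂ) (hab : α ≠ β) : χ ≠ indFun (borelGL F) (psFunGL α β) := by
  intro h
  have h1 := hχ.2 α β
  rw [h, Cfsg.Agent.Lib.Helper3.classInner_irr (isIrr_ps_GL α β hab) (isIrr_ps_GL α β hab),
    if_pos rfl] at h1
  exact one_ne_zero h1

/-! ### the parametrisation of the non-cuspidal characters -/

/-- principal series indexed by unordered pairs. -/
noncomputable def psSym (z : Sym2 (MulChar F ℂ)) : GL (Fin 2) F → ℂ :=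
  Sym2.lift ⟨fun α β => indFun (borelGL F) (psFunGL α β), fun α β => ps_GL_swap α β⟩ z

theorem psSym_mk (α β : MulChar F ℂ) : psSym s(α, β) = indFun (borelGL F) (psFunGL α β) := rfl

theorem isIrr_psSym (z : Sym2 (MulChar F ℂ)) (hz : ¬ z.IsDiag) :
    IsIrrCharacter (GL (Fin 2) F) (psSym z) := by
  induction z using Sym2.ind with
  | _ α β =>
    rw [psSym_mk]
    exact isIrr_ps_GL α β (fun h => hz (Sym2.mk_isDiag_iff.mpr h))

theorem psSym_one (z : Sym2 (MulChar F ℂ)) : psSym z 1 = (Fintype.card F : ℂ) + 1 := by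
  induction z using Sym2.ind with
  | _ α β => rw [psSym_mk, ps_GL_one]

theorem psSym_injective (z z' : Sym2 (MulChar F ℂ)) (h : psSym z = psSym z') : z = z' := by
  induction z using Sym2.ind with
  | _ α β =>
    induction z' using Sym2.ind with
    | _ α' β' =>
      rw [psSym_mk, psSym_mk, ps_GL_eq_iff] at h
      rw [Sym2.eq_iff]
      exact h

/-- the parameters of the non-cuspidal irreducible characters. -/
abbrev NonCuspParam (F : Type*) [Field F] : Type _ :=
  MulChar F ℂ ⊕ (MulChar F ℂ ⊕ {z : Sym2 (MulChar F ℂ) // ¬ z.IsDiag})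

/-- the non-cuspidal irreducible character attached to a parameter. -/
noncomputable def nonCuspChar : NonCuspParam F → IrrCharacter (GL (Fin 2) F)
  | Sum.inl γ => ⟨detChar γ, isIrr_detChar γ⟩
  | Sum.inr (Sum.inl γ) => ⟨steinbergGL γ, isIrr_steinbergGL γ⟩
  | Sum.inr (Sum.inr z) => ⟨psSym z.1, isIrr_psSym z.1 z.2⟩

theorem card_field_two_le : 2 ≤ Fintype.card F := Fintype.one_lt_card

theorem card_complex_ne_one : (Fintype.card F : ℂ) ≠ 1 := by
  have := card_field_sub_one_ne_zero_complex (F := F)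
  intro h
  apply this
  rw [h, sub_self]

theorem nonCuspChar_injective : Function.Injective (nonCuspChar (F := F)) := by
  have hq := card_field_ne_zero_complex (F := F)
  have hq1 := card_complex_ne_one (F := F)
  rintro (γ | γ | z) (γ' | γ' | z') h
  · have := congrArg Subtype.val h
    simp only [nonCuspChar] at this
    rw [detChar_injective γ γ' this]
  · exfalso
    have := congrFun (congrArg Subtype.val h) 1
    simp only [nonCuspChar] at this
    rw [detChar_one, steinbergGL_one] at this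
    exact hq1 this.symm
  · exfalso
    have := congrFun (congrArg Subtype.val h) 1
    simp only [nonCuspChar] at this
    rw [detChar_one, psSym_one] at this
    apply hq
    linear_combination -this
  · exfalso
    have := congrFun (congrArg Subtype.val h) 1
    simp only [nonCuspChar] at this
    rw [detChar_one, steinbergGL_one] at this
    exact hq1 this
  · have := congrArg Subtype.val h
    simp only [nonCuspChar] at this
    rw [steinbergGL_injective γ γ' this]
  · exfalso
    have := congrFun (congrArg Subtype.val h) 1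
    simp only [nonCuspChar] at this
    rw [steinbergGL_one, psSym_one] at this
    have h2 : (1 : ℂ) = 0 := by linear_combination -this
    exact one_ne_zero h2
  · exfalso
    have := congrFun (congrArg Subtype.val h) 1
    simp only [nonCuspChar] at this
    rw [detChar_one, psSym_one] at this
    apply hq
    linear_combination this
  · exfalso
    have := congrFun (congrArg Subtype.val h) 1
    simp only [nonCuspChar] at this
    rw [steinbergGL_one, psSym_one] at this
    have h2 : (1 : ℂ) = 0 := by linear_combination this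
    exact one_ne_zero h2
  · have := congrArg Subtype.val h
    simp only [nonCuspChar] at this
    have h3 := psSym_injective z.1 z'.1 this
    rw [Subtype.ext h3]

theorem nonCuspChar_not_cuspidal (θ : NonCuspParam F) :
    ¬ IsCuspidalGL ((nonCuspChar θ : IrrCharacter (GL (Fin 2) F)) : GL (Fin 2) F → ℂ) := by
  intro hc
  rcases θ with γ | γ | ⟨z, hz⟩
  · exact hc.ne_detChar γ rfl
  · exact hc.ne_steinbergGL γ rfl
  · induction z using Sym2.ind with
    | _ α β =>
      exact hc.ne_ps α β (fun h => hz (Sym2.mk_isDiag_iff.mpr h)) rfl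

theorem exists_nonCuspChar_of_not_cuspidal (χ : IrrCharacter (GL (Fin 2) F))
    (h : ¬ IsCuspidalGL (χ : GL (Fin 2) F → ℂ)) : ∃ θ : NonCuspParam F, nonCuspChar θ = χ := by
  rcases irr_GL2_cases χ.1 χ.2 with ⟨γ, hγ⟩ | ⟨γ, hγ⟩ | ⟨α, β, hab, hχ⟩ | hc
  · exact ⟨Sum.inl γ, Subtype.ext hγ.symm⟩
  · exact ⟨Sum.inr (Sum.inl γ), Subtype.ext hγ.symm⟩
  · exact ⟨Sum.inr (Sum.inr ⟨s(α, β), fun h => hab (Sym2.mk_isDiag_iff.mp h)⟩),
      Subtype.ext hχ.symm⟩
  · exact absurd hc h

/-- the cuspidal irreducible characters. -/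
abbrev CuspIrr (F : Type*) [Field F] [Fintype F] [DecidableEq F] : Type _ :=
  {χ : IrrCharacter (GL (Fin 2) F) // IsCuspidalGL (χ : GL (Fin 2) F → ℂ)}

/-- the irreducible characters of `GL₂(F)` are the non-cuspidal and the cuspidal ones. -/
noncomputable def irrGL2Equiv :
    NonCuspParam F ⊕ CuspIrr F ≃ IrrCharacter (GL (Fin 2) F) :=
  Equiv.ofBijective (Sum.elim nonCuspChar Subtype.val) (by
    constructor
    · rintro (θ | c) (θ' | c') h
      · simp only [Sum.elim_inl] at h
        rw [nonCuspChar_injective h]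
      · simp only [Sum.elim_inl, Sum.elim_inr] at h
        exact absurd (h ▸ c'.2) (nonCuspChar_not_cuspidal θ)
      · simp only [Sum.elim_inl, Sum.elim_inr] at h
        exact absurd (h ▸ c.2) (nonCuspChar_not_cuspidal θ')
      · simp only [Sum.elim_inr] at h
        rw [Subtype.ext h]
    · intro χ
      by_cases hc : IsCuspidalGL (χ : GL (Fin 2) F → ℂ)
      · exact ⟨Sum.inr ⟨χ, hc⟩, rfl⟩
      · obtain ⟨θ, hθ⟩ := exists_nonCuspChar_of_not_cuspidal χ hc
        exact ⟨Sum.inl θ, hθ⟩)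

theorem irrGL2Equiv_inl (θ : NonCuspParam F) : irrGL2Equiv (Sum.inl θ) = nonCuspChar θ := rfl
theorem irrGL2Equiv_inr (c : CuspIrr F) : irrGL2Equiv (Sum.inr c) = c.1 := rfl

noncomputable instance instFintypeOffDiagMulChar :
    Fintype {z : Sym2 (MulChar F ℂ) // ¬ z.IsDiag} := Fintype.ofFinite _
noncomputable instance instFintypeIrrGL2 : Fintype (IrrCharacter (GL (Fin 2) F)) :=
  Fintype.ofFinite _
noncomputable instance instFintypeCuspIrr : Fintype (CuspIrr F) := Fintype.ofFinite _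

theorem sum_irrGL2 (f : IrrCharacter (GL (Fin 2) F) → ℂ) :
    ∑ χ : IrrCharacter (GL (Fin 2) F), f χ =
      (∑ γ : MulChar F ℂ, f ⟨detChar γ, isIrr_detChar γ⟩) +
      ((∑ γ : MulChar F ℂ, f ⟨steinbergGL γ, isIrr_steinbergGL γ⟩) +
        ∑ z : {z : Sym2 (MulChar F ℂ) // ¬ z.IsDiag}, f ⟨psSym z.1, isIrr_psSym z.1 z.2⟩) +
      ∑ c : CuspIrr F, f c.1 := by
  rw [← (irrGL2Equiv (F := F)).sum_comp, Fintype.sum_sum_type, Fintype.sum_sum_type,
    Fintype.sum_sum_type]
  rfl

theorem card_offDiag_mulChar :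
    Fintype.card {z : Sym2 (MulChar F ℂ) // ¬ z.IsDiag} = (Fintype.card F - 1).choose 2 := by
  classical
  rw [← card_mulChar (F := F)]
  convert Sym2.card_subtype_not_diag (α := MulChar F ℂ)

theorem card_irrGL2 :
    Fintype.card (IrrCharacter (GL (Fin 2) F)) = Fintype.card F ^ 2 - 1 := by
  rw [← Nat.card_eq_fintype_card, Cfsg.Agent.Lib.Helper3.card_irrCharacter, card_conjClasses_GL2]

/-- the number of cuspidal characters, and their degrees. -/
theorem cusp_count_and_degree :
    2 * Fintype.card (CuspIrr F) = Fintype.card F * (Fintype.card F - 1) ∧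
      ∀ c : CuspIrr F, ((c.1 : IrrCharacter (GL (Fin 2) F)) : GL (Fin 2) F → ℂ) 1 =
        (Fintype.card F : ℂ) - 1 := by
  classical
  -- write q = k + 2
  obtain ⟨k, hk⟩ : ∃ k : ℕ, Fintype.card F = k + 2 :=
    ⟨Fintype.card F - 2, by have := card_field_two_le (F := F); omega⟩
  -- multiplicities
  have hm : ∀ c : CuspIrr F, ∃ m : ℕ, 0 < m ∧
      ((c.1 : IrrCharacter (GL (Fin 2) F)) : GL (Fin 2) F → ℂ) 1 =
        (m : ℂ) * ((Fintype.card F : ℂ) - 1) := by
    intro c
    obtain ⟨m, hm0, hm1, -⟩ := cusp_degree c.2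
    exact ⟨m, hm0, hm1⟩
  choose m hm0 hm1 using hm
  -- the count of characters
  have hC : 2 * (k + 1).choose 2 = (k + 1) * k := by
    rw [Nat.choose_two_right, Nat.add_sub_cancel]
    exact Nat.mul_div_cancel' (Nat.even_mul_pred_self (k + 1)).two_dvd
  have hcount : (k + 1) + ((k + 1) + (k + 1).choose 2) + Fintype.card (CuspIrr F) =
      (k + 2) ^ 2 - 1 := by
    have h1 := card_irrGL2 (F := F)
    rw [Fintype.card_congr (irrGL2Equiv (F := F)).symm, Fintype.card_sum, Fintype.card_sum,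
      Fintype.card_sum, card_mulChar, card_offDiag_mulChar, hk] at h1
    simpa using h1
  -- the sum of squares
  have hsq0 := Cfsg.Agent.Lib.Helper3.sum_sq_degree (G := GL (Fin 2) F)
  have hsq := sum_irrGL2 (F := F) (fun χ => (χ : GL (Fin 2) F → ℂ) 1 ^ 2)
  beta_reduce at hsq
  rw [hsq0, card_GL2] at hsq
  replace hsq := hsq.symm
  simp only [detChar_one, steinbergGL_one, psSym_one, hm1, Finset.sum_const, Finset.card_univ,
    nsmul_eq_mul, card_mulChar, card_offDiag_mulChar] at hsq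
  rw [hk] at hsq
  have hsq' : (((k + 1) + ((k + 1) * (k + 2) ^ 2 + (k + 1).choose 2 * (k + 3) ^ 2) +
      (∑ c : CuspIrr F, m c ^ 2) * (k + 1) ^ 2 : ℕ) : ℂ) =
      ((((k + 2) ^ 2 - 1) * ((k + 2) ^ 2 - (k + 2)) : ℕ) : ℂ) := by
    rw [← hsq]
    have e1 : k + 2 - 1 = k + 1 := by omega
    rw [e1]
    push_cast
    rw [Finset.sum_mul]
    have e2 : ∀ c : CuspIrr F, ((m c : ℂ) * ((k : ℂ) + 2 - 1)) ^ 2 =
        (m c : ℂ) ^ 2 * ((k : ℂ) + 1) ^ 2 := by
      intro c; ring
    rw [Finset.sum_congr rfl (fun c _ => e2 c)]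
    ring
  have hsqN : (k + 1) + ((k + 1) * (k + 2) ^ 2 + (k + 1).choose 2 * (k + 3) ^ 2) +
      (∑ c : CuspIrr F, m c ^ 2) * (k + 1) ^ 2 =
      ((k + 2) ^ 2 - 1) * ((k + 2) ^ 2 - (k + 2)) := by exact_mod_cast hsq'
  -- arithmetic
  have e3 : (k + 2) ^ 2 - 1 = (k + 1) * (k + 3) := by
    have : (k + 2) ^ 2 = (k + 1) * (k + 3) + 1 := by ring
    omega
  have e4 : (k + 2) ^ 2 - (k + 2) = (k + 2) * (k + 1) := by
    have : (k + 2) ^ 2 = (k + 2) * (k + 1) + (k + 2) := by ring
    omega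
  rw [e3, e4] at hsqN
  rw [e3] at hcount
  set N := Fintype.card (CuspIrr F) with hN
  set M := ∑ c : CuspIrr F, m c ^ 2 with hM
  set C := (k + 1).choose 2 with hCdef
  have hMN : M = N := by
    have h1 : 2 * (k + 1) ^ 2 * M = 2 * (k + 1) ^ 2 * N := by
      zify at hsqN hcount hC ⊢
      linear_combination 2 * hsqN - 2 * ((k : ℤ) + 1) ^ 2 * hcount - (4 * (k : ℤ) + 8) * hC
    have h2 : 0 < 2 * (k + 1) ^ 2 := by positivity
    exact Nat.eq_of_mul_eq_mul_left h2 h1
  have hN2 : 2 * N = (k + 2) * (k + 1) := by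
    zify at hcount hC ⊢
    linear_combination 2 * hcount - hC
  have hall : ∀ c : CuspIrr F, m c = 1 := by
    have h1 : ∑ c : CuspIrr F, (m c ^ 2 - 1) = 0 := by
      have h2 : ∑ c : CuspIrr F, (m c ^ 2 - 1) + N = M := by
        rw [hN, ← Finset.card_univ, Finset.card_eq_sum_ones, ← Finset.sum_add_distrib]
        apply Finset.sum_congr rfl
        intro c _
        have : 1 ≤ m c ^ 2 := Nat.one_le_pow _ _ (hm0 c)
        omega
      omega
    intro c
    have h3 := (Finset.sum_eq_zero_iff.mp h1) c (Finset.mem_univ c)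
    have h4 : m c ^ 2 ≤ 1 := by omega
    have h5 := hm0 c
    nlinarith
  refine ⟨?_, ?_⟩
  · rw [hk, hN2]
    have : k + 2 - 1 = k + 1 := by omega
    rw [this]
  · intro c
    rw [hm1, hall c, Nat.cast_one, one_mul]

end Cfsg.Agent.Lib.Helper38
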