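import Cfsg.Agent.Lib.Helper38.SL2Restrict

set_option autoImplicit false
set_option linter.unusedSimpArgs false

/-!
Values of the principal series functions of `GL₂(F)`.
-/

namespace Cfsg.Agent.Lib.Helper38

open Matrix Cfsg Cfsg.Agent.Lib.Helper25
open scoped ComplexConjugate

variable {F : Type*} [Field F]

/-- value of the extension by zero of `psFunGL α β`. -/
theorem extendByZero_psFunGL (α β : MulChar F ℂ) [DecidableEq F] (y : GL (Fin 2) F) :
    extendByZero (borelGL F) (psFunGL α β) y =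
      if (y : Matrix (Fin 2) (Fin 2) F) 1 0 = 0 then
        α ((y : Matrix (Fin 2) (Fin 2) F) 0 0) * β ((y : Matrix (Fin 2) (Fin 2) F) 1 1) else 0 := by
  split_ifs with h
  · rw [extendByZero_of_mem _ _ ((mem_borelGL y).mpr h)]
    rfl
  · rw [extendByZero_of_not_mem _ _ (fun h' => h ((mem_borelGL y).mp h'))]

/-- the `(1,0)` entry of `m⁻¹ g m` for `m ∈ SL₂`, `g ∈ GL₂`. -/
def cj10 (g : GL (Fin 2) F) (m : Matrix.SpecialLinearGroup (Fin 2) F) : F :=
  m.1 0 0 ^ 2 * (g : Matrix (Fin 2) (Fin 2) F) 1 0 +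
    m.1 0 0 * m.1 1 0 * ((g : Matrix (Fin 2) (Fin 2) F) 1 1 - (g : Matrix (Fin 2) (Fin 2) F) 0 0) -
    m.1 1 0 ^ 2 * (g : Matrix (Fin 2) (Fin 2) F) 0 1

/-- the `(0,0)` entry of `m⁻¹ g m`. -/
def cj00 (g : GL (Fin 2) F) (m : Matrix.SpecialLinearGroup (Fin 2) F) : F :=
  m.1 1 1 * ((g : Matrix (Fin 2) (Fin 2) F) 0 0 * m.1 0 0 +
      (g : Matrix (Fin 2) (Fin 2) F) 0 1 * m.1 1 0) -
    m.1 0 1 * ((g : Matrix (Fin 2) (Fin 2) F) 1 0 * m.1 0 0 +
      (g : Matrix (Fin 2) (Fin 2) F) 1 1 * m.1 1 0)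

/-- the `(1,1)` entry of `m⁻¹ g m`. -/
def cj11 (g : GL (Fin 2) F) (m : Matrix.SpecialLinearGroup (Fin 2) F) : F :=
  m.1 0 0 * ((g : Matrix (Fin 2) (Fin 2) F) 1 0 * m.1 0 1 +
      (g : Matrix (Fin 2) (Fin 2) F) 1 1 * m.1 1 1) -
    m.1 1 0 * ((g : Matrix (Fin 2) (Fin 2) F) 0 0 * m.1 0 1 +
      (g : Matrix (Fin 2) (Fin 2) F) 0 1 * m.1 1 1)

theorem toGL_conj_10 (g : GL (Fin 2) F) (m : Matrix.SpecialLinearGroup (Fin 2) F) :
    (((Matrix.SpecialLinearGroup.toGL m)⁻¹ * g * Matrix.SpecialLinearGroup.toGL m : GL (Fin 2) F) :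
      Matrix (Fin 2) (Fin 2) F) 1 0 = cj10 g m := by
  rw [← map_inv]
  simp only [gl2_mul_apply, toGL_apply, sl2_inv_00, sl2_inv_01, sl2_inv_10, sl2_inv_11, cj10]
  ring

theorem toGL_conj_00 (g : GL (Fin 2) F) (m : Matrix.SpecialLinearGroup (Fin 2) F) :
    (((Matrix.SpecialLinearGroup.toGL m)⁻¹ * g * Matrix.SpecialLinearGroup.toGL m : GL (Fin 2) F) :
      Matrix (Fin 2) (Fin 2) F) 0 0 = cj00 g m := by
  rw [← map_inv]
  simp only [gl2_mul_apply, toGL_apply, sl2_inv_00, sl2_inv_01, sl2_inv_10, sl2_inv_11, cj00]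
  ring

theorem toGL_conj_11 (g : GL (Fin 2) F) (m : Matrix.SpecialLinearGroup (Fin 2) F) :
    (((Matrix.SpecialLinearGroup.toGL m)⁻¹ * g * Matrix.SpecialLinearGroup.toGL m : GL (Fin 2) F) :
      Matrix (Fin 2) (Fin 2) F) 1 1 = cj11 g m := by
  rw [← map_inv]
  simp only [gl2_mul_apply, toGL_apply, sl2_inv_00, sl2_inv_01, sl2_inv_10, sl2_inv_11, cj11]
  ring

/-- The principal series function of `GL₂` as a sum over `SL₂`. -/
theorem ps_GL_apply [Fintype F] [DecidableEq F] (α β : MulChar F ℂ) (g : GL (Fin 2) F) :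
    indFun (borelGL F) (psFunGL α β) g =
      ((Fintype.card F : ℂ) * ((Fintype.card F : ℂ) - 1))⁻¹ *
        ∑ m : Matrix.SpecialLinearGroup (Fin 2) F,
          (if cj10 g m = 0 then α (cj00 g m) * β (cj11 g m) else 0) := by
  rw [indFun_apply, card_borelGL]
  rw [← (Equiv.ofBijective _ (slTimesDiag_bijective (F := F))).sum_comp, Fintype.sum_prod_type]
  have hterm : ∀ (m : Matrix.SpecialLinearGroup (Fin 2) F) (d : Fˣ),
      extendByZero (borelGL F) (psFunGL α β)
        ((Equiv.ofBijective _ (slTimesDiag_bijective (F := F)) (m, d))⁻¹ * g *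
          (Equiv.ofBijective _ (slTimesDiag_bijective (F := F)) (m, d))) =
        (if cj10 g m = 0 then α (cj00 g m) * β (cj11 g m) else 0) := by
    intro m d
    rw [← toGL_conj_10, ← toGL_conj_00, ← toGL_conj_11, ← extendByZero_psFunGL]
    have h1 : (Equiv.ofBijective _ (slTimesDiag_bijective (F := F)) (m, d)) =
        Matrix.SpecialLinearGroup.toGL m * diagGL d := rfl
    rw [h1]
    have h2 : (Matrix.SpecialLinearGroup.toGL m * diagGL d)⁻¹ * g *
        (Matrix.SpecialLinearGroup.toGL m * diagGL d) =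
        (((⟨diagGL d, diagGL_mem d⟩ : borelGL F)⁻¹ : borelGL F) : GL (Fin 2) F) *
          ((Matrix.SpecialLinearGroup.toGL m)⁻¹ * g * Matrix.SpecialLinearGroup.toGL m) *
          ((((⟨diagGL d, diagGL_mem d⟩ : borelGL F)⁻¹ : borelGL F) : GL (Fin 2) F))⁻¹ := by
      simp only [Subgroup.coe_inv]
      group
    rw [h2, extendByZero_conj_mem _ _ (psFunGL_isClassFunction α β)]
  rw [Finset.sum_congr rfl (fun m _ => Finset.sum_congr rfl (fun d _ => hterm m d))]
  simp only [Finset.sum_const, Finset.card_univ, nsmul_eq_mul, Fintype.card_units]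
  rw [← Finset.mul_sum, Nat.cast_mul, Nat.cast_pow, Nat.cast_sub Fintype.card_pos,
    Nat.cast_one]
  have hq := card_field_ne_zero_complex (F := F)
  have hq1 := card_field_sub_one_ne_zero_complex (F := F)
  field_simp

/-- value at a scalar element. -/
theorem ps_GL_central [Fintype F] [DecidableEq F] (α β : MulChar F ℂ) (g : GL (Fin 2) F)
    (h01 : (g : Matrix (Fin 2) (Fin 2) F) 0 1 = 0) (h10 : (g : Matrix (Fin 2) (Fin 2) F) 1 0 = 0)
    (heq : (g : Matrix (Fin 2) (Fin 2) F) 0 0 = (g : Matrix (Fin 2) (Fin 2) F) 1 1) :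
    indFun (borelGL F) (psFunGL α β) g =
      ((Fintype.card F : ℂ) + 1) * (α ((g : Matrix (Fin 2) (Fin 2) F) 0 0) *
        β ((g : Matrix (Fin 2) (Fin 2) F) 0 0)) := by
  rw [ps_GL_apply]
  have hterm : ∀ m : Matrix.SpecialLinearGroup (Fin 2) F,
      (if cj10 g m = 0 then α (cj00 g m) * β (cj11 g m) else 0) =
        α ((g : Matrix (Fin 2) (Fin 2) F) 0 0) * β ((g : Matrix (Fin 2) (Fin 2) F) 0 0) := by
    intro m
    have hm := sl2_det m
    have e10 : cj10 g m = 0 := by
      unfold cj10; rw [h10, h01, heq]; ring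
    have e00 : cj00 g m = (g : Matrix (Fin 2) (Fin 2) F) 0 0 := by
      unfold cj00; rw [h10, h01, ← heq]
      linear_combination ((g : Matrix (Fin 2) (Fin 2) F) 0 0) * hm
    have e11 : cj11 g m = (g : Matrix (Fin 2) (Fin 2) F) 0 0 := by
      unfold cj11; rw [h10, h01, ← heq]
      linear_combination ((g : Matrix (Fin 2) (Fin 2) F) 0 0) * hm
    rw [if_pos e10, e00, e11]
  rw [Finset.sum_congr rfl (fun m _ => hterm m), Finset.sum_const, Finset.card_univ,
    (Nat.card_eq_fintype_card (α := Matrix.SpecialLinearGroup (Fin 2) F)).symm, card_SL2,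
    nsmul_eq_mul]
  have hpos : 1 ≤ Fintype.card F ^ 2 := Nat.one_le_pow _ _ Fintype.card_pos
  rw [Nat.cast_mul, Nat.cast_sub hpos, Nat.cast_pow, Nat.cast_one]
  have hq := card_field_ne_zero_complex (F := F)
  have hq1 := card_field_sub_one_ne_zero_complex (F := F)
  field_simp
  ring

/-- value at a non-semisimple element. -/
theorem ps_GL_unipotent [Fintype F] [DecidableEq F] (α β : MulChar F ℂ) (g : GL (Fin 2) F)
    (h10 : (g : Matrix (Fin 2) (Fin 2) F) 1 0 = 0)
    (heq : (g : Matrix (Fin 2) (Fin 2) F) 0 0 = (g : Matrix (Fin 2) (Fin 2) F) 1 1)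
    (h01 : (g : Matrix (Fin 2) (Fin 2) F) 0 1 ≠ 0) :
    indFun (borelGL F) (psFunGL α β) g =
      α ((g : Matrix (Fin 2) (Fin 2) F) 0 0) * β ((g : Matrix (Fin 2) (Fin 2) F) 0 0) := by
  rw [ps_GL_apply]
  have hterm : ∀ m : Matrix.SpecialLinearGroup (Fin 2) F,
      (if cj10 g m = 0 then α (cj00 g m) * β (cj11 g m) else 0) =
        (if m.1 1 0 = 0 then
          α ((g : Matrix (Fin 2) (Fin 2) F) 0 0) * β ((g : Matrix (Fin 2) (Fin 2) F) 0 0)
          else 0) := by
    intro m
    have hm := sl2_det m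
    by_cases h1 : m.1 1 0 = 0
    · have e10 : cj10 g m = 0 := by
        unfold cj10; rw [h10, h1, heq]; ring
      have e00 : cj00 g m = (g : Matrix (Fin 2) (Fin 2) F) 0 0 := by
        unfold cj00; rw [h10, h1]
        rw [h1] at hm
        linear_combination ((g : Matrix (Fin 2) (Fin 2) F) 0 0) * hm
      have e11 : cj11 g m = (g : Matrix (Fin 2) (Fin 2) F) 0 0 := by
        unfold cj11; rw [h10, h1, ← heq]
        rw [h1] at hm
        linear_combination ((g : Matrix (Fin 2) (Fin 2) F) 0 0) * hm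
      rw [if_pos e10, if_pos h1, e00, e11]
    · rw [if_neg h1, if_neg]
      intro h3
      unfold cj10 at h3
      rw [h10, heq] at h3
      have : m.1 1 0 ^ 2 * (g : Matrix (Fin 2) (Fin 2) F) 0 1 = 0 := by linear_combination -h3
      rcases mul_eq_zero.mp this with h4 | h4
      · exact h1 ((pow_eq_zero_iff (two_ne_zero)).mp h4)
      · exact h01 h4
  rw [Finset.sum_congr rfl (fun m _ => hterm m), sum_ite_const, card_filter_10, Nat.cast_mul,
    Nat.cast_sub Fintype.card_pos, Nat.cast_one]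
  have hq := card_field_ne_zero_complex (F := F)
  have hq1 := card_field_sub_one_ne_zero_complex (F := F)
  field_simp

/-- value at a diagonal element with distinct entries. -/
theorem ps_GL_diag [Fintype F] [DecidableEq F] (α β : MulChar F ℂ) (g : GL (Fin 2) F)
    (h01 : (g : Matrix (Fin 2) (Fin 2) F) 0 1 = 0) (h10 : (g : Matrix (Fin 2) (Fin 2) F) 1 0 = 0)
    (hne : (g : Matrix (Fin 2) (Fin 2) F) 0 0 ≠ (g : Matrix (Fin 2) (Fin 2) F) 1 1) :
    indFun (borelGL F) (psFunGL α β) g =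
      α ((g : Matrix (Fin 2) (Fin 2) F) 0 0) * β ((g : Matrix (Fin 2) (Fin 2) F) 1 1) +
        α ((g : Matrix (Fin 2) (Fin 2) F) 1 1) * β ((g : Matrix (Fin 2) (Fin 2) F) 0 0) := by
  have hne' : (g : Matrix (Fin 2) (Fin 2) F) 1 1 - (g : Matrix (Fin 2) (Fin 2) F) 0 0 ≠ 0 :=
    fun h => hne (sub_eq_zero.mp h).symm
  rw [ps_GL_apply]
  have hterm : ∀ m : Matrix.SpecialLinearGroup (Fin 2) F,
      (if cj10 g m = 0 then α (cj00 g m) * β (cj11 g m) else 0) =
        (if m.1 1 0 = 0 then
          α ((g : Matrix (Fin 2) (Fin 2) F) 0 0) * β ((g : Matrix (Fin 2) (Fin 2) F) 1 1)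
          else 0) +
        (if m.1 0 0 = 0 then
          α ((g : Matrix (Fin 2) (Fin 2) F) 1 1) * β ((g : Matrix (Fin 2) (Fin 2) F) 0 0)
          else 0) := by
    intro m
    have hm := sl2_det m
    by_cases h1 : m.1 1 0 = 0
    · have h2 : m.1 0 0 ≠ 0 := by
        intro h2
        rw [h1, h2] at hm
        simp at hm
      have e10 : cj10 g m = 0 := by
        unfold cj10; rw [h10, h01, h1]; ring
      have e00 : cj00 g m = (g : Matrix (Fin 2) (Fin 2) F) 0 0 := by
        unfold cj00; rw [h10, h01, h1]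
        rw [h1] at hm
        linear_combination ((g : Matrix (Fin 2) (Fin 2) F) 0 0) * hm
      have e11 : cj11 g m = (g : Matrix (Fin 2) (Fin 2) F) 1 1 := by
        unfold cj11; rw [h10, h01, h1]
        rw [h1] at hm
        linear_combination ((g : Matrix (Fin 2) (Fin 2) F) 1 1) * hm
      rw [if_pos e10, if_pos h1, if_neg h2, e00, e11, add_zero]
    · by_cases h2 : m.1 0 0 = 0
      · have e10 : cj10 g m = 0 := by
          unfold cj10; rw [h10, h01, h2]; ring
        have e00 : cj00 g m = (g : Matrix (Fin 2) (Fin 2) F) 1 1 := by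
          unfold cj00; rw [h10, h01, h2]
          rw [h2] at hm
          linear_combination ((g : Matrix (Fin 2) (Fin 2) F) 1 1) * hm
        have e11 : cj11 g m = (g : Matrix (Fin 2) (Fin 2) F) 0 0 := by
          unfold cj11; rw [h10, h01, h2]
          rw [h2] at hm
          linear_combination ((g : Matrix (Fin 2) (Fin 2) F) 0 0) * hm
        rw [if_pos e10, if_neg h1, if_pos h2, e00, e11, zero_add]
      · rw [if_neg h1, if_neg h2, if_neg, add_zero]
        intro h3
        unfold cj10 at h3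
        rw [h10, h01] at h3
        have : m.1 0 0 * m.1 1 0 *
            ((g : Matrix (Fin 2) (Fin 2) F) 1 1 - (g : Matrix (Fin 2) (Fin 2) F) 0 0) = 0 := by
          linear_combination h3
        rcases mul_eq_zero.mp this with h4 | h4
        · rcases mul_eq_zero.mp h4 with h5 | h5
          · exact h2 h5
          · exact h1 h5
        · exact hne' h4
  rw [Finset.sum_congr rfl (fun m _ => hterm m), Finset.sum_add_distrib, sum_ite_const,
    sum_ite_const, card_filter_10, card_filter_00, Nat.cast_mul, Nat.cast_sub Fintype.card_pos,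
    Nat.cast_one]
  have hq := card_field_ne_zero_complex (F := F)
  have hq1 := card_field_sub_one_ne_zero_complex (F := F)
  field_simp

/-- value at an element without eigenvectors. -/
theorem ps_GL_elliptic [Fintype F] [DecidableEq F] (α β : MulChar F ℂ) (g : GL (Fin 2) F)
    (hg : ∀ (c : F) (v : Fin 2 → F), v ≠ 0 → (g : Matrix (Fin 2) (Fin 2) F).mulVec v ≠ c • v) :
    indFun (borelGL F) (psFunGL α β) g = 0 := by
  rw [ps_GL_apply]
  have hterm : ∀ m : Matrix.SpecialLinearGroup (Fin 2) F,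
      (if cj10 g m = 0 then α (cj00 g m) * β (cj11 g m) else 0) = 0 := by
    intro m
    rw [if_neg]
    intro h
    have hm := sl2_det m
    have hv : (fun i => m.1 i 0) ≠ (0 : Fin 2 → F) := by
      intro h0
      have e0 := congrFun h0 0
      have e1 := congrFun h0 1
      simp only [Pi.zero_apply] at e0 e1
      rw [e0, e1] at hm
      simp at hm
    apply hg (cj00 g m) (fun i => m.1 i 0) hv
    rw [← toGL_conj_10] at h
    rw [← toGL_conj_00]
    have hmul : g * Matrix.SpecialLinearGroup.toGL m = Matrix.SpecialLinearGroup.toGL m *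
        ((Matrix.SpecialLinearGroup.toGL m)⁻¹ * g * Matrix.SpecialLinearGroup.toGL m) := by group
    funext i
    have e : ((g * Matrix.SpecialLinearGroup.toGL m : GL (Fin 2) F) :
        Matrix (Fin 2) (Fin 2) F) i 0 = ((Matrix.SpecialLinearGroup.toGL m *
        ((Matrix.SpecialLinearGroup.toGL m)⁻¹ * g * Matrix.SpecialLinearGroup.toGL m) :
          GL (Fin 2) F) : Matrix (Fin 2) (Fin 2) F) i 0 := by rw [← hmul]
    rw [gl2_mul_apply g, gl2_mul_apply (Matrix.SpecialLinearGroup.toGL m), h, mul_zero,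
      add_zero] at e
    simp only [toGL_apply] at e
    simp only [Matrix.mulVec, dotProduct, Fin.sum_univ_two, Pi.smul_apply, smul_eq_mul]
    rw [e, mul_comm]
  rw [Finset.sum_congr rfl (fun m _ => hterm m), Finset.sum_const_zero, mul_zero]

end Cfsg.Agent.Lib.Helper38
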