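import Cfsg.Agent.Lib.Helper38.GL2PSValues

set_option autoImplicit false
set_option linter.unusedSimpArgs false

/-!
Linear characters `γ ∘ det` and the Steinberg characters of `GL₂(F)`.
-/

namespace Cfsg.Agent.Lib.Helper38

open Matrix Cfsg Cfsg.Agent.Lib.Helper25
open scoped ComplexConjugate

variable {F : Type*} [Field F]

/-- the linear character `γ ∘ det` of `GL₂(F)`. -/
noncomputable def detChar (γ : MulChar F ℂ) : GL (Fin 2) F → ℂ :=
  fun g => γ ((Matrix.GeneralLinearGroup.det g : Fˣ) : F)

theorem detChar_apply (γ : MulChar F ℂ) (g : GL (Fin 2) F) :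
    detChar γ g = γ ((g : Matrix (Fin 2) (Fin 2) F) 0 0 * (g : Matrix (Fin 2) (Fin 2) F) 1 1 -
      (g : Matrix (Fin 2) (Fin 2) F) 0 1 * (g : Matrix (Fin 2) (Fin 2) F) 1 0) := by
  unfold detChar
  rw [Matrix.GeneralLinearGroup.val_det_apply, Matrix.det_fin_two]

theorem isIrr_detChar (γ : MulChar F ℂ) : IsIrrCharacter (GL (Fin 2) F) (detChar γ) := by
  have h := Cfsg.Agent.Lib.Helper79.isIrrCharacter_of_monoidHom
    (γ.toUnitHom.comp (Matrix.GeneralLinearGroup.det : GL (Fin 2) F →* Fˣ))
  have e : (fun g : GL (Fin 2) F =>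
      (((γ.toUnitHom.comp (Matrix.GeneralLinearGroup.det : GL (Fin 2) F →* Fˣ)) g : ℂˣ) : ℂ)) =
      detChar γ := by
    funext g
    simp only [MonoidHom.comp_apply, MulChar.coe_toUnitHom]
    rfl
  rw [e] at h
  exact h

theorem detChar_one (γ : MulChar F ℂ) : detChar γ 1 = 1 := by
  unfold detChar
  rw [map_one, Units.val_one, map_one]

theorem detChar_restrict (γ : MulChar F ℂ) (b : borelGL F) :
    detChar γ (b : GL (Fin 2) F) = psFunGL γ γ b := by
  rw [detChar_apply, (mem_borelGL b.1).mp b.2, mul_zero, sub_zero, map_mul]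
  rfl

theorem classInner_psFunGL_eq [Fintype F] [DecidableEq F] (α β α' β' : MulChar F ℂ) :
    classInner (psFunGL α β) (psFunGL α' β') = if α = α' ∧ β = β' then 1 else 0 := by
  classical
  rw [classInner_psFunGL, sum_units_mulChar, sum_units_mulChar]
  have hq1 := card_field_sub_one_ne_zero_complex (F := F)
  simp only [mul_inv_eq_one]
  by_cases h1 : α = α' <;> by_cases h2 : β = β' <;> simp [h1, h2]
  field_simp

theorem classInner_ps_detChar [Fintype F] [DecidableEq F] (α β γ : MulChar F ℂ) :
    classInner (indFun (borelGL F) (psFunGL α β)) (detChar γ) =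
      if α = γ ∧ β = γ then 1 else 0 := by
  rw [frobenius_reciprocity _ _ _
    (Cfsg.Agent.Lib.Helper3.IsCharacter.isClassFunction
      (Cfsg.Agent.Lib.Helper3.IsIrrCharacter.isCharacter (isIrr_detChar γ)))]
  have : (fun h : borelGL F => detChar γ h) = psFunGL γ γ := by
    funext b
    exact detChar_restrict γ b
  rw [this, classInner_psFunGL_eq]

/-- the Steinberg character twisted by `γ ∘ det`. -/
noncomputable def steinbergGL [Fintype F] [DecidableEq F] (γ : MulChar F ℂ) : GL (Fin 2) F → ℂ :=
  indFun (borelGL F) (psFunGL γ γ) - detChar γ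

theorem ps_GL_diag_eq [Fintype F] [DecidableEq F] (γ : MulChar F ℂ) :
    indFun (borelGL F) (psFunGL γ γ) = detChar γ + steinbergGL γ := by
  unfold steinbergGL
  abel

theorem isIrr_steinbergGL [Fintype F] [DecidableEq F] (γ : MulChar F ℂ) :
    IsIrrCharacter (GL (Fin 2) F) (steinbergGL γ) := by
  classical
  have hnorm : classInner (indFun (borelGL F) (psFunGL γ γ))
      (indFun (borelGL F) (psFunGL γ γ)) = 2 := by
    rw [classInner_ps_GL, if_pos ⟨rfl, rfl⟩]; norm_num
  obtain ⟨χ₁, χ₂, h1, h2, hne, hsum⟩ := exists_two_irr_of_norm_two (isCharacter_ps_GL γ γ) hnorm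
  have hL := isIrr_detChar γ
  have hin := classInner_ps_detChar γ γ γ
  rw [if_pos ⟨rfl, rfl⟩, hsum, classInner_add_left,
    Cfsg.Agent.Lib.Helper3.classInner_irr h1 hL, Cfsg.Agent.Lib.Helper3.classInner_irr h2 hL] at hin
  unfold steinbergGL
  rw [hsum]
  by_cases e1 : χ₁ = detChar γ
  · rw [← e1, add_sub_cancel_left]
    exact h2
  · by_cases e2 : χ₂ = detChar γ
    · rw [← e2, add_sub_cancel_right]
      exact h1
    · rw [if_neg e1, if_neg e2] at hin
      norm_num at hin

theorem ps_GL_one [Fintype F] [DecidableEq F] (α β : MulChar F ℂ) :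
    indFun (borelGL F) (psFunGL α β) 1 = (Fintype.card F : ℂ) + 1 := by
  rw [ps_GL_central α β 1 gl2_one_01 gl2_one_10 (by rw [gl2_one_00, gl2_one_11]), gl2_one_00,
    map_one, map_one, mul_one, mul_one]

theorem steinbergGL_one [Fintype F] [DecidableEq F] (γ : MulChar F ℂ) :
    steinbergGL γ 1 = (Fintype.card F : ℂ) := by
  unfold steinbergGL
  rw [Pi.sub_apply, ps_GL_one, detChar_one]
  ring

theorem classInner_detChar [Fintype F] [DecidableEq F] (γ γ' : MulChar F ℂ) :
    classInner (detChar γ) (detChar γ') = if γ = γ' then 1 else 0 := by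
  classical
  rw [Cfsg.Agent.Lib.Helper3.classInner_irr (isIrr_detChar γ) (isIrr_detChar γ')]
  by_cases h : γ = γ'
  · rw [if_pos h, if_pos (by rw [h])]
  · rw [if_neg h, if_neg]
    intro h2
    apply h
    ext t
    have := congrFun h2 (gl2 (t : F) 0 0 1 (by simp))
    rw [detChar_apply, detChar_apply] at this
    simpa using this

theorem detChar_injective [Fintype F] [DecidableEq F] (γ γ' : MulChar F ℂ)
    (h : detChar γ = detChar γ') : γ = γ' := by
  by_contra hne
  have := classInner_detChar γ γ'
  rw [if_neg hne, h, Cfsg.Agent.Lib.Helper3.classInner_irr (isIrr_detChar γ') (isIrr_detChar γ'),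
    if_pos rfl] at this
  exact one_ne_zero this

theorem classInner_steinbergGL [Fintype F] [DecidableEq F] (γ γ' : MulChar F ℂ) :
    classInner (steinbergGL γ) (steinbergGL γ') = if γ = γ' then 1 else 0 := by
  classical
  unfold steinbergGL
  rw [classInner_sub_left, classInner_sub_right, classInner_sub_right, classInner_ps_GL,
    classInner_ps_detChar, classInner_detChar,
    ← classInner_conj_symm (indFun (borelGL F) (psFunGL γ' γ')) (detChar γ),
    classInner_ps_detChar]
  by_cases h : γ = γ'
  · subst h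
    simp
  · have h' : ¬ γ' = γ := fun e => h e.symm
    simp [h, h']

theorem steinbergGL_injective [Fintype F] [DecidableEq F] (γ γ' : MulChar F ℂ)
    (h : steinbergGL γ = steinbergGL γ') : γ = γ' := by
  by_contra hne
  have := classInner_steinbergGL γ γ'
  rw [if_neg hne, h, Cfsg.Agent.Lib.Helper3.classInner_irr (isIrr_steinbergGL γ')
    (isIrr_steinbergGL γ'), if_pos rfl] at this
  exact one_ne_zero this

end Cfsg.Agent.Lib.Helper38
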