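import Cfsg.Agent.Lib.Helper38.GL2Irr

set_option autoImplicit false
set_option linter.unusedSimpArgs false
set_option linter.unusedSectionVars false

/-!
Consequences of the classification of the irreducible characters of `GL₂(F)`.
-/

namespace Cfsg.Agent.Lib.Helper38

open Matrix Cfsg Cfsg.Agent.Lib.Helper25
open scoped ComplexConjugate

variable {F : Type*} [Field F] [Fintype F] [DecidableEq F]

theorem cusp_one {χ : GL (Fin 2) F → ℂ} (hχ : IsCuspidalGL χ) :
    χ 1 = (Fintype.card F : ℂ) - 1 :=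
  (cusp_count_and_degree (F := F)).2 ⟨⟨χ, hχ.1⟩, hχ⟩

theorem cusp_unip {χ : GL (Fin 2) F → ℂ} (hχ : IsCuspidalGL χ) (u : GL (Fin 2) F)
    (h10 : (u : Matrix (Fin 2) (Fin 2) F) 1 0 = 0) (h00 : (u : Matrix (Fin 2) (Fin 2) F) 0 0 = 1)
    (h11 : (u : Matrix (Fin 2) (Fin 2) F) 1 1 = 1) (h01 : (u : Matrix (Fin 2) (Fin 2) F) 0 1 ≠ 0) :
    χ u = -1 := by
  have h := cusp_unipotent hχ u h10 h00 h11 h01
  rw [cusp_one hχ] at h
  have hq1 := card_field_sub_one_ne_zero_complex (F := F)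
  have : ((Fintype.card F : ℂ) - 1) * (1 + χ u) = 0 := by linear_combination h
  rcases mul_eq_zero.mp this with h2 | h2
  · exact absurd h2 hq1
  · linear_combination h2

/-- the degrees of the irreducible characters of `GL₂(F)`. -/
theorem irr_GL2_degree (χ : GL (Fin 2) F → ℂ) (hχ : IsIrrCharacter (GL (Fin 2) F) χ) :
    χ 1 = 1 ∨ χ 1 = (Fintype.card F : ℂ) - 1 ∨ χ 1 = (Fintype.card F : ℂ) ∨
      χ 1 = (Fintype.card F : ℂ) + 1 := by
  rcases irr_GL2_cases χ hχ with ⟨γ, rfl⟩ | ⟨γ, rfl⟩ | ⟨α, β, -, rfl⟩ | hc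
  · exact Or.inl (detChar_one γ)
  · exact Or.inr (Or.inr (Or.inl (steinbergGL_one γ)))
  · exact Or.inr (Or.inr (Or.inr (ps_GL_one α β)))
  · exact Or.inr (Or.inl (cusp_one hc))

/-- the natural number cast inequalities used to separate the degrees. -/
theorem card_complex_cast (n : ℕ) (h : (Fintype.card F : ℂ) = (n : ℂ)) : Fintype.card F = n := by
  exact_mod_cast h

theorem deg_one_iff (hq : 3 ≤ Fintype.card F) (χ : GL (Fin 2) F → ℂ)
    (hχ : IsIrrCharacter (GL (Fin 2) F) χ) : χ 1 = 1 ↔ ∃ γ : MulChar F ℂ, χ = detChar γ := by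
  constructor
  · intro h1
    rcases irr_GL2_cases χ hχ with ⟨γ, rfl⟩ | ⟨γ, rfl⟩ | ⟨α, β, -, rfl⟩ | hc
    · exact ⟨γ, rfl⟩
    · exfalso
      rw [steinbergGL_one] at h1
      have := card_complex_cast (F := F) 1 (by simpa using h1)
      omega
    · exfalso
      rw [ps_GL_one] at h1
      have h2 : (Fintype.card F : ℂ) = ((0 : ℕ) : ℂ) := by
        rw [Nat.cast_zero]; linear_combination h1
      have := card_complex_cast (F := F) 0 h2
      omega
    · exfalso
      rw [cusp_one hc] at h1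
      have h2 : (Fintype.card F : ℂ) = ((2 : ℕ) : ℂ) := by
        push_cast; linear_combination h1
      have := card_complex_cast (F := F) 2 h2
      omega
  · rintro ⟨γ, rfl⟩
    exact detChar_one γ

theorem deg_q_iff (χ : GL (Fin 2) F → ℂ)
    (hχ : IsIrrCharacter (GL (Fin 2) F) χ) :
    χ 1 = (Fintype.card F : ℂ) ↔ ∃ γ : MulChar F ℂ, χ = steinbergGL γ := by
  have hq := card_field_two_le (F := F)
  constructor
  · intro h1
    rcases irr_GL2_cases χ hχ with ⟨γ, rfl⟩ | ⟨γ, rfl⟩ | ⟨α, β, -, rfl⟩ | hc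
    · exfalso
      rw [detChar_one] at h1
      have := card_complex_cast (F := F) 1 (by simpa using h1.symm)
      omega
    · exact ⟨γ, rfl⟩
    · exfalso
      rw [ps_GL_one] at h1
      have h2 : (1 : ℂ) = 0 := by linear_combination h1
      exact one_ne_zero h2
    · exfalso
      rw [cusp_one hc] at h1
      have h2 : (1 : ℂ) = 0 := by linear_combination -h1
      exact one_ne_zero h2
  · rintro ⟨γ, rfl⟩
    exact steinbergGL_one γ

theorem deg_q_add_one_iff (χ : GL (Fin 2) F → ℂ)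
    (hχ : IsIrrCharacter (GL (Fin 2) F) χ) :
    χ 1 = (Fintype.card F : ℂ) + 1 ↔
      ∃ α β : MulChar F ℂ, α ≠ β ∧ χ = indFun (borelGL F) (psFunGL α β) := by
  have hq := card_field_two_le (F := F)
  constructor
  · intro h1
    rcases irr_GL2_cases χ hχ with ⟨γ, rfl⟩ | ⟨γ, rfl⟩ | ⟨α, β, hab, rfl⟩ | hc
    · exfalso
      rw [detChar_one] at h1
      have h2 : (Fintype.card F : ℂ) = ((0 : ℕ) : ℂ) := by
        rw [Nat.cast_zero]; linear_combination -h1
      have := card_complex_cast (F := F) 0 h2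
      omega
    · exfalso
      rw [steinbergGL_one] at h1
      have h2 : (1 : ℂ) = 0 := by linear_combination -h1
      exact one_ne_zero h2
    · exact ⟨α, β, hab, rfl⟩
    · exfalso
      rw [cusp_one hc] at h1
      have h2 : (2 : ℂ) = 0 := by linear_combination -h1
      exact two_ne_zero h2
  · rintro ⟨α, β, -, rfl⟩
    exact ps_GL_one α β

theorem deg_q_sub_one_iff (hq : 3 ≤ Fintype.card F) (χ : GL (Fin 2) F → ℂ)
    (hχ : IsIrrCharacter (GL (Fin 2) F) χ) :
    χ 1 = (Fintype.card F : ℂ) - 1 ↔ IsCuspidalGL χ := by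
  constructor
  · intro h1
    rcases irr_GL2_cases χ hχ with ⟨γ, rfl⟩ | ⟨γ, rfl⟩ | ⟨α, β, hab, rfl⟩ | hc
    · exfalso
      rw [detChar_one] at h1
      have h2 : (Fintype.card F : ℂ) = ((2 : ℕ) : ℂ) := by
        push_cast; linear_combination -h1
      have := card_complex_cast (F := F) 2 h2
      omega
    · exfalso
      rw [steinbergGL_one] at h1
      have h2 : (1 : ℂ) = 0 := by linear_combination h1
      exact one_ne_zero h2
    · exfalso
      rw [ps_GL_one] at h1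
      have h2 : (2 : ℂ) = 0 := by linear_combination h1
      exact two_ne_zero h2
    · exact hc
  · intro hc
    exact cusp_one hc

/-! ### counting the irreducible characters of each degree -/

theorem card_deg_one (hq : 3 ≤ Fintype.card F) :
    Nat.card {χ : IrrCharacter (GL (Fin 2) F) // (χ : GL (Fin 2) F → ℂ) 1 = 1} =
      Fintype.card F - 1 := by
  rw [← card_mulChar (F := F), ← Nat.card_eq_fintype_card (α := MulChar F ℂ)]
  symm
  apply Nat.card_congr
  refine Equiv.ofBijective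
    (fun γ : MulChar F ℂ => (⟨⟨detChar γ, isIrr_detChar γ⟩, detChar_one γ⟩ :
      {χ : IrrCharacter (GL (Fin 2) F) // (χ : GL (Fin 2) F → ℂ) 1 = 1})) ⟨?_, ?_⟩
  · intro γ γ' h
    have := congrArg (fun x : {χ : IrrCharacter (GL (Fin 2) F) //
      (χ : GL (Fin 2) F → ℂ) 1 = 1} => (x.1.1 : GL (Fin 2) F → ℂ)) h
    exact detChar_injective γ γ' this
  · rintro ⟨⟨χ, hχ⟩, h1⟩
    obtain ⟨γ, rfl⟩ := (deg_one_iff hq χ hχ).mp h1
    exact ⟨γ, rfl⟩

theorem card_deg_q :
    Nat.card {χ : IrrCharacter (GL (Fin 2) F) //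
      (χ : GL (Fin 2) F → ℂ) 1 = (Fintype.card F : ℂ)} = Fintype.card F - 1 := by
  rw [← card_mulChar (F := F), ← Nat.card_eq_fintype_card (α := MulChar F ℂ)]
  symm
  apply Nat.card_congr
  refine Equiv.ofBijective
    (fun γ : MulChar F ℂ => (⟨⟨steinbergGL γ, isIrr_steinbergGL γ⟩, steinbergGL_one γ⟩ :
      {χ : IrrCharacter (GL (Fin 2) F) // (χ : GL (Fin 2) F → ℂ) 1 = (Fintype.card F : ℂ)}))
    ⟨?_, ?_⟩
  · intro γ γ' h
    have := congrArg (fun x : {χ : IrrCharacter (GL (Fin 2) F) //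
      (χ : GL (Fin 2) F → ℂ) 1 = (Fintype.card F : ℂ)} => (x.1.1 : GL (Fin 2) F → ℂ)) h
    exact steinbergGL_injective γ γ' this
  · rintro ⟨⟨χ, hχ⟩, h1⟩
    obtain ⟨γ, rfl⟩ := (deg_q_iff χ hχ).mp h1
    exact ⟨γ, rfl⟩

theorem card_deg_q_add_one :
    Nat.card {χ : IrrCharacter (GL (Fin 2) F) //
      (χ : GL (Fin 2) F → ℂ) 1 = (Fintype.card F : ℂ) + 1} =
      (Fintype.card F - 1) * (Fintype.card F - 2) / 2 := by
  have h0 : (Fintype.card F - 1) * (Fintype.card F - 2) / 2 = (Fintype.card F - 1).choose 2 := by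
    rw [Nat.choose_two_right, Nat.sub_sub]
  rw [h0, ← card_offDiag_mulChar (F := F),
    ← Nat.card_eq_fintype_card (α := {z : Sym2 (MulChar F ℂ) // ¬ z.IsDiag})]
  symm
  apply Nat.card_congr
  refine Equiv.ofBijective
    (fun z : {z : Sym2 (MulChar F ℂ) // ¬ z.IsDiag} =>
      (⟨⟨psSym z.1, isIrr_psSym z.1 z.2⟩, psSym_one z.1⟩ :
      {χ : IrrCharacter (GL (Fin 2) F) // (χ : GL (Fin 2) F → ℂ) 1 = (Fintype.card F : ℂ) + 1}))
    ⟨?_, ?_⟩
  · intro z z' h
    have := congrArg (fun x : {χ : IrrCharacter (GL (Fin 2) F) //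
      (χ : GL (Fin 2) F → ℂ) 1 = (Fintype.card F : ℂ) + 1} => (x.1.1 : GL (Fin 2) F → ℂ)) h
    exact Subtype.ext (psSym_injective z.1 z'.1 this)
  · rintro ⟨⟨χ, hχ⟩, h1⟩
    obtain ⟨α, β, hab, rfl⟩ := (deg_q_add_one_iff χ hχ).mp h1
    exact ⟨⟨s(α, β), fun h => hab (Sym2.mk_isDiag_iff.mp h)⟩, rfl⟩

theorem card_deg_q_sub_one (hq : 3 ≤ Fintype.card F) :
    Nat.card {χ : IrrCharacter (GL (Fin 2) F) //
      (χ : GL (Fin 2) F → ℂ) 1 = (Fintype.card F : ℂ) - 1} =
      Fintype.card F * (Fintype.card F - 1) / 2 := by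
  have h0 := (cusp_count_and_degree (F := F)).1
  have h1 : Fintype.card F * (Fintype.card F - 1) / 2 = Fintype.card (CuspIrr F) := by
    rw [← h0, Nat.mul_div_cancel_left _ (by norm_num : 0 < 2)]
  rw [h1, ← Nat.card_eq_fintype_card (α := CuspIrr F)]
  symm
  apply Nat.card_congr
  refine Equiv.ofBijective
    (fun c : CuspIrr F => (⟨c.1, cusp_one c.2⟩ :
      {χ : IrrCharacter (GL (Fin 2) F) // (χ : GL (Fin 2) F → ℂ) 1 = (Fintype.card F : ℂ) - 1}))
    ⟨?_, ?_⟩
  · intro c c' h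
    have := congrArg (fun x : {χ : IrrCharacter (GL (Fin 2) F) //
      (χ : GL (Fin 2) F → ℂ) 1 = (Fintype.card F : ℂ) - 1} => x.1) h
    exact Subtype.ext this
  · rintro ⟨⟨χ, hχ⟩, h1⟩
    exact ⟨⟨⟨χ, hχ⟩, (deg_q_sub_one_iff hq χ hχ).mp h1⟩, rfl⟩

end Cfsg.Agent.Lib.Helper38
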