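import Cfsg.Agent.Lib.Helper38.GL2Table

set_option autoImplicit false
set_option linter.unusedSimpArgs false
set_option linter.unusedSectionVars false

/-!
Values of the irreducible characters of `GL₂(F)` according to their degree.
-/

namespace Cfsg.Agent.Lib.Helper38

open Matrix Cfsg Cfsg.Agent.Lib.Helper25
open scoped ComplexConjugate

variable {F : Type*} [Field F] [Fintype F] [DecidableEq F]

theorem norm_mulChar_unit (γ : MulChar F ℂ) (a : F) (ha : a ≠ 0) : ‖γ a‖ = 1 := by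
  have h1 : γ a * conj (γ a) = 1 := by
    rw [conj_mulChar, ← MulChar.mul_apply, mul_inv_cancel,
      MulChar.one_apply (isUnit_iff_ne_zero.mpr ha)]
  rw [Complex.mul_conj] at h1
  have h2 : Complex.normSq (γ a) = 1 := by exact_mod_cast h1
  rw [Complex.normSq_eq_norm_sq] at h2
  have h3 : (0 : ℝ) ≤ ‖γ a‖ := norm_nonneg _
  nlinarith

theorem eq_of_card_two (hq : Fintype.card F = 2) {a b : F} (ha : a ≠ 0) (hb : b ≠ 0) : a = b := by
  by_contra hab
  have h1 : ({0, a, b} : Finset F).card = 3 := by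
    rw [Finset.card_insert_of_notMem, Finset.card_insert_of_notMem, Finset.card_singleton]
    · simpa using hab
    · simp only [Finset.mem_insert, Finset.mem_singleton, not_or]
      exact ⟨ha.symm, hb.symm⟩
  have h2 := Finset.card_le_univ ({0, a, b} : Finset F)
  omega

/-- irreducible characters of degree `q - 1` vanish on split regular semisimple elements. -/
theorem irr_deg_q_sub_one_diag (χ : GL (Fin 2) F → ℂ) (hχ : IsIrrCharacter (GL (Fin 2) F) χ)
    (g : GL (Fin 2) F) (hdeg : χ 1 = (Fintype.card F : ℂ) - 1)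
    (h01 : (g : Matrix (Fin 2) (Fin 2) F) 0 1 = 0) (h10 : (g : Matrix (Fin 2) (Fin 2) F) 1 0 = 0)
    (hne : (g : Matrix (Fin 2) (Fin 2) F) 0 0 ≠ (g : Matrix (Fin 2) (Fin 2) F) 1 1) :
    χ g = 0 := by
  rcases irr_GL2_cases χ hχ with ⟨γ, rfl⟩ | ⟨γ, rfl⟩ | ⟨α, β, hab, rfl⟩ | hc
  · exfalso
    rw [detChar_one] at hdeg
    have h2 : (Fintype.card F : ℂ) = ((2 : ℕ) : ℂ) := by
      push_cast; linear_combination -hdeg
    have hq := card_complex_cast (F := F) 2 h2
    have hdet := gl2_det_ne_zero g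
    rw [h01, zero_mul, sub_zero] at hdet
    exact hne (eq_of_card_two hq (left_ne_zero_of_mul hdet) (right_ne_zero_of_mul hdet))
  · exfalso
    rw [steinbergGL_one] at hdeg
    have h2 : (1 : ℂ) = 0 := by linear_combination hdeg
    exact one_ne_zero h2
  · exfalso
    rw [ps_GL_one] at hdeg
    have h2 : (2 : ℂ) = 0 := by linear_combination hdeg
    exact two_ne_zero h2
  · exact cusp_diag hc g h01 h10 hne

/-- irreducible characters of degree `q + 1` vanish on elements without eigenvectors. -/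
theorem irr_deg_q_add_one_elliptic (χ : GL (Fin 2) F → ℂ)
    (hχ : IsIrrCharacter (GL (Fin 2) F) χ) (g : GL (Fin 2) F)
    (hdeg : χ 1 = (Fintype.card F : ℂ) + 1)
    (hg : ∀ (c : F) (v : Fin 2 → F), v ≠ 0 → (g : Matrix (Fin 2) (Fin 2) F).mulVec v ≠ c • v) :
    χ g = 0 := by
  obtain ⟨α, β, -, rfl⟩ := (deg_q_add_one_iff χ hχ).mp hdeg
  exact ps_GL_elliptic α β g hg

/-- values at the standard transvection. -/
theorem irr_value_unip (hq : 3 ≤ Fintype.card F) (χ : GL (Fin 2) F → ℂ)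
    (hχ : IsIrrCharacter (GL (Fin 2) F) χ) (u : GL (Fin 2) F)
    (hu : (u : Matrix (Fin 2) (Fin 2) F) = !![1, 1; 0, 1]) :
    (χ 1 = 1 → χ u = 1) ∧ (χ 1 = (Fintype.card F : ℂ) + 1 → χ u = 1) ∧
    (χ 1 = (Fintype.card F : ℂ) - 1 → χ u = -1) ∧ (χ 1 = (Fintype.card F : ℂ) → χ u = 0) := by
  have h00 : (u : Matrix (Fin 2) (Fin 2) F) 0 0 = 1 := by rw [hu]; rfl
  have h01 : (u : Matrix (Fin 2) (Fin 2) F) 0 1 = 1 := by rw [hu]; rfl
  have h10 : (u : Matrix (Fin 2) (Fin 2) F) 1 0 = 0 := by rw [hu]; rfl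
  have h11 : (u : Matrix (Fin 2) (Fin 2) F) 1 1 = 1 := by rw [hu]; rfl
  have hdetu : ∀ γ : MulChar F ℂ, detChar γ u = 1 := by
    intro γ
    rw [detChar_apply, h00, h01, h10, h11]
    simp
  have hpsu : ∀ α β : MulChar F ℂ, indFun (borelGL F) (psFunGL α β) u = 1 := by
    intro α β
    rw [ps_GL_unipotent α β u h10 (by rw [h00, h11]) (by rw [h01]; exact one_ne_zero), h00,
      map_one, map_one, mul_one]
  refine ⟨?_, ?_, ?_, ?_⟩
  · intro h1
    obtain ⟨γ, rfl⟩ := (deg_one_iff hq χ hχ).mp h1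
    exact hdetu γ
  · intro h1
    obtain ⟨α, β, -, rfl⟩ := (deg_q_add_one_iff χ hχ).mp h1
    exact hpsu α β
  · intro h1
    have hc := (deg_q_sub_one_iff hq χ hχ).mp h1
    exact cusp_unip hc u h10 h00 h11 (by rw [h01]; exact one_ne_zero)
  · intro h1
    obtain ⟨γ, rfl⟩ := (deg_q_iff χ hχ).mp h1
    unfold steinbergGL
    rw [Pi.sub_apply, hpsu, hdetu, sub_self]

/-- characters of degree `q` have absolute value 1 on regular semisimple elements. -/
theorem irr_deg_q_norm (χ : GL (Fin 2) F → ℂ) (hχ : IsIrrCharacter (GL (Fin 2) F) χ)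
    (hdeg : χ 1 = (Fintype.card F : ℂ)) (g : GL (Fin 2) F) :
    ((g : Matrix (Fin 2) (Fin 2) F) 0 1 = 0 → (g : Matrix (Fin 2) (Fin 2) F) 1 0 = 0 →
      (g : Matrix (Fin 2) (Fin 2) F) 0 0 ≠ (g : Matrix (Fin 2) (Fin 2) F) 1 1 → ‖χ g‖ = 1) ∧
    ((∀ (c : F) (v : Fin 2 → F), v ≠ 0 → (g : Matrix (Fin 2) (Fin 2) F).mulVec v ≠ c • v) →
      ‖χ g‖ = 1) := by
  obtain ⟨γ, rfl⟩ := (deg_q_iff χ hχ).mp hdeg
  have hdet := gl2_det_ne_zero g
  constructor
  · intro h01 h10 hne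
    unfold steinbergGL
    rw [Pi.sub_apply, ps_GL_diag γ γ g h01 h10 hne, detChar_apply, h01, zero_mul, sub_zero, map_mul]
    rw [h01, zero_mul, sub_zero] at hdet
    have e : γ ((g : Matrix (Fin 2) (Fin 2) F) 0 0) * γ ((g : Matrix (Fin 2) (Fin 2) F) 1 1) +
        γ ((g : Matrix (Fin 2) (Fin 2) F) 1 1) * γ ((g : Matrix (Fin 2) (Fin 2) F) 0 0) -
        γ ((g : Matrix (Fin 2) (Fin 2) F) 0 0) * γ ((g : Matrix (Fin 2) (Fin 2) F) 1 1) =
        γ ((g : Matrix (Fin 2) (Fin 2) F) 0 0) * γ ((g : Matrix (Fin 2) (Fin 2) F) 1 1) := by ring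
    rw [e, norm_mul, norm_mulChar_unit γ _ (left_ne_zero_of_mul hdet),
      norm_mulChar_unit γ _ (right_ne_zero_of_mul hdet), mul_one]
  · intro hg
    unfold steinbergGL
    rw [Pi.sub_apply, ps_GL_elliptic γ γ g hg, detChar_apply, zero_sub, norm_neg,
      norm_mulChar_unit γ _ hdet]

end Cfsg.Agent.Lib.Helper38
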