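import Cfsg.Agent.Lib.Helper38.PadeC
import Cfsg.Agent.Lib.Helper2.Dk10

set_option autoImplicit false

/-! The subgroup `⟨x(k), y(kα)⟩` of `SL₂(L)`: normalising automorphisms, the `k`-subspace of
upper root parameters, orbit of the first basis vector. Used for S5060. -/

namespace Cfsg.Agent.Lib.Helper38.GenSL

open Matrix Cfsg.Agent.Lib.Helper2.SL2 Cfsg.Agent.Lib.Helper2.Dk Cfsg.Agent.Lib.Helper38.Pade

variable {k L : Type*} [Field k] [Field L] [Algebra k L]

local notation "SL2" => Matrix.SpecialLinearGroup (Fin 2) L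

variable (k) in
/-- the subgroup generated by `x(c)`, `y(c α)`, `c ∈ k` -/
def Hg (α : L) : Subgroup SL2 :=
  Subgroup.closure (Set.range (fun c : k => tt (algebraMap k L c)) ∪
    Set.range (fun c : k => ss (algebraMap k L c * α)))

theorem tt_mem (α : L) (c : k) : tt (algebraMap k L c) ∈ Hg k α :=
  Subgroup.subset_closure (Or.inl ⟨c, rfl⟩)

theorem ss_mem (α : L) (c : k) : ss (algebraMap k L c * α) ∈ Hg k α :=
  Subgroup.subset_closure (Or.inr ⟨c, rfl⟩)

/-- conjugation by `diag(1, e)` -/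
def dmat (e : L) (g : SL2) : Matrix (Fin 2) (Fin 2) L :=
  !![g 0 0, g 0 1 * e⁻¹; e * g 1 0, g 1 1]

theorem dmat_det {e : L} (he : e ≠ 0) (g : SL2) : (dmat e g).det = 1 := by
  rw [dmat, Matrix.det_fin_two_of]
  have := det2 g
  field_simp
  linear_combination this

/-- the map `g ↦ diag(1,e) g diag(1,e)⁻¹` -/
def dfun (e : L) (he : e ≠ 0) (g : SL2) : SL2 := ⟨dmat e g, dmat_det he g⟩

theorem dfun00 (e : L) (he : e ≠ 0) (g : SL2) : dfun e he g 0 0 = g 0 0 := rfl
theorem dfun01 (e : L) (he : e ≠ 0) (g : SL2) : dfun e he g 0 1 = g 0 1 * e⁻¹ := rfl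
theorem dfun10 (e : L) (he : e ≠ 0) (g : SL2) : dfun e he g 1 0 = e * g 1 0 := rfl
theorem dfun11 (e : L) (he : e ≠ 0) (g : SL2) : dfun e he g 1 1 = g 1 1 := rfl

theorem dfun_mul (e : L) (he : e ≠ 0) (g h : SL2) :
    dfun e he (g * h) = dfun e he g * dfun e he h := by
  apply ext2 <;> simp only [mul00, mul01, mul10, mul11, dfun00, dfun01, dfun10, dfun11] <;>
    field_simp

theorem dfun_one (e : L) (he : e ≠ 0) : dfun e he (1 : SL2) = 1 := by
  apply ext2 <;> simp only [one00, one01, one10, one11, dfun00, dfun01, dfun10, dfun11] <;>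
    simp

/-- the automorphism `g ↦ diag(1,e) g diag(1,e)⁻¹` as a monoid hom -/
def dconj (e : L) (he : e ≠ 0) : SL2 →* SL2 where
  toFun g := dfun e he g
  map_one' := dfun_one e he
  map_mul' g h := dfun_mul e he g h

theorem dconj00 (e : L) (he : e ≠ 0) (g : SL2) : dconj e he g 0 0 = g 0 0 := rfl
theorem dconj01 (e : L) (he : e ≠ 0) (g : SL2) : dconj e he g 0 1 = g 0 1 * e⁻¹ := rfl
theorem dconj10 (e : L) (he : e ≠ 0) (g : SL2) : dconj e he g 1 0 = e * g 1 0 := rfl
theorem dconj11 (e : L) (he : e ≠ 0) (g : SL2) : dconj e he g 1 1 = g 1 1 := rfl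

theorem dconj_tt (e : L) (he : e ≠ 0) (a : L) : dconj e he (tt a) = tt (a * e⁻¹) := by
  apply ext2 <;> simp [dconj00, dconj01, dconj10, dconj11]

theorem dconj_ss (e : L) (he : e ≠ 0) (b : L) : dconj e he (ss b) = ss (e * b) := by
  apply ext2 <;> simp [dconj00, dconj01, dconj10, dconj11]

theorem dconj_mem (α : L) {d : k} (hd : d ≠ 0) {g : SL2} (hg : g ∈ Hg k α) :
    dconj (algebraMap k L d) (by rwa [Ne, map_eq_zero]) g ∈ Hg k α := by
  have hd' : algebraMap k L d ≠ 0 := by rwa [Ne, map_eq_zero]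
  have : Hg k α ≤ (Hg k α).comap (dconj (algebraMap k L d) hd') := by
    rw [Hg, Subgroup.closure_le]
    rintro x (⟨c, rfl⟩ | ⟨c, rfl⟩)
    · show dconj _ _ _ ∈ Hg k α
      rw [dconj_tt]
      have : algebraMap k L c * (algebraMap k L d)⁻¹ = algebraMap k L (c / d) := by
        rw [map_div₀, div_eq_mul_inv]
      rw [this]; exact tt_mem α _
    · show dconj _ _ _ ∈ Hg k α
      rw [dconj_ss]
      have : algebraMap k L d * (algebraMap k L c * α) = algebraMap k L (d * c) * α := by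
        rw [map_mul]; ring
      rw [this]; exact ss_mem α _
  exact this hg

/-- conjugation by `[[0,1],[-α,0]]` -/
def tmat (α : L) (g : SL2) : Matrix (Fin 2) (Fin 2) L :=
  !![g 1 1, -(g 1 0 * α⁻¹); -(α * g 0 1), g 0 0]

theorem tmat_det {α : L} (hα : α ≠ 0) (g : SL2) : (tmat α g).det = 1 := by
  rw [tmat, Matrix.det_fin_two_of]
  have := det2 g
  field_simp
  linear_combination this

/-- the map `g ↦ w g w⁻¹`, `w = [[0,1],[-α,0]]` -/
def tfun (α : L) (hα : α ≠ 0) (g : SL2) : SL2 := ⟨tmat α g, tmat_det hα g⟩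

theorem tfun00 (α : L) (hα : α ≠ 0) (g : SL2) : tfun α hα g 0 0 = g 1 1 := rfl
theorem tfun01 (α : L) (hα : α ≠ 0) (g : SL2) : tfun α hα g 0 1 = -(g 1 0 * α⁻¹) := rfl
theorem tfun10 (α : L) (hα : α ≠ 0) (g : SL2) : tfun α hα g 1 0 = -(α * g 0 1) := rfl
theorem tfun11 (α : L) (hα : α ≠ 0) (g : SL2) : tfun α hα g 1 1 = g 0 0 := rfl

theorem tfun_mul (α : L) (hα : α ≠ 0) (g h : SL2) :
    tfun α hα (g * h) = tfun α hα g * tfun α hα h := by
  apply ext2 <;> simp only [mul00, mul01, mul10, mul11, tfun00, tfun01, tfun10, tfun11] <;>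
    field_simp <;> ring

theorem tfun_one (α : L) (hα : α ≠ 0) : tfun α hα (1 : SL2) = 1 := by
  apply ext2 <;> simp only [one00, one01, one10, one11, tfun00, tfun01, tfun10, tfun11] <;>
    simp

def tconj (α : L) (hα : α ≠ 0) : SL2 →* SL2 where
  toFun g := tfun α hα g
  map_one' := tfun_one α hα
  map_mul' g h := tfun_mul α hα g h

theorem tconj00 (α : L) (hα : α ≠ 0) (g : SL2) : tconj α hα g 0 0 = g 1 1 := rfl
theorem tconj01 (α : L) (hα : α ≠ 0) (g : SL2) : tconj α hα g 0 1 = -(g 1 0 * α⁻¹) := rfl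
theorem tconj10 (α : L) (hα : α ≠ 0) (g : SL2) : tconj α hα g 1 0 = -(α * g 0 1) := rfl
theorem tconj11 (α : L) (hα : α ≠ 0) (g : SL2) : tconj α hα g 1 1 = g 0 0 := rfl

theorem tconj_tt (α : L) (hα : α ≠ 0) (a : L) : tconj α hα (tt a) = ss (-(α * a)) := by
  apply ext2 <;> simp [tconj00, tconj01, tconj10, tconj11]

theorem tconj_ss (α : L) (hα : α ≠ 0) (b : L) : tconj α hα (ss b) = tt (-(b * α⁻¹)) := by
  apply ext2 <;> simp [tconj00, tconj01, tconj10, tconj11]

theorem tconj_mem {α : L} (hα : α ≠ 0) {g : SL2} (hg : g ∈ Hg k α) :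
    tconj α hα g ∈ Hg k α := by
  have : Hg k α ≤ (Hg k α).comap (tconj α hα) := by
    rw [Hg, Subgroup.closure_le]
    rintro x (⟨c, rfl⟩ | ⟨c, rfl⟩)
    · show tconj _ _ _ ∈ Hg k α
      rw [tconj_tt]
      have : -(α * algebraMap k L c) = algebraMap k L (-c) * α := by
        rw [map_neg]; ring
      rw [this]; exact ss_mem α _
    · show tconj _ _ _ ∈ Hg k α
      rw [tconj_ss]
      have : -(algebraMap k L c * α * α⁻¹) = algebraMap k L (-c) := by
        rw [map_neg]; field_simp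
      rw [this]; exact tt_mem α _
  exact this hg

theorem tt_mem_iff_ss {α : L} (hα : α ≠ 0) (a : L) :
    tt a ∈ Hg k α ↔ ss (-(α * a)) ∈ Hg k α := by
  constructor
  · intro h
    rw [← tconj_tt α hα]; exact tconj_mem hα h
  · intro h
    have := tconj_mem hα h
    rw [tconj_ss] at this
    have e : -(-(α * a) * α⁻¹) = a := by field_simp
    rwa [e] at this

/-- the `k`-subspace of upper root parameters -/
def Asub (α : L) : Submodule k L where
  carrier := {a | tt a ∈ Hg k α}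
  add_mem' := by
    intro a b ha hb
    show tt (a + b) ∈ Hg k α
    rw [tt_add]; exact (Hg k α).mul_mem ha hb
  zero_mem' := by
    show tt 0 ∈ Hg k α
    rw [tt_zero]; exact (Hg k α).one_mem
  smul_mem' := by
    intro c a ha
    show tt (c • a) ∈ Hg k α
    by_cases hc : c = 0
    · rw [hc, zero_smul, tt_zero]; exact (Hg k α).one_mem
    · have := dconj_mem α (inv_ne_zero hc) ha
      rw [dconj_tt] at this
      have e : a * (algebraMap k L c⁻¹)⁻¹ = c • a := by
        rw [map_inv₀, inv_inv, Algebra.smul_def, mul_comm]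
      rwa [e] at this

theorem mem_Asub {α a : L} : a ∈ Asub (k := k) α ↔ tt a ∈ Hg k α := Iff.rfl

/-- the `k`-subspace of lower root parameters -/
def Bsub (α : L) : Submodule k L where
  carrier := {b | ss b ∈ Hg k α}
  add_mem' := by
    intro a b ha hb
    show ss (a + b) ∈ Hg k α
    rw [ss_add]; exact (Hg k α).mul_mem ha hb
  zero_mem' := by
    show ss 0 ∈ Hg k α
    rw [ss_zero]; exact (Hg k α).one_mem
  smul_mem' := by
    intro c a ha
    show ss (c • a) ∈ Hg k α
    by_cases hc : c = 0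
    · rw [hc, zero_smul, ss_zero]; exact (Hg k α).one_mem
    · have := dconj_mem α hc ha
      rw [dconj_ss] at this
      have e : algebraMap k L c * a = c • a := by
        rw [Algebra.smul_def]
      rwa [e] at this

theorem mem_Bsub {α b : L} : b ∈ Bsub (k := k) α ↔ ss b ∈ Hg k α := Iff.rfl

end Cfsg.Agent.Lib.Helper38.GenSL
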