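import Cfsg.Agent.Lib.Helper38.GenSLA

set_option autoImplicit false

/-! `⟨x(k), y(kα)⟩ = SL₂(k(α))` for an infinite field `k`: the Padé chain reaches a vector
`(0, c g⁻¹)` for generic `g`, which makes the multiplier algebra of the root parameters
everything. Used for S5060. -/

namespace Cfsg.Agent.Lib.Helper38.GenSL

open Matrix Cfsg.Agent.Lib.Helper2.SL2 Cfsg.Agent.Lib.Helper2.Dk Cfsg.Agent.Lib.Helper38.Pade

variable {k L : Type*} [Field k] [Field L] [Algebra k L]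

local notation "SL2" => Matrix.SpecialLinearGroup (Fin 2) L

/-- the orbit of `e₁` up to `k`-scalars -/
def Orb (α p r : L) : Prop :=
  ∃ h ∈ Hg k α, ∃ c : k, c ≠ 0 ∧ p = c • h 0 0 ∧ r = c • h 1 0

theorem orb_of_reach {α p r : L} (h : Reach k α p r) : Orb (k := k) α p r := by
  induction h with
  | base c hc =>
    refine ⟨1, (Hg k α).one_mem, c, hc, ?_, ?_⟩
    · rw [one00, Algebra.smul_def, mul_one]
    · rw [one10, smul_zero]
  | tx a _ ih =>
    obtain ⟨h, hh, c, hc, hp, hr⟩ := ih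
    refine ⟨tt (algebraMap k L a) * h, (Hg k α).mul_mem (tt_mem α a) hh, c, hc, ?_, ?_⟩
    · rw [mul00, hp, hr, tt00, tt01, Algebra.smul_def, Algebra.smul_def, Algebra.smul_def,
        Algebra.smul_def]
      ring
    · rw [mul10, hr, tt10, tt11]; simp
  | ty a _ ih =>
    obtain ⟨h, hh, c, hc, hp, hr⟩ := ih
    refine ⟨ss (algebraMap k L a * α) * h, (Hg k α).mul_mem (ss_mem α a) hh, c, hc, ?_, ?_⟩
    · rw [mul00, hp, ss00, ss01]; simp
    · rw [mul10, hp, hr, ss10, ss11, Algebra.smul_def, Algebra.smul_def, Algebra.smul_def,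
        Algebra.smul_def]
      ring
  | sc d₁ d₂ h₁ h₂ _ ih =>
    obtain ⟨h, hh, c, hc, hp, hr⟩ := ih
    have hd : d₂ / d₁ ≠ 0 := div_ne_zero h₂ h₁
    refine ⟨dconj (algebraMap k L (d₂ / d₁)) (by rwa [Ne, map_eq_zero]) h,
      dconj_mem α hd hh, d₁ * c, mul_ne_zero h₁ hc, ?_, ?_⟩
    · rw [dconj00, hp, smul_smul]
    · rw [dconj10, hr, Algebra.smul_def, Algebra.smul_def, Algebra.smul_def, map_mul, map_div₀]
      have : algebraMap k L d₁ ≠ 0 := by rwa [Ne, map_eq_zero]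
      field_simp

/-- an element of the group with zero corner moves the upper root parameters to the lower -/
theorem key_conj {α : L} (hα : α ≠ 0) {h : SL2} (hh : h ∈ Hg k α) (h0 : h 0 0 = 0) {a : L}
    (ha : a ∈ Asub (k := k) α) : (h 1 0) ^ 2 * α⁻¹ * a ∈ Asub (k := k) α := by
  rw [mem_Asub, tt_mem_iff_ss hα]
  have hm : h * tt a * h⁻¹ ∈ Hg k α :=
    (Hg k α).mul_mem ((Hg k α).mul_mem hh ha) ((Hg k α).inv_mem hh)
  have e : h * tt a * h⁻¹ = ss (-(α * ((h 1 0) ^ 2 * α⁻¹ * a))) := by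
    obtain ⟨e00, e01, e10, e11⟩ := conj_tt h a
    apply ext2
    · rw [e00, h0, ss00]; ring
    · rw [e01, h0, ss01]; ring
    · rw [e10, ss10]; field_simp
    · rw [e11, h0, ss11]; ring
  rwa [e] at hm

/-- the multiplier algebra of `Asub` -/
def Rsub (α : L) : Subalgebra k L where
  carrier := {t | ∀ a, a ∈ Asub (k := k) α → t * a ∈ Asub (k := k) α}
  mul_mem' := by
    intro s t hs ht a ha
    rw [mul_assoc]; exact hs _ (ht _ ha)
  one_mem' := by
    intro a ha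
    rwa [one_mul]
  add_mem' := by
    intro s t hs ht a ha
    rw [add_mul]; exact (Asub α).add_mem (hs _ ha) (ht _ ha)
  zero_mem' := by
    intro a ha
    rw [zero_mul]; exact (Asub α).zero_mem
  algebraMap_mem' := by
    intro c a ha
    rw [← Algebra.smul_def]; exact (Asub α).smul_mem c ha

theorem mem_Rsub {α t : L} :
    t ∈ Rsub (k := k) α ↔ ∀ a, a ∈ Asub (k := k) α → t * a ∈ Asub (k := k) α := Iff.rfl

theorem sq_mul_mem_Rsub (pb : PowerBasis k L) {g : L} (hg : Gen pb g) :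
    g ^ 2 * pb.gen ∈ Rsub (k := k) pb.gen := by
  have hα : pb.gen ≠ 0 := by
    have := hg.cc'.ne_zero
    exact right_ne_zero_of_mul this
  have hg0 : g ≠ 0 := hg.cc.ne_zero
  obtain ⟨c, hc, hR⟩ := final hg
  obtain ⟨h, hh, c', hc', hp, hr⟩ := orb_of_reach hR
  have h00 : h 0 0 = 0 := by
    have := hp.symm
    rw [smul_eq_zero] at this
    exact this.resolve_left hc'
  have h10 : h 1 0 = (c'⁻¹ * c) • g⁻¹ := by
    rw [← smul_smul, hr, smul_smul, inv_mul_cancel₀ hc', one_smul]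
  have h1 : (h 1 0) ^ 2 * (pb.gen)⁻¹ ∈ Rsub (k := k) pb.gen := fun a ha =>
    key_conj hα hh h00 ha
  have h2 : (g ^ 2 * pb.gen)⁻¹ ∈ Rsub (k := k) pb.gen := by
    have e : (g ^ 2 * pb.gen)⁻¹ = ((c'⁻¹ * c) ^ 2)⁻¹ • ((h 1 0) ^ 2 * (pb.gen)⁻¹) := by
      rw [h10, Algebra.smul_def, Algebra.smul_def, map_inv₀, map_pow, map_mul, map_inv₀]
      have hA : algebraMap k L c ≠ 0 := by rwa [Ne, map_eq_zero]
      have hB : algebraMap k L c' ≠ 0 := by rwa [Ne, map_eq_zero]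
      field_simp
    rw [e]; exact (Rsub pb.gen).smul_mem h1 _
  have : Module.Finite k L := pb.finite
  have halg : IsAlgebraic k (((⟨_, h2⟩ : Rsub (k := k) pb.gen) : L)) :=
    Algebra.IsAlgebraic.isAlgebraic _
  have := Subalgebra.inv_mem_of_algebraic (A := Rsub (k := k) pb.gen) (x := ⟨_, h2⟩) halg
  simpa using this

theorem gen_mem_Rsub [Infinite k] (pb : PowerBasis k L) (hα : pb.gen ≠ 0) :
    pb.gen ∈ Rsub (k := k) pb.gen := by
  obtain ⟨g, hg⟩ := exists_Gen pb hα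
  have hfin := Gen_line pb hg (1 : L)
  obtain ⟨c₁, hc₁⟩ := (hfin.union (Set.finite_singleton (0 : k))).infinite_compl.nonempty
  obtain ⟨c₂, hc₂⟩ := ((hfin.union (Set.finite_singleton (0 : k))).union
    (Set.finite_singleton c₁)).infinite_compl.nonempty
  simp only [Set.mem_compl_iff, Set.mem_union, Set.mem_ofPred_eq, Set.mem_singleton_iff,
    not_or, not_not] at hc₁ hc₂
  obtain ⟨hG₁, h₁0⟩ := hc₁
  obtain ⟨⟨hG₂, h₂0⟩, h₂₁⟩ := hc₂
  have u₀ := sq_mul_mem_Rsub pb hg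
  have u₁ := sq_mul_mem_Rsub pb hG₁
  have u₂ := sq_mul_mem_Rsub pb hG₂
  have hd : c₁ * c₂ * (c₁ - c₂) ≠ 0 :=
    mul_ne_zero (mul_ne_zero h₁0 h₂0) (sub_ne_zero.mpr (Ne.symm h₂₁))
  have e : pb.gen = (c₁ * c₂ * (c₁ - c₂))⁻¹ •
      (c₂ • ((g + c₁ • (1 : L)) ^ 2 * pb.gen - g ^ 2 * pb.gen) -
        c₁ • ((g + c₂ • (1 : L)) ^ 2 * pb.gen - g ^ 2 * pb.gen)) := by
    simp only [Algebra.smul_def, mul_one, map_inv₀, map_mul, map_sub]
    have h1 : algebraMap k L c₁ ≠ 0 := by rwa [Ne, map_eq_zero]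
    have h2 : algebraMap k L c₂ ≠ 0 := by rwa [Ne, map_eq_zero]
    have h3 : algebraMap k L c₁ - algebraMap k L c₂ ≠ 0 := by
      rw [← map_sub, Ne, map_eq_zero]; exact sub_ne_zero.mpr (Ne.symm h₂₁)
    field_simp
    ring
  have hm : (c₁ * c₂ * (c₁ - c₂))⁻¹ •
      (c₂ • ((g + c₁ • (1 : L)) ^ 2 * pb.gen - g ^ 2 * pb.gen) -
        c₁ • ((g + c₂ • (1 : L)) ^ 2 * pb.gen - g ^ 2 * pb.gen)) ∈ Rsub (k := k) pb.gen :=
    (Rsub pb.gen).smul_mem ((Rsub pb.gen).sub_mem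
      ((Rsub pb.gen).smul_mem ((Rsub pb.gen).sub_mem u₁ u₀) _)
      ((Rsub pb.gen).smul_mem ((Rsub pb.gen).sub_mem u₂ u₀) _)) _
  rwa [← e] at hm

/-- if all of `L` multiplies `Asub` into itself, the group is everything -/
theorem Hg_eq_top_of_Rsub {α : L} (hα : α ≠ 0) (h : Rsub (k := k) α = ⊤) : Hg k α = ⊤ := by
  have h1 : (1 : L) ∈ Asub (k := k) α := by
    rw [mem_Asub]
    have := tt_mem (k := k) α 1
    rwa [map_one] at this
  have hA : ∀ t : L, tt t ∈ Hg k α := by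
    intro t
    have ht : t ∈ Rsub (k := k) α := by rw [h]; exact Algebra.mem_top
    have := ht 1 h1
    rwa [mul_one] at this
  apply eq_top_of_forall_tt_ss
  intro μ
  refine ⟨hA μ, ?_⟩
  have := (tt_mem_iff_ss (k := k) hα (-(μ * α⁻¹))).mp (hA _)
  have e : -(α * -(μ * α⁻¹)) = μ := by field_simp
  rwa [e] at this

theorem Hg_eq_top_of_infinite [Infinite k] (pb : PowerBasis k L) (hα : pb.gen ≠ 0) :
    Hg k pb.gen = ⊤ := by
  apply Hg_eq_top_of_Rsub hα
  rw [eq_top_iff, ← pb.adjoin_gen_eq_top]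
  apply Algebra.adjoin_le
  intro x hx
  rw [Set.mem_singleton_iff] at hx
  rw [hx]
  exact gen_mem_Rsub pb hα

end Cfsg.Agent.Lib.Helper38.GenSL
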