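import Cfsg.Agent.Lib.Helper38.GenSLB
import Cfsg.Agent.Lib.Helper2.Dk9

set_option autoImplicit false

/-! `⟨x(k), y(kα)⟩ = SL₂(k(α))` for a finite field `k` of odd characteristic and order `≠ 3`,
via Dickson's structure theorem; and the combined statement. Used for S5060. -/

namespace Cfsg.Agent.Lib.Helper38.GenSL

open Matrix Cfsg.Agent.Lib.Helper2.SL2 Cfsg.Agent.Lib.Helper2.Dk Cfsg.Agent.Lib.Helper38.Pade

variable {k L : Type*} [Field k] [Field L] [Algebra k L]

local notation "SL2" => Matrix.SpecialLinearGroup (Fin 2) L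

theorem card_le_card_Uni (α : L) [Finite L] : Nat.card k ≤ Nat.card ↥(Hg k α ⊓ Uni L) := by
  apply Nat.card_le_card_of_injective
    (fun c : k => (⟨tt (algebraMap k L c), ⟨tt_mem α c, tt_mem_Uni _⟩⟩ : ↥(Hg k α ⊓ Uni L)))
  intro a b hab
  have h1 := congrArg Subtype.val hab
  exact (algebraMap k L).injective (tt_injective h1)

theorem Hg_eq_top_of_finite [Finite k] (pb : PowerBasis k L) (hα : pb.gen ≠ 0)
    (h2 : ringChar k ≠ 2) (h3 : Nat.card k ≠ 3) : Hg k pb.gen = ⊤ := by
  classical
  have : Module.Finite k L := pb.finite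
  have : Finite L := Module.finite_of_finite k
  have : Fintype k := Fintype.ofFinite k
  have hcp : CharP k (ringChar k) := ringChar.charP k
  have hpr : (ringChar k).Prime := CharP.char_is_prime k (ringChar k)
  have : Fact (ringChar k).Prime := ⟨hpr⟩
  have : CharP L (ringChar k) := charP_of_injective_algebraMap (algebraMap k L).injective _
  have ht1 : tt (1 : L) ∈ Hg k pb.gen := by
    have := tt_mem (k := k) pb.gen 1
    rwa [map_one] at this
  have hs1 : ss pb.gen ∈ Hg k pb.gen := by
    have := ss_mem (k := k) pb.gen 1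
    rwa [map_one, one_mul] at this
  rcases dickson_struct (L := Hg k pb.gen) h2 ht1 hα hs1 with ⟨E, hαE, hE⟩ | ⟨hc, -, -⟩
  · have hA : Asub (k := k) pb.gen = ⊤ := by
      rw [eq_top_iff, ← pb.basis.span_eq, Submodule.span_le]
      rintro x ⟨i, rfl⟩
      rw [PowerBasis.coe_basis]
      exact (hE _ (E.pow_mem hαE _)).1
    have hB : Bsub (k := k) pb.gen = ⊤ := by
      rw [eq_top_iff, ← pb.basis.span_eq, Submodule.span_le]
      rintro x ⟨i, rfl⟩
      rw [PowerBasis.coe_basis]
      exact (hE _ (E.pow_mem hαE _)).2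
    apply eq_top_of_forall_tt_ss
    intro μ
    constructor
    · have : μ ∈ Asub (k := k) pb.gen := by rw [hA]; trivial
      exact this
    · have : μ ∈ Bsub (k := k) pb.gen := by rw [hB]; trivial
      exact this
  · exfalso
    have hle := card_le_card_Uni (k := k) pb.gen
    rw [hc] at hle
    have hgt : 1 < Nat.card k := Finite.one_lt_card
    have h2' : Nat.card k = 2 := by omega
    rw [Nat.card_eq_fintype_card] at h2'
    have hz : ((Fintype.card k : ℕ) : k) = 0 := Nat.cast_card_eq_zero k
    rw [h2'] at hz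
    have hdvd : ringChar k ∣ 2 := ringChar.dvd hz
    rcases (Nat.dvd_prime Nat.prime_two).mp hdvd with h | h
    · exact hpr.one_lt.ne' h
    · exact h2 h

/-- **Generation of `SL₂(k(α))`** by `x(k)` and `y(kα)` -/
theorem Hg_eq_top (pb : PowerBasis k L) (hα : pb.gen ≠ 0)
    (h2 : ringChar k ≠ 2) (h3 : Nat.card k ≠ 3) : Hg k pb.gen = ⊤ := by
  rcases finite_or_infinite k with hf | hi
  · exact Hg_eq_top_of_finite pb hα h2 h3
  · exact Hg_eq_top_of_infinite pb hα

end Cfsg.Agent.Lib.Helper38.GenSL
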