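import Cfsg.Agent.Lib.Helper38.GenSLC

set_option autoImplicit false

/-! Base change from `k(α)` to an overfield `K`: the subgroup of `SL₂(K)` generated by `x(k)`
and `y(kα)` is the set of matrices with entries in `k(α)`. Used for S5060. -/

namespace Cfsg.Agent.Lib.Helper38.GenSL

open Matrix Cfsg.Agent.Lib.Helper2.SL2 Cfsg.Agent.Lib.Helper2.Dk

variable {k K : Type*} [Field k] [Field K] [Algebra k K]

/-- base change of `SL₂` from an intermediate field -/
noncomputable def iota (E : IntermediateField k K) :
    Matrix.SpecialLinearGroup (Fin 2) ↥E →* Matrix.SpecialLinearGroup (Fin 2) K :=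
  Matrix.SpecialLinearGroup.map (algebraMap ↥E K)

theorem iota_apply (E : IntermediateField k K) (g : Matrix.SpecialLinearGroup (Fin 2) ↥E)
    (i j : Fin 2) : iota E g i j = ((g i j : ↥E) : K) := rfl

theorem iota_tt (E : IntermediateField k K) (x : ↥E) : iota E (tt x) = tt (x : K) := by
  apply ext2 <;> simp [iota_apply]

theorem iota_ss (E : IntermediateField k K) (x : ↥E) : iota E (ss x) = ss (x : K) := by
  apply ext2 <;> simp [iota_apply]

theorem range_iota (E : IntermediateField k K) :
    Set.range (iota E) = {g : Matrix.SpecialLinearGroup (Fin 2) K | ∀ i j : Fin 2, g i j ∈ E} := by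
  ext g
  constructor
  · rintro ⟨g', rfl⟩ i j
    rw [iota_apply]; exact (g' i j).2
  · intro h
    refine ⟨⟨Matrix.of fun i j => ⟨g i j, h i j⟩, ?_⟩, ?_⟩
    · rw [Matrix.det_fin_two]
      apply Subtype.ext
      simp only [Matrix.of_apply]
      push_cast
      exact det2 g
    · apply ext2 <;> rfl

theorem closure_eq (hk2 : ringChar k ≠ 2) (hk3 : Nat.card k ≠ 3)
    (α : K) (hα : IsAlgebraic k α) (hα0 : α ≠ 0) :
    (Subgroup.closure (Set.range (fun c : k => tt (algebraMap k K c)) ∪
        Set.range (fun c : k => ss (algebraMap k K c * α))) :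
      Set (Matrix.SpecialLinearGroup (Fin 2) K)) =
    {g : Matrix.SpecialLinearGroup (Fin 2) K |
      ∀ i j : Fin 2, g i j ∈ IntermediateField.adjoin k ({α} : Set K)} := by
  classical
  have hgen : (IntermediateField.adjoin.powerBasis hα.isIntegral).gen =
      IntermediateField.AdjoinSimple.gen k α := rfl
  have hgen0 : (IntermediateField.adjoin.powerBasis hα.isIntegral).gen ≠ 0 := by
    rw [hgen]
    intro h0
    apply hα0
    have := congrArg (fun x : ↥(IntermediateField.adjoin k ({α} : Set K)) => (x : K)) h0
    simpa using this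
  have htop := Hg_eq_top (IntermediateField.adjoin.powerBasis hα.isIntegral) hgen0 hk2 hk3
  rw [← range_iota, ← MonoidHom.coe_range, MonoidHom.range_eq_map, ← htop, Hg,
    MonoidHom.map_closure, Set.image_union, ← Set.range_comp, ← Set.range_comp]
  have e1 : (⇑(iota (IntermediateField.adjoin k ({α} : Set K))) ∘ fun c : k =>
      tt (algebraMap k ↥(IntermediateField.adjoin k ({α} : Set K)) c)) =
      fun c : k => tt (algebraMap k K c) := by
    funext c
    rw [Function.comp_apply, iota_tt]
    rfl
  have e2 : (⇑(iota (IntermediateField.adjoin k ({α} : Set K))) ∘ fun c : k =>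
      ss (algebraMap k ↥(IntermediateField.adjoin k ({α} : Set K)) c *
        (IntermediateField.adjoin.powerBasis hα.isIntegral).gen)) =
      fun c : k => ss (algebraMap k K c * α) := by
    funext c
    rw [Function.comp_apply, iota_ss]
    rfl
  rw [e1, e2]

end Cfsg.Agent.Lib.Helper38.GenSL
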