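import Cfsg.Agent.Lib.Helper38.SL2TableEven
import Mathlib.LinearAlgebra.Matrix.ProjectiveSpecialLinearGroup

set_option autoImplicit false
set_option linter.unusedSimpArgs false
set_option linter.unusedSectionVars false

/-!
The Steinberg character of `PSL₂(F)` is the only irreducible character of degree divisible by
the characteristic.
-/

namespace Cfsg.Agent.Lib.Helper38

open Matrix Cfsg Cfsg.Agent.Lib.Helper25
open scoped ComplexConjugate

variable {F : Type*} [Field F] [Fintype F] [DecidableEq F]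

theorem charDegree_of_natCast {G : Type*} [Group G] {χ : G → ℂ} {n : ℕ} (h : χ 1 = (n : ℂ)) :
    Cfsg.charDegree χ = n := by
  unfold Cfsg.charDegree
  rw [h, Complex.natCast_re, Nat.floor_natCast]

/-- the Steinberg character is constant on the centre. -/
theorem steinbergSL_center (z : Matrix.SpecialLinearGroup (Fin 2) F)
    (hz : z ∈ Subgroup.center (Matrix.SpecialLinearGroup (Fin 2) F)) :
    steinbergSL F z = steinbergSL F 1 := by
  rw [Matrix.SpecialLinearGroup.mem_center_iff] at hz
  obtain ⟨r, hr, hz⟩ := hz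
  have h00 : z.1 0 0 = r := by rw [← hz]; simp
  have h11 : z.1 1 1 = r := by rw [← hz]; simp
  have h01 : z.1 0 1 = 0 := by rw [← hz]; simp
  have h10 : z.1 1 0 = 0 := by rw [← hz]; simp
  have hr0 : r ≠ 0 := by
    intro h
    rw [h] at hr
    simp at hr
  rw [steinbergSL_one]
  unfold steinbergSL
  rw [Pi.sub_apply, ps_SL_central 1 z h01 h10 (by rw [h00, h11]), h00,
    mulChar_one_apply_ne_zero hr0]
  simp

/-- an irreducible character of `SL₂(F)` whose degree is divisible by the characteristic has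
degree `q`. -/
theorem irr_SL2_degree_of_dvd (p : ℕ) [Fact p.Prime] [CharP F p]
    (ξ : Matrix.SpecialLinearGroup (Fin 2) F → ℂ)
    (hξ : IsIrrCharacter (Matrix.SpecialLinearGroup (Fin 2) F) ξ) (n : ℕ) (hn : ξ 1 = (n : ℂ))
    (hp : p ∣ n) : n = Fintype.card F := by
  obtain ⟨k, -, hk⟩ := FiniteField.card F p
  have hpq : p ∣ Fintype.card F := by
    rw [hk]
    exact dvd_pow_self p k.ne_zero
  have hp1 : ¬ p ∣ 1 := (Fact.out : p.Prime).one_lt.ne' ∘ Nat.dvd_one.mp
  have hpos : 0 < Fintype.card F := Fintype.card_pos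
  rcases irr_SL2_degree_cases ξ hξ with h | h | h | h | h | h
  · exfalso
    rw [hn] at h
    have : n = 1 := by exact_mod_cast h
    rw [this] at hp
    exact hp1 hp
  · rw [hn] at h
    exact_mod_cast h
  · exfalso
    rw [hn] at h
    have : n = Fintype.card F + 1 := by exact_mod_cast h
    rw [this] at hp
    exact hp1 ((Nat.dvd_add_right hpq).mp hp)
  · exfalso
    rw [hn] at h
    have : 2 * n = Fintype.card F + 1 := by exact_mod_cast h
    have hp2 : p ∣ Fintype.card F + 1 := by rw [← this]; exact Dvd.dvd.mul_left hp 2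
    exact hp1 ((Nat.dvd_add_right hpq).mp hp2)
  · exfalso
    rw [hn] at h
    have : n + 1 = Fintype.card F := by
      have h2 : ((n + 1 : ℕ) : ℂ) = (Fintype.card F : ℂ) := by push_cast; linear_combination h
      exact_mod_cast h2
    rw [← this] at hpq
    exact hp1 ((Nat.dvd_add_right hp).mp hpq)
  · exfalso
    rw [hn] at h
    have : 2 * n + 1 = Fintype.card F := by
      have h2 : ((2 * n + 1 : ℕ) : ℂ) = (Fintype.card F : ℂ) := by push_cast; linear_combination h
      exact_mod_cast h2
    rw [← this] at hpq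
    exact hp1 ((Nat.dvd_add_right (Dvd.dvd.mul_left hp 2)).mp hpq)


/-- `PSL₂(F)` has exactly one irreducible character of degree divisible by `p`, of degree `q`. -/
theorem psl2_unique_p_singular (p : ℕ) [Fact p.Prime] [CharP F p] :
    Nat.card {χ : IrrCharacter (Matrix.ProjectiveSpecialLinearGroup (Fin 2) F) //
      p ∣ Cfsg.charDegree (χ : Matrix.ProjectiveSpecialLinearGroup (Fin 2) F → ℂ)} = 1 ∧
    ∀ χ : IrrCharacter (Matrix.ProjectiveSpecialLinearGroup (Fin 2) F),
      p ∣ Cfsg.charDegree (χ : Matrix.ProjectiveSpecialLinearGroup (Fin 2) F → ℂ) →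
      Cfsg.charDegree (χ : Matrix.ProjectiveSpecialLinearGroup (Fin 2) F → ℂ) = Fintype.card F := by
  obtain ⟨k, -, hk⟩ := FiniteField.card F p
  have hpq : p ∣ Fintype.card F := by
    rw [hk]
    exact dvd_pow_self p k.ne_zero
  -- the key: an irreducible character of `PSL₂` with degree divisible by `p` inflates to the
  -- Steinberg character
  have key : ∀ χ : IrrCharacter (Matrix.ProjectiveSpecialLinearGroup (Fin 2) F),
      p ∣ Cfsg.charDegree (χ : Matrix.ProjectiveSpecialLinearGroup (Fin 2) F → ℂ) →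
      (fun g : Matrix.SpecialLinearGroup (Fin 2) F =>
        (χ : Matrix.ProjectiveSpecialLinearGroup (Fin 2) F → ℂ)
          (g : Matrix.ProjectiveSpecialLinearGroup (Fin 2) F)) = steinbergSL F := by
    intro χ hp
    have hirr := Cfsg.Agent.Lib.Helper79.isIrrCharacter_inflate
      (Subgroup.center (Matrix.SpecialLinearGroup (Fin 2) F)) χ.2
    obtain ⟨n, hn, -, -⟩ := Cfsg.Agent.Lib.Helper3.IsIrrCharacter.apply_one_dvd_card hirr
    have hn' : (χ : Matrix.ProjectiveSpecialLinearGroup (Fin 2) F → ℂ) 1 = (n : ℂ) := hn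
    rw [charDegree_of_natCast hn'] at hp
    have hnq := irr_SL2_degree_of_dvd p _ hirr n hn hp
    apply irr_SL2_deg_q _ hirr
    rw [hn, hnq]
  refine ⟨?_, ?_⟩
  · rw [Nat.card_eq_one_iff_unique]
    refine ⟨⟨?_⟩, ?_⟩
    · rintro ⟨χ, hχ⟩ ⟨χ', hχ'⟩
      have e1 := key χ hχ
      have e2 := key χ' hχ'
      apply Subtype.ext
      apply Subtype.ext
      funext x
      obtain ⟨g, rfl⟩ := QuotientGroup.mk_surjective x
      exact (congrFun e1 g).trans (congrFun e2 g).symm
    · obtain ⟨ψ, hψ, hval⟩ := Cfsg.Agent.Lib.Helper79.isIrrCharacter_deflate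
        (isIrr_steinbergSL (F := F)) (Subgroup.center (Matrix.SpecialLinearGroup (Fin 2) F))
        (fun x hx => steinbergSL_center x hx)
      refine ⟨⟨⟨ψ, hψ⟩, ?_⟩⟩
      have h1 : ψ 1 = ((Fintype.card F : ℕ) : ℂ) := by
        have := hval 1
        rw [steinbergSL_one] at this
        exact this
      change p ∣ Cfsg.charDegree ψ
      rw [charDegree_of_natCast h1]
      exact hpq
  · intro χ hp
    have e := congrFun (key χ hp) 1
    rw [steinbergSL_one] at e
    have h1 : (χ : Matrix.ProjectiveSpecialLinearGroup (Fin 2) F → ℂ) 1 =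
        ((Fintype.card F : ℕ) : ℂ) := e
    exact charDegree_of_natCast h1

end Cfsg.Agent.Lib.Helper38
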