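import Cfsg.Agent.Lib.Helper38.SL2Zeros
import Cfsg.Agent.Lib.Helper38.DegreeTransfer

set_option autoImplicit false
set_option linter.unusedSimpArgs false
set_option linter.unusedSectionVars false

/-!
Irreducible characters of `SL₂(F)`, `|F|` odd, which are trivial on the centre: existence in
degrees `q - 1`, `q`, `q + 1`.
-/

namespace Cfsg.Agent.Lib.Helper38

open Matrix Cfsg Cfsg.Agent.Lib.Helper25
open scoped ComplexConjugate

variable {F : Type*} [Field F] [Fintype F] [DecidableEq F]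

/-- a sum over a type split according to the value of a label function with finitely many
values. -/
theorem sum_split_fintype {I J L : Type*} [Fintype I] [Fintype J] (lab : I → L) (v : J → L)
    (hv : Function.Injective v) (hex : ∀ x, ∃ i, lab x = v i) (f : I → ℂ) (c : J → ℂ)
    (hc : ∀ x i, lab x = v i → f x = c i) :
    ∑ x, f x = ∑ i, (Nat.card {x // lab x = v i} : ℂ) * c i := by
  classical
  have hpt : ∀ x, f x = ∑ i, (if lab x = v i then c i else 0) := by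
    intro x
    obtain ⟨i₀, hi₀⟩ := hex x
    rw [Finset.sum_eq_single i₀]
    · rw [if_pos hi₀, hc x i₀ hi₀]
    · intro i _ hne
      rw [if_neg]
      intro h
      exact hne (hv (h.symm.trans hi₀))
    · intro h
      exact absurd (Finset.mem_univ _) h
  rw [Finset.sum_congr rfl (fun x _ => hpt x), Finset.sum_comm]
  apply Finset.sum_congr rfl
  intro i _
  rw [sum_ite_const, natCard_subtype_eq_card_filter]

/-- the sign of an irreducible character of `SL₂` at `-1`. -/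
theorem irr_SL2_neg_one {χ : Matrix.SpecialLinearGroup (Fin 2) F → ℂ}
    (hχ : IsIrrCharacter (Matrix.SpecialLinearGroup (Fin 2) F) χ) :
    χ (negOneSL F) = χ 1 ∨ χ (negOneSL F) = - χ 1 := by
  obtain ⟨c, -, hc⟩ := irr_central_scalar hχ (negOneSL_mem_center (F := F))
  have h1 := hc 1
  have h2 := hc (negOneSL F)
  have hsq : negOneSL F * negOneSL F = 1 := by
    apply sl2_ext <;> simp [sl2_mul_apply, negOneSL]
  rw [mul_one] at h1
  rw [hsq, h1] at h2
  obtain ⟨n, hn, -, hn0⟩ := Cfsg.Agent.Lib.Helper3.IsIrrCharacter.apply_one_dvd_card hχ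
  have hχ1 : χ 1 ≠ 0 := by
    rw [hn]; exact Nat.cast_ne_zero.mpr hn0
  have hc2 : (c - 1) * (c + 1) = 0 := by
    have : χ 1 * ((c - 1) * (c + 1)) = 0 := by linear_combination -h2
    rcases mul_eq_zero.mp this with h | h
    · exact absurd h hχ1
    · exact h
  rw [h1]
  rcases mul_eq_zero.mp hc2 with h | h
  · left
    have : c = 1 := by linear_combination h
    rw [this, one_mul]
  · right
    have : c = -1 := by linear_combination h
    rw [this]; ring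


theorem negOneSL_ne_one (h2 : (2 : F) ≠ 0) : negOneSL F ≠ 1 := by
  intro h
  have := congrArg (fun g : Matrix.SpecialLinearGroup (Fin 2) F => g.1 0 0) h
  simp only [negOneSL, mk2_00, sl2_one_00] at this
  apply h2
  linear_combination -this

section Exists

variable (F)

/-- there is an irreducible character of degree `q - 1` of `SL₂(F)` trivial at `-1`
(`|F| = 2k+1 ≥ 7`). -/
theorem exists_deg_q_sub_one_trivial_center {k : ℕ} (hk : Fintype.card F = 2 * k + 1)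
    (hk3 : 3 ≤ k) :
    ∃ χ : Matrix.SpecialLinearGroup (Fin 2) F → ℂ,
      IsIrrCharacter (Matrix.SpecialLinearGroup (Fin 2) F) χ ∧ χ 1 = ((2 * k : ℕ) : ℂ) ∧
        χ (negOneSL F) = χ 1 := by
  classical
  by_contra hcon
  push Not at hcon
  have : Fintype (IrrCharacter (Matrix.SpecialLinearGroup (Fin 2) F)) := Fintype.ofFinite _
  have hodd : Odd (Fintype.card F) := ⟨k, hk⟩
  have h2 := two_ne_zero_of_odd_card hodd
  have hk2 : 2 ≤ k := by omega
  have hq4 : 4 ≤ Fintype.card F := by omega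
  have hcount := count_SL2_odd_aux F hk hk2
  obtain ⟨w, hw⟩ : ∃ w : Fin 6 → ℕ, w = ![1, 2 * k + 1, 2 * k + 2, 2 * k, k + 1, k] := ⟨_, rfl⟩
  have hwinj : Function.Injective w := by
    rw [hw]
    intro i j h
    fin_cases i <;> fin_cases j <;> simp at h ⊢ <;> omega
  have hwpos : ∀ i, w i ≠ 0 := by
    rw [hw]
    intro i
    fin_cases i <;> simp <;> omega
  obtain ⟨v, hvdef⟩ : ∃ v : Fin 6 × Bool → ℂ × ℂ,
      v = fun p => (((w p.1 : ℕ) : ℂ), if p.2 then ((w p.1 : ℕ) : ℂ) else -((w p.1 : ℕ) : ℂ)) :=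
    ⟨_, rfl⟩
  have hvinj : Function.Injective v := by
    rw [hvdef]
    rintro ⟨i, s⟩ ⟨j, s'⟩ h
    simp only [Prod.mk.injEq] at h
    obtain ⟨h1, h2'⟩ := h
    have hij : i = j := hwinj (Nat.cast_injective (R := ℂ) h1)
    subst hij
    have hw0 : ((w i : ℕ) : ℂ) ≠ 0 := Nat.cast_ne_zero.mpr (hwpos i)
    have hss : s = s' := by
      cases s <;> cases s' <;> simp at h2' ⊢
      · exact hw0 (by linear_combination (-1 / 2 : ℂ) * h2')
      · exact hw0 (by linear_combination (1 / 2 : ℂ) * h2')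
    rw [hss]
  have hex : ∀ χ : IrrCharacter (Matrix.SpecialLinearGroup (Fin 2) F),
      ∃ p, ((χ : Matrix.SpecialLinearGroup (Fin 2) F → ℂ) 1,
        (χ : Matrix.SpecialLinearGroup (Fin 2) F → ℂ) (negOneSL F)) = v p := by
    intro χ
    have hdeg : ∃ i, (χ : Matrix.SpecialLinearGroup (Fin 2) F → ℂ) 1 = ((w i : ℕ) : ℂ) := by
      rw [hw]
      rcases irr_SL2_odd_types hk χ.1 χ.2 with ⟨-, h1⟩ | ⟨-, h1⟩ | ⟨α, -, -, h1⟩ |
        ⟨α, ξ', d, -, -, -, -, -, -, h1⟩ | ⟨ψ, -, -, h1⟩ | ⟨ψ, ξ', d, -, -, -, -, -, h1⟩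
      · exact ⟨0, h1⟩
      · exact ⟨1, h1⟩
      · exact ⟨2, h1⟩
      · exact ⟨4, h1⟩
      · exact ⟨3, h1⟩
      · exact ⟨5, h1⟩
    obtain ⟨i, hi⟩ := hdeg
    rw [hvdef]
    rcases irr_SL2_neg_one χ.2 with h | h
    · exact ⟨(i, true), by simp [h, hi]⟩
    · exact ⟨(i, false), by simp [h, hi]⟩
  have hsplit := sum_split_fintype
    (fun χ : IrrCharacter (Matrix.SpecialLinearGroup (Fin 2) F) =>
      ((χ : Matrix.SpecialLinearGroup (Fin 2) F → ℂ) 1,
        (χ : Matrix.SpecialLinearGroup (Fin 2) F → ℂ) (negOneSL F))) v hvinj hex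
    (fun χ => (χ : Matrix.SpecialLinearGroup (Fin 2) F → ℂ) 1 *
      conj ((χ : Matrix.SpecialLinearGroup (Fin 2) F → ℂ) (negOneSL F)) +
      (χ : Matrix.SpecialLinearGroup (Fin 2) F → ℂ) 1 ^ 2)
    (fun p => if p.2 then 2 * ((w p.1 : ℕ) : ℂ) ^ 2 else 0)
    (fun χ p h => by
      beta_reduce at h ⊢
      rw [hvdef] at h
      simp only [Prod.mk.injEq] at h
      obtain ⟨h1, h2'⟩ := h
      rw [h1, h2']
      rcases p with ⟨i, s⟩
      cases s <;> simp <;> ring)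
  beta_reduce at hsplit
  rw [Finset.sum_add_distrib, Cfsg.Agent.Lib.Helper3.sum_sq_degree,
    Cfsg.Agent.Lib.Helper3.column_orthogonality, if_neg (by
      rw [isConj_one_right]
      exact negOneSL_ne_one h2), zero_add, card_SL2, Fintype.sum_prod_type] at hsplit
  simp only [Fintype.sum_bool, if_true, if_false, Bool.false_eq_true, mul_zero, add_zero]
    at hsplit
  rw [hvdef] at hsplit
  simp only [if_true] at hsplit
  rw [hw] at hsplit
  simp only [Fin.sum_univ_six, Matrix.cons_val] at hsplit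
  -- the six counts
  obtain ⟨n0, hn0⟩ : ∃ n : ℕ, n = Nat.card {χ : IrrCharacter
      (Matrix.SpecialLinearGroup (Fin 2) F) // ((χ : Matrix.SpecialLinearGroup (Fin 2) F → ℂ) 1,
        (χ : Matrix.SpecialLinearGroup (Fin 2) F → ℂ) (negOneSL F)) =
        (((1 : ℕ) : ℂ), ((1 : ℕ) : ℂ))} := ⟨_, rfl⟩
  obtain ⟨n1, hn1⟩ : ∃ n : ℕ, n = Nat.card {χ : IrrCharacter
      (Matrix.SpecialLinearGroup (Fin 2) F) // ((χ : Matrix.SpecialLinearGroup (Fin 2) F → ℂ) 1,
        (χ : Matrix.SpecialLinearGroup (Fin 2) F → ℂ) (negOneSL F)) =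
        (((2 * k + 1 : ℕ) : ℂ), ((2 * k + 1 : ℕ) : ℂ))} := ⟨_, rfl⟩
  obtain ⟨n2, hn2⟩ : ∃ n : ℕ, n = Nat.card {χ : IrrCharacter
      (Matrix.SpecialLinearGroup (Fin 2) F) // ((χ : Matrix.SpecialLinearGroup (Fin 2) F → ℂ) 1,
        (χ : Matrix.SpecialLinearGroup (Fin 2) F → ℂ) (negOneSL F)) =
        (((2 * k + 2 : ℕ) : ℂ), ((2 * k + 2 : ℕ) : ℂ))} := ⟨_, rfl⟩
  obtain ⟨n3, hn3⟩ : ∃ n : ℕ, n = Nat.card {χ : IrrCharacter
      (Matrix.SpecialLinearGroup (Fin 2) F) // ((χ : Matrix.SpecialLinearGroup (Fin 2) F → ℂ) 1,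
        (χ : Matrix.SpecialLinearGroup (Fin 2) F → ℂ) (negOneSL F)) =
        (((2 * k : ℕ) : ℂ), ((2 * k : ℕ) : ℂ))} := ⟨_, rfl⟩
  obtain ⟨n4, hn4⟩ : ∃ n : ℕ, n = Nat.card {χ : IrrCharacter
      (Matrix.SpecialLinearGroup (Fin 2) F) // ((χ : Matrix.SpecialLinearGroup (Fin 2) F → ℂ) 1,
        (χ : Matrix.SpecialLinearGroup (Fin 2) F → ℂ) (negOneSL F)) =
        (((k + 1 : ℕ) : ℂ), ((k + 1 : ℕ) : ℂ))} := ⟨_, rfl⟩
  obtain ⟨n5, hn5⟩ : ∃ n : ℕ, n = Nat.card {χ : IrrCharacter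
      (Matrix.SpecialLinearGroup (Fin 2) F) // ((χ : Matrix.SpecialLinearGroup (Fin 2) F → ℂ) 1,
        (χ : Matrix.SpecialLinearGroup (Fin 2) F → ℂ) (negOneSL F)) =
        (((k : ℕ) : ℂ), ((k : ℕ) : ℂ))} := ⟨_, rfl⟩
  rw [← hn0, ← hn1, ← hn2, ← hn3, ← hn4, ← hn5] at hsplit
  -- n0 = 1
  have h0 : n0 = 1 := by
    rw [hn0, Nat.card_eq_one_iff_unique]
    refine ⟨⟨?_⟩, ⟨⟨⟨fun _ => 1, Cfsg.Agent.Lib.Helper3.isIrrCharacter_one⟩, by simp⟩⟩⟩
    rintro ⟨⟨χ, hχ⟩, h1⟩ ⟨⟨χ', hχ'⟩, h1'⟩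
    simp only [Prod.mk.injEq] at h1 h1'
    have e1 := irr_SL2_deg_one hq4 χ hχ (by simpa using h1.1)
    have e2 := irr_SL2_deg_one hq4 χ' hχ' (by simpa using h1'.1)
    subst e1; subst e2; rfl
  have h1 : n1 = 1 := by
    rw [hn1, Nat.card_eq_one_iff_unique]
    refine ⟨⟨?_⟩, ⟨⟨⟨steinbergSL F, isIrr_steinbergSL⟩, by
      change (steinbergSL F 1, steinbergSL F (negOneSL F)) = _
      rw [steinbergSL_center _ negOneSL_mem_center, steinbergSL_one, hk]⟩⟩⟩
    rintro ⟨⟨χ, hχ⟩, h1⟩ ⟨⟨χ', hχ'⟩, h1'⟩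
    simp only [Prod.mk.injEq] at h1 h1'
    have e1 := irr_SL2_deg_q χ hχ (by rw [hk]; exact h1.1)
    have e2 := irr_SL2_deg_q χ' hχ' (by rw [hk]; exact h1'.1)
    subst e1; subst e2; rfl
  have h3 : n3 = 0 := by
    rw [hn3, Nat.card_eq_zero]
    left
    constructor
    rintro ⟨⟨χ, hχ⟩, h⟩
    simp only [Prod.mk.injEq] at h
    exact hcon χ hχ h.1 (h.2.trans h.1.symm)
  have h5 : n5 ≤ 2 := by
    rw [hn5]
    refine le_trans ?_ (le_of_eq hcount.2.2.2.2.2)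
    apply Nat.card_le_card_of_injective
      (fun x : {χ : IrrCharacter (Matrix.SpecialLinearGroup (Fin 2) F) //
        ((χ : Matrix.SpecialLinearGroup (Fin 2) F → ℂ) 1,
        (χ : Matrix.SpecialLinearGroup (Fin 2) F → ℂ) (negOneSL F)) =
        (((k : ℕ) : ℂ), ((k : ℕ) : ℂ))} =>
        (⟨x.1, (Prod.mk.injEq _ _ _ _ ▸ x.2).1⟩ :
          {χ : IrrCharacter (Matrix.SpecialLinearGroup (Fin 2) F) //
            (χ : Matrix.SpecialLinearGroup (Fin 2) F → ℂ) 1 = ((k : ℕ) : ℂ)}))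
    intro x y h
    apply Subtype.ext
    exact congrArg (fun z => z.1) h
  rw [h0, h1, h3] at hsplit
  have heqN : (2 * k + 1) * ((2 * k + 1) ^ 2 - 1) =
      2 + 2 * (2 * k + 1) ^ 2 + n2 * (2 * (2 * k + 2) ^ 2) + n4 * (2 * (k + 1) ^ 2) +
        n5 * (2 * k ^ 2) := by
    have : (((2 * k + 1) * ((2 * k + 1) ^ 2 - 1) : ℕ) : ℂ) =
        ((2 + 2 * (2 * k + 1) ^ 2 + n2 * (2 * (2 * k + 2) ^ 2) + n4 * (2 * (k + 1) ^ 2) +
        n5 * (2 * k ^ 2) : ℕ) : ℂ) := by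
      rw [hk] at hsplit
      rw [hsplit]
      push_cast
      ring
    exact_mod_cast this
  -- arithmetic
  have hpos : 1 ≤ (2 * k + 1) ^ 2 := Nat.one_le_pow _ _ (by omega)
  have heqZ : (2 * (k : ℤ) + 1) * ((2 * (k : ℤ) + 1) ^ 2 - 1) =
      2 + 2 * (2 * (k : ℤ) + 1) ^ 2 + n2 * (2 * (2 * (k : ℤ) + 2) ^ 2) +
        n4 * (2 * ((k : ℤ) + 1) ^ 2) + n5 * (2 * (k : ℤ) ^ 2) := by
    have := congrArg (Nat.cast (R := ℤ)) heqN
    rw [Nat.cast_mul, Nat.cast_sub hpos] at this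
    push_cast at this
    linear_combination this
  have hhalf : 2 * (k : ℤ) * ((k : ℤ) + 1) * (2 * (k : ℤ) + 1) =
      1 + (2 * (k : ℤ) + 1) ^ 2 + ((k : ℤ) + 1) ^ 2 * (4 * n2 + n4) + (k : ℤ) ^ 2 * n5 := by
    apply mul_left_cancel₀ (two_ne_zero (α := ℤ))
    linear_combination heqZ
  have hdvd : ((k : ℤ) + 1) ∣ 2 + (n5 : ℤ) :=
    ⟨2 * k * (2 * k + 1) - (k + 1) * (4 * n2 + n4) - 4 * k - n5 * (k - 1), by
      linear_combination (-1 : ℤ) * hhalf⟩
  have hle := Int.le_of_dvd (by positivity) hdvd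
  have hk3' : k = 3 := by omega
  subst hk3'
  have hn5' : n5 = 2 := by
    obtain ⟨c, hc⟩ := hdvd
    omega
  subst hn5'
  omega

/-- there is an irreducible character of degree `q + 1` of `SL₂(F)` trivial at `-1`
(`|F| > 5`). -/
theorem exists_deg_q_add_one_trivial_center (hq : 5 < Fintype.card F) :
    ∃ χ : Matrix.SpecialLinearGroup (Fin 2) F → ℂ,
      IsIrrCharacter (Matrix.SpecialLinearGroup (Fin 2) F) χ ∧
        χ 1 = ((Fintype.card F + 1 : ℕ) : ℂ) ∧ χ (negOneSL F) = χ 1 := by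
  classical
  obtain ⟨e⟩ := MulChar.mulEquiv_units F ℂ
  have hcyc : IsCyclic (MulChar F ℂ) := isCyclic_of_surjective e.symm e.symm.surjective
  have h4 := IsCyclic.card_pow_eq_one_le (α := MulChar F ℂ) (n := 4) (by norm_num)
  have hcard := card_mulChar (F := F)
  obtain ⟨β, hβ⟩ : ∃ β : MulChar F ℂ, β ^ 4 ≠ 1 := by
    by_contra hcon
    push Not at hcon
    have : (Finset.univ.filter (fun β : MulChar F ℂ => β ^ 4 = 1)) = Finset.univ := by
      ext β
      simp [hcon β]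
    have h5 : (Finset.univ.filter (fun β : MulChar F ℂ => β ^ 4 = 1)).card ≤ 4 := by
      convert h4 using 2
    rw [this, Finset.card_univ, hcard] at h5
    omega
  have hα : (β ^ 2) ^ 2 ≠ 1 := by
    rw [← pow_mul]
    exact hβ
  refine ⟨indFun (borelSL F) (psFun (β ^ 2)), (isIrr_ps_SL_iff (β ^ 2)).mpr hα, ?_, ?_⟩
  · rw [ps_SL_one]
    push_cast
    ring
  · rw [ps_SL_one, ps_SL_central (β ^ 2) (negOneSL F) rfl rfl rfl]
    have : (β ^ 2) ((negOneSL F).1 0 0) = 1 := by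
      have h00 : (negOneSL F).1 0 0 = -1 := rfl
      rw [h00, MulChar.pow_apply' _ two_ne_zero, ← map_pow]
      simp
    rw [this, mul_one]

theorem steinbergSL_negOne : steinbergSL F (negOneSL F) = steinbergSL F 1 :=
  steinbergSL_center _ negOneSL_mem_center

end Exists

end Cfsg.Agent.Lib.Helper38
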