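import Cfsg.Agent.Lib.Helper38.SL2Irr

set_option autoImplicit false
set_option linter.unusedSimpArgs false
set_option linter.unusedSectionVars false

/-!
Consequences of the classification of the irreducible characters of `SL₂(F)`.
-/

namespace Cfsg.Agent.Lib.Helper38

open Matrix Cfsg Cfsg.Agent.Lib.Helper25
open scoped ComplexConjugate

variable {F : Type*} [Field F] [Fintype F] [DecidableEq F]

/-- the possible degree types of an irreducible character of `SL₂(F)`. -/
theorem irr_SL2_degree_cases (ξ : Matrix.SpecialLinearGroup (Fin 2) F → ℂ)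
    (hξ : IsIrrCharacter (Matrix.SpecialLinearGroup (Fin 2) F) ξ) :
    ξ 1 = 1 ∨ ξ 1 = (Fintype.card F : ℂ) ∨ ξ 1 = (Fintype.card F : ℂ) + 1 ∨
      2 * ξ 1 = (Fintype.card F : ℂ) + 1 ∨ ξ 1 = (Fintype.card F : ℂ) - 1 ∨
      2 * ξ 1 = (Fintype.card F : ℂ) - 1 := by
  rcases irr_SL2_cases ξ hξ with rfl | rfl | ⟨α, -, rfl⟩ | ⟨α, ξ', d, -, -, -, -, hsum, hd⟩ |
    ⟨χ, hc, rfl⟩ | ⟨χ, ξ', d, hc, -, -, hsum, hd⟩
  · left; rfl
  · right; left; exact steinbergSL_one
  · right; right; left; exact ps_SL_one α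
  · right; right; right; left
    have h1 := congrFun hsum 1
    rw [ps_SL_one, Pi.add_apply, hd.one_eq] at h1
    rw [h1]; ring
  · right; right; right; right; left
    unfold resSL
    rw [map_one]
    exact cusp_one hc
  · right; right; right; right; right
    have h1 := congrFun hsum 1
    unfold resSL at h1
    rw [map_one, cusp_one hc, Pi.add_apply, hd.one_eq] at h1
    rw [h1]; ring

/-- an irreducible character of degree `q` is the Steinberg character. -/
theorem irr_SL2_deg_q (ξ : Matrix.SpecialLinearGroup (Fin 2) F → ℂ)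
    (hξ : IsIrrCharacter (Matrix.SpecialLinearGroup (Fin 2) F) ξ)
    (hdeg : ξ 1 = (Fintype.card F : ℂ)) : ξ = steinbergSL F := by
  have hq := card_field_two_le (F := F)
  rcases irr_SL2_cases ξ hξ with rfl | rfl | ⟨α, -, rfl⟩ | ⟨α, ξ', d, -, -, -, -, hsum, hd⟩ |
    ⟨χ, hc, rfl⟩ | ⟨χ, ξ', d, hc, -, -, hsum, hd⟩
  · exfalso
    have h2 : (Fintype.card F : ℂ) = ((1 : ℕ) : ℂ) := by
      push_cast; exact hdeg.symm
    have := card_complex_cast (F := F) 1 h2
    omega
  · rfl
  · exfalso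
    rw [ps_SL_one] at hdeg
    have h2 : (1 : ℂ) = 0 := by linear_combination hdeg
    exact one_ne_zero h2
  · exfalso
    have h1 := congrFun hsum 1
    rw [ps_SL_one, Pi.add_apply, hd.one_eq, hdeg] at h1
    have h2 : (Fintype.card F : ℂ) = ((1 : ℕ) : ℂ) := by
      push_cast; linear_combination -h1
    have := card_complex_cast (F := F) 1 h2
    omega
  · exfalso
    unfold resSL at hdeg
    rw [map_one, cusp_one hc] at hdeg
    have h2 : (1 : ℂ) = 0 := by linear_combination -hdeg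
    exact one_ne_zero h2
  · exfalso
    have h1 := congrFun hsum 1
    unfold resSL at h1
    rw [map_one, cusp_one hc, Pi.add_apply, hd.one_eq, hdeg] at h1
    have h2 : ((Fintype.card F + 1 : ℕ) : ℂ) = 0 := by
      push_cast; linear_combination -h1
    exact absurd h2 (Nat.cast_ne_zero.mpr (Nat.succ_ne_zero _))

theorem mulChar_one_apply_ne_zero {a : F} (ha : a ≠ 0) : (1 : MulChar F ℂ) a = 1 :=
  MulChar.one_apply (isUnit_iff_ne_zero.mpr ha)

/-- the values of the Steinberg character of `SL₂`. -/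
theorem steinbergSL_values (g : Matrix.SpecialLinearGroup (Fin 2) F) :
    (g.1 0 1 = 0 → g.1 1 0 = 0 → g.1 0 0 ^ 2 ≠ 1 → steinbergSL F g = 1) ∧
    ((∀ (c : F) (v : Fin 2 → F), v ≠ 0 → g.1.mulVec v ≠ c • v) → steinbergSL F g = -1) ∧
    (g.1 1 0 = 0 → g.1 0 0 = g.1 1 1 → g.1 0 1 ≠ 0 → steinbergSL F g = 0) := by
  have hdet := sl2_det g
  refine ⟨?_, ?_, ?_⟩
  · intro h01 h10 hne
    rw [h01, zero_mul, sub_zero] at hdet
    unfold steinbergSL
    rw [Pi.sub_apply, ps_SL_diag 1 g h01 h10 hne,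
      mulChar_one_apply_ne_zero (left_ne_zero_of_mul_eq_one hdet),
      mulChar_one_apply_ne_zero (right_ne_zero_of_mul_eq_one hdet)]
    ring
  · intro hg
    unfold steinbergSL
    rw [Pi.sub_apply, ps_SL_elliptic 1 g hg]
    ring
  · intro h10 heq h01
    rw [h10, mul_zero, sub_zero] at hdet
    unfold steinbergSL
    rw [Pi.sub_apply, ps_SL_unipotent 1 g h10 heq h01,
      mulChar_one_apply_ne_zero (left_ne_zero_of_mul_eq_one hdet)]
    ring

theorem natCast_add_ne_zero (n k : ℕ) (hk : 0 < k) : ((n : ℂ) + (k : ℂ)) ≠ 0 := by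
  have : ((n + k : ℕ) : ℂ) ≠ 0 := Nat.cast_ne_zero.mpr (by omega)
  simpa using this

/-- an irreducible character of degree `q + 1` is a principal series character. -/
theorem irr_SL2_deg_q_add_one (ξ : Matrix.SpecialLinearGroup (Fin 2) F → ℂ)
    (hξ : IsIrrCharacter (Matrix.SpecialLinearGroup (Fin 2) F) ξ)
    (hdeg : ξ 1 = (Fintype.card F : ℂ) + 1) :
    ∃ α : MulChar F ℂ, α ^ 2 ≠ 1 ∧ ξ = indFun (borelSL F) (psFun α) := by
  have hq := card_field_two_le (F := F)
  rcases irr_SL2_cases ξ hξ with rfl | rfl | ⟨α, hα, rfl⟩ | ⟨α, ξ', d, -, -, -, -, hsum, hd⟩ |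
    ⟨χ, hc, rfl⟩ | ⟨χ, ξ', d, hc, -, -, hsum, hd⟩
  · exfalso
    have h2 : (Fintype.card F : ℂ) = ((0 : ℕ) : ℂ) := by
      push_cast; linear_combination -hdeg
    have := card_complex_cast (F := F) 0 h2
    omega
  · exfalso
    rw [steinbergSL_one] at hdeg
    have h2 : (1 : ℂ) = 0 := by linear_combination -hdeg
    exact one_ne_zero h2
  · exact ⟨α, hα, rfl⟩
  · exfalso
    have h1 := congrFun hsum 1
    rw [ps_SL_one, Pi.add_apply, hd.one_eq, hdeg] at h1
    apply natCast_add_ne_zero (Fintype.card F) 1 (by norm_num)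
    push_cast
    linear_combination -h1
  · exfalso
    unfold resSL at hdeg
    rw [map_one, cusp_one hc] at hdeg
    have h2 : (2 : ℂ) = 0 := by linear_combination -hdeg
    exact two_ne_zero h2
  · exfalso
    have h1 := congrFun hsum 1
    unfold resSL at h1
    rw [map_one, cusp_one hc, Pi.add_apply, hd.one_eq, hdeg] at h1
    apply natCast_add_ne_zero (Fintype.card F) 3 (by norm_num)
    push_cast
    linear_combination -h1

/-- an irreducible character of degree `q - 1` is the restriction of a cuspidal character of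
`GL₂` (for `q ≥ 4`). -/
theorem irr_SL2_deg_q_sub_one (hq : 4 ≤ Fintype.card F)
    (ξ : Matrix.SpecialLinearGroup (Fin 2) F → ℂ)
    (hξ : IsIrrCharacter (Matrix.SpecialLinearGroup (Fin 2) F) ξ)
    (hdeg : ξ 1 = (Fintype.card F : ℂ) - 1) :
    ∃ χ : GL (Fin 2) F → ℂ, IsCuspidalGL χ ∧ ξ = resSL χ := by
  rcases irr_SL2_cases ξ hξ with rfl | rfl | ⟨α, hα, rfl⟩ | ⟨α, ξ', d, -, -, -, -, hsum, hd⟩ |
    ⟨χ, hc, rfl⟩ | ⟨χ, ξ', d, hc, -, -, hsum, hd⟩
  · exfalso
    have h2 : (Fintype.card F : ℂ) = ((2 : ℕ) : ℂ) := by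
      push_cast; linear_combination -hdeg
    have := card_complex_cast (F := F) 2 h2
    omega
  · exfalso
    rw [steinbergSL_one] at hdeg
    have h2 : (1 : ℂ) = 0 := by linear_combination hdeg
    exact one_ne_zero h2
  · exfalso
    rw [ps_SL_one] at hdeg
    have h2 : (2 : ℂ) = 0 := by linear_combination hdeg
    exact two_ne_zero h2
  · exfalso
    have h1 := congrFun hsum 1
    rw [ps_SL_one, Pi.add_apply, hd.one_eq, hdeg] at h1
    have h2 : (Fintype.card F : ℂ) = ((3 : ℕ) : ℂ) := by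
      push_cast; linear_combination -h1
    have := card_complex_cast (F := F) 3 h2
    omega
  · exact ⟨χ, hc, rfl⟩
  · exfalso
    have h1 := congrFun hsum 1
    unfold resSL at h1
    rw [map_one, cusp_one hc, Pi.add_apply, hd.one_eq, hdeg] at h1
    have h2 : (Fintype.card F : ℂ) = ((1 : ℕ) : ℂ) := by
      push_cast; linear_combination -h1
    have := card_complex_cast (F := F) 1 h2
    omega

/-- values at the standard transvection of `SL₂`. -/
theorem irr_SL2_value_unip (hq : 4 ≤ Fintype.card F)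
    (χ : Matrix.SpecialLinearGroup (Fin 2) F → ℂ)
    (hχ : IsIrrCharacter (Matrix.SpecialLinearGroup (Fin 2) F) χ)
    (u : Matrix.SpecialLinearGroup (Fin 2) F) (hu : u.1 = !![1, 1; 0, 1]) :
    (χ 1 = (Fintype.card F : ℂ) + 1 → χ u = 1) ∧
      (χ 1 = (Fintype.card F : ℂ) - 1 → χ u = -1) := by
  have h00 : u.1 0 0 = 1 := by rw [hu]; rfl
  have h01 : u.1 0 1 = 1 := by rw [hu]; rfl
  have h10 : u.1 1 0 = 0 := by rw [hu]; rfl
  have h11 : u.1 1 1 = 1 := by rw [hu]; rfl
  constructor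
  · intro hdeg
    obtain ⟨α, -, rfl⟩ := irr_SL2_deg_q_add_one χ hχ hdeg
    rw [ps_SL_unipotent α u h10 (by rw [h00, h11]) (by rw [h01]; exact one_ne_zero), h00, map_one]
  · intro hdeg
    obtain ⟨ψ, hc, rfl⟩ := irr_SL2_deg_q_sub_one hq χ hχ hdeg
    unfold resSL
    exact cusp_unip hc _ h10 h00 h11 (by rw [toGL_apply, h01]; exact one_ne_zero)

end Cfsg.Agent.Lib.Helper38
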