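import Cfsg.Agent.Lib.Helper38.SL2Torus
import Cfsg.Agent.Lib.Helper38.SL2CentralSign
import Cfsg.Agent.Lib.Helper38.SL2Table
import Cfsg.Agent.Lib.Helper38.PSL2Steinberg
import Cfsg.Agent.Lib.Helper38.SLCard
import Cfsg.Agent.Lib.Helper81.PSection
import Cfsg.Agent.Lib.Helper81.LocalRing
import Cfsg.Agent.Lib.Helper3.Ortho

set_option autoImplicit false
set_option linter.unusedSimpArgs false
set_option linter.unusedSectionVars false

/-!
The `p`-blocks of `SL₂(F)`, `F` a finite field of odd characteristic `p`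
(defining characteristic).
-/

namespace Cfsg.Agent.Lib.Helper38

open Matrix Cfsg Cfsg.Agent.Lib.Helper25 Cfsg.Agent.Lib.Helper81
open scoped ComplexConjugate

variable {F : Type*} [Field F] [Fintype F] [DecidableEq F]

/-- powers of an element of trace `2`. -/
theorem pow_entries_of_trace_two (v : Matrix.SpecialLinearGroup (Fin 2) F)
    (htr : v.1 0 0 + v.1 1 1 = 2) (n : ℕ) :
    (v ^ n).1 0 0 = 1 + n * (v.1 0 0 - 1) ∧ (v ^ n).1 0 1 = n * v.1 0 1 ∧
    (v ^ n).1 1 0 = n * v.1 1 0 ∧ (v ^ n).1 1 1 = 1 + n * (v.1 1 1 - 1) := by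
  have hd := sl2_det v
  induction n with
  | zero => simp
  | succ n ih =>
    obtain ⟨h00, h01, h10, h11⟩ := ih
    rw [pow_succ]
    simp only [sl2_mul_apply, h00, h01, h10, h11]
    push_cast
    refine ⟨?_, ?_, ?_, ?_⟩
    · linear_combination (n : F) * v.1 0 0 * htr - (n : F) * hd
    · linear_combination (n : F) * v.1 0 1 * htr
    · linear_combination (n : F) * v.1 1 0 * htr
    · linear_combination (n : F) * v.1 1 1 * htr - (n : F) * hd

/-- an element of trace `2` of `SL₂(F)`, `char F = p`, has `p`-th power one. -/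
theorem pow_char_eq_one_of_trace_two (p : ℕ) [CharP F p]
    (v : Matrix.SpecialLinearGroup (Fin 2) F) (htr : v.1 0 0 + v.1 1 1 = 2) : v ^ p = 1 := by
  obtain ⟨h00, h01, h10, h11⟩ := pow_entries_of_trace_two v htr p
  have hp : ((p : ℕ) : F) = 0 := CharP.cast_eq_zero F p
  apply sl2_ext
  · rw [h00, hp, sl2_one_00]; ring
  · rw [h01, hp, sl2_one_01]; ring
  · rw [h10, hp, sl2_one_10]; ring
  · rw [h11, hp, sl2_one_11]; ring

/-- an element commuting with the standard transvection has `tr² = 4`. -/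
theorem tr_sq_of_comm_unip (g : Matrix.SpecialLinearGroup (Fin 2) F)
    (h : g * unipSL 1 = unipSL 1 * g) : (g.1 0 0 + g.1 1 1) ^ 2 = 4 := by
  have hd := sl2_det g
  have e00 := congrArg (fun y : Matrix.SpecialLinearGroup (Fin 2) F => y.1 0 0) h
  have e01 := congrArg (fun y : Matrix.SpecialLinearGroup (Fin 2) F => y.1 0 1) h
  simp only [sl2_mul_apply, unipSL, mk2_00, mk2_01, mk2_10, mk2_11] at e00 e01
  have h10 : g.1 1 0 = 0 := by linear_combination -e00
  have h11 : g.1 1 1 = g.1 0 0 := by linear_combination -e01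
  rw [h10, mul_zero, sub_zero, h11] at hd
  rw [h11]
  linear_combination 4 * hd

/-- decomposition of an element with `tr² = 4` as a `p`-element times a central element. -/
theorem exists_unip_mul_central (p : ℕ) [CharP F p]
    (g : Matrix.SpecialLinearGroup (Fin 2) F) (htr : (g.1 0 0 + g.1 1 1) ^ 2 = 4) :
    ∃ v ε : Matrix.SpecialLinearGroup (Fin 2) F, g = v * ε ∧ (ε = 1 ∨ ε = negOneSL F) ∧
      v ^ p = 1 := by
  have hcases : g.1 0 0 + g.1 1 1 = 2 ∨ g.1 0 0 + g.1 1 1 = -2 := by
    have : (g.1 0 0 + g.1 1 1 - 2) * (g.1 0 0 + g.1 1 1 + 2) = 0 := by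
      linear_combination htr
    rcases mul_eq_zero.mp this with h | h
    · left; linear_combination h
    · right; linear_combination h
  rcases hcases with h | h
  · exact ⟨g, 1, by simp, Or.inl rfl, pow_char_eq_one_of_trace_two p g h⟩
  · refine ⟨negOneSL F * g, negOneSL F, ?_, Or.inr rfl, ?_⟩
    · have hc := Subgroup.mem_center_iff.mp (negOneSL_mem_center (F := F)) g
      have hsq : negOneSL F * negOneSL F = 1 := by
        apply sl2_ext <;> simp [sl2_mul_apply, negOneSL]
      rw [mul_assoc, hc, ← mul_assoc, hsq, one_mul]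
    · apply pow_char_eq_one_of_trace_two
      rw [negOneSL_mul_apply, negOneSL_mul_apply]
      linear_combination -h

/-- the class of an element with `tr² ≠ 4` has size divisible by `p`. -/
theorem dvd_index_centralizer_of_tr (p : ℕ) [Fact p.Prime] [CharP F p]
    (g : Matrix.SpecialLinearGroup (Fin 2) F) (htr : (g.1 0 0 + g.1 1 1) ^ 2 ≠ 4) :
    p ∣ (Subgroup.centralizer ({g} : Set (Matrix.SpecialLinearGroup (Fin 2) F))).index := by
  by_contra hnd
  have hP : IsPGroup p (Subgroup.zpowers (unipSL (1 : F))) := by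
    intro x
    obtain ⟨x, hx⟩ := x
    obtain ⟨k, rfl⟩ := Subgroup.mem_zpowers_iff.mp hx
    refine ⟨1, ?_⟩
    apply Subtype.ext
    rw [pow_one]
    change (unipSL (1 : F) ^ k) ^ p = 1
    rw [← zpow_natCast, ← _root_.zpow_mul, mul_comm, _root_.zpow_mul, zpow_natCast, unipSL_pow,
      CharP.cast_eq_zero F p, zero_mul, unipSL_zero, _root_.one_zpow]
  obtain ⟨x, hx⟩ := hP.nonempty_fixed_point_of_prime_not_dvd_card
    (Matrix.SpecialLinearGroup (Fin 2) F ⧸
      Subgroup.centralizer ({g} : Set (Matrix.SpecialLinearGroup (Fin 2) F))) hnd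
  obtain ⟨y, rfl⟩ := QuotientGroup.mk_surjective x
  have h1 := hx ⟨unipSL (1 : F), Subgroup.mem_zpowers _⟩
  have h2 : ((unipSL (1 : F) * y : Matrix.SpecialLinearGroup (Fin 2) F) :
      Matrix.SpecialLinearGroup (Fin 2) F ⧸
      Subgroup.centralizer ({g} : Set (Matrix.SpecialLinearGroup (Fin 2) F))) = (y : _) := h1
  rw [QuotientGroup.eq, Subgroup.mem_centralizer_singleton_iff] at h2
  apply htr
  have h3 : (y * g * y⁻¹) * unipSL 1 = unipSL 1 * (y * g * y⁻¹) := by
    have : y * (((unipSL (1 : F) * y)⁻¹ * y) * g) * y⁻¹ = y * (g * ((unipSL (1 : F) * y)⁻¹ * y)) * y⁻¹ := by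
      rw [h2]
    have e1 : y * (((unipSL (1 : F) * y)⁻¹ * y) * g) * y⁻¹ = (unipSL 1)⁻¹ * (y * g * y⁻¹) := by
      group
    have e2 : y * (g * ((unipSL (1 : F) * y)⁻¹ * y)) * y⁻¹ = (y * g * y⁻¹) * (unipSL 1)⁻¹ := by
      group
    rw [e1, e2] at this
    calc (y * g * y⁻¹) * unipSL 1 = unipSL 1 * ((unipSL 1)⁻¹ * (y * g * y⁻¹)) * unipSL 1 := by
          group
      _ = unipSL 1 * ((y * g * y⁻¹) * (unipSL 1)⁻¹) * unipSL 1 := by rw [this]
      _ = unipSL 1 * (y * g * y⁻¹) := by group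
  have h4 := tr_sq_of_comm_unip _ h3
  have h5 := sl2_conj_trace g y⁻¹
  rw [inv_inv] at h5
  rw [← h5]
  exact h4

/-- the upper unitriangular subgroup as a homomorphic image of the additive group of `F`. -/
def unipHom (F : Type*) [Field F] [Fintype F] [DecidableEq F] :
    Multiplicative F →* Matrix.SpecialLinearGroup (Fin 2) F where
  toFun x := unipSL (Multiplicative.toAdd x)
  map_one' := unipSL_zero
  map_mul' _ _ := (unipSL_mul _ _).symm

theorem char_dvd_card (p : ℕ) [Fact p.Prime] [CharP F p] : p ∣ Fintype.card F := by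
  rw [← CharP.cast_eq_zero_iff F p]
  exact Nat.cast_card_eq_zero F

/-- the class of the standard transvection has size prime to `p`. -/
theorem not_dvd_index_centralizer_unip (p : ℕ) [Fact p.Prime] [CharP F p] :
    ¬ p ∣ (Subgroup.centralizer
      ({unipSL (1 : F)} : Set (Matrix.SpecialLinearGroup (Fin 2) F))).index := by
  intro hdvd
  have hq : 2 ≤ Fintype.card F := Fintype.one_lt_card
  have hle : (unipHom F).range ≤ Subgroup.centralizer
      ({unipSL (1 : F)} : Set (Matrix.SpecialLinearGroup (Fin 2) F)) := by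
    rintro _ ⟨x, rfl⟩
    rw [Subgroup.mem_centralizer_singleton_iff]
    change unipSL _ * unipSL 1 = unipSL 1 * unipSL _
    rw [unipSL_mul, unipSL_mul, add_comm]
  have hinj : Function.Injective (unipHom F) := by
    intro x y h
    exact Multiplicative.toAdd.injective (unipSL_injective h)
  have hcard : Nat.card (unipHom F).range = Fintype.card F := by
    rw [← Nat.card_congr (MonoidHom.ofInjective hinj).toEquiv, Nat.card_eq_fintype_card]
    exact Fintype.card_congr Multiplicative.toAdd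
  have h1 := Subgroup.card_dvd_of_le hle
  rw [hcard] at h1
  obtain ⟨m, hm⟩ := h1
  have h2 := Subgroup.card_mul_index (Subgroup.centralizer
      ({unipSL (1 : F)} : Set (Matrix.SpecialLinearGroup (Fin 2) F)))
  rw [card_SL2, hm, mul_assoc] at h2
  have h3 : m * (Subgroup.centralizer
      ({unipSL (1 : F)} : Set (Matrix.SpecialLinearGroup (Fin 2) F))).index =
      Fintype.card F ^ 2 - 1 := Nat.eq_of_mul_eq_mul_left (by omega) h2
  have h4 : p ∣ Fintype.card F ^ 2 - 1 := h3 ▸ Dvd.dvd.mul_left hdvd m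
  have h5 : p ∣ Fintype.card F ^ 2 := Dvd.dvd.pow (char_dvd_card p) (by norm_num)
  have h6 : 1 ≤ Fintype.card F ^ 2 := Nat.one_le_pow _ _ (by omega)
  have h7 : p ∣ 1 := by
    have := (Nat.dvd_sub h5 h4)
    rwa [Nat.sub_sub_self h6] at this
  exact (Fact.out : p.Prime).one_lt.ne' (Nat.dvd_one.mp h7)

theorem negOneSL_eq_neg_one : negOneSL F = (-1 : Matrix.SpecialLinearGroup (Fin 2) F) := by
  apply sl2_ext <;> simp [negOneSL]

section blocks

variable (p : ℕ) [Fact p.Prime] [CharP F p] {M : Ideal AlgInt}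

/-- the degree of an irreducible character other than the Steinberg character is prime to `p`. -/
theorem irr_SL2_degree_coprime {χ : Matrix.SpecialLinearGroup (Fin 2) F → ℂ}
    (hχ : IsIrrCharacter (Matrix.SpecialLinearGroup (Fin 2) F) χ)
    (hq : χ 1 ≠ (Fintype.card F : ℂ)) : ∃ n : ℕ, 0 < n ∧ χ 1 = (n : ℂ) ∧ ¬ p ∣ n := by
  obtain ⟨n, hn0, hn⟩ := irr_degree hχ
  refine ⟨n, hn0, hn, fun hdvd => hq ?_⟩
  rw [hn, irr_SL2_degree_of_dvd p χ hχ n hn hdvd]

theorem memLocalRing_inv_degree (hM : IsPModular p M)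
    {χ : Matrix.SpecialLinearGroup (Fin 2) F → ℂ}
    (hχ : IsIrrCharacter (Matrix.SpecialLinearGroup (Fin 2) F) χ)
    (hq : χ 1 ≠ (Fintype.card F : ℂ)) : MemLocalRing M (χ 1)⁻¹ := by
  obtain ⟨n, _, hn, hnd⟩ := irr_SL2_degree_coprime p hχ hq
  rw [hn]
  exact memLocalRing_inv_natCast hM hnd

theorem memLocalRing_char (hM : IsPModular p M)
    {χ : Matrix.SpecialLinearGroup (Fin 2) F → ℂ}
    (hχ : IsIrrCharacter (Matrix.SpecialLinearGroup (Fin 2) F) χ)
    (g : Matrix.SpecialLinearGroup (Fin 2) F) : MemLocalRing M (χ g) :=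
  memLocalRing_algInt (isPrime_of_isPModular hM)
    ⟨χ g, Cfsg.Agent.Lib.Helper3.IsCharacter.isIntegral
      (Cfsg.Agent.Lib.Helper3.IsIrrCharacter.isCharacter hχ) g⟩

/-- the value ratio at `v * ε`, `v` a `p`-element and `ε` central, is congruent to the ratio
at `ε`. -/
theorem memLocalIdeal_ratio_sub (hM : IsPModular p M)
    {χ : Matrix.SpecialLinearGroup (Fin 2) F → ℂ}
    (hχ : IsIrrCharacter (Matrix.SpecialLinearGroup (Fin 2) F) χ)
    (hq : χ 1 ≠ (Fintype.card F : ℂ)) (v ε : Matrix.SpecialLinearGroup (Fin 2) F)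
    (hv : v ^ p = 1) (hε : ε ∈ Subgroup.center (Matrix.SpecialLinearGroup (Fin 2) F)) :
    MemLocalIdeal M (χ (v * ε) / χ 1 - χ ε / χ 1) := by
  have hMp := isPrime_of_isPModular hM
  have hord : ∃ k : ℕ, orderOf v = p ^ k := by
    rcases (Nat.dvd_prime (Fact.out : p.Prime)).mp (orderOf_dvd_of_pow_eq_one hv) with h | h
    · exact ⟨0, by rw [h, pow_zero]⟩
    · exact ⟨1, by rw [h, pow_one]⟩
  have h1 := memLocalIdeal_char_mul_sub hM
    (Cfsg.Agent.Lib.Helper3.IsIrrCharacter.isCharacter hχ) v ε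
    (Subgroup.mem_center_iff.mp hε v) hord
  have h2 := memLocalIdeal_mul_right hMp h1 (memLocalRing_inv_degree p hM hχ hq)
  have e : χ (v * ε) / χ 1 - χ ε / χ 1 = (χ (v * ε) - χ ε) * (χ 1)⁻¹ := by
    rw [div_eq_mul_inv, div_eq_mul_inv, sub_mul]
  rw [e]
  exact h2

/-- two irreducible characters of degree prime to `p` with the same sign at `-1` lie in the same
block. -/
theorem sl2_sameBlock (hM : IsPModular p M)
    {χ ψ : Matrix.SpecialLinearGroup (Fin 2) F → ℂ}
    (hχ : IsIrrCharacter (Matrix.SpecialLinearGroup (Fin 2) F) χ)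
    (hψ : IsIrrCharacter (Matrix.SpecialLinearGroup (Fin 2) F) ψ)
    (hχq : χ 1 ≠ (Fintype.card F : ℂ)) (hψq : ψ 1 ≠ (Fintype.card F : ℂ))
    (hs : χ (negOneSL F) / χ 1 = ψ (negOneSL F) / ψ 1) : SameBlock M χ ψ := by
  have hMp := isPrime_of_isPModular hM
  intro g
  unfold centralChar
  by_cases htr : (g.1 0 0 + g.1 1 1) ^ 2 = 4
  · obtain ⟨v, ε, rfl, hε, hv⟩ := exists_unip_mul_central p g htr
    have hεc : ε ∈ Subgroup.center (Matrix.SpecialLinearGroup (Fin 2) F) := by
      rcases hε with rfl | rfl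
      · exact Subgroup.one_mem _
      · exact negOneSL_mem_center
    have hA := memLocalIdeal_ratio_sub p hM hχ hχq v ε hv hεc
    have hB := memLocalIdeal_ratio_sub p hM hψ hψq v ε hv hεc
    have hχ1 : χ 1 ≠ 0 := by
      obtain ⟨n, hn0, hn, _⟩ := irr_SL2_degree_coprime p hχ hχq
      rw [hn]; exact_mod_cast hn0.ne'
    have hψ1 : ψ 1 ≠ 0 := by
      obtain ⟨n, hn0, hn, _⟩ := irr_SL2_degree_coprime p hψ hψq
      rw [hn]; exact_mod_cast hn0.ne'
    have heq : χ ε / χ 1 = ψ ε / ψ 1 := by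
      rcases hε with rfl | rfl
      · rw [div_self hχ1, div_self hψ1]
      · exact hs
    have h3 := memLocalIdeal_mul_left hMp (memLocalRing_natCast hMp
      (Subgroup.centralizer ({v * ε} : Set (Matrix.SpecialLinearGroup (Fin 2) F))).index)
      (memLocalIdeal_sub hMp hA hB)
    have e : ((Subgroup.centralizer
        ({v * ε} : Set (Matrix.SpecialLinearGroup (Fin 2) F))).index : ℂ) * χ (v * ε) / χ 1 -
        ((Subgroup.centralizer
        ({v * ε} : Set (Matrix.SpecialLinearGroup (Fin 2) F))).index : ℂ) * ψ (v * ε) / ψ 1 =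
        ((Subgroup.centralizer
        ({v * ε} : Set (Matrix.SpecialLinearGroup (Fin 2) F))).index : ℂ) *
        ((χ (v * ε) / χ 1 - χ ε / χ 1) - (ψ (v * ε) / ψ 1 - ψ ε / ψ 1)) := by
      rw [heq]; ring
    rw [e]
    exact h3
  · have hdvd := dvd_index_centralizer_of_tr p g htr
    have hidx : MemLocalIdeal M ((Subgroup.centralizer
        ({g} : Set (Matrix.SpecialLinearGroup (Fin 2) F))).index : ℂ) :=
      (memLocalIdeal_natCast_iff hM _).mpr hdvd
    have h1 := memLocalIdeal_mul_right hMp (memLocalIdeal_mul_right hMp hidx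
      (memLocalRing_char p hM hχ g)) (memLocalRing_inv_degree p hM hχ hχq)
    have h2 := memLocalIdeal_mul_right hMp (memLocalIdeal_mul_right hMp hidx
      (memLocalRing_char p hM hψ g)) (memLocalRing_inv_degree p hM hψ hψq)
    rw [div_eq_mul_inv, div_eq_mul_inv]
    exact memLocalIdeal_sub hMp h1 h2

theorem index_centralizer_center {G : Type*} [Group G] {z : G} (hz : z ∈ Subgroup.center G) :
    (Subgroup.centralizer ({z} : Set G)).index = 1 := by
  have : Subgroup.centralizer ({z} : Set G) = ⊤ := by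
    rw [Subgroup.centralizer_eq_top_iff_subset]
    intro x hx
    rw [Set.mem_singleton_iff.mp hx]
    exact hz
  rw [this, Subgroup.index_top]

theorem irr_SL2_one_ne_zero {χ : Matrix.SpecialLinearGroup (Fin 2) F → ℂ}
    (hχ : IsIrrCharacter (Matrix.SpecialLinearGroup (Fin 2) F) χ) : χ 1 ≠ 0 := by
  obtain ⟨n, hn0, hn⟩ := irr_degree hχ
  rw [hn]; exact_mod_cast hn0.ne'

/-- characters with different signs at `-1` lie in different blocks (`p` odd). -/
theorem sl2_not_sameBlock_of_sign (hp : p ≠ 2) (hM : IsPModular p M)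
    {χ ψ : Matrix.SpecialLinearGroup (Fin 2) F → ℂ}
    (hχ : IsIrrCharacter (Matrix.SpecialLinearGroup (Fin 2) F) χ)
    (hψ : IsIrrCharacter (Matrix.SpecialLinearGroup (Fin 2) F) ψ)
    (h1 : χ (negOneSL F) = χ 1) (h2 : ψ (negOneSL F) = - ψ 1) : ¬ SameBlock M χ ψ := by
  intro h
  have h3 := h (negOneSL F)
  unfold centralChar at h3
  rw [index_centralizer_center negOneSL_mem_center, h1, h2, Nat.cast_one, one_mul, one_mul,
    div_self (irr_SL2_one_ne_zero hχ), neg_div, div_self (irr_SL2_one_ne_zero hψ)] at h3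
  have h4 : MemLocalIdeal M ((2 : ℕ) : ℂ) := by
    have : ((2 : ℕ) : ℂ) = 1 - -1 := by norm_num
    rw [this]; exact h3
  rw [memLocalIdeal_natCast_iff hM] at h4
  exact hp ((Nat.prime_dvd_prime_iff_eq (Fact.out : p.Prime) Nat.prime_two).mp h4)

/-- the Steinberg character is alone in its block. -/
theorem sl2_not_sameBlock_steinberg (hM : IsPModular p M)
    {ψ : Matrix.SpecialLinearGroup (Fin 2) F → ℂ}
    (hψ : IsIrrCharacter (Matrix.SpecialLinearGroup (Fin 2) F) ψ)
    (hψq : ψ 1 ≠ (Fintype.card F : ℂ)) : ¬ SameBlock M (steinbergSL F) ψ := by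
  have hMp := isPrime_of_isPModular hM
  intro h
  have h3 := h (unipSL 1)
  unfold centralChar at h3
  have hSt : steinbergSL F (unipSL 1) = 0 := by
    apply (steinbergSL_values (unipSL (1 : F))).2.2
    · simp [unipSL]
    · simp [unipSL]
    · simp [unipSL]
  rw [hSt, mul_zero, zero_div, zero_sub] at h3
  have h4 := memLocalIdeal_neg h3
  rw [neg_neg] at h4
  have h5 := memLocalIdeal_ratio_sub p hM hψ hψq (unipSL 1) 1
    (by rw [unipSL_pow, CharP.cast_eq_zero F p, zero_mul, unipSL_zero]) (Subgroup.one_mem _)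
  rw [mul_one, div_self (irr_SL2_one_ne_zero hψ)] at h5
  have h6 := memLocalIdeal_mul_left hMp (memLocalRing_natCast hMp
    (Subgroup.centralizer ({unipSL (1 : F)} :
      Set (Matrix.SpecialLinearGroup (Fin 2) F))).index) h5
  have h7 := memLocalIdeal_sub hMp h4 h6
  have e : ((Subgroup.centralizer ({unipSL (1 : F)} :
      Set (Matrix.SpecialLinearGroup (Fin 2) F))).index : ℂ) * ψ (unipSL 1) / ψ 1 -
      ((Subgroup.centralizer ({unipSL (1 : F)} :
      Set (Matrix.SpecialLinearGroup (Fin 2) F))).index : ℂ) * (ψ (unipSL 1) / ψ 1 - 1) =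
      ((Subgroup.centralizer ({unipSL (1 : F)} :
      Set (Matrix.SpecialLinearGroup (Fin 2) F))).index : ℂ) := by ring
  rw [e, memLocalIdeal_natCast_iff hM] at h7
  exact not_dvd_index_centralizer_unip p h7

end blocks

/-! ### the three blocks -/

/-- the block of the Steinberg character. -/
def blockSt (F : Type*) [Field F] [Fintype F] :
    Set (IrrCharacter (Matrix.SpecialLinearGroup (Fin 2) F)) :=
  {χ | (χ : Matrix.SpecialLinearGroup (Fin 2) F → ℂ) 1 = (Fintype.card F : ℂ)}

/-- the principal block. -/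
def blockPlus (F : Type*) [Field F] [Fintype F] :
    Set (IrrCharacter (Matrix.SpecialLinearGroup (Fin 2) F)) :=
  {χ | (χ : Matrix.SpecialLinearGroup (Fin 2) F → ℂ) (-1) =
      (χ : Matrix.SpecialLinearGroup (Fin 2) F → ℂ) 1 ∧
    (χ : Matrix.SpecialLinearGroup (Fin 2) F → ℂ) 1 ≠ (Fintype.card F : ℂ)}

/-- the block of the faithful characters. -/
def blockMinus (F : Type*) [Field F] [Fintype F] :
    Set (IrrCharacter (Matrix.SpecialLinearGroup (Fin 2) F)) :=
  {χ | (χ : Matrix.SpecialLinearGroup (Fin 2) F → ℂ) (-1) =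
      - (χ : Matrix.SpecialLinearGroup (Fin 2) F → ℂ) 1}

theorem irr_SL2_neg_one' {χ : Matrix.SpecialLinearGroup (Fin 2) F → ℂ}
    (hχ : IsIrrCharacter (Matrix.SpecialLinearGroup (Fin 2) F) χ) :
    χ (-1) = χ 1 ∨ χ (-1) = - χ 1 := by
  rw [← negOneSL_eq_neg_one]
  exact irr_SL2_neg_one hχ

theorem steinbergSL_neg_one' : steinbergSL F (-1) = (Fintype.card F : ℂ) := by
  rw [← negOneSL_eq_neg_one, steinbergSL_negOne, steinbergSL_one]

theorem card_ne_zero_complex : (Fintype.card F : ℂ) ≠ 0 := by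
  exact_mod_cast Fintype.card_ne_zero

/-- a character with sign `-1` is not of degree `q`. -/
theorem degree_ne_of_neg {χ : Matrix.SpecialLinearGroup (Fin 2) F → ℂ}
    (hχ : IsIrrCharacter (Matrix.SpecialLinearGroup (Fin 2) F) χ)
    (h : χ (-1) = - χ 1) : χ 1 ≠ (Fintype.card F : ℂ) := by
  intro hq
  have hSt := irr_SL2_deg_q χ hχ hq
  rw [hSt, steinbergSL_neg_one', steinbergSL_one] at h
  have : (Fintype.card F : ℂ) = 0 := by linear_combination h / 2
  exact card_ne_zero_complex this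

section blocks2

variable (p : ℕ) [Fact p.Prime] [CharP F p] {M : Ideal AlgInt}

theorem blockOf_steinberg (hM : IsPModular p M)
    (χ : IrrCharacter (Matrix.SpecialLinearGroup (Fin 2) F))
    (hq : (χ : Matrix.SpecialLinearGroup (Fin 2) F → ℂ) 1 = (Fintype.card F : ℂ)) :
    blockOf M (χ : Matrix.SpecialLinearGroup (Fin 2) F → ℂ) = blockSt F := by
  have hMp := isPrime_of_isPModular hM
  have hSt := irr_SL2_deg_q χ.1 χ.2 hq
  ext ψ
  simp only [blockOf, blockSt, Set.mem_ofPred_eq]
  constructor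
  · intro h
    by_contra hne
    rw [hSt] at h
    exact sl2_not_sameBlock_steinberg p hM ψ.2 hne h
  · intro h
    rw [hSt, irr_SL2_deg_q ψ.1 ψ.2 h]
    exact sameBlock_refl hMp _

theorem blockOf_plus (hp : p ≠ 2) (hM : IsPModular p M)
    (χ : IrrCharacter (Matrix.SpecialLinearGroup (Fin 2) F))
    (h1 : (χ : Matrix.SpecialLinearGroup (Fin 2) F → ℂ) (-1) =
      (χ : Matrix.SpecialLinearGroup (Fin 2) F → ℂ) 1)
    (hq : (χ : Matrix.SpecialLinearGroup (Fin 2) F → ℂ) 1 ≠ (Fintype.card F : ℂ)) :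
    blockOf M (χ : Matrix.SpecialLinearGroup (Fin 2) F → ℂ) = blockPlus F := by
  have hMp := isPrime_of_isPModular hM
  ext ψ
  simp only [blockOf, blockPlus, Set.mem_ofPred_eq]
  constructor
  · intro h
    have hψq : ψ.1 1 ≠ (Fintype.card F : ℂ) := by
      intro hψq
      have hSt := irr_SL2_deg_q ψ.1 ψ.2 hψq
      rw [hSt] at h
      exact sl2_not_sameBlock_steinberg p hM χ.2 hq (sameBlock_symm h)
    refine ⟨?_, hψq⟩
    rcases irr_SL2_neg_one' ψ.2 with h' | h'
    · exact h'
    · exfalso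
      rw [← negOneSL_eq_neg_one] at h1 h'
      exact sl2_not_sameBlock_of_sign p hp hM χ.2 ψ.2 h1 h' h
  · rintro ⟨h', hψq⟩
    apply sl2_sameBlock p hM χ.2 ψ.2 hq hψq
    rw [negOneSL_eq_neg_one, h1, h', div_self (irr_SL2_one_ne_zero χ.2),
      div_self (irr_SL2_one_ne_zero ψ.2)]

theorem blockOf_minus (hp : p ≠ 2) (hM : IsPModular p M)
    (χ : IrrCharacter (Matrix.SpecialLinearGroup (Fin 2) F))
    (h1 : (χ : Matrix.SpecialLinearGroup (Fin 2) F → ℂ) (-1) =
      - (χ : Matrix.SpecialLinearGroup (Fin 2) F → ℂ) 1) :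
    blockOf M (χ : Matrix.SpecialLinearGroup (Fin 2) F → ℂ) = blockMinus F := by
  have hMp := isPrime_of_isPModular hM
  have hq := degree_ne_of_neg χ.2 h1
  ext ψ
  simp only [blockOf, blockMinus, Set.mem_ofPred_eq]
  constructor
  · intro h
    rcases irr_SL2_neg_one' ψ.2 with h' | h'
    · exfalso
      by_cases hψq : ψ.1 1 = (Fintype.card F : ℂ)
      · have hSt := irr_SL2_deg_q ψ.1 ψ.2 hψq
        rw [hSt] at h
        exact sl2_not_sameBlock_steinberg p hM χ.2 hq (sameBlock_symm h)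
      · rw [← negOneSL_eq_neg_one] at h1 h'
        exact sl2_not_sameBlock_of_sign p hp hM ψ.2 χ.2 h' h1 (sameBlock_symm h)
    · exact h'
  · intro h'
    apply sl2_sameBlock p hM χ.2 ψ.2 hq (degree_ne_of_neg ψ.2 h')
    rw [negOneSL_eq_neg_one, h1, h', neg_div, neg_div, div_self (irr_SL2_one_ne_zero χ.2),
      div_self (irr_SL2_one_ne_zero ψ.2)]

end blocks2

/-! ### sums of squares of degrees over the blocks -/

theorem conj_degree {χ : Matrix.SpecialLinearGroup (Fin 2) F → ℂ}
    (hχ : IsIrrCharacter (Matrix.SpecialLinearGroup (Fin 2) F) χ) : conj (χ 1) = χ 1 := by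
  obtain ⟨n, _, hn⟩ := irr_degree hχ
  rw [hn, Complex.conj_natCast]

theorem sum_degree_sq [Fintype (IrrCharacter (Matrix.SpecialLinearGroup (Fin 2) F))] :
    ∑ χ : IrrCharacter (Matrix.SpecialLinearGroup (Fin 2) F),
      (χ : Matrix.SpecialLinearGroup (Fin 2) F → ℂ) 1 *
        conj ((χ : Matrix.SpecialLinearGroup (Fin 2) F → ℂ) 1) =
      (Nat.card (Matrix.SpecialLinearGroup (Fin 2) F) : ℂ) := by
  rw [← Cfsg.Agent.Lib.Helper3.sum_sq_degree]
  apply Finset.sum_congr rfl
  intro χ _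
  rw [conj_degree χ.2, pow_two]

theorem sum_degree_neg [Fintype (IrrCharacter (Matrix.SpecialLinearGroup (Fin 2) F))]
    (h2 : (2 : F) ≠ 0) :
    ∑ χ : IrrCharacter (Matrix.SpecialLinearGroup (Fin 2) F),
      (χ : Matrix.SpecialLinearGroup (Fin 2) F → ℂ) 1 *
        conj ((χ : Matrix.SpecialLinearGroup (Fin 2) F → ℂ) (-1)) = 0 := by
  classical
  have h := Cfsg.Agent.Lib.Helper3.column_orthogonality
    (1 : Matrix.SpecialLinearGroup (Fin 2) F) (-1)
  rw [if_neg] at h
  · exact h
  · rw [isConj_one_right, ← negOneSL_eq_neg_one]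
    exact negOneSL_ne_one h2

/-- there is an irreducible character with sign `-1`. -/
theorem exists_irr_neg (h2 : (2 : F) ≠ 0) :
    ∃ χ : IrrCharacter (Matrix.SpecialLinearGroup (Fin 2) F),
      (χ : Matrix.SpecialLinearGroup (Fin 2) F → ℂ) (-1) =
        - (χ : Matrix.SpecialLinearGroup (Fin 2) F → ℂ) 1 := by
  have : Fintype (IrrCharacter (Matrix.SpecialLinearGroup (Fin 2) F)) := Fintype.ofFinite _
  by_contra hcon
  push Not at hcon
  have h1 := sum_degree_neg (F := F) h2
  have h3 := sum_degree_sq (F := F)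
  have h4 : ∑ χ : IrrCharacter (Matrix.SpecialLinearGroup (Fin 2) F),
      (χ : Matrix.SpecialLinearGroup (Fin 2) F → ℂ) 1 *
        conj ((χ : Matrix.SpecialLinearGroup (Fin 2) F → ℂ) (-1)) =
      ∑ χ : IrrCharacter (Matrix.SpecialLinearGroup (Fin 2) F),
      (χ : Matrix.SpecialLinearGroup (Fin 2) F → ℂ) 1 *
        conj ((χ : Matrix.SpecialLinearGroup (Fin 2) F → ℂ) 1) := by
    apply Finset.sum_congr rfl
    intro χ _
    rcases irr_SL2_neg_one' χ.2 with h | h
    · rw [h]
    · exact absurd h (hcon χ)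
  rw [h4, h3] at h1
  have : (Nat.card (Matrix.SpecialLinearGroup (Fin 2) F) : ℂ) ≠ 0 := by
    exact_mod_cast Nat.card_pos.ne'
  exact this h1

section blocks3

variable (p : ℕ) [Fact p.Prime] [CharP F p] {M : Ideal AlgInt}

theorem two_ne_zero_of_char (hp : p ≠ 2) : (2 : F) ≠ 0 := by
  intro h
  have h' : ((2 : ℕ) : F) = 0 := by exact_mod_cast h
  rw [CharP.cast_eq_zero_iff F p] at h'
  exact hp ((Nat.prime_dvd_prime_iff_eq (Fact.out : p.Prime) Nat.prime_two).mp h')

/-- the blocks of `SL₂(F)`. -/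
theorem isPBlock_iff (hp : p ≠ 2) (hM : IsPModular p M)
    (B : Set (IrrCharacter (Matrix.SpecialLinearGroup (Fin 2) F))) :
    IsPBlock M B ↔ (B = blockSt F ∨ B = blockPlus F ∨ B = blockMinus F) := by
  constructor
  · rintro ⟨χ, rfl⟩
    by_cases hq : (χ : Matrix.SpecialLinearGroup (Fin 2) F → ℂ) 1 = (Fintype.card F : ℂ)
    · exact Or.inl (blockOf_steinberg p hM χ hq)
    · rcases irr_SL2_neg_one' χ.2 with h | h
      · exact Or.inr (Or.inl (blockOf_plus p hp hM χ h hq))
      · exact Or.inr (Or.inr (blockOf_minus p hp hM χ h))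
  · rintro (rfl | rfl | rfl)
    · exact ⟨⟨steinbergSL F, isIrr_steinbergSL⟩,
        (blockOf_steinberg p hM ⟨steinbergSL F, isIrr_steinbergSL⟩ steinbergSL_one).symm⟩
    · refine ⟨⟨fun _ => 1, isIrr_one_SL⟩, (blockOf_plus p hp hM ⟨fun _ => 1, isIrr_one_SL⟩ rfl ?_).symm⟩
      have hq : 2 ≤ Fintype.card F := Fintype.one_lt_card
      intro h
      have h' : (1 : ℂ) = (Fintype.card F : ℂ) := h
      have : (1 : ℕ) = Fintype.card F := by exact_mod_cast h'
      omega
    · obtain ⟨χ, hχ⟩ := exists_irr_neg (two_ne_zero_of_char (F := F) p hp)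
      exact ⟨χ, (blockOf_minus p hp hM χ hχ).symm⟩

theorem blockSt_ne_blockPlus : blockSt F ≠ blockPlus F := by
  intro h
  have h1 : (⟨steinbergSL F, isIrr_steinbergSL⟩ :
      IrrCharacter (Matrix.SpecialLinearGroup (Fin 2) F)) ∈ blockSt F := steinbergSL_one
  rw [h] at h1
  exact h1.2 steinbergSL_one

theorem blockSt_ne_blockMinus : blockSt F ≠ blockMinus F := by
  intro h
  have h1 : (⟨steinbergSL F, isIrr_steinbergSL⟩ :
      IrrCharacter (Matrix.SpecialLinearGroup (Fin 2) F)) ∈ blockSt F := steinbergSL_one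
  rw [h] at h1
  exact degree_ne_of_neg isIrr_steinbergSL h1 steinbergSL_one

theorem blockPlus_ne_blockMinus : blockPlus F ≠ blockMinus F := by
  intro h
  have hq : 2 ≤ Fintype.card F := Fintype.one_lt_card
  have h1 : (⟨fun _ => 1, isIrr_one_SL⟩ :
      IrrCharacter (Matrix.SpecialLinearGroup (Fin 2) F)) ∈ blockPlus F := by
    refine ⟨rfl, ?_⟩
    intro h
    have h' : (1 : ℂ) = (Fintype.card F : ℂ) := h
    have : (1 : ℕ) = Fintype.card F := by exact_mod_cast h'
    omega
  rw [h] at h1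
  have h2 : (1 : ℂ) = -1 := h1
  norm_num at h2

theorem card_blocks (hp : p ≠ 2) (hM : IsPModular p M) :
    Nat.card {B : Set (IrrCharacter (Matrix.SpecialLinearGroup (Fin 2) F)) // IsPBlock M B} = 3 := by
  have e : {B : Set (IrrCharacter (Matrix.SpecialLinearGroup (Fin 2) F)) // IsPBlock M B} ≃
      ↥({blockSt F, blockPlus F, blockMinus F} :
        Set (Set (IrrCharacter (Matrix.SpecialLinearGroup (Fin 2) F)))) :=
    Equiv.subtypeEquivRight (fun B => by
      rw [isPBlock_iff p hp hM B]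
      simp only [Set.mem_insert_iff, Set.mem_singleton_iff])
  rw [Nat.card_congr e, Nat.card_coe_set_eq, Set.ncard_eq_three]
  exact ⟨_, _, _, blockSt_ne_blockPlus, blockSt_ne_blockMinus, blockPlus_ne_blockMinus, rfl⟩

open Classical in
theorem finsum_mem_eq_sum_ite {ι : Type*} [Fintype ι] (B : Set ι) (f : ι → ℂ) :
    ∑ᶠ ψ ∈ B, f ψ = ∑ ψ, if ψ ∈ B then f ψ else 0 := by
  have : ∑ᶠ ψ ∈ B, f ψ = ∑ ψ ∈ Finset.univ.filter (fun ψ => ψ ∈ B), f ψ := by
    apply finsum_mem_eq_sum_of_inter_support_eq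
    congr 1
    ext χ
    simp
  rw [this, Finset.sum_filter]

theorem card_SL2_ne_zero : (Nat.card (Matrix.SpecialLinearGroup (Fin 2) F) : ℂ) ≠ 0 := by
  exact_mod_cast Nat.card_pos.ne'

theorem blockCoeff_minus (h2 : (2 : F) ≠ 0) :
    blockCoeff (blockMinus F) (1 : Matrix.SpecialLinearGroup (Fin 2) F) = 1 / 2 := by
  classical
  have : Fintype (IrrCharacter (Matrix.SpecialLinearGroup (Fin 2) F)) := Fintype.ofFinite _
  unfold blockCoeff
  rw [finsum_mem_eq_sum_ite]
  have hpt : ∀ χ : IrrCharacter (Matrix.SpecialLinearGroup (Fin 2) F),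
      (if χ ∈ blockMinus F then χ.1 1 * conj (χ.1 1) else 0) =
        (χ.1 1 * conj (χ.1 1) - χ.1 1 * conj (χ.1 (-1))) / 2 := by
    intro χ
    rcases irr_SL2_neg_one' χ.2 with h | h
    · have hn : χ ∉ blockMinus F := by
        intro hm
        have hm' : χ.1 (-1) = - χ.1 1 := hm
        rw [h] at hm'
        have : χ.1 1 = 0 := by linear_combination hm' / 2
        exact irr_SL2_one_ne_zero χ.2 this
      rw [if_neg hn, h]; ring
    · have hm : χ ∈ blockMinus F := h
      rw [if_pos hm, h, map_neg]; ring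
  rw [Finset.sum_congr rfl (fun χ _ => hpt χ), ← Finset.sum_div, Finset.sum_sub_distrib,
    sum_degree_sq, sum_degree_neg h2]
  have := card_SL2_ne_zero (F := F)
  field_simp
  ring

theorem blockCoeff_plus (h2 : (2 : F) ≠ 0) :
    blockCoeff (blockPlus F) (1 : Matrix.SpecialLinearGroup (Fin 2) F) =
      1 / 2 - (Fintype.card F : ℂ) * (Fintype.card F : ℂ) /
        (Nat.card (Matrix.SpecialLinearGroup (Fin 2) F) : ℂ) := by
  classical
  have : Fintype (IrrCharacter (Matrix.SpecialLinearGroup (Fin 2) F)) := Fintype.ofFinite _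
  unfold blockCoeff
  rw [finsum_mem_eq_sum_ite]
  have hpt : ∀ χ : IrrCharacter (Matrix.SpecialLinearGroup (Fin 2) F),
      (if χ ∈ blockPlus F then χ.1 1 * conj (χ.1 1) else 0) =
        (χ.1 1 * conj (χ.1 1) + χ.1 1 * conj (χ.1 (-1))) / 2 -
          (if χ = ⟨steinbergSL F, isIrr_steinbergSL⟩ then
            (Fintype.card F : ℂ) * (Fintype.card F : ℂ) else 0) := by
    intro χ
    by_cases hq : χ.1 1 = (Fintype.card F : ℂ)
    · have hSt : χ = ⟨steinbergSL F, isIrr_steinbergSL⟩ :=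
        Subtype.ext (irr_SL2_deg_q χ.1 χ.2 hq)
      have hn : χ ∉ blockPlus F := fun hm => hm.2 hq
      rw [if_neg hn, if_pos hSt, hSt]
      simp only []
      rw [steinbergSL_neg_one', steinbergSL_one, Complex.conj_natCast]
      ring
    · have hSt : χ ≠ ⟨steinbergSL F, isIrr_steinbergSL⟩ := by
        intro h
        apply hq
        rw [h]
        exact steinbergSL_one
      rw [if_neg hSt]
      rcases irr_SL2_neg_one' χ.2 with h | h
      · have hm : χ ∈ blockPlus F := ⟨h, hq⟩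
        rw [if_pos hm, h]; ring
      · have hn : χ ∉ blockPlus F := by
          intro hm
          have hm' : χ.1 (-1) = χ.1 1 := hm.1
          rw [h] at hm'
          have : χ.1 1 = 0 := by linear_combination -hm' / 2
          exact irr_SL2_one_ne_zero χ.2 this
        rw [if_neg hn, h, map_neg]; ring
  rw [Finset.sum_congr rfl (fun χ _ => hpt χ), Finset.sum_sub_distrib, ← Finset.sum_div,
    Finset.sum_add_distrib, sum_degree_sq, sum_degree_neg h2, Finset.sum_ite_eq' Finset.univ]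
  have := card_SL2_ne_zero (F := F)
  rw [if_pos (Finset.mem_univ _)]
  field_simp
  ring

theorem centralChar_at_one {G : Type*} [Group G] {χ : G → ℂ} (h : χ 1 ≠ 0) :
    centralChar χ 1 = 1 := by
  unfold centralChar
  rw [index_centralizer_center (Subgroup.one_mem _), Nat.cast_one, one_mul, div_self h]

/-- a Sylow `p`-subgroup is a defect group of a block for which the identity is a defect
class. -/
theorem isDefectGroup_of_one {G : Type*} [Group G] (p : ℕ) [Fact p.Prime] (M : Ideal AlgInt)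
    (B : Set (IrrCharacter G)) (h : IsDefectClass M B 1) (P : Sylow p G) :
    IsDefectGroup p M B (P : Subgroup G) := by
  have hle : (P : Subgroup G) ≤ Subgroup.centralizer ({1} : Set G) := by
    intro x _
    rw [Subgroup.mem_centralizer_singleton_iff]
    simp
  refine ⟨1, h, P.subtype hle, ?_⟩
  rw [Sylow.coe_subtype, Subgroup.subgroupOf_map_subtype, inf_of_le_left hle]

theorem not_dvd_card_sq_sub_one : ¬ p ∣ Fintype.card F ^ 2 - 1 := by
  intro h4
  have hq : 2 ≤ Fintype.card F := Fintype.one_lt_card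
  have h5 : p ∣ Fintype.card F ^ 2 := Dvd.dvd.pow (char_dvd_card p) (by norm_num)
  have h6 : 1 ≤ Fintype.card F ^ 2 := Nat.one_le_pow _ _ (by omega)
  have h7 : p ∣ 1 := by
    have := (Nat.dvd_sub h5 h4)
    rwa [Nat.sub_sub_self h6] at this
  exact (Fact.out : p.Prime).one_lt.ne' (Nat.dvd_one.mp h7)

theorem memLocalRing_half (hp : p ≠ 2) (hM : IsPModular p M) : MemLocalRing M (1 / 2 : ℂ) := by
  have h : ¬ p ∣ 2 := fun h =>
    hp ((Nat.prime_dvd_prime_iff_eq (Fact.out : p.Prime) Nat.prime_two).mp h)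
  have := memLocalRing_inv_natCast hM h
  rw [one_div]
  exact_mod_cast this

theorem not_memLocalIdeal_half (hM : IsPModular p M) : ¬ MemLocalIdeal M (1 / 2 : ℂ) := by
  have hMp := isPrime_of_isPModular hM
  intro h
  have h1 := memLocalIdeal_mul_left hMp (memLocalRing_natCast hMp 2) h
  have e : ((2 : ℕ) : ℂ) * (1 / 2) = 1 := by norm_num
  rw [e] at h1
  exact not_memLocalIdeal_one hMp h1

theorem isDefectClass_minus (hp : p ≠ 2) (hM : IsPModular p M) :
    IsDefectClass M (blockMinus F) (1 : Matrix.SpecialLinearGroup (Fin 2) F) := by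
  have hMp := isPrime_of_isPModular hM
  have h2 := two_ne_zero_of_char (F := F) p hp
  refine ⟨?_, ?_, ?_⟩
  · rw [blockCoeff_minus h2]; exact memLocalRing_half p hp hM
  · rw [blockCoeff_minus h2]; exact not_memLocalIdeal_half p hM
  · intro χ _
    rw [centralChar_at_one (irr_SL2_one_ne_zero χ.2)]
    exact not_memLocalIdeal_one hMp

theorem memLocalIdeal_sq_div_card (hM : IsPModular p M) :
    MemLocalIdeal M ((Fintype.card F : ℂ) * (Fintype.card F : ℂ) /
        (Nat.card (Matrix.SpecialLinearGroup (Fin 2) F) : ℂ)) := by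
  have hMp := isPrime_of_isPModular hM
  have hq0 := card_ne_zero_complex (F := F)
  have hm := memLocalRing_inv_natCast hM (not_dvd_card_sq_sub_one (F := F) p)
  have hqM : MemLocalIdeal M ((Fintype.card F : ℕ) : ℂ) :=
    (memLocalIdeal_natCast_iff hM _).mpr (char_dvd_card p)
  have h := memLocalIdeal_mul_right hMp hqM hm
  have e : (Fintype.card F : ℂ) * (Fintype.card F : ℂ) /
        (Nat.card (Matrix.SpecialLinearGroup (Fin 2) F) : ℂ) =
      ((Fintype.card F : ℕ) : ℂ) * (((Fintype.card F ^ 2 - 1 : ℕ) : ℕ) : ℂ)⁻¹ := by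
    rw [card_SL2, Nat.cast_mul, div_eq_mul_inv, mul_inv, mul_assoc, ← mul_assoc _ _ (_)⁻¹,
      mul_inv_cancel₀ hq0, one_mul]
  rw [e]
  exact h

theorem isDefectClass_plus (hp : p ≠ 2) (hM : IsPModular p M) :
    IsDefectClass M (blockPlus F) (1 : Matrix.SpecialLinearGroup (Fin 2) F) := by
  have hMp := isPrime_of_isPModular hM
  have h2 := two_ne_zero_of_char (F := F) p hp
  have hx := memLocalIdeal_sq_div_card (F := F) p hM
  refine ⟨?_, ?_, ?_⟩
  · rw [blockCoeff_plus h2]
    exact memLocalRing_sub hMp (memLocalRing_half p hp hM) (memLocalRing_of_memLocalIdeal hx)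
  · rw [blockCoeff_plus h2]
    intro h
    have := memLocalIdeal_add hMp h hx
    rw [sub_add_cancel] at this
    exact not_memLocalIdeal_half p hM this
  · intro χ _
    rw [centralChar_at_one (irr_SL2_one_ne_zero χ.2)]
    exact not_memLocalIdeal_one hMp

/-- **The `p`-blocks of `SL₂(F)` in odd defining characteristic.** -/
theorem sl2_p_blocks_odd (hp : p ≠ 2) (hM : IsPModular p M) :
    (∀ B : Set (IrrCharacter (Matrix.SpecialLinearGroup (Fin 2) F)), IsPBlock M B ↔
      (B = blockSt F ∨ B = blockPlus F ∨ B = blockMinus F)) ∧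
    Nat.card {B : Set (IrrCharacter (Matrix.SpecialLinearGroup (Fin 2) F)) // IsPBlock M B} = 3 ∧
    ∀ P : Sylow p (Matrix.SpecialLinearGroup (Fin 2) F),
      IsDefectGroup p M (blockPlus F) (P : Subgroup (Matrix.SpecialLinearGroup (Fin 2) F)) ∧
      IsDefectGroup p M (blockMinus F) (P : Subgroup (Matrix.SpecialLinearGroup (Fin 2) F)) :=
  ⟨isPBlock_iff p hp hM, card_blocks p hp hM, fun P =>
    ⟨isDefectGroup_of_one p M _ (isDefectClass_plus p hp hM) P,
      isDefectGroup_of_one p M _ (isDefectClass_minus p hp hM) P⟩⟩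

end blocks3

end Cfsg.Agent.Lib.Helper38
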