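import Cfsg.Agent.Lib.Helper38.SL2CountOdd

set_option autoImplicit false
set_option linter.unusedSimpArgs false
set_option linter.unusedSectionVars false

/-!
Values at the transvection of the irreducible characters of `SL₂(F)`, `|F|` odd, which are not
stable under `GL₂(F)`.
-/

namespace Cfsg.Agent.Lib.Helper38

open Matrix Cfsg Cfsg.Agent.Lib.Helper25
open scoped ComplexConjugate

variable {F : Type*} [Field F] [Fintype F] [DecidableEq F]

/-- a central element acts by a scalar of absolute value one on an irreducible character. -/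
theorem irr_central_scalar {G : Type*} [Group G] [Finite G] {χ : G → ℂ}
    (hχ : IsIrrCharacter G χ) {z : G} (hz : z ∈ Subgroup.center G) :
    ∃ c : ℂ, c * conj c = 1 ∧ ∀ g, χ (z * g) = c * χ g := by
  obtain ⟨n, ρ, hρ, rfl⟩ := hχ
  have : ρ.IsIrreducible := hρ
  obtain ⟨c, hc, hcc⟩ := Cfsg.Agent.Lib.Helper79.exists_scalar_of_mem_center ρ hz
  refine ⟨c, hcc, fun g => ?_⟩
  unfold Representation.character
  rw [map_mul, hc]
  have : (c • LinearMap.id : (Fin n → ℂ) →ₗ[ℂ] (Fin n → ℂ)) * ρ g = c • ρ g := by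
    ext v
    simp
  rw [this, map_smul, smul_eq_mul]

/-- the central element `-1` of `SL₂`. -/
def negOneSL (F : Type*) [Field F] : Matrix.SpecialLinearGroup (Fin 2) F :=
  mk2 (-1) 0 0 (-1) (by ring)

theorem negOneSL_mem_center :
    negOneSL F ∈ Subgroup.center (Matrix.SpecialLinearGroup (Fin 2) F) := by
  rw [Subgroup.mem_center_iff]
  intro g
  apply sl2_ext <;> simp [sl2_mul_apply, negOneSL]

theorem twistSL_negOne_mul (d : Fˣ) (g : Matrix.SpecialLinearGroup (Fin 2) F) :
    twistSL d (negOneSL F * g) = negOneSL F * twistSL d g := by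
  apply sl2_ext <;> simp [sl2_mul_apply, negOneSL]

/-- values of an antisymmetric class function at the upper unitriangular elements. -/
theorem antisymm_upper (d₀ : Fˣ) (hd₀ : ¬ IsSquare (d₀ : F))
    (f : Matrix.SpecialLinearGroup (Fin 2) F → ℂ)
    (hcf : IsClassFunction (Matrix.SpecialLinearGroup (Fin 2) F) f)
    (hanti : ∀ g, f (twistSL d₀⁻¹ g) = - f g)
    (ε y : F) (hy : y ≠ 0) (hε : ε * ε - y * 0 = 1) :
    f (mk2 ε y 0 ε hε) =
      (if IsSquare y then 1 else -1) * f (mk2 ε 1 0 ε (by linear_combination hε)) := by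
  have hsq : ∀ (s : Fˣ) (hε' : ε * ε - ((s : F) ^ 2) * 0 = 1),
      f (mk2 ε ((s : F) ^ 2) 0 ε hε') = f (mk2 ε 1 0 ε (by linear_combination hε)) := by
    intro s hε'
    rw [← IsClassFunction.twist_sq hcf s⁻¹ (mk2 ε 1 0 ε (by linear_combination hε))]
    congr 1
    apply sl2_ext <;> simp
  by_cases hsqy : IsSquare y
  · rw [if_pos hsqy, one_mul]
    obtain ⟨r, hr⟩ := hsqy
    have hr0 : r ≠ 0 := by
      intro h0
      rw [h0, mul_zero] at hr
      exact hy hr
    rw [← hsq (Units.mk0 r hr0) (by linear_combination hε)]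
    congr 1
    apply sl2_ext <;> simp [hr, pow_two]
  · rw [if_neg hsqy]
    obtain ⟨s, hs⟩ := exists_sq_of_nonsquare (Units.mk0 y hy) d₀ hsqy hd₀
    have hs' : y = (d₀ : F) * (s : F) ^ 2 := by
      have := congrArg (fun u : Fˣ => (u : F)) hs
      simpa using this
    have h1 := hanti (mk2 ε ((s : F) ^ 2) 0 ε (by linear_combination hε))
    rw [hsq s (by linear_combination hε)] at h1
    rw [neg_one_mul, ← h1]
    congr 1
    apply sl2_ext <;> simp [hs', mul_comm]


theorem card_units_sq_eq_one (h2 : (2 : F) ≠ 0) :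
    (Finset.univ.filter (fun t : Fˣ => (t : F) ^ 2 = 1)).card = 2 := by
  have h : Finset.univ.filter (fun t : Fˣ => (t : F) ^ 2 = 1) = {1, -1} := by
    ext t
    simp only [Finset.mem_filter, Finset.mem_univ, true_and, Finset.mem_insert,
      Finset.mem_singleton]
    constructor
    · intro ht
      have h1 : ((t : F) - 1) * ((t : F) + 1) = 0 := by linear_combination ht
      rcases mul_eq_zero.mp h1 with h | h
      · left
        apply Units.ext
        rw [Units.val_one]
        linear_combination h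
      · right
        apply Units.ext
        rw [Units.val_neg, Units.val_one]
        linear_combination h
    · rintro (rfl | rfl) <;> simp
  rw [h, Finset.card_pair]
  intro h1
  have := congrArg (fun u : Fˣ => (u : F)) h1
  simp only [Units.val_one, Units.val_neg] at this
  apply h2
  linear_combination this

/-- the principal series character `R(1)` takes the value `1` at non-central elements with
`tr² = 4`. -/
theorem ps_SL_one_apply_of_tr (h2 : (2 : F) ≠ 0) (g : Matrix.SpecialLinearGroup (Fin 2) F)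
    (htr : (g.1 0 0 + g.1 1 1) ^ 2 = 4) (hnc : ¬ (g.1 0 1 = 0 ∧ g.1 1 0 = 0)) :
    indFun (borelSL F) (psFun (1 : MulChar F ℂ)) g = 1 := by
  obtain ⟨n, h10, heq, h01⟩ := exists_conj_upper h2 g htr hnc
  have hcf := indFun_isClassFunction (borelSL F) (psFun (1 : MulChar F ℂ))
  have e : indFun (borelSL F) (psFun (1 : MulChar F ℂ)) g =
      indFun (borelSL F) (psFun (1 : MulChar F ℂ)) (n⁻¹ * g * n) := by
    have := hcf g n⁻¹
    rw [inv_inv] at this
    exact this.symm
  rw [e, ps_SL_unipotent 1 _ h10 heq h01]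
  have hk := sl2_det (n⁻¹ * g * n)
  rw [h10, mul_zero, sub_zero] at hk
  exact mulChar_one_apply_ne_zero (left_ne_zero_of_mul_eq_one hk)

/-- the square of the difference of the values at the transvection of an unstable irreducible
character and its twist. -/
theorem unstable_value_sq {k : ℕ} (hk : Fintype.card F = 2 * k + 1) (d₀ : Fˣ)
    (hd₀ : ¬ IsSquare (d₀ : F)) (χ : Matrix.SpecialLinearGroup (Fin 2) F → ℂ)
    (hχ : IsIrrCharacter (Matrix.SpecialLinearGroup (Fin 2) F) χ) (hne : tw d₀ χ ≠ χ) :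
    (χ (unipSL 1) - tw d₀ χ (unipSL 1)) ^ 2 = (-1 : ℂ) ^ k * (Fintype.card F : ℂ) := by
  classical
  have hodd : Odd (Fintype.card F) := ⟨k, hk⟩
  have h2 := two_ne_zero_of_odd_card hodd
  have hχ' := isIrr_tw d₀ hχ
  have hcf := isClassFunction_of_irr hχ
  have hcf' := isClassFunction_of_irr hχ'
  obtain ⟨Δ, hΔ⟩ : ∃ Δ : Matrix.SpecialLinearGroup (Fin 2) F → ℂ, Δ = χ - tw d₀ χ := ⟨_, rfl⟩
  have hΔx : ∀ g, Δ g = χ g - tw d₀ χ g := fun g => by rw [hΔ]; rfl
  have hΔcf : IsClassFunction (Matrix.SpecialLinearGroup (Fin 2) F) Δ := by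
    intro g h
    rw [hΔx, hΔx, hcf, hcf']
  have hΔanti : ∀ g, Δ (twistSL d₀⁻¹ g) = - Δ g := by
    intro g
    rw [hΔx, hΔx]
    have e1 : tw d₀ χ (twistSL d₀⁻¹ g) = tw d₀ (tw d₀ χ) g := rfl
    have e2 : χ (twistSL d₀⁻¹ g) = tw d₀ χ g := rfl
    rw [e1, e2, tw_tw d₀ hcf]
    ring
  have hΔss : ∀ g : Matrix.SpecialLinearGroup (Fin 2) F,
      (g.1 0 0 + g.1 1 1) ^ 2 ≠ 4 → Δ g = 0 := by
    intro g hg
    rw [hΔx, tw_apply_of_tr hodd d₀ hcf g hg]
    ring
  have hΔcen : ∀ g : Matrix.SpecialLinearGroup (Fin 2) F,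
      g.1 0 1 = 0 → g.1 1 0 = 0 → Δ g = 0 := by
    intro g h01 h10
    rw [hΔx, tw_apply_of_diag d₀ χ g h01 h10]
    ring
  have hnorm : classInner Δ Δ = 2 := by
    rw [hΔ]
    exact classInner_delta_self d₀ hχ hne
  obtain ⟨c, hcc, hc⟩ := irr_central_scalar hχ (negOneSL_mem_center (F := F))
  have hΔneg : ∀ g, Δ (negOneSL F * g) = c * Δ g := by
    intro g
    rw [hΔx, hΔx, hc]
    have : tw d₀ χ (negOneSL F * g) = c * tw d₀ χ g := by
      unfold tw
      rw [twistSL_negOne_mul, hc]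
    rw [this]
    ring
  obtain ⟨x, hx⟩ : ∃ x : ℂ, x = Δ (unipSL 1) := ⟨_, rfl⟩
  rw [← hΔx, ← hx]
  -- the values at the upper unitriangular elements
  have hupper : ∀ y : F, y ≠ 0 → Δ (mk2 1 y 0 1 (by ring)) =
      (if IsSquare y then 1 else -1) * x := by
    intro y hy
    rw [antisymm_upper d₀ hd₀ Δ hΔcf hΔanti 1 y hy (by ring), hx]
    rfl
  have hupper_abs : ∀ y : F, y ≠ 0 → Δ (mk2 1 y 0 1 (by ring)) *
      conj (Δ (mk2 1 y 0 1 (by ring))) = x * conj x := by
    intro y hy
    rw [hupper y hy]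
    split_ifs
    · simp
    · simp
  -- values on the Borel subgroup
  have hval : ∀ (t : Fˣ) (y : F),
      Δ ((borelMk t y : borelSL F) : Matrix.SpecialLinearGroup (Fin 2) F) *
        conj (Δ ((borelMk t y : borelSL F) : Matrix.SpecialLinearGroup (Fin 2) F)) =
      if (t : F) ^ 2 = 1 then (if y ≠ 0 then x * conj x else 0) else 0 := by
    intro t y
    have ht0 : (t : F) ≠ 0 := t.ne_zero
    by_cases ht : (t : F) ^ 2 = 1
    · rw [if_pos ht]
      by_cases hy : y = 0
      · rw [if_neg (by simpa using hy), hΔcen _ (by simp [borelMk, hy]) (by simp [borelMk])]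
        simp
      · rw [if_pos hy]
        have h1 : ((t : F) - 1) * ((t : F) + 1) = 0 := by linear_combination ht
        rcases mul_eq_zero.mp h1 with h | h
        · have ht1 : (t : F) = 1 := by linear_combination h
          have e : ((borelMk t y : borelSL F) : Matrix.SpecialLinearGroup (Fin 2) F) =
              mk2 1 y 0 1 (by ring) := by
            apply sl2_ext <;> simp [borelMk, ht1]
          rw [e, hupper_abs y hy]
        · have ht1 : (t : F) = -1 := by linear_combination h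
          have e : ((borelMk t y : borelSL F) : Matrix.SpecialLinearGroup (Fin 2) F) =
              negOneSL F * mk2 1 (-y) 0 1 (by ring) := by
            apply sl2_ext <;> simp [borelMk, ht1, sl2_mul_apply, negOneSL]
          rw [e, hΔneg, map_mul]
          have := hupper_abs (-y) (neg_ne_zero.mpr hy)
          linear_combination (c * conj c) * this + (x * conj x) * hcc
    · rw [if_neg ht, hΔss]
      · simp
      · simp only [borelMk, mk2_00, mk2_11]
        intro h
        apply ht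
        have h3 : ((t : F) ^ 2 - 1) ^ 2 = 0 := by
          have e : ((t : F) + (t : F)⁻¹) ^ 2 * (t : F) ^ 2 = 4 * (t : F) ^ 2 := by rw [h]
          field_simp at e
          linear_combination e
        have := (pow_eq_zero_iff two_ne_zero).mp h3
        linear_combination this
  -- Frobenius reciprocity
  have hΦcf : IsClassFunction (Matrix.SpecialLinearGroup (Fin 2) F)
      (fun g => Δ g * conj (Δ g)) := by
    intro g h
    beta_reduce
    rw [hΔcf]
  have hfrob := frobenius_reciprocity' (borelSL F) (psFun (1 : MulChar F ℂ))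
    (fun g => Δ g * conj (Δ g)) hΦcf
  have hL : classInner (fun g => Δ g * conj (Δ g)) (indFun (borelSL F) (psFun (1 : MulChar F ℂ))) =
      2 := by
    rw [← hnorm, classInner_def, classInner_def]
    congr 1
    apply Finset.sum_congr rfl
    intro g _
    by_cases hg : Δ g = 0
    · rw [hg]; simp
    · have htr : (g.1 0 0 + g.1 1 1) ^ 2 = 4 := by
        by_contra h
        exact hg (hΔss g h)
      have hnc : ¬ (g.1 0 1 = 0 ∧ g.1 1 0 = 0) := fun h => hg (hΔcen g h.1 h.2)
      rw [ps_SL_one_apply_of_tr h2 g htr hnc, map_one, mul_one]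
  have hR : classInner (fun b : borelSL F => Δ b * conj (Δ b)) (psFun (1 : MulChar F ℂ)) =
      ((Fintype.card F : ℂ) * ((Fintype.card F : ℂ) - 1))⁻¹ *
        (2 * (((Fintype.card F : ℂ) - 1) * (x * conj x))) := by
    rw [classInner_def, card_borelSL, Nat.cast_mul, Nat.cast_sub Fintype.card_pos, Nat.cast_one]
    congr 1
    rw [← (borelSLEquiv (F := F)).symm.sum_comp, Fintype.sum_prod_type]
    have hterm : ∀ (t : Fˣ) (y : F),
        Δ ((borelSLEquiv.symm (t, y) : borelSL F) : Matrix.SpecialLinearGroup (Fin 2) F) *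
          conj (Δ ((borelSLEquiv.symm (t, y) : borelSL F) : Matrix.SpecialLinearGroup (Fin 2) F)) *
          conj (psFun (1 : MulChar F ℂ) (borelSLEquiv.symm (t, y))) =
        if (t : F) ^ 2 = 1 then (if y ≠ 0 then x * conj x else 0) else 0 := by
      intro t y
      have e : (borelSLEquiv.symm (t, y) : borelSL F) = borelMk t y := rfl
      rw [e, hval t y]
      unfold psFun
      rw [mulChar_one_apply_ne_zero (borelSL_00_ne_zero _), map_one, mul_one]
    rw [Finset.sum_congr rfl (fun t _ => Finset.sum_congr rfl (fun y _ => hterm t y))]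
    have hinner : ∀ t : Fˣ, ∑ y : F,
        (if (t : F) ^ 2 = 1 then (if y ≠ 0 then x * conj x else 0) else 0) =
        if (t : F) ^ 2 = 1 then ((Fintype.card F : ℂ) - 1) * (x * conj x) else 0 := by
      intro t
      split_ifs with ht
      · rw [sum_ite_const, Finset.filter_ne' Finset.univ (0 : F),
          Finset.card_erase_of_mem (Finset.mem_univ _), Finset.card_univ,
          Nat.cast_sub Fintype.card_pos, Nat.cast_one]
      · exact Finset.sum_const_zero
    rw [Finset.sum_congr rfl (fun t _ => hinner t), sum_ite_const, card_units_sq_eq_one h2]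
    norm_num
  rw [hL, hR] at hfrob
  have hq0 := card_field_ne_zero_complex (F := F)
  have hq1 := card_field_sub_one_ne_zero_complex (F := F)
  have hX : x * conj x = (Fintype.card F : ℂ) := by
    have hA : (Fintype.card F : ℂ) * ((Fintype.card F : ℂ) - 1) ≠ 0 := mul_ne_zero hq0 hq1
    have hB : 2 * (((Fintype.card F : ℂ) - 1) * (x * conj x)) =
        2 * ((Fintype.card F : ℂ) * ((Fintype.card F : ℂ) - 1)) := by
      calc 2 * (((Fintype.card F : ℂ) - 1) * (x * conj x)) =
          ((Fintype.card F : ℂ) * ((Fintype.card F : ℂ) - 1)) *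
            (((Fintype.card F : ℂ) * ((Fintype.card F : ℂ) - 1))⁻¹ *
              (2 * (((Fintype.card F : ℂ) - 1) * (x * conj x)))) := by
            rw [mul_inv_cancel_left₀ hA]
        _ = ((Fintype.card F : ℂ) * ((Fintype.card F : ℂ) - 1)) * 2 := by rw [← hfrob]
        _ = _ := by ring
    apply mul_left_cancel₀ (mul_ne_zero two_ne_zero hq1)
    linear_combination hB
  -- reality
  have hinv : (unipSL (1 : F))⁻¹ = mk2 1 (-1) 0 1 (by ring) := by
    apply inv_eq_of_mul_eq_one_right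
    apply sl2_ext <;> simp [sl2_mul_apply, unipSL]
  have hconj' : conj (Δ (unipSL 1)) = (if IsSquare (-1 : F) then 1 else -1) * x := by
    rw [hΔx, map_sub,
      ← Cfsg.Agent.Lib.Helper3.IsCharacter.inv
        (Cfsg.Agent.Lib.Helper79.isCharacter_of_isIrrCharacter hχ),
      ← Cfsg.Agent.Lib.Helper3.IsCharacter.inv
        (Cfsg.Agent.Lib.Helper79.isCharacter_of_isIrrCharacter hχ'), ← hΔx, hinv,
      hupper (-1) (neg_ne_zero.mpr one_ne_zero)]
  have hconj : conj x = (if IsSquare (-1 : F) then 1 else -1) * x := by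
    have : conj x = conj (Δ (unipSL 1)) := by rw [hx]
    exact this.trans hconj'
  rw [hconj] at hX
  by_cases hsq : IsSquare (-1 : F)
  · rw [if_pos hsq] at hX
    have hk4 := FiniteField.isSquare_neg_one_iff.mp hsq
    have hkeven : Even k := by
      rw [Nat.even_iff]; omega
    rw [hkeven.neg_one_pow, one_mul]
    linear_combination hX
  · rw [if_neg hsq] at hX
    have hk4 : ¬ (Fintype.card F % 4 ≠ 3) := fun h => hsq (FiniteField.isSquare_neg_one_iff.mpr h)
    have hkodd : Odd k := by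
      rw [Nat.odd_iff]; omega
    rw [hkodd.neg_one_pow]
    linear_combination -hX


theorem eq_of_natCard_two {T : Type*} (h : Nat.card T = 2) (a b c : T) (hab : a ≠ b)
    (hac : a ≠ c) : b = c := by
  classical
  have hfin : Finite T := Nat.finite_of_card_ne_zero (by omega)
  have := Fintype.ofFinite T
  by_contra hbc
  have h1 : ({a, b, c} : Finset T).card = 3 := by
    rw [Finset.card_insert_of_notMem, Finset.card_insert_of_notMem, Finset.card_singleton]
    · simpa using hbc
    · simp only [Finset.mem_insert, Finset.mem_singleton, not_or]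
      exact ⟨hab, hac⟩
  have h2 := Finset.card_le_univ ({a, b, c} : Finset T)
  rw [← Nat.card_eq_fintype_card, h] at h2
  omega

theorem tw_apply_one (d : Fˣ) (f : Matrix.SpecialLinearGroup (Fin 2) F → ℂ) :
    tw d f 1 = f 1 := by
  unfold tw
  congr 1
  apply sl2_ext <;> simp

/-- the statement on the values of the characters of half degree at the transvection. -/
theorem half_values {k : ℕ} (hk : Fintype.card F = 2 * k + 1) (hk2 : 2 ≤ k) :
    (∀ χ : Matrix.SpecialLinearGroup (Fin 2) F → ℂ,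
      IsIrrCharacter (Matrix.SpecialLinearGroup (Fin 2) F) χ → χ 1 = ((k + 1 : ℕ) : ℂ) →
      (2 * χ (unipSL 1) - 1) ^ 2 = (-1 : ℂ) ^ k * (Fintype.card F : ℂ)) ∧
    (∀ χ : Matrix.SpecialLinearGroup (Fin 2) F → ℂ,
      IsIrrCharacter (Matrix.SpecialLinearGroup (Fin 2) F) χ → χ 1 = ((k : ℕ) : ℂ) →
      (2 * χ (unipSL 1) + 1) ^ 2 = (-1 : ℂ) ^ k * (Fintype.card F : ℂ)) ∧
    (∀ χ₁ χ₂ : Matrix.SpecialLinearGroup (Fin 2) F → ℂ,
      IsIrrCharacter (Matrix.SpecialLinearGroup (Fin 2) F) χ₁ →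
      IsIrrCharacter (Matrix.SpecialLinearGroup (Fin 2) F) χ₂ → χ₁ ≠ χ₂ →
      χ₁ 1 = ((k + 1 : ℕ) : ℂ) → χ₂ 1 = ((k + 1 : ℕ) : ℂ) →
      χ₁ (unipSL 1) + χ₂ (unipSL 1) = 1) ∧
    (∀ χ₁ χ₂ : Matrix.SpecialLinearGroup (Fin 2) F → ℂ,
      IsIrrCharacter (Matrix.SpecialLinearGroup (Fin 2) F) χ₁ →
      IsIrrCharacter (Matrix.SpecialLinearGroup (Fin 2) F) χ₂ → χ₁ ≠ χ₂ →
      χ₁ 1 = ((k : ℕ) : ℂ) → χ₂ 1 = ((k : ℕ) : ℂ) →
      χ₁ (unipSL 1) + χ₂ (unipSL 1) = -1) := by
  have hodd : Odd (Fintype.card F) := ⟨k, hk⟩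
  obtain ⟨d₀, hd₀⟩ := exists_nonsquare_unit hodd
  have hcount := count_SL2_odd_aux F hk hk2
  -- the sums at `u`
  have hsum1 : ∀ χ : Matrix.SpecialLinearGroup (Fin 2) F → ℂ,
      IsIrrCharacter (Matrix.SpecialLinearGroup (Fin 2) F) χ → χ 1 = ((k + 1 : ℕ) : ℂ) →
      tw d₀ χ ≠ χ ∧ χ (unipSL 1) + tw d₀ χ (unipSL 1) = 1 := by
    intro χ hχ hdeg
    obtain ⟨α, -, -, hne, hsum⟩ := (half_degree_types hk hk2 d₀ hd₀ χ hχ).1 hdeg
    refine ⟨hne, ?_⟩
    have e := congrFun hsum (unipSL 1)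
    rw [ps_SL_unipotent α (unipSL 1) rfl rfl (by simp [unipSL]), Pi.add_apply] at e
    rw [← e]
    simp [unipSL]
  have hsum2 : ∀ χ : Matrix.SpecialLinearGroup (Fin 2) F → ℂ,
      IsIrrCharacter (Matrix.SpecialLinearGroup (Fin 2) F) χ → χ 1 = ((k : ℕ) : ℂ) →
      tw d₀ χ ≠ χ ∧ χ (unipSL 1) + tw d₀ χ (unipSL 1) = -1 := by
    intro χ hχ hdeg
    obtain ⟨ψ, hc, hne, hsum⟩ := (half_degree_types hk hk2 d₀ hd₀ χ hχ).2 hdeg
    refine ⟨hne, ?_⟩
    have e := congrFun hsum (unipSL 1)
    rw [Pi.add_apply] at e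
    rw [← e]
    unfold resSL
    exact cusp_unip hc _ rfl rfl rfl (by rw [toGL_apply]; simp [unipSL])
  refine ⟨?_, ?_, ?_, ?_⟩
  · intro χ hχ hdeg
    obtain ⟨hne, hs⟩ := hsum1 χ hχ hdeg
    rw [← unstable_value_sq hk d₀ hd₀ χ hχ hne]
    congr 1
    linear_combination hs
  · intro χ hχ hdeg
    obtain ⟨hne, hs⟩ := hsum2 χ hχ hdeg
    rw [← unstable_value_sq hk d₀ hd₀ χ hχ hne]
    congr 1
    linear_combination hs
  · intro χ₁ χ₂ h1 h2 hne d1 d2
    obtain ⟨hne', hs⟩ := hsum1 χ₁ h1 d1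
    have e := eq_of_natCard_two hcount.2.2.2.2.1
      (⟨⟨χ₁, h1⟩, d1⟩ : {χ : IrrCharacter (Matrix.SpecialLinearGroup (Fin 2) F) //
        (χ : Matrix.SpecialLinearGroup (Fin 2) F → ℂ) 1 = ((k + 1 : ℕ) : ℂ)})
      ⟨⟨χ₂, h2⟩, d2⟩ ⟨⟨tw d₀ χ₁, isIrr_tw d₀ h1⟩, by
        change tw d₀ χ₁ 1 = _
        rw [tw_apply_one]; exact d1⟩
      (fun h => hne (congrArg (fun x => x.1.1) h))
      (fun h => hne' (congrArg (fun x => x.1.1) h).symm)
    have e' : χ₂ = tw d₀ χ₁ := congrArg (fun x => x.1.1) e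
    rw [e']
    exact hs
  · intro χ₁ χ₂ h1 h2 hne d1 d2
    obtain ⟨hne', hs⟩ := hsum2 χ₁ h1 d1
    have e := eq_of_natCard_two hcount.2.2.2.2.2
      (⟨⟨χ₁, h1⟩, d1⟩ : {χ : IrrCharacter (Matrix.SpecialLinearGroup (Fin 2) F) //
        (χ : Matrix.SpecialLinearGroup (Fin 2) F → ℂ) 1 = ((k : ℕ) : ℂ)})
      ⟨⟨χ₂, h2⟩, d2⟩ ⟨⟨tw d₀ χ₁, isIrr_tw d₀ h1⟩, by
        change tw d₀ χ₁ 1 = _
        rw [tw_apply_one]; exact d1⟩
      (fun h => hne (congrArg (fun x => x.1.1) h))
      (fun h => hne' (congrArg (fun x => x.1.1) h).symm)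
    have e' : χ₂ = tw d₀ χ₁ := congrArg (fun x => x.1.1) e
    rw [e']
    exact hs

end Cfsg.Agent.Lib.Helper38
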