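import Cfsg.Agent.Lib.Helper38.McKayConj
import Cfsg.Agent.Lib.Helper38.SL2Blocks
import Cfsg.Agent.Lib.Helper41.Dicyclic
import Cfsg.Agent.Lib.Helper38.SL2HalfValues

/-!
# The Borel subgroup of `SL₂(q)`, `q` odd: class number and the defining-characteristic case
-/

set_option autoImplicit false
set_option linter.unusedSimpArgs false

namespace Cfsg.Agent.Lib.Helper38

open Matrix Cfsg

variable {F : Type*} [Field F] [Fintype F] [DecidableEq F]

omit [Fintype F] [DecidableEq F] in
/-- commutation in the Borel subgroup, in coordinates. -/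
theorem borelMk_comm_iff (s t : Fˣ) (y x : F) :
    borelMk s y * borelMk t x = borelMk t x * borelMk s y ↔
      (s : F) * x + y * (t : F)⁻¹ = (t : F) * y + x * (s : F)⁻¹ := by
  constructor
  · intro h
    have h1 := congrArg (fun c : borelSL F => c.1.1 0 1) h
    simpa [borelMk, sl2_mul_apply] using h1
  · intro h
    apply Subtype.ext
    apply sl2_ext
    · simp [borelMk, sl2_mul_apply, mul_comm]
    · simpa [borelMk, sl2_mul_apply] using h
    · simp [borelMk, sl2_mul_apply]
    · simp [borelMk, sl2_mul_apply, mul_comm]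

omit [Fintype F] [DecidableEq F] in
/-- the centralizer of an element of the Borel subgroup, in coordinates. -/
theorem card_centralizer_borelMk (t : Fˣ) (x : F) :
    Nat.card (Subgroup.centralizer ({borelMk t x} : Set (borelSL F))) =
      Nat.card {p : Fˣ × F // (p.1 : F) * x + p.2 * (t : F)⁻¹ = (t : F) * p.2 + x * (p.1 : F)⁻¹} := by
  refine Nat.card_congr ((borelSLEquiv (F := F)).subtypeEquiv ?_)
  intro c
  rw [Subgroup.mem_centralizer_singleton_iff]
  have hc : c = borelMk (borelSLEquiv c).1 (borelSLEquiv c).2 :=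
    ((borelSLEquiv (F := F)).symm_apply_apply c).symm
  constructor
  · intro h
    rw [hc] at h
    exact (borelMk_comm_iff _ _ _ _).mp h
  · intro h
    rw [hc]
    exact (borelMk_comm_iff _ _ _ _).mpr h

/-- the orders of the centralizers in the Borel subgroup. -/
theorem card_centralizer_borelMk_eq (h2 : (2 : F) ≠ 0) (t : Fˣ) (x : F) :
    Nat.card (Subgroup.centralizer ({borelMk t x} : Set (borelSL F))) =
      if (t : F) ^ 2 = 1 then
        (if x = 0 then Fintype.card F * (Fintype.card F - 1) else 2 * Fintype.card F)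
      else Fintype.card F - 1 := by
  rw [card_centralizer_borelMk]
  have ht0 : (t : F) ≠ 0 := t.ne_zero
  by_cases ht : (t : F) ^ 2 = 1
  · rw [if_pos ht]
    have htinv : (t : F)⁻¹ = (t : F) := by
      apply inv_eq_of_mul_eq_one_right
      rw [← pow_two]; exact ht
    by_cases hx : x = 0
    · rw [if_pos hx]
      subst hx
      have : ∀ p : Fˣ × F, (p.1 : F) * 0 + p.2 * (t : F)⁻¹ = (t : F) * p.2 + 0 * (p.1 : F)⁻¹ := by
        intro p
        rw [htinv]; ring
      rw [Nat.card_congr (Equiv.subtypeUnivEquiv this), Nat.card_prod, Nat.card_units,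
        Nat.card_eq_fintype_card, mul_comm]
    · rw [if_neg hx]
      have hiff : ∀ p : Fˣ × F, ((p.1 : F) * x + p.2 * (t : F)⁻¹ = (t : F) * p.2 + x * (p.1 : F)⁻¹)
          ↔ (p.1 : F) ^ 2 = 1 := by
        intro p
        have hp0 : (p.1 : F) ≠ 0 := p.1.ne_zero
        rw [htinv]
        constructor
        · intro h
          have h1 : x * ((p.1 : F) - (p.1 : F)⁻¹) = 0 := by linear_combination h
          rcases mul_eq_zero.mp h1 with h3 | h3
          · exact absurd h3 hx
          · have : (p.1 : F) = (p.1 : F)⁻¹ := by linear_combination h3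
            rw [pow_two]
            nth_rewrite 2 [this]
            exact mul_inv_cancel₀ hp0
        · intro h
          have : (p.1 : F)⁻¹ = (p.1 : F) := by
            apply inv_eq_of_mul_eq_one_right
            rw [← pow_two]; exact h
          rw [this]; ring
      rw [Nat.card_congr (Equiv.subtypeEquivRight hiff)]
      have e : {p : Fˣ × F // (p.1 : F) ^ 2 = 1} ≃ {s : Fˣ // (s : F) ^ 2 = 1} × F :=
        { toFun := fun p => (⟨p.1.1, p.2⟩, p.1.2)
          invFun := fun p => ⟨(p.1.1, p.2), p.1.2⟩
          left_inv := fun p => rfl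
          right_inv := fun p => rfl }
      rw [Nat.card_congr e, Nat.card_prod, Nat.card_eq_fintype_card (α := F),
        Nat.card_eq_fintype_card, Fintype.card_subtype, card_units_sq_eq_one h2]
  · rw [if_neg ht]
    have hd : (t : F)⁻¹ - (t : F) ≠ 0 := by
      intro h
      apply ht
      have : (t : F)⁻¹ = (t : F) := by linear_combination h
      rw [pow_two]
      nth_rewrite 1 [← this]
      exact inv_mul_cancel₀ ht0
    have hiff : ∀ p : Fˣ × F, ((p.1 : F) * x + p.2 * (t : F)⁻¹ = (t : F) * p.2 + x * (p.1 : F)⁻¹)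
        ↔ p.2 = x * ((p.1 : F)⁻¹ - (p.1 : F)) / ((t : F)⁻¹ - (t : F)) := by
      intro p
      rw [eq_div_iff hd]
      constructor
      · intro h; linear_combination h
      · intro h; linear_combination h
    rw [Nat.card_congr (Equiv.subtypeEquivRight hiff)]
    have e : {p : Fˣ × F // p.2 = x * ((p.1 : F)⁻¹ - (p.1 : F)) / ((t : F)⁻¹ - (t : F))} ≃ Fˣ :=
      { toFun := fun p => p.1.1
        invFun := fun s => ⟨(s, x * ((s : F)⁻¹ - (s : F)) / ((t : F)⁻¹ - (t : F))), rfl⟩
        left_inv := fun p => by
          apply Subtype.ext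
          apply Prod.ext
          · rfl
          · exact p.2.symm
        right_inv := fun s => rfl }
    rw [Nat.card_congr e, Nat.card_units, Nat.card_eq_fintype_card]

/-- the Borel subgroup of `SL₂(q)`, `q` odd, has `q + 3` conjugacy classes. -/
theorem card_conjClasses_borelSL (hodd : Odd (Fintype.card F)) :
    Nat.card (ConjClasses (borelSL F)) = Fintype.card F + 3 := by
  have h2 : (2 : F) ≠ 0 := by
    intro h
    have hchar : ringChar F = 2 := by
      have : ((2 : ℕ) : F) = 0 := by exact_mod_cast h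
      have hdvd := (ringChar.spec F 2).mp this
      have hp := CharP.char_is_prime F (ringChar F)
      exact ((Nat.prime_dvd_prime_iff_eq hp Nat.prime_two).mp hdvd)
    have := FiniteField.even_card_iff_char_two.mp hchar
    have h3 := Nat.odd_iff.mp hodd
    omega
  set q := Fintype.card F with hq
  have hq3 : 3 ≤ q := by
    have : 2 ≤ q := Fintype.one_lt_card
    rcases hodd with ⟨k, hk⟩
    omega
  have hsum := Cfsg.Agent.Lib.Helper41.sum_card_centralizer_eq (G := borelSL F)
  rw [card_borelSL, ← hq] at hsum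
  have e1 : ∑ g : borelSL F, Nat.card (Subgroup.centralizer ({g} : Set (borelSL F))) =
      ∑ p : Fˣ × F, Nat.card (Subgroup.centralizer ({borelMk p.1 p.2} : Set (borelSL F))) := by
    apply Fintype.sum_equiv (borelSLEquiv (F := F))
    intro b
    have hc : b = borelMk (borelSLEquiv b).1 (borelSLEquiv b).2 :=
      ((borelSLEquiv (F := F)).symm_apply_apply b).symm
    rw [← hc]
  rw [e1, Fintype.sum_prod_type] at hsum
  simp only [card_centralizer_borelMk_eq h2, ← hq] at hsum
  have inner : ∀ t : Fˣ, (∑ x : F, if (t : F) ^ 2 = 1 then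
        (if x = 0 then q * (q - 1) else 2 * q) else q - 1) =
      if (t : F) ^ 2 = 1 then 3 * (q * (q - 1)) else q * (q - 1) := by
    intro t
    by_cases ht : (t : F) ^ 2 = 1
    · simp only [if_pos ht]
      rw [Finset.sum_ite, Finset.sum_const, Finset.sum_const, smul_eq_mul, smul_eq_mul]
      have c1 : (Finset.univ.filter (fun x : F => x = 0)).card = 1 := by
        rw [Finset.filter_eq', if_pos (Finset.mem_univ _), Finset.card_singleton]
      have c2 : (Finset.univ.filter (fun x : F => ¬ x = 0)).card = q - 1 := by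
        have := Finset.card_filter_add_card_filter_not (s := (Finset.univ : Finset F))
          (fun x : F => x = 0)
        rw [c1, Finset.card_univ, ← hq] at this
        omega
      rw [c1, c2]
      ring
    · simp only [if_neg ht]
      rw [Finset.sum_const, Finset.card_univ, smul_eq_mul, ← hq]
  rw [Finset.sum_congr rfl (fun t _ => inner t), Finset.sum_ite, Finset.sum_const,
    Finset.sum_const, smul_eq_mul, smul_eq_mul, card_units_sq_eq_one h2] at hsum
  have c3 : (Finset.univ.filter (fun t : Fˣ => ¬ (t : F) ^ 2 = 1)).card = q - 3 := by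
    have := Finset.card_filter_add_card_filter_not (s := (Finset.univ : Finset Fˣ))
      (fun t : Fˣ => (t : F) ^ 2 = 1)
    rw [card_units_sq_eq_one h2, Finset.card_univ, Fintype.card_units, ← hq] at this
    omega
  rw [c3] at hsum
  have hpos : 0 < q * (q - 1) := by
    have : 0 < q - 1 := by omega
    positivity
  have : Nat.card (ConjClasses (borelSL F)) * (q * (q - 1)) = (q + 3) * (q * (q - 1)) := by
    rw [← hsum]
    obtain ⟨r, hr⟩ : ∃ r, q = r + 3 := ⟨q - 3, by omega⟩
    have e3 : q - 3 = r := by omega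
    have e4 : q - 1 = r + 2 := by omega
    rw [e3, e4, hr]
    ring
  exact Nat.eq_of_mul_eq_mul_right hpos this


/-! ### the degrees of the irreducible characters of the Borel subgroup -/

/-- the diagonal entry, as a homomorphism `B → Fˣ`. -/
def borelDiag (F : Type*) [Field F] : borelSL F →* Fˣ where
  toFun b := Units.mk0 (b.1.1 0 0) (borelSL_00_ne_zero b)
  map_one' := Units.ext (by simp)
  map_mul' a b := Units.ext (by
    show (a.1 * b.1).1 0 0 = a.1.1 0 0 * b.1.1 0 0
    rw [sl2_mul_apply, (mem_borelSL b.1).mp b.2, mul_zero, add_zero])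

omit [Fintype F] [DecidableEq F] in
theorem borelDiag_surjective : Function.Surjective (borelDiag F) := by
  intro t
  exact ⟨borelMk t 0, Units.ext rfl⟩

omit [Fintype F] [DecidableEq F] in
theorem borelDiag_ker_comm : ∀ a ∈ (borelDiag F).ker, ∀ b ∈ (borelDiag F).ker, a * b = b * a := by
  intro a ha b hb
  rw [MonoidHom.mem_ker] at ha hb
  have ha0 : a.1.1 0 0 = 1 := congrArg (fun u : Fˣ => (u : F)) ha
  have hb0 : b.1.1 0 0 = 1 := congrArg (fun u : Fˣ => (u : F)) hb
  have ha1 : a.1.1 1 1 = 1 := by rw [borelSL_11, ha0, inv_one]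
  have hb1 : b.1.1 1 1 = 1 := by rw [borelSL_11, hb0, inv_one]
  have ha10 := (mem_borelSL a.1).mp a.2
  have hb10 := (mem_borelSL b.1).mp b.2
  apply Subtype.ext
  apply sl2_ext
  · show (a.1 * b.1).1 0 0 = (b.1 * a.1).1 0 0
    rw [sl2_mul_apply, sl2_mul_apply, ha0, hb0, ha10, hb10]; ring
  · show (a.1 * b.1).1 0 1 = (b.1 * a.1).1 0 1
    rw [sl2_mul_apply, sl2_mul_apply, ha0, hb0, ha1, hb1]; ring
  · show (a.1 * b.1).1 1 0 = (b.1 * a.1).1 1 0
    rw [sl2_mul_apply, sl2_mul_apply, ha10, hb10]; ring
  · show (a.1 * b.1).1 1 1 = (b.1 * a.1).1 1 1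
    rw [sl2_mul_apply, sl2_mul_apply, ha1, hb1, ha10, hb10]; ring

omit [DecidableEq F] in
theorem borelDiag_ker_index : (borelDiag F).ker.index = Fintype.card F - 1 := by
  rw [Subgroup.index_ker, MonoidHom.range_eq_top.mpr borelDiag_surjective, Subgroup.card_top,
    Nat.card_units, Nat.card_eq_fintype_card]

omit [DecidableEq F] in
/-- every irreducible character of the Borel subgroup has degree dividing `q - 1`. -/
theorem charDegree_borelSL_dvd (χ : IrrCharacter (borelSL F)) :
    charDegree (χ : borelSL F → ℂ) ∣ Fintype.card F - 1 := by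
  have : Finite (borelSL F) := inferInstance
  rw [← borelDiag_ker_index]
  exact charDegree_dvd_index_of_normal_comm _ borelDiag_ker_comm χ

/-- all irreducible characters of the Borel subgroup have degree prime to `p`. -/
theorem primeDegCount_borelSL (hodd : Odd (Fintype.card F)) (p : ℕ) [Fact p.Prime] [CharP F p] :
    primeDegCount p (borelSL F) = Fintype.card F + 3 := by
  have hp : p.Prime := Fact.out
  unfold primeDegCount
  have hall : ∀ χ : IrrCharacter (borelSL F), ¬ p ∣ charDegree (χ : borelSL F → ℂ) := by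
    intro χ hdvd
    have h1 := hdvd.trans (charDegree_borelSL_dvd χ)
    have h2 := char_dvd_card (F := F) p
    have hq : 1 ≤ Fintype.card F := Fintype.card_pos
    have h3 : p ∣ Fintype.card F - (Fintype.card F - 1) := Nat.dvd_sub h2 h1
    have e : Fintype.card F - (Fintype.card F - 1) = 1 := by omega
    rw [e] at h3
    exact hp.one_lt.ne' (Nat.dvd_one.mp h3)
  rw [Nat.card_congr (Equiv.subtypeUnivEquiv hall), Cfsg.Agent.Lib.Helper3.card_irrCharacter,
    card_conjClasses_borelSL hodd]

/-! ### the normalizer of the unipotent subgroup -/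

omit [Fintype F] [DecidableEq F] in
theorem conj_unipSL_of_mem_borel (g : Matrix.SpecialLinearGroup (Fin 2) F) (hg : g ∈ borelSL F)
    (x : F) : g * unipSL x * g⁻¹ = unipSL (g.1 0 0 ^ 2 * x) := by
  have h10 := (mem_borelSL g).mp hg
  have hdet := sl2_det g
  rw [h10, mul_zero, sub_zero] at hdet
  apply sl2_ext
  · simp only [sl2_mul_apply, sl2_inv_00, sl2_inv_01, sl2_inv_10, sl2_inv_11, unipSL, mk2_00,
      mk2_01, mk2_10, mk2_11, h10]
    linear_combination hdet
  · simp only [sl2_mul_apply, sl2_inv_00, sl2_inv_01, sl2_inv_10, sl2_inv_11, unipSL, mk2_00,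
      mk2_01, mk2_10, mk2_11, h10]
    ring
  · simp only [sl2_mul_apply, sl2_inv_00, sl2_inv_01, sl2_inv_10, sl2_inv_11, unipSL, mk2_00,
      mk2_01, mk2_10, mk2_11, h10]
    ring
  · simp only [sl2_mul_apply, sl2_inv_00, sl2_inv_01, sl2_inv_10, sl2_inv_11, unipSL, mk2_00,
      mk2_01, mk2_10, mk2_11, h10]
    linear_combination hdet

theorem normalizer_unip :
    Subgroup.normalizer (((unipHom F).range : Subgroup (Matrix.SpecialLinearGroup (Fin 2) F)) :
      Set (Matrix.SpecialLinearGroup (Fin 2) F)) = borelSL F := by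
  ext g
  rw [Subgroup.mem_normalizer_iff]
  constructor
  · intro h
    have h1 : unipSL (1 : F) ∈ (unipHom F).range := ⟨Multiplicative.ofAdd 1, rfl⟩
    obtain ⟨y, hy⟩ := (h _).mp h1
    rw [mem_borelSL]
    have h2 := congrArg (fun m : Matrix.SpecialLinearGroup (Fin 2) F => m.1 1 0) hy
    simp only [unipHom, MonoidHom.coe_mk, OneHom.coe_mk, sl2_mul_apply, sl2_inv_00, sl2_inv_01,
      sl2_inv_10, sl2_inv_11, unipSL, mk2_00, mk2_01, mk2_10, mk2_11] at h2
    have h3 : g.1 1 0 ^ 2 = 0 := by linear_combination h2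
    exact pow_eq_zero_iff (two_ne_zero) |>.mp h3
  · intro hg h'
    constructor
    · rintro ⟨x, rfl⟩
      refine ⟨Multiplicative.ofAdd (g.1 0 0 ^ 2 * Multiplicative.toAdd x), ?_⟩
      exact (conj_unipSL_of_mem_borel g hg _).symm
    · rintro ⟨y, hy⟩
      have hg' : g⁻¹ ∈ borelSL F := (borelSL F).inv_mem hg
      have h2 := conj_unipSL_of_mem_borel g⁻¹ hg' (Multiplicative.toAdd y)
      refine ⟨Multiplicative.ofAdd ((g⁻¹).1 0 0 ^ 2 * Multiplicative.toAdd y), ?_⟩
      show unipSL ((g⁻¹).1 0 0 ^ 2 * Multiplicative.toAdd y) = h'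
      rw [← h2]
      show g⁻¹ * (unipHom F y) * g⁻¹⁻¹ = h'
      rw [hy]
      group

/-- the defining characteristic case of the McKay count for the normalizer. -/
theorem primeDegCount_normalizer_char (hodd : Odd (Fintype.card F)) (p : ℕ) [Fact p.Prime]
    [CharP F p] (S : Sylow p (Matrix.SpecialLinearGroup (Fin 2) F)) :
    primeDegCount p (Subgroup.normalizer ((S : Subgroup (Matrix.SpecialLinearGroup (Fin 2) F)) :
      Set (Matrix.SpecialLinearGroup (Fin 2) F))) = Fintype.card F + 3 := by
  have hp : p.Prime := Fact.out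
  obtain ⟨n, -, hn⟩ := FiniteField.card F p
  have hq2 : 2 ≤ Fintype.card F := Fintype.one_lt_card
  have hinj : Function.Injective (unipHom F) := by
    intro x y h
    exact Multiplicative.toAdd.injective (unipSL_injective h)
  have hcardU : Nat.card (unipHom F).range = Fintype.card F := by
    rw [← Nat.card_congr (MonoidHom.ofInjective hinj).toEquiv, Nat.card_eq_fintype_card]
    exact Fintype.card_congr Multiplicative.toAdd
  have hUp : IsPGroup p (unipHom F).range := IsPGroup.of_card (n := (n : ℕ)) (by rw [hcardU, hn])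
  obtain ⟨P, hP⟩ := hUp.exists_le_sylow
  have hPU : (P : Subgroup (Matrix.SpecialLinearGroup (Fin 2) F)) = (unipHom F).range := by
    symm
    apply Subgroup.eq_of_le_of_card_ge hP
    rw [hcardU]
    obtain ⟨k, hk⟩ := IsPGroup.iff_card.mp P.isPGroup'
    have hdvd : Nat.card (P : Subgroup (Matrix.SpecialLinearGroup (Fin 2) F)) ∣
        Nat.card (Matrix.SpecialLinearGroup (Fin 2) F) := Subgroup.card_subgroup_dvd_card _
    rw [card_SL2, hk] at hdvd
    have hcop : Nat.Coprime (p ^ k) (Fintype.card F ^ 2 - 1) := by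
      apply Nat.Coprime.pow_left
      rw [Nat.Prime.coprime_iff_not_dvd hp]
      intro h4
      have h5 : p ∣ Fintype.card F ^ 2 := Dvd.dvd.pow (char_dvd_card p) (by norm_num)
      have h6 : 1 ≤ Fintype.card F ^ 2 := Nat.one_le_pow _ _ (by omega)
      have h7 : p ∣ 1 := by
        have := (Nat.dvd_sub h5 h4)
        rwa [Nat.sub_sub_self h6] at this
      exact hp.one_lt.ne' (Nat.dvd_one.mp h7)
    have h8 := hcop.dvd_of_dvd_mul_right hdvd
    rw [hk]
    exact Nat.le_of_dvd (by omega) h8
  rw [primeDegCount_normalizer_sylow S P p]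
  have hN : Subgroup.normalizer ((P : Subgroup (Matrix.SpecialLinearGroup (Fin 2) F)) :
      Set (Matrix.SpecialLinearGroup (Fin 2) F)) = borelSL F := by
    rw [hPU, normalizer_unip]
  rw [primeDegCount_of_eq _ _ hN p, primeDegCount_borelSL hodd p]

end Cfsg.Agent.Lib.Helper38
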