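import Cfsg.Agent.Lib.Helper38.McKayGen

/-!
# Transport of the count along conjugation of Sylow subgroups
-/

set_option autoImplicit false

namespace Cfsg.Agent.Lib.Helper38

open Cfsg

universe u

variable {G : Type u} [Group G]

theorem primeDegCount_of_eq_top (N : Subgroup G) (h : N = ⊤) (ℓ : ℕ) :
    primeDegCount ℓ N = primeDegCount ℓ G := by
  subst h
  exact primeDegCount_congr Subgroup.topEquiv ℓ

theorem primeDegCount_of_eq (N N' : Subgroup G) (h : N = N') (ℓ : ℕ) :
    primeDegCount ℓ N = primeDegCount ℓ N' := by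
  subst h
  rfl

theorem primeDegCount_normalizer_conj (H : Subgroup G) (g : G) (ℓ : ℕ) :
    primeDegCount ℓ (Subgroup.normalizer ((H.map (MulAut.conj g).toMonoidHom : Subgroup G) : Set G))
      = primeDegCount ℓ (Subgroup.normalizer ((H : Subgroup G) : Set G)) := by
  have h1 := Subgroup.map_equiv_normalizer_eq H (MulAut.conj g)
  rw [← primeDegCount_of_eq _ _ h1 ℓ]
  exact (primeDegCount_congr (Subgroup.equivMapOfInjective _ (MulAut.conj g).toMonoidHom
    (MulAut.conj g).injective) ℓ).symm

theorem primeDegCount_normalizer_sylow [Finite G] {p : ℕ} [Fact p.Prime] (P Q : Sylow p G)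
    (ℓ : ℕ) :
    primeDegCount ℓ (Subgroup.normalizer ((P : Subgroup G) : Set G)) =
      primeDegCount ℓ (Subgroup.normalizer ((Q : Subgroup G) : Set G)) := by
  obtain ⟨g, rfl⟩ := MulAction.exists_smul_eq G Q P
  exact primeDegCount_normalizer_conj (Q : Subgroup G) g ℓ

end Cfsg.Agent.Lib.Helper38
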