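import Cfsg.Agent.Lib.Helper3.Ortho
import Cfsg.Agent.Lib.Helper3.OddOrder
import Cfsg.Agent.Lib.Helper77.Transport
import Cfsg.Agent.Lib.Helper79.Ito
import Cfsg.Agent.Lib.Helper79.Abelian
import Cfsg.Agent.Lib.Helper25.KerSum

/-!
# General counting lemmas for characters of degree prime to `ℓ`

Tools for the McKay equality of `SL₂(q)`: transport along isomorphisms, the partition of the
irreducible characters by degree, and the two abstract counts used for the Sylow normalizers
(groups with an abelian subgroup of index two and `m + 3` classes; groups of order `24`).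
-/

set_option autoImplicit false

namespace Cfsg.Agent.Lib.Helper38

open Cfsg

universe u

/-- the number of irreducible characters of degree prime to `ℓ`. -/
noncomputable def primeDegCount (ℓ : ℕ) (G : Type u) [Group G] : ℕ :=
  Nat.card {χ : IrrCharacter G // ¬ ℓ ∣ charDegree (χ : G → ℂ)}

theorem primeDegCount_congr {H K : Type u} [Group H] [Group K] (e : H ≃* K) (ℓ : ℕ) :
    primeDegCount ℓ H = primeDegCount ℓ K := by
  unfold primeDegCount
  let f : IrrCharacter H ≃ IrrCharacter K :=
    { toFun := Cfsg.Agent.Lib.Helper77.irrMap e.symm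
      invFun := Cfsg.Agent.Lib.Helper77.irrMap e
      left_inv := Cfsg.Agent.Lib.Helper77.irrMap_irrMap_symm e
      right_inv := Cfsg.Agent.Lib.Helper77.irrMap_symm_irrMap e }
  refine Nat.card_congr (f.subtypeEquiv ?_)
  intro χ
  have : charDegree ((f χ : IrrCharacter K) : K → ℂ) = charDegree (χ : H → ℂ) := by
    unfold charDegree
    show ⌊((χ : H → ℂ) (e.symm 1)).re⌋₊ = _
    rw [map_one]
  rw [this]

section Degree

variable {G : Type u} [Group G] [Finite G]

/-- the value at `1` of an irreducible character is its degree. -/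
theorem irr_apply_one_eq (χ : IrrCharacter G) :
    (χ : G → ℂ) 1 = ((charDegree (χ : G → ℂ) : ℕ) : ℂ) := by
  classical
  have : Fintype G := Fintype.ofFinite G
  obtain ⟨n, hn, -, -⟩ := Cfsg.Agent.Lib.Helper3.IsIrrCharacter.apply_one_dvd_card χ.2
  have : charDegree (χ : G → ℂ) = n := by
    unfold charDegree
    rw [hn, Complex.natCast_re, Nat.floor_natCast]
  rw [this, hn]

theorem charDegree_dvd_card (χ : IrrCharacter G) : charDegree (χ : G → ℂ) ∣ Nat.card G := by
  classical
  have : Fintype G := Fintype.ofFinite G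
  obtain ⟨n, hn, hdvd, -⟩ := Cfsg.Agent.Lib.Helper3.IsIrrCharacter.apply_one_dvd_card χ.2
  have : charDegree (χ : G → ℂ) = n := by
    unfold charDegree
    rw [hn, Complex.natCast_re, Nat.floor_natCast]
  rw [this]; exact hdvd

theorem charDegree_pos (χ : IrrCharacter G) : 0 < charDegree (χ : G → ℂ) := by
  classical
  have : Fintype G := Fintype.ofFinite G
  obtain ⟨n, hn, -, hne⟩ := Cfsg.Agent.Lib.Helper3.IsIrrCharacter.apply_one_dvd_card χ.2
  have : charDegree (χ : G → ℂ) = n := by
    unfold charDegree
    rw [hn, Complex.natCast_re, Nat.floor_natCast]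
  rw [this]; omega

/-- the degree of an irreducible character is at most the index of an abelian subgroup. -/
theorem charDegree_le_index_of_comm (A : Subgroup G) (hA : ∀ a ∈ A, ∀ b ∈ A, a * b = b * a)
    (χ : IrrCharacter G) : charDegree (χ : G → ℂ) ≤ A.index := by
  classical
  obtain ⟨n, ρ, hirr, hρ⟩ := χ.2
  have h1 : (χ : G → ℂ) 1 = (n : ℂ) := by
    rw [← hρ, Representation.char_one, Module.finrank_fin_fun]
  have hdeg : charDegree (χ : G → ℂ) = n := by
    unfold charDegree
    rw [h1, Complex.natCast_re, Nat.floor_natCast]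
  have : IsMulCommutative A := ⟨⟨fun a b => Subtype.ext (hA a a.2 b b.2)⟩⟩
  have hle := Cfsg.Agent.Lib.Helper79.card_comm_subgroup_mul_degree_le ρ hirr A
  rw [← A.card_mul_index] at hle
  rw [hdeg]
  exact Nat.le_of_mul_le_mul_left hle Nat.card_pos

/-- **Itô**: the degree of an irreducible character divides the index of an abelian normal
subgroup. -/
theorem charDegree_dvd_index_of_normal_comm (A : Subgroup G) [A.Normal]
    (hA : ∀ a ∈ A, ∀ b ∈ A, a * b = b * a) (χ : IrrCharacter G) :
    charDegree (χ : G → ℂ) ∣ A.index := by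
  classical
  have : Fintype G := Fintype.ofFinite G
  exact Cfsg.Agent.Lib.Helper79.ito_aux (Nat.card G) G rfl A hA (χ : G → ℂ) χ.2 _
    (irr_apply_one_eq χ)

end Degree

section Partition

/-- a sum of a function of a label, split according to the values of the label. -/
theorem sum_comp_label {I : Type*} [Fintype I] (deg : I → ℕ) (D : Finset ℕ)
    (hD : ∀ i, deg i ∈ D) (f : ℕ → ℕ) :
    ∑ i, f (deg i) = ∑ d ∈ D, (Finset.univ.filter (fun i => deg i = d)).card * f d := by
  classical
  rw [Finset.sum_comp f deg]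
  have hsub : Finset.univ.image deg ⊆ D := by
    intro d hd
    obtain ⟨i, -, rfl⟩ := Finset.mem_image.mp hd
    exact hD i
  rw [← Finset.sum_subset hsub]
  · apply Finset.sum_congr rfl
    intro d _
    rw [smul_eq_mul]
  · intro d _ hd
    have : Finset.univ.filter (fun i => deg i = d) = ∅ := by
      rw [Finset.filter_eq_empty_iff]
      intro i _ hi
      exact hd (Finset.mem_image.mpr ⟨i, Finset.mem_univ _, hi⟩)
    rw [this, Finset.card_empty, zero_mul]

variable {G : Type u} [Group G] [Finite G]

/-- the number of irreducible characters of degree `d`. -/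
noncomputable def degCount (G : Type u) [Group G] (d : ℕ) : ℕ :=
  Nat.card {χ : IrrCharacter G // charDegree (χ : G → ℂ) = d}

omit [Finite G] in
theorem degCount_eq_card_filter [Fintype (IrrCharacter G)] (d : ℕ)
    [DecidablePred fun χ : IrrCharacter G => charDegree (χ : G → ℂ) = d] :
    degCount G d = (Finset.univ.filter
      (fun χ : IrrCharacter G => charDegree (χ : G → ℂ) = d)).card := by
  unfold degCount
  rw [Nat.card_eq_fintype_card, Fintype.card_subtype]

omit [Finite G] in
/-- the partition of any degree statistic according to a finite set of possible degrees. -/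
theorem sum_irr_comp_degree [Fintype (IrrCharacter G)] (D : Finset ℕ)
    (hD : ∀ χ : IrrCharacter G, charDegree (χ : G → ℂ) ∈ D) (f : ℕ → ℕ) :
    ∑ χ : IrrCharacter G, f (charDegree (χ : G → ℂ)) = ∑ d ∈ D, degCount G d * f d := by
  classical
  rw [sum_comp_label (fun χ : IrrCharacter G => charDegree (χ : G → ℂ)) D hD f]
  apply Finset.sum_congr rfl
  intro d _
  rw [degCount_eq_card_filter]

/-- the class number as the sum of the degree counts. -/
theorem card_conjClasses_eq_sum_degCount (D : Finset ℕ)
    (hD : ∀ χ : IrrCharacter G, charDegree (χ : G → ℂ) ∈ D) :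
    Nat.card (ConjClasses G) = ∑ d ∈ D, degCount G d := by
  classical
  have : Fintype (IrrCharacter G) := Fintype.ofFinite _
  have h := sum_irr_comp_degree D hD (fun _ => 1)
  simp only [mul_one, Finset.sum_const, Finset.card_univ, smul_eq_mul] at h
  rw [← h, ← Cfsg.Agent.Lib.Helper3.card_irrCharacter, Nat.card_eq_fintype_card]

/-- the group order as the sum of the squares of the degrees. -/
theorem card_eq_sum_degCount_sq (D : Finset ℕ)
    (hD : ∀ χ : IrrCharacter G, charDegree (χ : G → ℂ) ∈ D) :
    Nat.card G = ∑ d ∈ D, degCount G d * d ^ 2 := by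
  classical
  have : Fintype G := Fintype.ofFinite G
  have : Fintype (IrrCharacter G) := Fintype.ofFinite _
  have h := sum_irr_comp_degree D hD (fun d => d ^ 2)
  rw [← h]
  have h2 := Cfsg.Agent.Lib.Helper3.sum_sq_degree (G := G)
  have h3 : ∑ χ : IrrCharacter G, (χ : G → ℂ) 1 ^ 2 =
      ((∑ χ : IrrCharacter G, charDegree (χ : G → ℂ) ^ 2 : ℕ) : ℂ) := by
    push_cast
    apply Finset.sum_congr rfl
    intro χ _
    rw [irr_apply_one_eq χ]
  rw [h3] at h2
  exact (Nat.cast_injective h2).symm

/-- the count of the characters of degree prime to `ℓ` in terms of the degree counts. -/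
theorem primeDegCount_eq_sum (ℓ : ℕ) (D : Finset ℕ)
    (hD : ∀ χ : IrrCharacter G, charDegree (χ : G → ℂ) ∈ D) :
    primeDegCount ℓ G = ∑ d ∈ D, degCount G d * (if ℓ ∣ d then 0 else 1) := by
  classical
  have : Fintype (IrrCharacter G) := Fintype.ofFinite _
  have h := sum_irr_comp_degree D hD (fun d => if ℓ ∣ d then 0 else 1)
  rw [← h]
  unfold primeDegCount
  rw [Nat.card_eq_fintype_card, Fintype.card_subtype, Finset.card_filter]
  apply Finset.sum_congr rfl
  intro χ _
  by_cases hd : ℓ ∣ charDegree (χ : G → ℂ)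
  · rw [if_neg (not_not.mpr hd), if_pos hd]
  · rw [if_pos hd, if_neg hd]

end Partition

section IndexTwo

variable {D : Type u} [Group D] [Finite D]

/-- a group with an abelian subgroup of index two, order `4m` and `m + 3` classes has exactly
four linear characters, all others having degree two. -/
theorem primeDegCount_of_index_two (T : Subgroup D) (hT : ∀ a ∈ T, ∀ b ∈ T, a * b = b * a)
    (hidx : T.index = 2) (m : ℕ) (hcard : Nat.card D = 4 * m)
    (hk : Nat.card (ConjClasses D) = m + 3) (ℓ : ℕ) (hℓ : ℓ.Prime) :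
    primeDegCount ℓ D = if ℓ = 2 then 4 else m + 3 := by
  classical
  have hD : ∀ χ : IrrCharacter D, charDegree (χ : D → ℂ) ∈ ({1, 2} : Finset ℕ) := by
    intro χ
    have h1 := charDegree_pos χ
    have h2 := charDegree_le_index_of_comm T hT χ
    rw [hidx] at h2
    simp only [Finset.mem_insert, Finset.mem_singleton]
    omega
  have e1 := card_conjClasses_eq_sum_degCount _ hD
  have e2 := card_eq_sum_degCount_sq _ hD
  have e3 := primeDegCount_eq_sum ℓ _ hD
  rw [Finset.sum_pair (by norm_num)] at e1 e2 e3
  rw [hk] at e1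
  rw [hcard] at e2
  rw [e3]
  have hℓ1 : ¬ ℓ ∣ 1 := fun h => hℓ.one_lt.ne' (Nat.dvd_one.mp h)
  rw [if_neg hℓ1]
  by_cases h2 : ℓ = 2
  · subst h2
    rw [if_pos rfl, if_pos dvd_rfl]
    omega
  · rw [if_neg h2]
    have : ¬ ℓ ∣ 2 := fun h => h2 ((Nat.prime_dvd_prime_iff_eq hℓ Nat.prime_two).mp h)
    rw [if_neg this]
    omega

end IndexTwo

section TwentyFour

variable {N : Type u} [Group N] [Finite N]

/-- a group of order `24` with a normal subgroup `S` of index three lying in the kernel of
every linear character has exactly four irreducible characters of odd degree. -/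
theorem primeDegCount_two_of_card_24 (hcard : Nat.card N = 24) (S : Subgroup N) [S.Normal]
    (hS : S.index = 3)
    (hlin : ∀ χ : IrrCharacter N, (χ : N → ℂ) 1 = 1 → ∀ s ∈ S, (χ : N → ℂ) s = 1) :
    primeDegCount 2 N = 4 := by
  classical
  have : Fintype N := Fintype.ofFinite N
  have : Fintype (IrrCharacter N) := Fintype.ofFinite _
  -- degrees are at most 4
  have hsq := Cfsg.Agent.Lib.Helper3.sum_sq_degree (G := N)
  have hsqN : ∑ χ : IrrCharacter N, charDegree (χ : N → ℂ) ^ 2 = 24 := by
    have h3 : ∑ χ : IrrCharacter N, (χ : N → ℂ) 1 ^ 2 =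
        ((∑ χ : IrrCharacter N, charDegree (χ : N → ℂ) ^ 2 : ℕ) : ℂ) := by
      push_cast
      apply Finset.sum_congr rfl
      intro χ _
      rw [irr_apply_one_eq χ]
    rw [h3, hcard] at hsq
    exact_mod_cast hsq
  have hD : ∀ χ : IrrCharacter N, charDegree (χ : N → ℂ) ∈ ({1, 2, 3, 4} : Finset ℕ) := by
    intro χ
    have h1 := charDegree_pos χ
    have h2 : charDegree (χ : N → ℂ) ^ 2 ≤ 24 := by
      rw [← hsqN]
      exact Finset.single_le_sum (f := fun χ : IrrCharacter N => charDegree (χ : N → ℂ) ^ 2)
        (fun _ _ => Nat.zero_le _) (Finset.mem_univ χ)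
    have h3 : charDegree (χ : N → ℂ) < 5 := by
      by_contra h
      have h5 : 5 ≤ charDegree (χ : N → ℂ) := by omega
      have : 25 ≤ charDegree (χ : N → ℂ) ^ 2 := by nlinarith
      omega
    simp only [Finset.mem_insert, Finset.mem_singleton]
    omega
  -- the characters with `S` in the kernel are the linear ones, and there are three of them
  have hker := Cfsg.Agent.Lib.Helper25.sum_sq_degree_kernel (K := N) S
  rw [hS] at hker
  have hkerN : ∑ θ ∈ Finset.univ.filter
      (fun θ : IrrCharacter N => ∀ a : S, (θ : N → ℂ) a = (θ : N → ℂ) 1),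
      charDegree (θ : N → ℂ) ^ 2 = 3 := by
    have h3 : ∑ θ ∈ Finset.univ.filter
        (fun θ : IrrCharacter N => ∀ a : S, (θ : N → ℂ) a = (θ : N → ℂ) 1),
        ((θ : N → ℂ) 1) ^ 2 = ((∑ θ ∈ Finset.univ.filter
        (fun θ : IrrCharacter N => ∀ a : S, (θ : N → ℂ) a = (θ : N → ℂ) 1),
        charDegree (θ : N → ℂ) ^ 2 : ℕ) : ℂ) := by
      push_cast
      apply Finset.sum_congr rfl
      intro χ _
      rw [irr_apply_one_eq χ]
    rw [h3] at hker
    exact_mod_cast hker
  have hkerlin : ∀ θ ∈ Finset.univ.filter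
      (fun θ : IrrCharacter N => ∀ a : S, (θ : N → ℂ) a = (θ : N → ℂ) 1),
      charDegree (θ : N → ℂ) = 1 := by
    intro θ hθ
    have h1 := charDegree_pos θ
    have hle : charDegree (θ : N → ℂ) ^ 2 ≤ 3 := by
      rw [← hkerN]
      exact Finset.single_le_sum (f := fun χ : IrrCharacter N => charDegree (χ : N → ℂ) ^ 2)
        (fun _ _ => Nat.zero_le _) hθ
    have h3 : charDegree (θ : N → ℂ) < 2 := by
      by_contra h
      have h5 : 2 ≤ charDegree (θ : N → ℂ) := by omega
      have : 4 ≤ charDegree (θ : N → ℂ) ^ 2 := by nlinarith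
      omega
    omega
  have hfilter : Finset.univ.filter
      (fun θ : IrrCharacter N => ∀ a : S, (θ : N → ℂ) a = (θ : N → ℂ) 1) =
      Finset.univ.filter (fun θ : IrrCharacter N => charDegree (θ : N → ℂ) = 1) := by
    ext θ
    simp only [Finset.mem_filter, Finset.mem_univ, true_and]
    constructor
    · intro h
      exact hkerlin θ (by simp only [Finset.mem_filter, Finset.mem_univ, true_and]; exact h)
    · intro h a
      have h1 : (θ : N → ℂ) 1 = 1 := by rw [irr_apply_one_eq θ, h]; simp
      rw [hlin θ h1 a a.2, h1]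
  have ha1 : degCount N 1 = 3 := by
    rw [degCount_eq_card_filter, ← hfilter, Finset.card_eq_sum_ones, ← hkerN]
    apply Finset.sum_congr rfl
    intro θ hθ
    rw [hkerlin θ hθ, one_pow]
  have e2 := card_eq_sum_degCount_sq _ hD
  have e3 := primeDegCount_eq_sum 2 _ hD
  rw [Finset.sum_insert (by norm_num), Finset.sum_insert (by norm_num),
    Finset.sum_pair (by norm_num)] at e2 e3
  rw [hcard, ha1] at e2
  rw [e3, ha1]
  have h1 : ¬ (2 ∣ 1) := by norm_num
  have h3 : ¬ (2 ∣ 3) := by norm_num
  have h4 : (2 ∣ 4) := by norm_num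
  rw [if_neg h1, if_pos dvd_rfl, if_neg h3, if_pos h4]
  omega

end TwentyFour

end Cfsg.Agent.Lib.Helper38
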