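import Cfsg.Agent.Lib.Helper38.SL2TableOdd

set_option autoImplicit false
set_option linter.unusedSimpArgs false
set_option linter.unusedSectionVars false

/-!
Irreducible characters of `SL₂(F)`, `|F|` even: degrees and counts.
-/

namespace Cfsg.Agent.Lib.Helper38

open Matrix Cfsg Cfsg.Agent.Lib.Helper25
open scoped ComplexConjugate

variable {F : Type*} [Field F] [Fintype F] [DecidableEq F]

/-- an irreducible character of degree `1` of `SL₂(F)`, `|F| ≥ 4`, is trivial. -/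
theorem irr_SL2_deg_one (hq : 4 ≤ Fintype.card F)
    (ξ : Matrix.SpecialLinearGroup (Fin 2) F → ℂ)
    (hξ : IsIrrCharacter (Matrix.SpecialLinearGroup (Fin 2) F) ξ)
    (hdeg : ξ 1 = 1) : ξ = fun _ => 1 := by
  rcases irr_SL2_cases ξ hξ with rfl | rfl | ⟨α, hα, rfl⟩ | ⟨α, ξ', d, -, -, -, -, hsum, hd⟩ |
    ⟨χ, hc, rfl⟩ | ⟨χ, ξ', d, hc, -, -, hsum, hd⟩
  · rfl
  · exfalso
    rw [steinbergSL_one] at hdeg
    have h2 : (Fintype.card F : ℂ) = ((1 : ℕ) : ℂ) := by
      push_cast; exact hdeg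
    have := card_complex_cast (F := F) 1 h2
    omega
  · exfalso
    rw [ps_SL_one] at hdeg
    have h2 : (Fintype.card F : ℂ) = ((0 : ℕ) : ℂ) := by
      push_cast; linear_combination hdeg
    have := card_complex_cast (F := F) 0 h2
    omega
  · exfalso
    have h1 := congrFun hsum 1
    rw [ps_SL_one, Pi.add_apply, hd.one_eq, hdeg] at h1
    have h2 : (Fintype.card F : ℂ) = ((1 : ℕ) : ℂ) := by
      push_cast; linear_combination h1
    have := card_complex_cast (F := F) 1 h2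
    omega
  · exfalso
    unfold resSL at hdeg
    rw [map_one, cusp_one hc] at hdeg
    have h2 : (Fintype.card F : ℂ) = ((2 : ℕ) : ℂ) := by
      push_cast; linear_combination hdeg
    have := card_complex_cast (F := F) 2 h2
    omega
  · exfalso
    have h1 := congrFun hsum 1
    unfold resSL at h1
    rw [map_one, cusp_one hc, Pi.add_apply, hd.one_eq, hdeg] at h1
    have h2 : (Fintype.card F : ℂ) = ((3 : ℕ) : ℂ) := by
      push_cast; linear_combination h1
    have := card_complex_cast (F := F) 3 h2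
    omega

/-- degrees of `SL₂(F)`, `|F|` even. -/
theorem irr_SL2_degree_even (heven : Even (Fintype.card F))
    (ξ : Matrix.SpecialLinearGroup (Fin 2) F → ℂ)
    (hξ : IsIrrCharacter (Matrix.SpecialLinearGroup (Fin 2) F) ξ) :
    ξ 1 = 1 ∨ ξ 1 = (Fintype.card F : ℂ) - 1 ∨ ξ 1 = (Fintype.card F : ℂ) ∨
      ξ 1 = (Fintype.card F : ℂ) + 1 := by
  obtain ⟨n, hn, -, -⟩ := Cfsg.Agent.Lib.Helper3.IsIrrCharacter.apply_one_dvd_card hξ
  obtain ⟨m, hm⟩ := heven
  rcases irr_SL2_degree_cases ξ hξ with h | h | h | h | h | h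
  · exact Or.inl h
  · exact Or.inr (Or.inr (Or.inl h))
  · exact Or.inr (Or.inr (Or.inr h))
  · exfalso
    rw [hn, hm] at h
    have h2 : ((2 * n : ℕ) : ℂ) = ((m + m + 1 : ℕ) : ℂ) := by
      push_cast at h ⊢; exact h
    have := Nat.cast_injective (R := ℂ) h2
    omega
  · exact Or.inr (Or.inl h)
  · exfalso
    have hpos : 0 < Fintype.card F := Fintype.card_pos
    rw [hn, hm] at h
    have h2 : ((2 * n + 1 : ℕ) : ℂ) = ((m + m : ℕ) : ℂ) := by
      push_cast at h ⊢; linear_combination h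
    have := Nat.cast_injective (R := ℂ) h2
    omega


/-- `Nat.card` of a degree class as the cardinality of a filter. -/
theorem natCard_subtype_eq_card_filter {I : Type*} [Fintype I] (P : I → Prop) [DecidablePred P] :
    Nat.card {x : I // P x} = (Finset.univ.filter P).card := by
  rw [Nat.card_eq_fintype_card, Fintype.card_subtype]

/-- a sum over a type split according to four mutually exclusive exhaustive conditions on
which the summand is constant. -/
theorem sum_split_four {I : Type*} [Fintype I] (P1 P2 P3 P4 : I → Prop) [DecidablePred P1]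
    [DecidablePred P2] [DecidablePred P3] [DecidablePred P4]
    (hex : ∀ x, P1 x ∨ P2 x ∨ P3 x ∨ P4 x)
    (h12 : ∀ x, P1 x → ¬ P2 x) (h13 : ∀ x, P1 x → ¬ P3 x) (h14 : ∀ x, P1 x → ¬ P4 x)
    (h23 : ∀ x, P2 x → ¬ P3 x) (h24 : ∀ x, P2 x → ¬ P4 x) (h34 : ∀ x, P3 x → ¬ P4 x)
    (f : I → ℂ) (c1 c2 c3 c4 : ℂ)
    (hc1 : ∀ x, P1 x → f x = c1) (hc2 : ∀ x, P2 x → f x = c2) (hc3 : ∀ x, P3 x → f x = c3)
    (hc4 : ∀ x, P4 x → f x = c4) :
    ∑ x, f x = (Nat.card {x // P1 x} : ℂ) * c1 + (Nat.card {x // P2 x} : ℂ) * c2 +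
      (Nat.card {x // P3 x} : ℂ) * c3 + (Nat.card {x // P4 x} : ℂ) * c4 := by
  have hpt : ∀ x, f x = (if P1 x then c1 else 0) + (if P2 x then c2 else 0) +
      (if P3 x then c3 else 0) + (if P4 x then c4 else 0) := by
    intro x
    rcases hex x with h | h | h | h
    · rw [if_pos h, if_neg (h12 x h), if_neg (h13 x h), if_neg (h14 x h), hc1 x h]; ring
    · rw [if_pos h, if_neg (fun h' => h12 x h' h), if_neg (h23 x h), if_neg (h24 x h), hc2 x h]
      ring
    · rw [if_pos h, if_neg (fun h' => h13 x h' h), if_neg (fun h' => h23 x h' h),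
        if_neg (h34 x h), hc3 x h]
      ring
    · rw [if_pos h, if_neg (fun h' => h14 x h' h), if_neg (fun h' => h24 x h' h),
        if_neg (fun h' => h34 x h' h), hc4 x h]
      ring
  rw [Finset.sum_congr rfl (fun x _ => hpt x)]
  simp only [Finset.sum_add_distrib, ← Finset.sum_filter, Finset.sum_const, nsmul_eq_mul,
    natCard_subtype_eq_card_filter]

section Counts

variable (F)

/-- the counts of irreducible characters of `SL₂(F)` by degree, `|F| ≥ 4` even. -/
theorem count_SL2_even (heven : Even (Fintype.card F)) (hq : 4 ≤ Fintype.card F) :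
    Nat.card {χ : IrrCharacter (Matrix.SpecialLinearGroup (Fin 2) F) //
      (χ : Matrix.SpecialLinearGroup (Fin 2) F → ℂ) 1 = 1} = 1 ∧
    Nat.card {χ : IrrCharacter (Matrix.SpecialLinearGroup (Fin 2) F) //
      (χ : Matrix.SpecialLinearGroup (Fin 2) F → ℂ) 1 = (Fintype.card F : ℂ)} = 1 ∧
    Nat.card {χ : IrrCharacter (Matrix.SpecialLinearGroup (Fin 2) F) //
      (χ : Matrix.SpecialLinearGroup (Fin 2) F → ℂ) 1 = (Fintype.card F : ℂ) + 1} =
        (Fintype.card F - 2) / 2 ∧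
    Nat.card {χ : IrrCharacter (Matrix.SpecialLinearGroup (Fin 2) F) //
      (χ : Matrix.SpecialLinearGroup (Fin 2) F → ℂ) 1 = (Fintype.card F : ℂ) - 1} =
        Fintype.card F / 2 := by
  classical
  have : Fintype (IrrCharacter (Matrix.SpecialLinearGroup (Fin 2) F)) := Fintype.ofFinite _
  -- degree one
  have hone : Nat.card {χ : IrrCharacter (Matrix.SpecialLinearGroup (Fin 2) F) //
      (χ : Matrix.SpecialLinearGroup (Fin 2) F → ℂ) 1 = 1} = 1 := by
    rw [Nat.card_eq_one_iff_unique]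
    refine ⟨⟨?_⟩, ⟨⟨⟨fun _ => 1, Cfsg.Agent.Lib.Helper3.isIrrCharacter_one⟩, rfl⟩⟩⟩
    rintro ⟨⟨χ, hχ⟩, h1⟩ ⟨⟨χ', hχ'⟩, h1'⟩
    have e1 := irr_SL2_deg_one hq χ hχ h1
    have e2 := irr_SL2_deg_one hq χ' hχ' h1'
    subst e1; subst e2; rfl
  have hst : Nat.card {χ : IrrCharacter (Matrix.SpecialLinearGroup (Fin 2) F) //
      (χ : Matrix.SpecialLinearGroup (Fin 2) F → ℂ) 1 = (Fintype.card F : ℂ)} = 1 := by
    rw [Nat.card_eq_one_iff_unique]
    refine ⟨⟨?_⟩, ⟨⟨⟨steinbergSL F, isIrr_steinbergSL⟩, steinbergSL_one⟩⟩⟩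
    rintro ⟨⟨χ, hχ⟩, h1⟩ ⟨⟨χ', hχ'⟩, h1'⟩
    have e1 := irr_SL2_deg_q χ hχ h1
    have e2 := irr_SL2_deg_q χ' hχ' h1'
    subst e1; subst e2; rfl
  refine ⟨hone, hst, ?_⟩
  obtain ⟨m, hm⟩ := heven
  have hqC : (Fintype.card F : ℂ) = 2 * (m : ℂ) := by rw [hm]; push_cast; ring
  have hm2 : 2 ≤ m := by omega
  -- distinctness of the degrees
  have d1 : (1 : ℂ) ≠ (Fintype.card F : ℂ) - 1 := by
    intro h
    have h2 : (Fintype.card F : ℂ) = ((2 : ℕ) : ℂ) := by push_cast; linear_combination -h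
    have := card_complex_cast (F := F) 2 h2
    omega
  have d2 : (1 : ℂ) ≠ (Fintype.card F : ℂ) := by
    intro h
    have h2 : (Fintype.card F : ℂ) = ((1 : ℕ) : ℂ) := by push_cast; linear_combination -h
    have := card_complex_cast (F := F) 1 h2
    omega
  have d3 : (1 : ℂ) ≠ (Fintype.card F : ℂ) + 1 := by
    intro h
    have h2 : (Fintype.card F : ℂ) = ((0 : ℕ) : ℂ) := by push_cast; linear_combination -h
    have := card_complex_cast (F := F) 0 h2
    omega
  have d4 : (Fintype.card F : ℂ) - 1 ≠ (Fintype.card F : ℂ) := by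
    intro h
    have h2 : (1 : ℂ) = 0 := by linear_combination -h
    exact one_ne_zero h2
  have d5 : (Fintype.card F : ℂ) - 1 ≠ (Fintype.card F : ℂ) + 1 := by
    intro h
    have h2 : (2 : ℂ) = 0 := by linear_combination -h
    exact two_ne_zero h2
  have d6 : (Fintype.card F : ℂ) ≠ (Fintype.card F : ℂ) + 1 := by
    intro h
    have h2 : (1 : ℂ) = 0 := by linear_combination -h
    exact one_ne_zero h2
  have hex : ∀ χ : IrrCharacter (Matrix.SpecialLinearGroup (Fin 2) F),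
      (χ : Matrix.SpecialLinearGroup (Fin 2) F → ℂ) 1 = 1 ∨
      (χ : Matrix.SpecialLinearGroup (Fin 2) F → ℂ) 1 = (Fintype.card F : ℂ) - 1 ∨
      (χ : Matrix.SpecialLinearGroup (Fin 2) F → ℂ) 1 = (Fintype.card F : ℂ) ∨
      (χ : Matrix.SpecialLinearGroup (Fin 2) F → ℂ) 1 = (Fintype.card F : ℂ) + 1 :=
    fun χ => irr_SL2_degree_even ⟨m, hm⟩ χ.1 χ.2
  -- first relation: sum of squares
  have r1 := sum_split_four
    (fun χ : IrrCharacter (Matrix.SpecialLinearGroup (Fin 2) F) =>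
      (χ : Matrix.SpecialLinearGroup (Fin 2) F → ℂ) 1 = 1)
    (fun χ => (χ : Matrix.SpecialLinearGroup (Fin 2) F → ℂ) 1 = (Fintype.card F : ℂ) - 1)
    (fun χ => (χ : Matrix.SpecialLinearGroup (Fin 2) F → ℂ) 1 = (Fintype.card F : ℂ))
    (fun χ => (χ : Matrix.SpecialLinearGroup (Fin 2) F → ℂ) 1 = (Fintype.card F : ℂ) + 1)
    hex (fun χ h h' => d1 (h.symm.trans h')) (fun χ h h' => d2 (h.symm.trans h'))
    (fun χ h h' => d3 (h.symm.trans h')) (fun χ h h' => d4 (h.symm.trans h'))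
    (fun χ h h' => d5 (h.symm.trans h')) (fun χ h h' => d6 (h.symm.trans h'))
    (fun χ => (χ : Matrix.SpecialLinearGroup (Fin 2) F → ℂ) 1 ^ 2)
    1 (((Fintype.card F : ℂ) - 1) ^ 2) ((Fintype.card F : ℂ) ^ 2) (((Fintype.card F : ℂ) + 1) ^ 2)
    (fun χ h => by beta_reduce at h ⊢; rw [h]; ring) (fun χ h => by beta_reduce at h ⊢; rw [h])
    (fun χ h => by beta_reduce at h ⊢; rw [h]) (fun χ h => by beta_reduce at h ⊢; rw [h])
  beta_reduce at r1
  rw [Cfsg.Agent.Lib.Helper3.sum_sq_degree, card_SL2, hone, hst] at r1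
  -- second relation: column orthogonality with the transvection
  obtain ⟨u, hu⟩ : ∃ u : Matrix.SpecialLinearGroup (Fin 2) F, u = unipSL 1 := ⟨_, rfl⟩
  have hu1 : u.1 = !![1, 1; 0, 1] := by
    rw [hu]
    ext i j
    fin_cases i <;> fin_cases j <;> simp [unipSL]
  have hnc : ¬ IsConj u 1 := by
    intro h
    rw [isConj_one_left] at h
    have := congrArg (fun g : Matrix.SpecialLinearGroup (Fin 2) F => g.1 0 1) h
    rw [hu] at this
    simp [unipSL] at this
  have r2 := Cfsg.Agent.Lib.Helper3.column_orthogonality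
    (G := Matrix.SpecialLinearGroup (Fin 2) F) u 1
  rw [if_neg hnc] at r2
  have r2' := sum_split_four
    (fun χ : IrrCharacter (Matrix.SpecialLinearGroup (Fin 2) F) =>
      (χ : Matrix.SpecialLinearGroup (Fin 2) F → ℂ) 1 = 1)
    (fun χ => (χ : Matrix.SpecialLinearGroup (Fin 2) F → ℂ) 1 = (Fintype.card F : ℂ) - 1)
    (fun χ => (χ : Matrix.SpecialLinearGroup (Fin 2) F → ℂ) 1 = (Fintype.card F : ℂ))
    (fun χ => (χ : Matrix.SpecialLinearGroup (Fin 2) F → ℂ) 1 = (Fintype.card F : ℂ) + 1)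
    hex (fun χ h h' => d1 (h.symm.trans h')) (fun χ h h' => d2 (h.symm.trans h'))
    (fun χ h h' => d3 (h.symm.trans h')) (fun χ h h' => d4 (h.symm.trans h'))
    (fun χ h h' => d5 (h.symm.trans h')) (fun χ h h' => d6 (h.symm.trans h'))
    (fun χ => (χ : Matrix.SpecialLinearGroup (Fin 2) F → ℂ) u *
      conj ((χ : Matrix.SpecialLinearGroup (Fin 2) F → ℂ) 1))
    1 (-((Fintype.card F : ℂ) - 1)) 0 ((Fintype.card F : ℂ) + 1)
    (fun χ h => by
      beta_reduce at h ⊢
      have e := irr_SL2_deg_one hq χ.1 χ.2 h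
      rw [e]; simp)
    (fun χ h => by
      beta_reduce at h ⊢
      rw [(irr_SL2_value_unip hq χ.1 χ.2 u hu1).2 h, h]
      simp)
    (fun χ h => by
      beta_reduce at h ⊢
      have e := irr_SL2_deg_q χ.1 χ.2 h
      rw [e, (steinbergSL_values u).2.2 (by rw [hu1]; rfl) (by rw [hu1]; rfl)
        (by rw [hu1]; exact one_ne_zero)]
      simp)
    (fun χ h => by
      beta_reduce at h ⊢
      rw [(irr_SL2_value_unip hq χ.1 χ.2 u hu1).1 h, h]
      simp)
  beta_reduce at r2'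
  rw [r2, hone, hst] at r2'
  obtain ⟨a, ha⟩ : ∃ a : ℕ, a = Nat.card {χ : IrrCharacter (Matrix.SpecialLinearGroup (Fin 2) F) //
      (χ : Matrix.SpecialLinearGroup (Fin 2) F → ℂ) 1 = (Fintype.card F : ℂ) + 1} := ⟨_, rfl⟩
  obtain ⟨b, hb⟩ : ∃ b : ℕ, b = Nat.card {χ : IrrCharacter (Matrix.SpecialLinearGroup (Fin 2) F) //
      (χ : Matrix.SpecialLinearGroup (Fin 2) F → ℂ) 1 = (Fintype.card F : ℂ) - 1} := ⟨_, rfl⟩
  rw [← ha, ← hb] at r1 r2' ⊢
  have hq0 : (Fintype.card F : ℂ) ≠ 0 := card_field_ne_zero_complex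
  have hq1 : (Fintype.card F : ℂ) - 1 ≠ 0 := card_field_sub_one_ne_zero_complex
  have hq2 : (Fintype.card F : ℂ) + 1 ≠ 0 := by
    have := natCast_add_ne_zero (Fintype.card F) 1 one_pos
    simpa using this
  have hcast : ((Fintype.card F * (Fintype.card F ^ 2 - 1) : ℕ) : ℂ) =
      (Fintype.card F : ℂ) * ((Fintype.card F : ℂ) ^ 2 - 1) := by
    rw [Nat.cast_mul, Nat.cast_sub (Nat.one_le_pow _ _ Fintype.card_pos)]
    push_cast; ring
  rw [hcast] at r1
  push_cast at r1 r2'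
  -- solve
  have hbC : (b : ℂ) = (m : ℂ) := by
    have h3 : (b : ℂ) * (2 * (Fintype.card F : ℂ) * ((Fintype.card F : ℂ) - 1)) =
        (m : ℂ) * (2 * (Fintype.card F : ℂ) * ((Fintype.card F : ℂ) - 1)) := by
      have : (m : ℂ) = (Fintype.card F : ℂ) / 2 := by rw [hqC]; ring
      rw [this]
      linear_combination -r1 + ((Fintype.card F : ℂ) + 1) * r2'
    exact mul_right_cancel₀ (mul_ne_zero (mul_ne_zero two_ne_zero hq0) hq1) h3
  have haC : (a : ℂ) + 1 = (m : ℂ) := by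
    have h3 : ((a : ℂ) + 1) * ((Fintype.card F : ℂ) + 1) = (m : ℂ) * ((Fintype.card F : ℂ) + 1) := by
      linear_combination -r2' + ((Fintype.card F : ℂ) - 1) * hbC + hqC
    exact mul_right_cancel₀ hq2 h3
  have hbN : b = m := Nat.cast_injective (R := ℂ) hbC
  have haN : a + 1 = m := Nat.cast_injective (R := ℂ) (by push_cast; exact haC)
  constructor
  · omega
  · omega

end Counts

end Cfsg.Agent.Lib.Helper38
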