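import Cfsg.Agent.Lib.Helper38.SL2Unstable
import Cfsg.Agent.Lib.Helper38.SL2TableEven

set_option autoImplicit false
set_option linter.unusedSimpArgs false
set_option linter.unusedSectionVars false

/-!
Counting the irreducible characters of `SL₂(F)`, `|F|` odd, by degree.
-/

namespace Cfsg.Agent.Lib.Helper38

open Matrix Cfsg Cfsg.Agent.Lib.Helper25
open scoped ComplexConjugate

variable {F : Type*} [Field F] [Fintype F] [DecidableEq F]

/-- a sum over a type split according to the value of a "degree" function with finitely many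
values. -/
theorem sum_split_fin {I : Type*} [Fintype I] {n : ℕ} (deg : I → ℂ) (v : Fin n → ℂ)
    (hv : Function.Injective v) (hex : ∀ x, ∃ i, deg x = v i) (f : I → ℂ) (c : Fin n → ℂ)
    (hc : ∀ x i, deg x = v i → f x = c i) :
    ∑ x, f x = ∑ i, (Nat.card {x // deg x = v i} : ℂ) * c i := by
  classical
  have hpt : ∀ x, f x = ∑ i, (if deg x = v i then c i else 0) := by
    intro x
    obtain ⟨i₀, hi₀⟩ := hex x
    rw [Finset.sum_eq_single i₀]
    · rw [if_pos hi₀, hc x i₀ hi₀]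
    · intro i _ hne
      rw [if_neg]
      intro h
      exact hne (hv (h.symm.trans hi₀))
    · intro h
      exact absurd (Finset.mem_univ _) h
  rw [Finset.sum_congr rfl (fun x _ => hpt x), Finset.sum_comm]
  apply Finset.sum_congr rfl
  intro i _
  rw [sum_ite_const, natCard_subtype_eq_card_filter]

/-- the sum over the irreducible characters of `χ(1)` times the conjugate of the sum of `χ` over
the unipotent subgroup. -/
theorem sum_deg_sumU [Fintype (IrrCharacter (Matrix.SpecialLinearGroup (Fin 2) F))] :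
    ∑ χ : IrrCharacter (Matrix.SpecialLinearGroup (Fin 2) F),
      (χ : Matrix.SpecialLinearGroup (Fin 2) F → ℂ) 1 *
        conj (∑ x : F, (χ : Matrix.SpecialLinearGroup (Fin 2) F → ℂ) (unipSL x)) =
      (Nat.card (Matrix.SpecialLinearGroup (Fin 2) F) : ℂ) := by
  classical
  simp only [map_sum, Finset.mul_sum]
  rw [Finset.sum_comm]
  have hx : ∀ x : F, ∑ χ : IrrCharacter (Matrix.SpecialLinearGroup (Fin 2) F),
      (χ : Matrix.SpecialLinearGroup (Fin 2) F → ℂ) 1 *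
        conj ((χ : Matrix.SpecialLinearGroup (Fin 2) F → ℂ) (unipSL x)) =
      if x = 0 then (Nat.card (Matrix.SpecialLinearGroup (Fin 2) F) : ℂ) else 0 := by
    intro x
    rw [Cfsg.Agent.Lib.Helper3.column_orthogonality]
    by_cases h : x = 0
    · subst h
      rw [if_pos rfl, unipSL_zero, if_pos (IsConj.refl _)]
      congr 1
      have : Subgroup.centralizer ({1} : Set (Matrix.SpecialLinearGroup (Fin 2) F)) = ⊤ := by
        ext g
        simp [Subgroup.mem_centralizer_iff]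
      rw [this, Subgroup.card_top]
    · rw [if_neg h, if_neg]
      intro hc
      rw [isConj_one_right] at hc
      apply h
      apply unipSL_injective
      rw [hc, unipSL_zero]
  rw [Finset.sum_congr rfl (fun x _ => hx x), Finset.sum_ite_eq' Finset.univ (0 : F),
    if_pos (Finset.mem_univ _)]


/-- the characters of half degree are moved by the twist, which maps them to their partner. -/
theorem half_degree_types {k : ℕ} (hk : Fintype.card F = 2 * k + 1) (hk2 : 2 ≤ k)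
    (d₀ : Fˣ) (hd₀ : ¬ IsSquare (d₀ : F))
    (ξ : Matrix.SpecialLinearGroup (Fin 2) F → ℂ)
    (hξ : IsIrrCharacter (Matrix.SpecialLinearGroup (Fin 2) F) ξ) :
    (ξ 1 = ((k + 1 : ℕ) : ℂ) → ∃ α : MulChar F ℂ, α ^ 2 = 1 ∧ α ≠ 1 ∧ tw d₀ ξ ≠ ξ ∧
      indFun (borelSL F) (psFun α) = ξ + tw d₀ ξ) ∧
    (ξ 1 = ((k : ℕ) : ℂ) → ∃ χ : GL (Fin 2) F → ℂ, IsCuspidalGL χ ∧ tw d₀ ξ ≠ ξ ∧
      resSL χ = ξ + tw d₀ ξ) := by
  have hcf := isClassFunction_of_irr hξ
  constructor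
  · intro hdeg
    rcases irr_SL2_odd_types hk ξ hξ with ⟨-, h1⟩ | ⟨-, h1⟩ | ⟨α, -, -, h1⟩ |
      ⟨α, ξ', d, ha, ha1, hirr', hne, hsum, hd, h1⟩ | ⟨ψ, hc, -, h1⟩ |
      ⟨ψ, ξ', d, hc, hirr', hne, hsum, hd, h1⟩
    · have := Nat.cast_injective (R := ℂ) (hdeg.symm.trans h1); omega
    · have := Nat.cast_injective (R := ℂ) (hdeg.symm.trans h1); omega
    · have := Nat.cast_injective (R := ℂ) (hdeg.symm.trans h1); omega
    · have e := hd.eq_tw_nonsquare hne hcf (isClassFunction_of_irr hirr') d₀ hd₀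
      rw [e] at hne hsum
      exact ⟨α, ha, ha1, fun h => hne h.symm, hsum⟩
    · have := Nat.cast_injective (R := ℂ) (hdeg.symm.trans h1); omega
    · have := Nat.cast_injective (R := ℂ) (hdeg.symm.trans h1); omega
  · intro hdeg
    rcases irr_SL2_odd_types hk ξ hξ with ⟨-, h1⟩ | ⟨-, h1⟩ | ⟨α, -, -, h1⟩ |
      ⟨α, ξ', d, ha, ha1, hirr', hne, hsum, hd, h1⟩ | ⟨ψ, hc, -, h1⟩ |
      ⟨ψ, ξ', d, hc, hirr', hne, hsum, hd, h1⟩
    · have := Nat.cast_injective (R := ℂ) (hdeg.symm.trans h1); omega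
    · have := Nat.cast_injective (R := ℂ) (hdeg.symm.trans h1); omega
    · have := Nat.cast_injective (R := ℂ) (hdeg.symm.trans h1); omega
    · have := Nat.cast_injective (R := ℂ) (hdeg.symm.trans h1); omega
    · have := Nat.cast_injective (R := ℂ) (hdeg.symm.trans h1); omega
    · have e := hd.eq_tw_nonsquare hne hcf (isClassFunction_of_irr hirr') d₀ hd₀
      rw [e] at hne hsum
      exact ⟨ψ, hc, fun h => hne h.symm, hsum⟩

theorem exists_nonsquare_unit (hodd : Odd (Fintype.card F)) : ∃ d₀ : Fˣ, ¬ IsSquare (d₀ : F) := by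
  have hchar : ringChar F ≠ 2 := by
    intro h
    have h2 := FiniteField.even_card_iff_char_two.mp h
    have h3 := Nat.odd_iff.mp hodd
    omega
  obtain ⟨a, ha⟩ := FiniteField.exists_nonsquare hchar
  have ha0 : a ≠ 0 := by
    intro h
    apply ha
    rw [h]
    exact ⟨0, by simp⟩
  exact ⟨Units.mk0 a ha0, ha⟩


section Counts

variable (F)

/-- the counts of irreducible characters of `SL₂(F)` by degree, `|F| = 2k+1 ≥ 5`. -/
theorem count_SL2_odd_aux {k : ℕ} (hk : Fintype.card F = 2 * k + 1) (hk2 : 2 ≤ k) :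
    Nat.card {χ : IrrCharacter (Matrix.SpecialLinearGroup (Fin 2) F) //
      (χ : Matrix.SpecialLinearGroup (Fin 2) F → ℂ) 1 = ((1 : ℕ) : ℂ)} = 1 ∧
    Nat.card {χ : IrrCharacter (Matrix.SpecialLinearGroup (Fin 2) F) //
      (χ : Matrix.SpecialLinearGroup (Fin 2) F → ℂ) 1 = ((2 * k + 1 : ℕ) : ℂ)} = 1 ∧
    Nat.card {χ : IrrCharacter (Matrix.SpecialLinearGroup (Fin 2) F) //
      (χ : Matrix.SpecialLinearGroup (Fin 2) F → ℂ) 1 = ((2 * k + 2 : ℕ) : ℂ)} = k - 1 ∧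
    Nat.card {χ : IrrCharacter (Matrix.SpecialLinearGroup (Fin 2) F) //
      (χ : Matrix.SpecialLinearGroup (Fin 2) F → ℂ) 1 = ((2 * k : ℕ) : ℂ)} = k ∧
    Nat.card {χ : IrrCharacter (Matrix.SpecialLinearGroup (Fin 2) F) //
      (χ : Matrix.SpecialLinearGroup (Fin 2) F → ℂ) 1 = ((k + 1 : ℕ) : ℂ)} = 2 ∧
    Nat.card {χ : IrrCharacter (Matrix.SpecialLinearGroup (Fin 2) F) //
      (χ : Matrix.SpecialLinearGroup (Fin 2) F → ℂ) 1 = ((k : ℕ) : ℂ)} = 2 := by
  classical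
  have : Fintype (IrrCharacter (Matrix.SpecialLinearGroup (Fin 2) F)) := Fintype.ofFinite _
  have hodd : Odd (Fintype.card F) := ⟨k, hk⟩
  have hq5 : 5 ≤ Fintype.card F := by omega
  have hq4 : 4 ≤ Fintype.card F := by omega
  have hqC : (Fintype.card F : ℂ) = 2 * (k : ℂ) + 1 := by rw [hk]; push_cast; ring
  -- degree one and degree q
  have hone : Nat.card {χ : IrrCharacter (Matrix.SpecialLinearGroup (Fin 2) F) //
      (χ : Matrix.SpecialLinearGroup (Fin 2) F → ℂ) 1 = ((1 : ℕ) : ℂ)} = 1 := by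
    rw [Nat.card_eq_one_iff_unique]
    refine ⟨⟨?_⟩, ⟨⟨⟨fun _ => 1, Cfsg.Agent.Lib.Helper3.isIrrCharacter_one⟩, by simp⟩⟩⟩
    rintro ⟨⟨χ, hχ⟩, h1⟩ ⟨⟨χ', hχ'⟩, h1'⟩
    have e1 := irr_SL2_deg_one hq4 χ hχ (by simpa using h1)
    have e2 := irr_SL2_deg_one hq4 χ' hχ' (by simpa using h1')
    subst e1; subst e2; rfl
  have hst : Nat.card {χ : IrrCharacter (Matrix.SpecialLinearGroup (Fin 2) F) //
      (χ : Matrix.SpecialLinearGroup (Fin 2) F → ℂ) 1 = ((2 * k + 1 : ℕ) : ℂ)} = 1 := by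
    rw [Nat.card_eq_one_iff_unique]
    refine ⟨⟨?_⟩, ⟨⟨⟨steinbergSL F, isIrr_steinbergSL⟩, by
      change steinbergSL F 1 = _
      rw [steinbergSL_one, hk]⟩⟩⟩
    rintro ⟨⟨χ, hχ⟩, h1⟩ ⟨⟨χ', hχ'⟩, h1'⟩
    have e1 := irr_SL2_deg_q χ hχ (by rw [hk]; exact h1)
    have e2 := irr_SL2_deg_q χ' hχ' (by rw [hk]; exact h1')
    subst e1; subst e2; rfl
  refine ⟨hone, hst, ?_⟩
  -- the degree values
  obtain ⟨w, hw⟩ : ∃ w : Fin 6 → ℕ, w = ![1, 2 * k + 1, 2 * k + 2, 2 * k, k + 1, k] := ⟨_, rfl⟩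
  have hwinj : Function.Injective w := by
    rw [hw]
    intro i j h
    fin_cases i <;> fin_cases j <;> simp at h ⊢ <;> omega
  have hvinj : Function.Injective (fun i => ((w i : ℕ) : ℂ)) :=
    Nat.cast_injective.comp hwinj
  have hex : ∀ χ : IrrCharacter (Matrix.SpecialLinearGroup (Fin 2) F),
      ∃ i, (χ : Matrix.SpecialLinearGroup (Fin 2) F → ℂ) 1 = ((w i : ℕ) : ℂ) := by
    intro χ
    rw [hw]
    rcases irr_SL2_odd_types hk χ.1 χ.2 with ⟨-, h1⟩ | ⟨-, h1⟩ | ⟨α, -, -, h1⟩ |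
      ⟨α, ξ', d, -, -, -, -, -, -, h1⟩ | ⟨ψ, -, -, h1⟩ | ⟨ψ, ξ', d, -, -, -, -, -, h1⟩
    · exact ⟨0, h1⟩
    · exact ⟨1, h1⟩
    · exact ⟨2, h1⟩
    · exact ⟨4, h1⟩
    · exact ⟨3, h1⟩
    · exact ⟨5, h1⟩
  -- first relation: sum of squares
  have r1 := sum_split_fin
    (fun χ : IrrCharacter (Matrix.SpecialLinearGroup (Fin 2) F) =>
      (χ : Matrix.SpecialLinearGroup (Fin 2) F → ℂ) 1) (fun i => ((w i : ℕ) : ℂ)) hvinj hex
    (fun χ => (χ : Matrix.SpecialLinearGroup (Fin 2) F → ℂ) 1 ^ 2)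
    (fun i => ((w i : ℕ) : ℂ) ^ 2) (fun χ i h => by beta_reduce at h ⊢; rw [h])
  beta_reduce at r1
  rw [Cfsg.Agent.Lib.Helper3.sum_sq_degree, card_SL2] at r1
  -- second relation
  obtain ⟨sv, hsv⟩ : ∃ sv : Fin 6 → ℂ, sv = ![(Fintype.card F : ℂ), (Fintype.card F : ℂ),
      2 * (Fintype.card F : ℂ), 0, (Fintype.card F : ℂ), 0] := ⟨_, rfl⟩
  have r2 := sum_split_fin
    (fun χ : IrrCharacter (Matrix.SpecialLinearGroup (Fin 2) F) =>
      (χ : Matrix.SpecialLinearGroup (Fin 2) F → ℂ) 1) (fun i => ((w i : ℕ) : ℂ)) hvinj hex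
    (fun χ => (χ : Matrix.SpecialLinearGroup (Fin 2) F → ℂ) 1 *
      conj (∑ x : F, (χ : Matrix.SpecialLinearGroup (Fin 2) F → ℂ) (unipSL x)))
    (fun i => ((w i : ℕ) : ℂ) * sv i) (fun χ i h => by
      beta_reduce at h ⊢
      have hU := sumU_by_degree hodd hq5 χ.1 χ.2
      have e5 : (Fintype.card F + 1) / 2 = k + 1 := by omega
      have e6 : (Fintype.card F - 1) / 2 = k := by omega
      rw [e5, e6] at hU
      rw [h]
      congr 1
      rw [hw] at h
      rw [hsv]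
      fin_cases i
      · simp only [Fin.zero_eta, Matrix.cons_val] at h ⊢
        have e := irr_SL2_deg_one hq4 χ.1 χ.2 (by simpa using h)
        rw [e]
        simp
      · simp only [Fin.mk_one, Matrix.cons_val] at h ⊢
        rw [hU.2.1 (by rw [h, hk]), Complex.conj_natCast]
      · simp only [Fin.reduceFinMk, Matrix.cons_val] at h ⊢
        rw [hU.1 (by rw [h, hqC]; push_cast; ring), map_mul, Complex.conj_natCast, map_ofNat]
      · simp only [Fin.reduceFinMk, Matrix.cons_val] at h ⊢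
        rw [hU.2.2.1 (by rw [h, hqC]; push_cast; ring), map_zero]
      · simp only [Fin.reduceFinMk, Matrix.cons_val] at h ⊢
        rw [hU.2.2.2.1 h, Complex.conj_natCast]
      · simp only [Fin.reduceFinMk, Matrix.cons_val] at h ⊢
        rw [hU.2.2.2.2 h, map_zero])
  beta_reduce at r2
  rw [sum_deg_sumU, card_SL2] at r2
  rw [hw] at r1 r2
  rw [hsv] at r2
  simp only [Fin.sum_univ_six, Matrix.cons_val] at r1 r2
  rw [hone, hst] at r1 r2
  -- the third relation: at most four unstable characters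
  obtain ⟨d₀, hd₀⟩ := exists_nonsquare_unit hodd
  have r3 := card_unstable_le hodd d₀ hd₀
  have hsub : (Finset.univ.filter (fun χ : IrrCharacter (Matrix.SpecialLinearGroup (Fin 2) F) =>
        (χ : Matrix.SpecialLinearGroup (Fin 2) F → ℂ) 1 = ((k + 1 : ℕ) : ℂ))) ∪
      (Finset.univ.filter (fun χ : IrrCharacter (Matrix.SpecialLinearGroup (Fin 2) F) =>
        (χ : Matrix.SpecialLinearGroup (Fin 2) F → ℂ) 1 = ((k : ℕ) : ℂ))) ⊆
      (Finset.univ.filter (fun χ : IrrCharacter (Matrix.SpecialLinearGroup (Fin 2) F) =>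
        tw d₀ (χ : Matrix.SpecialLinearGroup (Fin 2) F → ℂ) ≠
          (χ : Matrix.SpecialLinearGroup (Fin 2) F → ℂ))) := by
    intro χ hχ
    rw [Finset.mem_union, Finset.mem_filter, Finset.mem_filter] at hχ
    rw [Finset.mem_filter]
    refine ⟨Finset.mem_univ _, ?_⟩
    rcases hχ with ⟨-, h⟩ | ⟨-, h⟩
    · obtain ⟨α, -, -, hne, -⟩ := (half_degree_types hk hk2 d₀ hd₀ χ.1 χ.2).1 h
      exact hne
    · obtain ⟨ψ, -, hne, -⟩ := (half_degree_types hk hk2 d₀ hd₀ χ.1 χ.2).2 h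
      exact hne
  have hdisj : Disjoint
      (Finset.univ.filter (fun χ : IrrCharacter (Matrix.SpecialLinearGroup (Fin 2) F) =>
        (χ : Matrix.SpecialLinearGroup (Fin 2) F → ℂ) 1 = ((k + 1 : ℕ) : ℂ)))
      (Finset.univ.filter (fun χ : IrrCharacter (Matrix.SpecialLinearGroup (Fin 2) F) =>
        (χ : Matrix.SpecialLinearGroup (Fin 2) F → ℂ) 1 = ((k : ℕ) : ℂ))) := by
    rw [Finset.disjoint_filter]
    intro χ _ h1 h2
    have := Nat.cast_injective (R := ℂ) (h1.symm.trans h2)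
    omega
  have r3' := (Finset.card_le_card hsub).trans r3
  rw [Finset.card_union_of_disjoint hdisj, ← natCard_subtype_eq_card_filter,
    ← natCard_subtype_eq_card_filter] at r3'
  -- name the unknowns
  obtain ⟨a, ha⟩ : ∃ a : ℕ, a = Nat.card {χ : IrrCharacter (Matrix.SpecialLinearGroup (Fin 2) F) //
      (χ : Matrix.SpecialLinearGroup (Fin 2) F → ℂ) 1 = ((2 * k + 2 : ℕ) : ℂ)} := ⟨_, rfl⟩
  obtain ⟨b, hb⟩ : ∃ b : ℕ, b = Nat.card {χ : IrrCharacter (Matrix.SpecialLinearGroup (Fin 2) F) //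
      (χ : Matrix.SpecialLinearGroup (Fin 2) F → ℂ) 1 = ((2 * k : ℕ) : ℂ)} := ⟨_, rfl⟩
  obtain ⟨c, hc⟩ : ∃ c : ℕ, c = Nat.card {χ : IrrCharacter (Matrix.SpecialLinearGroup (Fin 2) F) //
      (χ : Matrix.SpecialLinearGroup (Fin 2) F → ℂ) 1 = ((k + 1 : ℕ) : ℂ)} := ⟨_, rfl⟩
  obtain ⟨d, hd⟩ : ∃ d : ℕ, d = Nat.card {χ : IrrCharacter (Matrix.SpecialLinearGroup (Fin 2) F) //
      (χ : Matrix.SpecialLinearGroup (Fin 2) F → ℂ) 1 = ((k : ℕ) : ℂ)} := ⟨_, rfl⟩
  rw [← ha, ← hb, ← hc, ← hd] at r1 r2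
  rw [← hc, ← hd] at r3'
  rw [← ha, ← hb, ← hc, ← hd]
  have hcast : ((Fintype.card F * (Fintype.card F ^ 2 - 1) : ℕ) : ℂ) =
      (Fintype.card F : ℂ) * ((Fintype.card F : ℂ) ^ 2 - 1) := by
    rw [Nat.cast_mul, Nat.cast_sub (Nat.one_le_pow _ _ Fintype.card_pos)]
    push_cast; ring
  rw [hcast, hqC] at r1 r2
  push_cast at r1 r2
  have hk0 : (k : ℂ) ≠ 0 := Nat.cast_ne_zero.mpr (by omega)
  have hk1 : (k : ℂ) + 1 ≠ 0 := by
    have := natCast_add_ne_zero k 1 one_pos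
    simpa using this
  have h2k1 : 2 * (k : ℂ) + 1 ≠ 0 := by
    have : ((2 * k + 1 : ℕ) : ℂ) ≠ 0 := Nat.cast_ne_zero.mpr (by omega)
    simpa using this
  -- 2 + 4a + c = 4k
  have hA : ((2 + 4 * a + c : ℕ) : ℂ) = ((4 * k : ℕ) : ℂ) := by
    push_cast
    apply mul_left_cancel₀ (mul_ne_zero h2k1 hk1)
    linear_combination -r2
  have hA' := Nat.cast_injective (R := ℂ) hA
  -- 4b + d = 4k + 2
  have hB : ((4 * b + d : ℕ) : ℂ) = ((4 * k + 2 : ℕ) : ℂ) := by
    push_cast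
    have hA'' : (2 : ℂ) + 4 * (a : ℂ) + (c : ℂ) = 4 * (k : ℂ) := by exact_mod_cast hA
    apply mul_left_cancel₀ (pow_ne_zero 2 hk0)
    linear_combination -r1 - ((k : ℂ) + 1) ^ 2 * hA''
  have hB' := Nat.cast_injective (R := ℂ) hB
  refine ⟨?_, ?_, ?_, ?_⟩ <;> omega

end Counts

end Cfsg.Agent.Lib.Helper38
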