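import Cfsg.Agent.Lib.Helper38.McKayGen
import Cfsg.Agent.Lib.Helper38.SL2Blocks
import Cfsg.Agent.Lib.Helper38.SL2CountOdd
import Cfsg.Agent.S2325

/-!
# The number of irreducible characters of `SL₂(q)`, `q` odd, of degree prime to `ℓ`
-/

set_option autoImplicit false

namespace Cfsg.Agent.Lib.Helper38

open Matrix Cfsg

variable {F : Type*} [Field F] [Fintype F]

/-- the defining characteristic: all irreducible characters except the Steinberg character. -/
theorem primeDegCount_SL2_char (hodd : Odd (Fintype.card F)) (p : ℕ) [Fact p.Prime] [CharP F p] :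
    primeDegCount p (Matrix.SpecialLinearGroup (Fin 2) F) = Fintype.card F + 3 := by
  classical
  have : Fintype (IrrCharacter (Matrix.SpecialLinearGroup (Fin 2) F)) := Fintype.ofFinite _
  have hk : Fintype.card (IrrCharacter (Matrix.SpecialLinearGroup (Fin 2) F)) =
      Fintype.card F + 4 := by
    rw [← Nat.card_eq_fintype_card, Cfsg.Agent.Lib.Helper3.card_irrCharacter,
      Cfsg.Agent.S2325.card_eq F hodd]
  let St : IrrCharacter (Matrix.SpecialLinearGroup (Fin 2) F) :=
    ⟨steinbergSL F, isIrr_steinbergSL⟩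
  have hiff : ∀ χ : IrrCharacter (Matrix.SpecialLinearGroup (Fin 2) F),
      ¬ p ∣ charDegree (χ : Matrix.SpecialLinearGroup (Fin 2) F → ℂ) ↔ χ ≠ St := by
    intro χ
    constructor
    · intro h hχ
      apply h
      rw [hχ]
      have : charDegree ((St : IrrCharacter (Matrix.SpecialLinearGroup (Fin 2) F)) :
          Matrix.SpecialLinearGroup (Fin 2) F → ℂ) = Fintype.card F :=
        charDegree_of_natCast (steinbergSL_one (F := F))
      rw [this]
      exact char_dvd_card p
    · intro hne hdvd
      apply hne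
      have h1 := irr_apply_one_eq χ
      have h2 := irr_SL2_degree_of_dvd p _ χ.2 _ h1 hdvd
      rw [h2] at h1
      exact Subtype.ext (irr_SL2_deg_q _ χ.2 h1)
  unfold primeDegCount
  rw [Nat.card_eq_fintype_card, Fintype.card_subtype]
  have : Finset.univ.filter (fun χ : IrrCharacter (Matrix.SpecialLinearGroup (Fin 2) F) =>
      ¬ p ∣ charDegree (χ : Matrix.SpecialLinearGroup (Fin 2) F → ℂ)) = Finset.univ.erase St := by
    ext χ
    simp only [Finset.mem_filter, Finset.mem_univ, true_and, Finset.mem_erase, and_true]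
    exact hiff χ
  rw [this, Finset.card_erase_of_mem (Finset.mem_univ _), Finset.card_univ, hk]
  omega

/-- the general count for `q = 2k + 1 ≥ 5`. -/
theorem primeDegCount_SL2_odd {k : ℕ} (hk : Fintype.card F = 2 * k + 1) (hk2 : 2 ≤ k) (ℓ : ℕ) :
    primeDegCount ℓ (Matrix.SpecialLinearGroup (Fin 2) F) =
      (if ℓ ∣ 1 then 0 else 1) + (if ℓ ∣ 2 * k + 1 then 0 else 1) +
      (k - 1) * (if ℓ ∣ 2 * k + 2 then 0 else 1) + k * (if ℓ ∣ 2 * k then 0 else 1) +
      2 * (if ℓ ∣ k + 1 then 0 else 1) + 2 * (if ℓ ∣ k then 0 else 1) := by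
  classical
  have hcount := count_SL2_odd_aux F hk hk2
  have hdc : ∀ d : ℕ, degCount (Matrix.SpecialLinearGroup (Fin 2) F) d =
      Nat.card {χ : IrrCharacter (Matrix.SpecialLinearGroup (Fin 2) F) //
        (χ : Matrix.SpecialLinearGroup (Fin 2) F → ℂ) 1 = ((d : ℕ) : ℂ)} := by
    intro d
    unfold degCount
    refine Nat.card_congr (Equiv.subtypeEquivRight ?_)
    intro χ
    constructor
    · intro h
      rw [irr_apply_one_eq χ, h]
    · intro h
      exact charDegree_of_natCast h
  have hD : ∀ χ : IrrCharacter (Matrix.SpecialLinearGroup (Fin 2) F),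
      charDegree (χ : Matrix.SpecialLinearGroup (Fin 2) F → ℂ) ∈
        ({1, 2 * k + 1, 2 * k + 2, 2 * k, k + 1, k} : Finset ℕ) := by
    intro χ
    have hqC : (Fintype.card F : ℂ) = 2 * (k : ℂ) + 1 := by rw [hk]; push_cast; ring
    have h1 := irr_apply_one_eq χ
    simp only [Finset.mem_insert, Finset.mem_singleton]
    rcases irr_SL2_degree_cases _ χ.2 with h | h | h | h | h | h
    · left
      rw [h1] at h
      exact_mod_cast h
    · right; left
      rw [h1, hqC] at h
      exact_mod_cast h
    · right; right; left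
      rw [h1, hqC] at h
      have : ((charDegree (χ : Matrix.SpecialLinearGroup (Fin 2) F → ℂ) : ℕ) : ℂ) =
          ((2 * k + 2 : ℕ) : ℂ) := by rw [h]; push_cast; ring
      exact_mod_cast this
    · right; right; right; right; left
      rw [h1, hqC] at h
      have : ((2 * charDegree (χ : Matrix.SpecialLinearGroup (Fin 2) F → ℂ) : ℕ) : ℂ) =
          ((2 * k + 2 : ℕ) : ℂ) := by push_cast; rw [h]; ring
      have h2 : 2 * charDegree (χ : Matrix.SpecialLinearGroup (Fin 2) F → ℂ) = 2 * k + 2 := by
        exact_mod_cast this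
      omega
    · right; right; right; left
      rw [h1, hqC] at h
      have : ((charDegree (χ : Matrix.SpecialLinearGroup (Fin 2) F → ℂ) : ℕ) : ℂ) =
          ((2 * k : ℕ) : ℂ) := by rw [h]; push_cast; ring
      exact_mod_cast this
    · right; right; right; right; right
      rw [h1, hqC] at h
      have : ((2 * charDegree (χ : Matrix.SpecialLinearGroup (Fin 2) F → ℂ) : ℕ) : ℂ) =
          ((2 * k : ℕ) : ℂ) := by push_cast; rw [h]; ring
      have h2 : 2 * charDegree (χ : Matrix.SpecialLinearGroup (Fin 2) F → ℂ) = 2 * k := by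
        exact_mod_cast this
      omega
  have e3 := primeDegCount_eq_sum ℓ _ hD
  rw [Finset.sum_insert (by simp only [Finset.mem_insert, Finset.mem_singleton]; omega),
    Finset.sum_insert (by simp only [Finset.mem_insert, Finset.mem_singleton]; omega),
    Finset.sum_insert (by simp only [Finset.mem_insert, Finset.mem_singleton]; omega),
    Finset.sum_insert (by simp only [Finset.mem_insert, Finset.mem_singleton]; omega),
    Finset.sum_pair (by omega)] at e3
  rw [e3, hdc 1, hdc (2 * k + 1), hdc (2 * k + 2), hdc (2 * k), hdc (k + 1), hdc k,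
    hcount.1, hcount.2.1, hcount.2.2.1, hcount.2.2.2.1, hcount.2.2.2.2.1, hcount.2.2.2.2.2]
  ring

end Cfsg.Agent.Lib.Helper38
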