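import Cfsg.Agent.Lib.Helper38.McKayTwo

/-!
# The Sylow `2`-normalizer of `SL₂(q)`, `q ≡ ±3 (mod 8)`: the quaternion group of order `8`
and its normalizer of order `24`
-/

set_option autoImplicit false

namespace Cfsg.Agent.Lib.Helper38T

open Cfsg Cfsg.Agent.Lib.Helper41 Cfsg.Agent.Lib.Helper41.Torus Cfsg.Agent.Lib.Helper38
open QuaternionGroup

local notation "SL₂(" F ")" => Matrix.SpecialLinearGroup (Fin 2) F

theorem quat2_pairs_card :
    (Finset.univ.filter (fun p : QuaternionGroup 2 × QuaternionGroup 2 =>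
      p.1 ^ 2 ≠ 1 ∧ p.2 ^ 2 ≠ 1 ∧ p.2 ≠ p.1 ∧ p.2 ≠ p.1⁻¹)).card = 24 := by
  decide

section Explicit

variable {F : Type*} [Field F]

/-- the element `i` of the quaternion group. -/
def qI (F : Type*) [Field F] : SL₂(F) := mkSL2 0 (-1) 1 0 (by ring)

/-- the element `j` of the quaternion group. -/
def qJ (a c : F) (hac : a ^ 2 + c ^ 2 = -1) : SL₂(F) :=
  mkSL2 a c c (-a) (by linear_combination -hac)

/-- the element of order `6` normalizing the quaternion group. -/
def qH (a c : F) (hac : a ^ 2 + c ^ 2 = -1) (h2 : (2 : F) ≠ 0) : SL₂(F) :=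
  mkSL2 ((1 + a - c) / 2) ((a + c - 1) / 2) ((1 + a + c) / 2) ((1 - a + c) / 2) (by
    field_simp
    linear_combination (-2 : F) * hac)

theorem qI_mul_qI : qI F * qI F = negOne := by
  apply sl2_ext <;>
  simp only [sl2_mul_00, sl2_mul_01, sl2_mul_10, sl2_mul_11, qI, negOne, mkSL2_00, mkSL2_01,
    mkSL2_10, mkSL2_11] <;> ring

theorem qJ_mul_qJ (a c : F) (hac : a ^ 2 + c ^ 2 = -1) : qJ a c hac * qJ a c hac = negOne := by
  apply sl2_ext <;>
  simp only [sl2_mul_00, sl2_mul_01, sl2_mul_10, sl2_mul_11, qJ, negOne, mkSL2_00, mkSL2_01,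
    mkSL2_10, mkSL2_11]
  · linear_combination hac
  · ring
  · ring
  · linear_combination hac

theorem qJ_conj (a c : F) (hac : a ^ 2 + c ^ 2 = -1) :
    qJ a c hac * qI F * (qJ a c hac)⁻¹ = (qI F)⁻¹ := by
  apply conj_eq_of_mul_eq
  apply sl2_ext <;>
  simp only [sl2_mul_00, sl2_mul_01, sl2_mul_10, sl2_mul_11, sl2_inv_00, sl2_inv_01, sl2_inv_10,
    sl2_inv_11, qI, qJ, mkSL2_00, mkSL2_01, mkSL2_10, mkSL2_11] <;> ring

theorem qH_conj_I (a c : F) (hac : a ^ 2 + c ^ 2 = -1) (h2 : (2 : F) ≠ 0) :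
    qH a c hac h2 * qI F * (qH a c hac h2)⁻¹ = qJ a c hac := by
  apply conj_eq_of_mul_eq
  apply sl2_ext <;>
  simp only [sl2_mul_00, sl2_mul_01, sl2_mul_10, sl2_mul_11, qI, qJ, qH, mkSL2_00, mkSL2_01,
    mkSL2_10, mkSL2_11] <;> field_simp
  · linear_combination (-1 : F) * hac
  · linear_combination (-1 : F) * hac
  · linear_combination (1 : F) * hac
  · linear_combination (-1 : F) * hac

theorem qH_conj_J (a c : F) (hac : a ^ 2 + c ^ 2 = -1) (h2 : (2 : F) ≠ 0) :
    qH a c hac h2 * qJ a c hac * (qH a c hac h2)⁻¹ = qI F * qJ a c hac := by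
  apply conj_eq_of_mul_eq
  apply sl2_ext <;>
  simp only [sl2_mul_00, sl2_mul_01, sl2_mul_10, sl2_mul_11, qI, qJ, qH, mkSL2_00, mkSL2_01,
    mkSL2_10, mkSL2_11] <;> field_simp
  · ring
  · ring
  · ring
  · ring


theorem qH_cube (a c : F) (hac : a ^ 2 + c ^ 2 = -1) (h2 : (2 : F) ≠ 0) :
    qH a c hac h2 * qH a c hac h2 * qH a c hac h2 = negOne := by
  have htr : ((qH a c hac h2 : SL₂(F)) : Matrix (Fin 2) (Fin 2) F).trace = 1 := by
    rw [Matrix.trace_fin_two]
    show qH a c hac h2 0 0 + qH a c hac h2 1 1 = 1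
    simp only [qH, mkSL2_00, mkSL2_11]
    field_simp
    ring
  have hM : ((qH a c hac h2 : SL₂(F)) : Matrix (Fin 2) (Fin 2) F) *
      ((qH a c hac h2 : SL₂(F)) : Matrix (Fin 2) (Fin 2) F) =
      ((qH a c hac h2 : SL₂(F)) : Matrix (Fin 2) (Fin 2) F) - 1 := by
    rw [mat2_sq_eq _ (qH a c hac h2).2, htr, one_smul]
  apply Subtype.ext
  rw [Matrix.SpecialLinearGroup.coe_mul, Matrix.SpecialLinearGroup.coe_mul, hM, sub_mul, one_mul,
    hM, negOne_coe]
  abel

end Explicit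

section Main

variable {F : Type*} [Field F] [Fintype F]

/-- when the Sylow `2`-subgroups of `SL₂(q)` have order `8`, the normalizer of one of them has
order `24` and exactly four irreducible characters of odd degree. -/
theorem exists_sylow_two_small (hodd : Fintype.card F % 2 = 1)
    (hfac : (Nat.card (SL₂(F))).factorization 2 = 3) :
    ∃ Q : Sylow 2 (SL₂(F)),
      Nat.card (Subgroup.normalizer ((Q : Subgroup (SL₂(F))) : Set (SL₂(F)))) = 24 ∧
      primeDegCount 2 (Subgroup.normalizer ((Q : Subgroup (SL₂(F))) : Set (SL₂(F)))) = 4 := by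
  classical
  have h2F : (2 : F) ≠ 0 := two_ne_zero_of_odd hodd
  have h4F : (0 : F) ^ 2 ≠ 4 := by
    intro h
    apply h2F
    have : (2 : F) * 2 = 0 := by linear_combination (-1 : F) * h
    rcases mul_eq_zero.mp this with h | h <;> exact h
  obtain ⟨a, c, hac'⟩ := normUniversal_of_odd hodd 0 h4F (-1) (neg_ne_zero.mpr one_ne_zero)
  have hac : a ^ 2 + c ^ 2 = -1 := by linear_combination hac'
  set I := qI F with hI
  set J := qJ a c hac with hJ
  set H := qH a c hac h2F with hH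
  have hII : I * I = negOne := qI_mul_qI
  have hJJ : J * J = negOne := qJ_mul_qJ a c hac
  have hJI : J * I * J⁻¹ = I⁻¹ := qJ_conj a c hac
  have hHI : H * I * H⁻¹ = J := qH_conj_I a c hac h2F
  have hHJ : H * J * H⁻¹ = I * J := qH_conj_J a c hac h2F
  have hH3 : H * H * H = negOne := qH_cube a c hac h2F
  have hneg1 : (negOne : SL₂(F)) ≠ 1 := negOne_ne_one h2F
  have hnegsq : (negOne : SL₂(F)) * negOne = 1 := by
    apply Subtype.ext
    rw [Matrix.SpecialLinearGroup.coe_mul, negOne_coe]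
    simp
  have hI2 : I ^ 2 = negOne := by rw [pow_two, hII]
  have hI4 : I ^ (2 * 2) = 1 := by
    rw [pow_mul, hI2, pow_two, hnegsq]
  have hoI : orderOf I = 2 * 2 := by
    have := orderOf_eq_prime_pow (x := I) (p := 2) (n := 1) (by rw [pow_one, hI2]; exact hneg1)
      (by
        have : (2 : ℕ) ^ (1 + 1) = 2 * 2 := by norm_num
        rw [this]; exact hI4)
    rw [this]; norm_num
  have hJ2 : J * J = I ^ 2 := by rw [hJJ, hI2]
  have hInv_ne : I⁻¹ ≠ I := by
    intro h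
    apply hneg1
    rw [← hII]
    nth_rewrite 1 [← h]
    exact inv_mul_cancel I
  have hns : J ∉ Subgroup.zpowers I := by
    intro hmem
    obtain ⟨j, hj⟩ := Subgroup.mem_zpowers_iff.mp hmem
    have hcomm : J * I = I * J := by
      rw [← hj, ← zpow_add_one, ← zpow_one_add, add_comm]
    apply hInv_ne
    rw [← hJI, hcomm, mul_assoc, mul_inv_cancel, mul_one]
  set φ := Cfsg.Agent.Lib.Helper20.quatLift J I 2 hI4 hJ2 hJI with hφdef
  have hφ : Function.Injective φ :=
    Cfsg.Agent.Lib.Helper20.quatLift_injective J I 2 hoI hJ2 hJI hns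
  set Q₀ := φ.range with hQ₀
  have hcardQ : Nat.card Q₀ = 8 := by
    rw [Nat.card_congr (MonoidHom.ofInjective hφ).toEquiv.symm, Nat.card_eq_fintype_card,
      QuaternionGroup.card]
  have hcardQ' : Nat.card Q₀ = 2 ^ (Nat.card (SL₂(F))).factorization 2 := by
    rw [hcardQ, hfac]; norm_num
  refine ⟨Sylow.ofCard Q₀ hcardQ', ?_⟩
  show Nat.card (Subgroup.normalizer ((Q₀ : Subgroup (SL₂(F))) : Set (SL₂(F)))) = 24 ∧
      primeDegCount 2 (Subgroup.normalizer ((Q₀ : Subgroup (SL₂(F))) : Set (SL₂(F)))) = 4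
  -- elements of Q₀
  have hmemQ : ∀ x ∈ Q₀, ∃ i : ℤ, x = I ^ i ∨ x = J * I ^ i := by
    rintro x ⟨w, rfl⟩
    rcases w with i | i
    · exact ⟨_, Or.inl (Cfsg.Agent.Lib.Helper20.quatLift_a J I 2 hI4 hJ2 hJI i)⟩
    · exact ⟨_, Or.inr (Cfsg.Agent.Lib.Helper20.quatLift_xa J I 2 hI4 hJ2 hJI i)⟩
  have hIQ : I ∈ Q₀ := by
    refine ⟨QuaternionGroup.a 1, ?_⟩
    rw [Cfsg.Agent.Lib.Helper20.quatLift_a]
    have : I ^ (((1 : ZMod (2 * 2)).cast : ℤ)) = I ^ (1 : ℤ) := by
      apply Cfsg.Agent.Lib.Helper20.zpow_eq_of_cast_eq' (n := 2 * 2) hI4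
      simp
    rw [this, zpow_one]
  have hJQ : J ∈ Q₀ := by
    refine ⟨QuaternionGroup.xa 0, ?_⟩
    rw [Cfsg.Agent.Lib.Helper20.quatLift_xa]
    simp
  set N := Subgroup.normalizer ((Q₀ : Subgroup (SL₂(F))) : Set (SL₂(F))) with hN
  have hQN : Q₀ ≤ N := Subgroup.le_normalizer
  -- H normalizes Q₀
  have hHN : H ∈ N := by
    apply mem_normalizer_of_finite
    intro x hx
    obtain ⟨i, rfl | rfl⟩ := hmemQ x hx
    · rw [← conj_zpow, hHI]
      exact Q₀.zpow_mem hJQ i
    · have : H * (J * I ^ i) * H⁻¹ = (H * J * H⁻¹) * (H * I ^ i * H⁻¹) := by group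
      rw [this, ← conj_zpow, hHI, hHJ]
      exact Q₀.mul_mem (Q₀.mul_mem hIQ hJQ) (Q₀.zpow_mem hJQ i)
  -- 3 divides |N|
  have hIJ : I ≠ J := by
    intro h
    apply hns
    rw [← h]
    exact Subgroup.mem_zpowers I
  have h3 : 3 ∣ Nat.card N := by
    have hH6 : H ^ 6 = 1 := by
      have h3' : H ^ 3 = H * H * H := by rw [pow_succ, pow_two]
      have : H ^ 6 = (H * H * H) * (H * H * H) := by
        rw [show (6 : ℕ) = 3 + 3 from rfl, pow_add, h3']
      rw [this, hH3, hnegsq]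
    have hH2 : H ^ 2 ≠ 1 := by
      intro h
      rw [pow_two] at h
      have hc : H ∈ Subgroup.center (SL₂(F)) := by
        rcases eq_one_or_negOne_of_mul_self h2F h with h1 | h1
        · rw [h1]; exact Subgroup.one_mem _
        · rw [h1]; exact negOne_mem_center
      apply hIJ
      rw [← hHI]
      have := Subgroup.mem_center_iff.mp hc I
      rw [← this, mul_assoc, mul_inv_cancel, mul_one]
    have ho6 : orderOf H ∣ 6 := orderOf_dvd_of_pow_eq_one hH6
    have h3o : 3 ∣ orderOf H := by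
      by_contra hnot
      have hcop : Nat.Coprime (orderOf H) 3 :=
        (Nat.Coprime.symm ((Nat.Prime.coprime_iff_not_dvd Nat.prime_three).mpr hnot))
      have : orderOf H ∣ 2 := by
        have h6 : (6 : ℕ) = 2 * 3 := by norm_num
        rw [h6] at ho6
        exact hcop.dvd_of_dvd_mul_right ho6
      exact hH2 (orderOf_dvd_iff_pow_eq_one.mp this)
    have : orderOf (⟨H, hHN⟩ : N) = orderOf H := Subgroup.orderOf_mk H hHN
    rw [← this] at h3o
    exact h3o.trans (orderOf_dvd_natCard _)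
  -- the bound |N| ≤ 48
  have hconjQ : ∀ n : N, ∀ x ∈ Q₀, (n : SL₂(F)) * x * (n : SL₂(F))⁻¹ ∈ Q₀ := by
    intro n x hx
    exact (Subgroup.mem_normalizer_iff.mp n.2 x).mp hx
  let e : QuaternionGroup 2 ≃* Q₀ := MonoidHom.ofInjective hφ
  let f : N → QuaternionGroup 2 × QuaternionGroup 2 := fun n =>
    (e.symm ⟨(n : SL₂(F)) * I * (n : SL₂(F))⁻¹, hconjQ n I hIQ⟩,
      e.symm ⟨(n : SL₂(F)) * J * (n : SL₂(F))⁻¹, hconjQ n J hJQ⟩)
  have hzN : (negOne : SL₂(F)) ∈ N := Subgroup.center_le_normalizer _ negOne_mem_center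
  have hJI' : J * I = I⁻¹ * J := by
    rw [← hJI]; group
  have hIJcomm : I * J ≠ J * I := by
    intro h
    apply hInv_ne
    rw [← hJI, ← h, mul_assoc, mul_inv_cancel, mul_one]
  have hfiber : ∀ n n₀ : N, f n = f n₀ → n = n₀ ∨ n = n₀ * ⟨negOne, hzN⟩ := by
    intro n n₀ hf
    have h1 := congrArg Prod.fst hf
    have h2 := congrArg Prod.snd hf
    have h1' : (n : SL₂(F)) * I * (n : SL₂(F))⁻¹ = (n₀ : SL₂(F)) * I * (n₀ : SL₂(F))⁻¹ :=
      congrArg Subtype.val (e.symm.injective h1)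
    have h2' : (n : SL₂(F)) * J * (n : SL₂(F))⁻¹ = (n₀ : SL₂(F)) * J * (n₀ : SL₂(F))⁻¹ :=
      congrArg Subtype.val (e.symm.injective h2)
    set u := (n₀ : SL₂(F))⁻¹ * (n : SL₂(F)) with hu
    have huI : I * u = u * I := by
      have : u * I * u⁻¹ = I := by
        rw [hu]
        calc (n₀ : SL₂(F))⁻¹ * (n : SL₂(F)) * I * ((n₀ : SL₂(F))⁻¹ * (n : SL₂(F)))⁻¹
            = (n₀ : SL₂(F))⁻¹ * ((n : SL₂(F)) * I * (n : SL₂(F))⁻¹) * (n₀ : SL₂(F)) := by group
          _ = I := by rw [h1']; group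
      calc I * u = (u * I * u⁻¹) * u := by rw [this]
        _ = u * I := by group
    have huJ : J * u = u * J := by
      have : u * J * u⁻¹ = J := by
        rw [hu]
        calc (n₀ : SL₂(F))⁻¹ * (n : SL₂(F)) * J * ((n₀ : SL₂(F))⁻¹ * (n : SL₂(F)))⁻¹
            = (n₀ : SL₂(F))⁻¹ * ((n : SL₂(F)) * J * (n : SL₂(F))⁻¹) * (n₀ : SL₂(F)) := by group
          _ = J := by rw [h2']; group
      calc J * u = (u * J * u⁻¹) * u := by rw [this]
        _ = u * J := by group
    have huc : u ∈ Subgroup.center (SL₂(F)) := by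
      by_contra hnc
      exact hIJcomm (commute_of_commute_noncentral hnc huI huJ)
    rcases eq_one_or_negOne_of_mem_center huc with h | h
    · left
      apply Subtype.ext
      have : (n : SL₂(F)) = (n₀ : SL₂(F)) * u := by rw [hu]; group
      rw [this, h, mul_one]
    · right
      apply Subtype.ext
      have : (n : SL₂(F)) = (n₀ : SL₂(F)) * u := by rw [hu]; group
      rw [this, h]
      rfl
  have himage : ∀ n : N, f n ∈ Finset.univ.filter
      (fun p : QuaternionGroup 2 × QuaternionGroup 2 =>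
        p.1 ^ 2 ≠ 1 ∧ p.2 ^ 2 ≠ 1 ∧ p.2 ≠ p.1 ∧ p.2 ≠ p.1⁻¹) := by
    intro n
    simp only [Finset.mem_filter, Finset.mem_univ, true_and]
    have hsq : ∀ x : SL₂(F), x * x = negOne →
        ((n : SL₂(F)) * x * (n : SL₂(F))⁻¹) ^ 2 ≠ 1 := by
      intro x hx h
      rw [conj_pow, pow_two, hx] at h
      apply hneg1
      have : (negOne : SL₂(F)) = (n : SL₂(F))⁻¹ * ((n : SL₂(F)) * negOne * (n : SL₂(F))⁻¹) *
          (n : SL₂(F)) := by group
      rw [this, h]; group
    refine ⟨?_, ?_, ?_, ?_⟩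
    · intro h
      have h0 : e.symm ((⟨(n : SL₂(F)) * I * (n : SL₂(F))⁻¹, hconjQ n I hIQ⟩ : Q₀) ^ 2) = 1 := by
        rw [map_pow]; exact h
      have h1 := (MulEquiv.map_eq_one_iff e.symm).mp h0
      have h2 := congrArg Subtype.val h1
      exact hsq I hII h2
    · intro h
      have h0 : e.symm ((⟨(n : SL₂(F)) * J * (n : SL₂(F))⁻¹, hconjQ n J hJQ⟩ : Q₀) ^ 2) = 1 := by
        rw [map_pow]; exact h
      have h1 := (MulEquiv.map_eq_one_iff e.symm).mp h0
      have h2 := congrArg Subtype.val h1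
      exact hsq J hJJ h2
    · intro h
      have h' : (n : SL₂(F)) * J * (n : SL₂(F))⁻¹ = (n : SL₂(F)) * I * (n : SL₂(F))⁻¹ :=
        congrArg Subtype.val (e.symm.injective h)
      apply hIJ
      have : I = (n : SL₂(F))⁻¹ * ((n : SL₂(F)) * I * (n : SL₂(F))⁻¹) * (n : SL₂(F)) := by group
      rw [this, ← h']; group
    · intro h
      rw [← map_inv] at h
      have h' : (n : SL₂(F)) * J * (n : SL₂(F))⁻¹ = ((n : SL₂(F)) * I * (n : SL₂(F))⁻¹)⁻¹ :=
        congrArg Subtype.val (e.symm.injective h)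
      apply hns
      have : J = (n : SL₂(F))⁻¹ * ((n : SL₂(F)) * J * (n : SL₂(F))⁻¹) * (n : SL₂(F)) := by group
      rw [this, h']
      have : (n : SL₂(F))⁻¹ * ((n : SL₂(F)) * I * (n : SL₂(F))⁻¹)⁻¹ * (n : SL₂(F)) = I⁻¹ := by group
      rw [this]
      exact Subgroup.inv_mem _ (Subgroup.mem_zpowers I)
  have hle48 : Nat.card N ≤ 48 := by
    have : Fintype N := Fintype.ofFinite N
    rw [Nat.card_eq_fintype_card, ← Finset.card_univ]
    have h1 := Finset.card_le_mul_card_image (f := f) (Finset.univ : Finset N) 2 (by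
      intro b hb
      obtain ⟨n₀, -, rfl⟩ := Finset.mem_image.mp hb
      have hsub : Finset.univ.filter (fun x : N => f x = f n₀) ⊆
          {n₀, n₀ * ⟨negOne, hzN⟩} := by
        intro n hn
        simp only [Finset.mem_filter, Finset.mem_univ, true_and] at hn
        simp only [Finset.mem_insert, Finset.mem_singleton]
        exact hfiber n n₀ hn
      exact (Finset.card_le_card hsub).trans Finset.card_le_two)
    have h2 : (Finset.univ.image f).card ≤ 24 := by
      rw [← quat2_pairs_card]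
      apply Finset.card_le_card
      intro b hb
      obtain ⟨n₀, -, rfl⟩ := Finset.mem_image.mp hb
      exact himage n₀
    omega
  have hcardN : Nat.card N = 24 := by
    have h8 : 8 ∣ Nat.card N := by
      rw [← hcardQ]; exact Subgroup.card_dvd_of_le hQN
    have h24 : 24 ∣ Nat.card N := by
      have : (24 : ℕ) = 8 * 3 := by norm_num
      rw [this]
      exact Nat.Coprime.mul_dvd_of_dvd_of_dvd (by norm_num) h8 h3
    obtain ⟨r, hr⟩ := h24
    have hpos : 0 < Nat.card N := Nat.card_pos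
    have hr2 : r = 1 ∨ r = 2 := by omega
    rcases hr2 with rfl | rfl
    · omega
    · exfalso
      have h16 : 2 ^ ((Nat.card (SL₂(F))).factorization 2 + 1) ∣ Nat.card (SL₂(F)) := by
        rw [hfac]
        have : (2 : ℕ) ^ (3 + 1) ∣ Nat.card N := ⟨3, by rw [hr]; norm_num⟩
        exact this.trans (Subgroup.card_subgroup_dvd_card N)
      exact Nat.pow_succ_factorization_not_dvd Nat.card_pos.ne' Nat.prime_two h16
  refine ⟨hcardN, ?_⟩
  -- the character count
  have hnormal : (Q₀.subgroupOf N).Normal := Subgroup.normal_in_normalizer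
  have hidx : (Q₀.subgroupOf N).index = 3 := by
    have h1 := (Q₀.subgroupOf N).card_mul_index
    rw [Nat.card_congr (Subgroup.subgroupOfEquivOfLe hQN).toEquiv, hcardQ, hcardN] at h1
    omega
  apply primeDegCount_two_of_card_24 hcardN (Q₀.subgroupOf N) hidx
  intro χ hχ1 s hs
  obtain ⟨ψ, hψ⟩ := Cfsg.Agent.Lib.Helper79.exists_monoidHom_of_isCharacter_of_one
    (Cfsg.Agent.Lib.Helper3.IsIrrCharacter.isCharacter χ.2) hχ1
  rw [hψ s]
  have hconjψ : ∀ x y : N, ψ (x * y * x⁻¹) = ψ y := by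
    intro x y
    rw [map_mul, map_mul, map_inv, mul_comm (ψ x), mul_assoc, mul_inv_cancel, mul_one]
  have hψJI : ψ ⟨J, hQN hJQ⟩ = ψ ⟨I, hQN hIQ⟩ := by
    rw [← hconjψ ⟨H, hHN⟩ ⟨I, hQN hIQ⟩]
    congr 1
    apply Subtype.ext
    exact hHI.symm
  have hψI : ψ ⟨I, hQN hIQ⟩ = 1 := by
    have h1 : ψ (⟨I, hQN hIQ⟩ * ⟨J, hQN hJQ⟩) = ψ ⟨J, hQN hJQ⟩ := by
      rw [← hconjψ ⟨H, hHN⟩ ⟨J, hQN hJQ⟩]
      congr 1
      apply Subtype.ext
      exact hHJ.symm
    rw [map_mul] at h1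
    exact mul_eq_right.mp h1
  have hψJ : ψ ⟨J, hQN hJQ⟩ = 1 := by rw [hψJI, hψI]
  rw [Subgroup.mem_subgroupOf] at hs
  obtain ⟨i, hi | hi⟩ := hmemQ _ hs
  · have : s = (⟨I, hQN hIQ⟩ : N) ^ i := by
      apply Subtype.ext
      rw [hi]; rfl
    rw [this, map_zpow, hψI, one_zpow]
    rfl
  · have : s = (⟨J, hQN hJQ⟩ : N) * (⟨I, hQN hIQ⟩ : N) ^ i := by
      apply Subtype.ext
      rw [hi]; rfl
    rw [this, map_mul, map_zpow, hψI, hψJ, one_zpow, mul_one]
    rfl

end Main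

end Cfsg.Agent.Lib.Helper38T
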