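import Cfsg.Agent.Lib.Helper38.McKayConj
import Cfsg.Agent.Lib.Helper41.SL2Torus

/-!
# Subgroups of torus normalizers of `SL₂(q)` and their characters

A subgroup `D` of the normalizer of a maximal torus `⟨y⟩` of `SL₂(q)`, `q` odd, not contained in
the torus, is "dicyclic-like": the class number is `m + 3` where `|D ∩ ⟨y⟩| = 2m`, and there are
exactly four linear characters, the other irreducible characters having degree two.
-/

set_option autoImplicit false

namespace Cfsg.Agent.Lib.Helper38T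

open Cfsg Cfsg.Agent.Lib.Helper41 Cfsg.Agent.Lib.Helper41.Torus Cfsg.Agent.Lib.Helper38

local notation "SL₂(" F ")" => Matrix.SpecialLinearGroup (Fin 2) F

variable {F : Type*} [Field F] [Fintype F]

/-- elements normalizing a maximal torus and outside of it invert its generator. -/
theorem invert_of_mem_normalizer {y : SL₂(F)}
    {l : AlgebraicClosure F} (hl0 : l ≠ 0)
    (hl : l + l⁻¹ = algebraMap F (AlgebraicClosure F) (tr2 y)) (hl2 : l ^ 2 ≠ 1)
    (hC : Subgroup.centralizer ({y} : Set (SL₂(F))) = Subgroup.zpowers y)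
    (g : SL₂(F)) (hg : g ∈ Subgroup.normalizer ((Subgroup.zpowers y : Subgroup (SL₂(F))) :
      Set (SL₂(F)))) (hgT : g ∉ Subgroup.zpowers y) : g * y * g⁻¹ = y⁻¹ := by
  have hg1 : g * y * g⁻¹ ∈ Subgroup.zpowers y :=
    ((Subgroup.mem_normalizer_iff.mp hg) y).mp (Subgroup.mem_zpowers y)
  rcases Cfsg.Agent.S2430.conj_eq_or_eq_inv hl0 hl hl2 g hg1 with h | h
  · exfalso
    apply hgT
    rw [← hC]
    exact (Cfsg.Agent.S2430.mem_centralizer_singleton_iff g y).mpr h
  · exact h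

/-- the structure of a subgroup of a torus normalizer not contained in the torus. -/
theorem dicyclic_sub (hodd : Fintype.card F % 2 = 1) {y : SL₂(F)}
    {l : AlgebraicClosure F} (hl0 : l ≠ 0)
    (hl : l + l⁻¹ = algebraMap F (AlgebraicClosure F) (tr2 y)) (hl2 : l ^ 2 ≠ 1)
    (hC : Subgroup.centralizer ({y} : Set (SL₂(F))) = Subgroup.zpowers y)
    (D : Subgroup (SL₂(F)))
    (hDN : D ≤ Subgroup.normalizer ((Subgroup.zpowers y : Subgroup (SL₂(F))) : Set (SL₂(F))))
    (g₀ : SL₂(F)) (hg₀D : g₀ ∈ D) (hg₀T : g₀ ∉ Subgroup.zpowers y) (m : ℕ)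
    (hm : Nat.card ((Subgroup.zpowers y).subgroupOf D) = 2 * m) :
    ((Subgroup.zpowers y).subgroupOf D).index = 2 ∧
    (∀ a ∈ (Subgroup.zpowers y).subgroupOf D, ∀ b ∈ (Subgroup.zpowers y).subgroupOf D,
      a * b = b * a) ∧
    Nat.card D = 4 * m ∧ Nat.card (ConjClasses D) = m + 3 := by
  classical
  have h2 : (2 : F) ≠ 0 := two_ne_zero_of_odd hodd
  have hτ4 : tr2 y ^ 2 ≠ 4 := Cfsg.Agent.S2430.tr2_sq_ne_four_of_eigen _ hl0 hl hl2
  have hyc : y ∉ Subgroup.center (SL₂(F)) := not_mem_center_of_tr2_sq_ne_four hτ4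
  set T := Subgroup.zpowers y with hT
  have hinvert : ∀ g : SL₂(F), g ∈ D → g ∉ T → g * y * g⁻¹ = y⁻¹ := fun g hg hgT =>
    invert_of_mem_normalizer hl0 hl hl2 hC g (hDN hg) hgT
  have hg₀inv : g₀⁻¹ * y * g₀ = y⁻¹ := by
    have h := hinvert g₀ hg₀D hg₀T
    have : y = g₀⁻¹ * y⁻¹ * g₀ := by rw [← h]; group
    calc g₀⁻¹ * y * g₀ = (g₀⁻¹ * y⁻¹ * g₀)⁻¹ := by group
      _ = y⁻¹ := by rw [← this]
  -- index two
  have hidx : (T.subgroupOf D).index = 2 := by
    rw [Subgroup.index_eq_two_iff]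
    refine ⟨⟨g₀⁻¹, D.inv_mem hg₀D⟩, ?_⟩
    intro b
    rw [Subgroup.mem_subgroupOf, Subgroup.mem_subgroupOf]
    show Xor ((b : SL₂(F)) * g₀⁻¹ ∈ T) ((b : SL₂(F)) ∈ T)
    by_cases hb : (b : SL₂(F)) ∈ T
    · right
      refine ⟨hb, ?_⟩
      intro h
      apply hg₀T
      have : g₀ = ((b : SL₂(F)) * g₀⁻¹)⁻¹ * (b : SL₂(F)) := by group
      rw [this]
      exact T.mul_mem (T.inv_mem h) hb
    · left
      refine ⟨?_, hb⟩
      rw [← hC, Cfsg.Agent.S2430.mem_centralizer_singleton_iff]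
      have hbinv := hinvert b b.2 hb
      calc (b : SL₂(F)) * g₀⁻¹ * y * ((b : SL₂(F)) * g₀⁻¹)⁻¹
          = (b : SL₂(F)) * (g₀⁻¹ * y * g₀) * (b : SL₂(F))⁻¹ := by group
        _ = (b : SL₂(F)) * y⁻¹ * (b : SL₂(F))⁻¹ := by rw [hg₀inv]
        _ = ((b : SL₂(F)) * y * (b : SL₂(F))⁻¹)⁻¹ := by group
        _ = y := by rw [hbinv, inv_inv]
  have hcomm : ∀ a ∈ T.subgroupOf D, ∀ b ∈ T.subgroupOf D, a * b = b * a := by
    intro s hs t ht
    rw [Subgroup.mem_subgroupOf] at hs ht
    obtain ⟨a, ha⟩ := Subgroup.mem_zpowers_iff.mp hs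
    obtain ⟨b, hb⟩ := Subgroup.mem_zpowers_iff.mp ht
    apply Subtype.ext
    show (s : SL₂(F)) * (t : SL₂(F)) = (t : SL₂(F)) * (s : SL₂(F))
    rw [← ha, ← hb, ← zpow_add, ← zpow_add, add_comm]
  have hcardD : Nat.card D = 4 * m := by
    rw [← (T.subgroupOf D).card_mul_index, hm, hidx]; ring
  refine ⟨hidx, hcomm, hcardD, ?_⟩
  -- the class number
  have hzT : (negOne : SL₂(F)) ∈ T := by
    rw [← hC]
    exact Subgroup.center_le_centralizer _ negOne_mem_center
  have hzD : (negOne : SL₂(F)) ∈ D := by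
    have h1 := hinvert g₀ hg₀D hg₀T
    have h3 := mul_self_of_tr2_eq_zero (tr2_eq_zero_of_inverts hyc h1)
    have : g₀ * g₀ = negOne := by
      apply Subtype.ext
      rw [h3, negOne_coe]
    rw [← this]
    exact D.mul_mem hg₀D hg₀D
  apply card_conjClasses_dicyclic (G := D) (T.subgroupOf D) ⟨negOne, hzD⟩ m hidx hm
  · rw [Subgroup.mem_subgroupOf]; exact hzT
  · intro h
    exact negOne_ne_one h2 (congrArg Subtype.val h)
  · intro g
    apply Subtype.ext
    exact (Subgroup.mem_center_iff.mp negOne_mem_center (g : SL₂(F)))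
  · exact hcomm
  · intro t ht ht1 htz h hcomm'
    rw [Subgroup.mem_subgroupOf] at ht ⊢
    have htc : (t : SL₂(F)) ∉ Subgroup.center (SL₂(F)) := by
      intro hc
      rcases eq_one_or_negOne_of_mem_center hc with h1 | h1
      · exact ht1 (Subtype.ext h1)
      · exact htz (Subtype.ext h1)
    have hcomm'' : (h : SL₂(F)) * (t : SL₂(F)) = (t : SL₂(F)) * (h : SL₂(F)) :=
      congrArg Subtype.val hcomm'
    have hyt : y * (t : SL₂(F)) = (t : SL₂(F)) * y := by
      obtain ⟨b, hb⟩ := Subgroup.mem_zpowers_iff.mp ht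
      rw [← hb]
      exact ((Commute.refl y).zpow_right b).eq
    have := commute_of_commute_noncentral htc hcomm'' hyt
    rw [← hC, Subgroup.mem_centralizer_singleton_iff]
    exact this
  · intro g hg t ht
    rw [Subgroup.mem_subgroupOf] at hg ht
    have hinv := hinvert (g : SL₂(F)) g.2 hg
    obtain ⟨b, hb⟩ := Subgroup.mem_zpowers_iff.mp ht
    apply Subtype.ext
    show (g : SL₂(F)) * (t : SL₂(F)) * (g : SL₂(F))⁻¹ = (t : SL₂(F))⁻¹
    rw [← hb, ← conj_zpow, hinv, inv_zpow]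
  · intro t ht htt
    have htt' : (t : SL₂(F)) * (t : SL₂(F)) = 1 := congrArg Subtype.val htt
    rcases eq_one_or_negOne_of_mul_self h2 htt' with h1 | h1
    · left; exact Subtype.ext h1
    · right; exact Subtype.ext h1

/-- the McKay count for a subgroup of a torus normalizer not contained in the torus. -/
theorem primeDegCount_dicyclic_sub (hodd : Fintype.card F % 2 = 1) {y : SL₂(F)}
    {l : AlgebraicClosure F} (hl0 : l ≠ 0)
    (hl : l + l⁻¹ = algebraMap F (AlgebraicClosure F) (tr2 y)) (hl2 : l ^ 2 ≠ 1)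
    (hC : Subgroup.centralizer ({y} : Set (SL₂(F))) = Subgroup.zpowers y)
    (D : Subgroup (SL₂(F)))
    (hDN : D ≤ Subgroup.normalizer ((Subgroup.zpowers y : Subgroup (SL₂(F))) : Set (SL₂(F))))
    (g₀ : SL₂(F)) (hg₀D : g₀ ∈ D) (hg₀T : g₀ ∉ Subgroup.zpowers y) (m : ℕ)
    (hm : Nat.card ((Subgroup.zpowers y).subgroupOf D) = 2 * m) (ℓ : ℕ) (hℓ : ℓ.Prime) :
    primeDegCount ℓ D = if ℓ = 2 then 4 else m + 3 := by
  obtain ⟨h1, h2, h3, h4⟩ := dicyclic_sub hodd hl0 hl hl2 hC D hDN g₀ hg₀D hg₀T m hm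
  exact primeDegCount_of_index_two _ h2 h1 m h3 h4 ℓ hℓ


/-- the normalizer of a subgroup normalizes its centralizer. -/
theorem normalizer_le_normalizer_centralizer {G : Type*} [Group G] (P : Subgroup G) :
    Subgroup.normalizer (P : Set G) ≤
      Subgroup.normalizer ((Subgroup.centralizer (P : Set G) : Subgroup G) : Set G) := by
  have key : ∀ g : G, g ∈ Subgroup.normalizer (P : Set G) →
      ∀ c ∈ Subgroup.centralizer (P : Set G), g * c * g⁻¹ ∈ Subgroup.centralizer (P : Set G) := by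
    intro g hg c hc
    rw [Subgroup.mem_centralizer_iff]
    intro s hs
    have hs' : g⁻¹ * s * g ∈ P := by
      have := (Subgroup.mem_normalizer_iff.mp hg (g⁻¹ * s * g))
      rw [this]
      have e : g * (g⁻¹ * s * g) * g⁻¹ = s := by group
      rw [e]; exact hs
    have h1 := (Subgroup.mem_centralizer_iff.mp hc) _ hs'
    calc s * (g * c * g⁻¹) = g * ((g⁻¹ * s * g) * c) * g⁻¹ := by group
      _ = g * (c * (g⁻¹ * s * g)) * g⁻¹ := by rw [h1]
      _ = g * c * g⁻¹ * s := by group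
  intro g hg
  rw [Subgroup.mem_normalizer_iff]
  intro c
  constructor
  · exact key g hg c
  · intro h
    have := key g⁻¹ (Subgroup.inv_mem _ hg) _ h
    have e : g⁻¹ * (g * c * g⁻¹) * g⁻¹⁻¹ = c := by group
    rwa [e] at this

/-- the McKay count for the normalizer of a Sylow `ℓ`-subgroup, `ℓ` odd dividing `q ∓ 1`. -/
theorem primeDegCount_normalizer_odd (hodd : Fintype.card F % 2 = 1) (ℓ : ℕ) [Fact ℓ.Prime]
    (hℓ : ℓ ≠ 2) (P : Sylow ℓ (SL₂(F))) (N : ℕ)
    (hNq : N = Fintype.card F - 1 ∨ N = Fintype.card F + 1) (hℓN : ℓ ∣ N) :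
    primeDegCount ℓ (Subgroup.normalizer ((P : Subgroup (SL₂(F))) : Set (SL₂(F)))) = N / 2 + 3 := by
  classical
  have hℓprime : ℓ.Prime := Fact.out
  obtain ⟨p, hp⟩ := CharP.exists F
  have := hp
  have : Fact p.Prime := ⟨CharP.char_is_prime F p⟩
  have hpprime : p.Prime := Fact.out
  obtain ⟨n, -, hn⟩ := FiniteField.card F p
  set q := Fintype.card F with hq
  have hq2 : 2 ≤ q := Fintype.one_lt_card
  have hpq : p ∣ q := by rw [hn]; exact dvd_pow_self p n.pos.ne'
  have hℓp : ℓ ≠ p := by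
    rintro rfl
    rcases hNq with rfl | rfl
    · have : ℓ ∣ q - (q - 1) := Nat.dvd_sub hpq hℓN
      have e : q - (q - 1) = 1 := by omega
      rw [e] at this
      exact hℓprime.one_lt.ne' (Nat.dvd_one.mp this)
    · have : ℓ ∣ (q + 1) - q := Nat.dvd_sub hℓN hpq
      have e : (q + 1) - q = 1 := by omega
      rw [e] at this
      exact hℓprime.one_lt.ne' (Nat.dvd_one.mp this)
  have hother : ∀ N' : ℕ, (N' = q - 1 ∨ N' = q + 1) → N' ≠ N → ¬ ℓ ∣ N' := by
    intro N' hN' hne hdvd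
    have h2 : ℓ ∣ 2 := by
      rcases hNq with rfl | rfl <;> rcases hN' with rfl | rfl
      · exact absurd rfl hne
      · have : ℓ ∣ (q + 1) - (q - 1) := Nat.dvd_sub hdvd hℓN
        have e : (q + 1) - (q - 1) = 2 := by omega
        rwa [e] at this
      · have : ℓ ∣ (q + 1) - (q - 1) := Nat.dvd_sub hℓN hdvd
        have e : (q + 1) - (q - 1) = 2 := by omega
        rwa [e] at this
      · exact absurd rfl hne
    exact hℓ ((Nat.prime_dvd_prime_iff_eq hℓprime Nat.prime_two).mp h2)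
  have hcyc : IsCyclic (P : Subgroup (SL₂(F))) := Cfsg.Agent.S0262.result p ℓ hℓ hℓp P
  obtain ⟨⟨x, hxP⟩, hgen⟩ := IsCyclic.exists_generator (α := (P : Subgroup (SL₂(F))))
  have hP : (P : Subgroup (SL₂(F))) = Subgroup.zpowers x := by
    apply le_antisymm
    · intro y hy
      obtain ⟨k, hk⟩ := Subgroup.mem_zpowers_iff.mp (hgen ⟨y, hy⟩)
      rw [Subgroup.mem_zpowers_iff]
      refine ⟨k, ?_⟩
      have := congrArg Subtype.val hk
      simpa using this
    · rw [Subgroup.zpowers_le]; exact hxP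
  set k := (Nat.card (SL₂(F))).factorization ℓ with hk
  have hordx : orderOf x = ℓ ^ k := by
    rw [← Nat.card_zpowers, ← hP, Sylow.card_eq_multiplicity]
  have hcardSL := Cfsg.Agent.Lib.Helper38.card_SL2 (F := F)
  rw [← hq] at hcardSL
  have hfac : q ^ 2 - 1 = (q - 1) * (q + 1) := by
    have hq1 : 1 ≤ q := by omega
    zify [hq1, Nat.one_le_pow 2 q (by omega)]
    ring
  have hk1 : 1 ≤ k := by
    have hdvd : ℓ ∣ Nat.card (SL₂(F)) := by
      rw [hcardSL, hfac]
      rcases hNq with rfl | rfl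
      · exact (hℓN.mul_right _).mul_left _
      · exact (hℓN.mul_left _).mul_left _
    exact (Nat.Prime.dvd_iff_one_le_factorization hℓprime Nat.card_pos.ne').mp hdvd
  have hℓk : ℓ ∣ ℓ ^ k := dvd_pow_self ℓ (by omega)
  obtain ⟨l, hl0, hl, hlq⟩ := exists_eigen (tr2 x)
  have hll : l * l⁻¹ = 1 := mul_inv_cancel₀ hl0
  have hl2 : l ^ 2 ≠ 1 := by
    intro h
    have hlinv : l⁻¹ = l := by
      have : l * l = 1 := by rw [← pow_two]; exact h
      exact inv_eq_of_mul_eq_one_right this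
    have ht4 : tr2 x ^ 2 = 4 := by
      apply (algebraMap F (AlgebraicClosure F)).injective
      rw [map_pow, ← hl, hlinv, map_ofNat]
      linear_combination 4 * h
    have htr2 : tr2 (x ^ 2) = 2 := by
      have := Cfsg.Agent.S2430.tr2_pow_add_two x 0
      rw [zero_add, zero_add, pow_one, pow_zero, Cfsg.Agent.S2430.tr2_one] at this
      rw [this]; linear_combination ht4
    have h1 : (x ^ 2) ^ p = 1 := Cfsg.Agent.S2430.pow_char_eq_one_of_tr2 p _ htr2
    rw [← pow_mul] at h1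
    have h2 : ℓ ^ k ∣ 2 * p := by rw [← hordx]; exact orderOf_dvd_of_pow_eq_one h1
    have h3 : ℓ ∣ 2 * p := hℓk.trans h2
    rcases (Nat.Prime.dvd_mul hℓprime).mp h3 with h4 | h4
    · exact hℓ ((Nat.prime_dvd_prime_iff_eq hℓprime Nat.prime_two).mp h4)
    · exact hℓp ((Nat.prime_dvd_prime_iff_eq hℓprime hpprime).mp h4)
  have hordl : orderOf l = ℓ ^ k := by
    rw [← Cfsg.Agent.S0261.orderOf_eq_of_eigen _ hl0 hl hl2, hordx]
  have hlN : l ^ N = 1 := by
    rcases hlq with h | h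
    · rcases hNq with rfl | rfl
      · exact h
      · exfalso
        apply hother (q - 1) (Or.inl rfl) (by omega)
        exact hℓk.trans (hordl ▸ orderOf_dvd_of_pow_eq_one h)
    · rcases hNq with rfl | rfl
      · exfalso
        apply hother (q + 1) (Or.inr rfl) (by omega)
        exact hℓk.trans (hordl ▸ orderOf_dvd_of_pow_eq_one h)
      · exact h
  have hτ4 : tr2 x ^ 2 ≠ 4 := Cfsg.Agent.S2430.tr2_sq_ne_four_of_eigen _ hl0 hl hl2
  have hcardC : Nat.card (Subgroup.centralizer ({x} : Set (SL₂(F)))) = N := by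
    rcases hNq with rfl | rfl
    · have hlq' : l ^ q = l := by
        have : l ^ (q - 1 + 1) = l := by rw [pow_succ, hlN, one_mul]
        rwa [Nat.sub_add_cancel (by omega)] at this
      obtain ⟨a, ha⟩ := mem_range_of_pow_card_eq (F := F) l hlq'
      apply Cfsg.Agent.S2430.card_centralizer_split hodd hτ4 a
      apply (algebraMap F (AlgebraicClosure F)).injective
      rw [map_mul, map_sub, ha, ← hl, map_one]
      linear_combination hll
    · apply Cfsg.Agent.S2430.card_centralizer_nonsplit hodd hτ4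
      apply nonsplit_of_not_pow hl0 hl
      intro hlpow
      apply hother (q - 1) (Or.inl rfl) (by omega)
      exact hℓk.trans (hordl ▸ orderOf_dvd_of_pow_eq_one hlpow)
  have hNdvd : N ∣ q - 1 ∨ N ∣ q + 1 := by
    rcases hNq with rfl | rfl
    · exact Or.inl dvd_rfl
    · exact Or.inr dvd_rfl
  obtain ⟨y, l₀, hl₀0, hl₀, hl₀2, hordy, hzy, hCy⟩ :=
    exists_torus_generator hodd hl0 hl hl2 N hNdvd hlN hcardC
  have hCP : Subgroup.centralizer ((P : Subgroup (SL₂(F))) : Set (SL₂(F))) = Subgroup.zpowers y := by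
    rw [hP, Cfsg.Agent.S2430.centralizer_zpowers, hzy]
  have hDN : Subgroup.normalizer ((P : Subgroup (SL₂(F))) : Set (SL₂(F))) ≤
      Subgroup.normalizer ((Subgroup.zpowers y : Subgroup (SL₂(F))) : Set (SL₂(F))) := by
    rw [← hCP]
    exact normalizer_le_normalizer_centralizer _
  have hcardD : Nat.card (Subgroup.normalizer ((P : Subgroup (SL₂(F))) : Set (SL₂(F)))) = 2 * N := by
    rw [hP, Cfsg.Agent.S2430.card_normalizer hodd hl0 hl hl2, hcardC]
  have hTD : Subgroup.zpowers y ≤ Subgroup.normalizer ((P : Subgroup (SL₂(F))) : Set (SL₂(F))) := by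
    rw [← hCP]
    exact Subgroup.centralizer_le_normalizer _
  have hNpos : 0 < N := by
    rw [← hcardC]; exact Nat.card_pos
  have hNeven : N = 2 * (N / 2) := by
    rcases hNq with rfl | rfl <;> omega
  obtain ⟨g₀, hg₀D, hg₀T⟩ : ∃ g₀ ∈ Subgroup.normalizer ((P : Subgroup (SL₂(F))) : Set (SL₂(F))),
      g₀ ∉ Subgroup.zpowers y := by
    by_contra hcon
    push Not at hcon
    have hle : Subgroup.normalizer ((P : Subgroup (SL₂(F))) : Set (SL₂(F))) ≤ Subgroup.zpowers y :=
      hcon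
    have := Subgroup.card_le_of_le hle
    rw [hcardD, Nat.card_zpowers, hordy] at this
    omega
  have hm : Nat.card ((Subgroup.zpowers y).subgroupOf
      (Subgroup.normalizer ((P : Subgroup (SL₂(F))) : Set (SL₂(F))))) = 2 * (N / 2) := by
    rw [Nat.card_congr (Subgroup.subgroupOfEquivOfLe hTD).toEquiv, Nat.card_zpowers, hordy]
    exact hNeven
  rw [primeDegCount_dicyclic_sub hodd hl₀0 hl₀ hl₀2 hCy _ hDN g₀ hg₀D hg₀T (N / 2) hm ℓ hℓprime,
    if_neg hℓ]

end Cfsg.Agent.Lib.Helper38T
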