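import Cfsg.Agent.Lib.Helper38.McKayTorus
import Cfsg.Agent.S0261

/-!
# The Sylow `2`-normalizer of `SL₂(q)`, `q` odd: the case of Sylow `2`-subgroups of order `≥ 16`
-/

set_option autoImplicit false

namespace Cfsg.Agent.Lib.Helper38T

open Cfsg Cfsg.Agent.Lib.Helper41 Cfsg.Agent.Lib.Helper41.Torus Cfsg.Agent.Lib.Helper38
open QuaternionGroup

local notation "SL₂(" F ")" => Matrix.SpecialLinearGroup (Fin 2) F

/-- an element conjugating a finite subgroup into itself normalizes it. -/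
theorem mem_normalizer_of_finite {G : Type*} [Group G] (H : Subgroup G) [Finite H] (g : G)
    (h : ∀ x ∈ H, g * x * g⁻¹ ∈ H) : g ∈ Subgroup.normalizer (H : Set G) := by
  rw [Subgroup.mem_normalizer_iff_map_conj_eq]
  have hle : H.map (MulAut.conj g).toMonoidHom ≤ H := by
    rintro _ ⟨x, hx, rfl⟩
    exact h x hx
  have : Finite (H.map (MulAut.conj g).toMonoidHom) := Finite.of_injective
    (fun z : H.map (MulAut.conj g).toMonoidHom => (⟨z.1, hle z.2⟩ : H))
    (fun a b hab => Subtype.ext (by simpa using congrArg Subtype.val hab))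
  apply Subgroup.eq_of_le_of_card_ge hle
  rw [Nat.card_congr (Subgroup.equivMapOfInjective H (MulAut.conj g).toMonoidHom
    (MulAut.conj g).injective).toEquiv]

variable {F : Type*} [Field F] [Fintype F]

/-- the data of a Sylow `2`-subgroup: a generalized quaternion group `⟨α, β⟩`. -/
theorem exists_sylow_two_data (hodd : Fintype.card F % 2 = 1) :
    ∃ (k : ℕ) (α β : SL₂(F)) (l : AlgebraicClosure F), 1 ≤ k ∧ l ≠ 0 ∧
      l + l⁻¹ = algebraMap F (AlgebraicClosure F) (tr2 α) ∧ l ^ 2 ≠ 1 ∧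
      orderOf l = 2 ^ (k + 1) ∧
      (2 ^ (k + 1) ∣ Fintype.card F - 1 ∨ 2 ^ (k + 1) ∣ Fintype.card F + 1) ∧
      (Nat.card (SL₂(F))).factorization 2 = k + 2 ∧
      orderOf α = 2 * 2 ^ k ∧ β * β = α ^ (2 ^ k) ∧ α ^ (2 ^ k) = negOne ∧
      β * α * β⁻¹ = α⁻¹ ∧ β ∉ Subgroup.zpowers α := by
  classical
  set q := Fintype.card F with hq
  have hq2 : 2 ≤ q := Fintype.one_lt_card
  have hq3 : 3 ≤ q := by omega
  obtain ⟨k, hk1, hkd, hkf⟩ := Cfsg.Agent.S0261.two_part q hodd hq3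
  have hcard := Cfsg.Agent.Lib.Helper38.card_SL2 (F := F)
  rw [← hq] at hcard
  have hn2 : 2 ≤ 2 ^ k := by
    calc 2 = 2 ^ 1 := rfl
      _ ≤ 2 ^ k := Nat.pow_le_pow_right (by norm_num) hk1
  obtain ⟨t, l, hl0, hord, hlt⟩ := Cfsg.Agent.S0261.exists_eigen_orderOf (F := F) (2 ^ (k + 1)) hkd
  have hord' : orderOf l = 2 * 2 ^ k := by rw [hord, pow_succ, mul_comm]
  have hl2 : l ^ 2 ≠ 1 := by
    intro h
    have := orderOf_le_of_pow_eq_one (by norm_num) h
    omega
  have htr : l + l⁻¹ = algebraMap F (AlgebraicClosure F) (tr2 (compSL2 t)) := by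
    rw [tr2_compSL2]; exact hlt
  have hoα : orderOf (compSL2 t) = 2 * 2 ^ k := by
    rw [Cfsg.Agent.S0261.orderOf_eq_of_eigen _ hl0 htr hl2, hord']
  have hln : l ^ (2 ^ k) = -1 := by
    have h1 : (l ^ (2 ^ k)) ^ 2 = 1 := by
      rw [← pow_mul, mul_comm, ← hord', pow_orderOf_eq_one]
    have h2 : l ^ (2 ^ k) ≠ 1 := by
      intro h
      have := orderOf_le_of_pow_eq_one (by omega) h
      omega
    have : (l ^ (2 ^ k) - 1) * (l ^ (2 ^ k) + 1) = 0 := by linear_combination h1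
    rcases mul_eq_zero.mp this with h | h
    · exact absurd (by linear_combination h) h2
    · linear_combination h
  have hαn : ((compSL2 t ^ (2 ^ k) : SL₂(F)) : Matrix (Fin 2) (Fin 2) F) = (-1 : F) • 1 :=
    Cfsg.Agent.S0261.sl2_pow_eq_scalar_of_eigen _ hl0 htr hl2 (2 ^ k) (-1) (by ring)
      (by rw [hln]; simp)
  have ht4 : t ^ 2 ≠ 4 := by
    have := Cfsg.Agent.S2430.tr2_sq_ne_four_of_eigen _ hl0 htr hl2
    rwa [tr2_compSL2] at this
  obtain ⟨β, hβα, hββ⟩ := Cfsg.Agent.S0261.exists_inverter hodd t ht4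
  have hβ2 : β * β = compSL2 t ^ (2 ^ k) := by
    apply Subtype.ext
    rw [hββ, hαn]
  have hns : β ∉ Subgroup.zpowers (compSL2 t) := by
    intro hmem
    obtain ⟨j, hj⟩ := Subgroup.mem_zpowers_iff.mp hmem
    have hcomm : β * compSL2 t = compSL2 t * β := by
      rw [← hj, ← zpow_add_one, ← zpow_one_add, add_comm]
    have h0 : (compSL2 t)⁻¹ = compSL2 t := by
      rw [← hβα, hcomm, mul_assoc, mul_inv_cancel, mul_one]
    have h1 : compSL2 t ^ 2 = 1 := by
      rw [pow_two]; nth_rewrite 1 [← h0]; exact inv_mul_cancel _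
    have := orderOf_le_of_pow_eq_one (by norm_num) h1
    omega
  refine ⟨k, compSL2 t, β, l, hk1, hl0, htr, hl2, hord, hkd, ?_, hoα, hβ2, ?_, hβα, hns⟩
  · rw [hcard, hkf]
  · apply Subtype.ext
    rw [hαn, negOne_coe]
    simp

/-- the normalizer of a generalized quaternion Sylow subgroup of order at least `16` has exactly
four irreducible characters of odd degree. -/
theorem primeDegCount_two_large (hodd : Fintype.card F % 2 = 1) (k : ℕ) (α β : SL₂(F))
    (l : AlgebraicClosure F) (hk2 : 2 ≤ k) (hl0 : l ≠ 0)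
    (hl : l + l⁻¹ = algebraMap F (AlgebraicClosure F) (tr2 α)) (hl2 : l ^ 2 ≠ 1)
    (hord : orderOf l = 2 ^ (k + 1))
    (hkd : 2 ^ (k + 1) ∣ Fintype.card F - 1 ∨ 2 ^ (k + 1) ∣ Fintype.card F + 1)
    (hoα : orderOf α = 2 * 2 ^ k) (hβ2 : β * β = α ^ (2 ^ k)) (hβα : β * α * β⁻¹ = α⁻¹)
    (Q : Subgroup (SL₂(F)))
    (hQ : Q = (Cfsg.Agent.Lib.Helper20.quatLift β α (2 ^ k)
      (by rw [← hoα]; exact pow_orderOf_eq_one _) hβ2 hβα).range) :
    primeDegCount 2 (Subgroup.normalizer (Q : Set (SL₂(F)))) = 4 := by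
  classical
  set q := Fintype.card F with hq
  have hq2 : 2 ≤ q := Fintype.one_lt_card
  have hll : l * l⁻¹ = 1 := mul_inv_cancel₀ hl0
  have h4k : 4 ≤ 2 ^ k := by
    calc 4 = 2 ^ 2 := rfl
      _ ≤ 2 ^ k := Nat.pow_le_pow_right (by norm_num) hk2
  -- membership in Q
  have hαQ : α ∈ Q := by
    rw [hQ]
    refine ⟨a 1, ?_⟩
    rw [Cfsg.Agent.Lib.Helper20.quatLift_a]
    have : α ^ (((1 : ZMod (2 * 2 ^ k)).cast : ℤ)) = α ^ (1 : ℤ) := by
      apply Cfsg.Agent.Lib.Helper20.zpow_eq_of_cast_eq' (n := 2 * 2 ^ k)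
        (by rw [← hoα]; exact pow_orderOf_eq_one _)
      simp
    rw [this, zpow_one]
  have hβQ : β ∈ Q := by
    rw [hQ]
    refine ⟨xa 0, ?_⟩
    rw [Cfsg.Agent.Lib.Helper20.quatLift_xa]
    simp
  -- the centralizer of α
  have hτ4 : tr2 α ^ 2 ≠ 4 := Cfsg.Agent.S2430.tr2_sq_ne_four_of_eigen _ hl0 hl hl2
  obtain ⟨N, hNq, hdN⟩ : ∃ N : ℕ, (N = q - 1 ∨ N = q + 1) ∧ 2 ^ (k + 1) ∣ N := by
    rcases hkd with h | h
    · exact ⟨q - 1, Or.inl rfl, h⟩
    · exact ⟨q + 1, Or.inr rfl, h⟩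
  have hlN : l ^ N = 1 := by
    apply orderOf_dvd_iff_pow_eq_one.mp
    rw [hord]; exact hdN
  have hcardC : Nat.card (Subgroup.centralizer ({α} : Set (SL₂(F)))) = N := by
    rcases hNq with rfl | rfl
    · have hlq' : l ^ q = l := by
        have : l ^ (q - 1 + 1) = l := by rw [pow_succ, hlN, one_mul]
        rwa [Nat.sub_add_cancel (by omega)] at this
      obtain ⟨a, ha⟩ := mem_range_of_pow_card_eq (F := F) l hlq'
      apply Cfsg.Agent.S2430.card_centralizer_split hodd hτ4 a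
      apply (algebraMap F (AlgebraicClosure F)).injective
      rw [map_mul, map_sub, ha, ← hl, map_one]
      linear_combination hll
    · apply Cfsg.Agent.S2430.card_centralizer_nonsplit hodd hτ4
      apply nonsplit_of_not_pow hl0 hl
      intro hlpow
      have h1 : orderOf l ∣ q - 1 := orderOf_dvd_of_pow_eq_one hlpow
      have h2 : orderOf l ∣ q + 1 := orderOf_dvd_of_pow_eq_one hlN
      have h3 : orderOf l ∣ (q + 1) - (q - 1) := Nat.dvd_sub h2 h1
      have e : (q + 1) - (q - 1) = 2 := by omega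
      rw [e, hord] at h3
      have := Nat.le_of_dvd (by norm_num) h3
      have : 2 ^ (k + 1) = 2 * 2 ^ k := by rw [pow_succ, mul_comm]
      omega
  have hNdvd : N ∣ q - 1 ∨ N ∣ q + 1 := by
    rcases hNq with rfl | rfl
    · exact Or.inl dvd_rfl
    · exact Or.inr dvd_rfl
  obtain ⟨y, l₀, hl₀0, hl₀, hl₀2, hordy, hzy, hCy⟩ :=
    exists_torus_generator hodd hl0 hl hl2 N hNdvd hlN hcardC
  -- the normalizer of Q normalizes ⟨α⟩
  have hα4 : α ^ 4 ≠ 1 := by
    intro h
    have := orderOf_le_of_pow_eq_one (by norm_num) h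
    omega
  have hconj : ∀ g : SL₂(F), g ∈ Subgroup.normalizer (Q : Set (SL₂(F))) →
      g * α * g⁻¹ ∈ Subgroup.zpowers α := by
    intro g hg
    have h1 : g * α * g⁻¹ ∈ Q := (Subgroup.mem_normalizer_iff.mp hg α).mp hαQ
    rw [hQ] at h1
    obtain ⟨w, hw⟩ := h1
    rcases w with i | i
    · rw [Cfsg.Agent.Lib.Helper20.quatLift_a] at hw
      rw [← hw]
      exact Subgroup.zpow_mem_zpowers α _
    · exfalso
      apply hα4
      have h2 : (g * α * g⁻¹) ^ 4 = 1 := by
        rw [← hw, ← map_pow, xa_pow_four, map_one]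
      rw [conj_pow] at h2
      have : α ^ 4 = g⁻¹ * (g * α ^ 4 * g⁻¹) * g := by group
      rw [this, h2]; group
  have hDN : Subgroup.normalizer (Q : Set (SL₂(F))) ≤
      Subgroup.normalizer ((Subgroup.zpowers y : Subgroup (SL₂(F))) : Set (SL₂(F))) := by
    intro g hg
    have h1 : g ∈ Subgroup.normalizer ((Subgroup.zpowers α : Subgroup (SL₂(F))) : Set (SL₂(F))) := by
      apply Cfsg.Agent.S2430.mem_normalizer_zpowers
      · exact hconj g hg
      · have := hconj g⁻¹ (Subgroup.inv_mem _ hg)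
        rwa [inv_inv] at this
    have h2 := normalizer_le_normalizer_centralizer (Subgroup.zpowers α) h1
    rw [Cfsg.Agent.S2430.centralizer_zpowers, ← hzy] at h2
    exact h2
  have hβD : β ∈ Subgroup.normalizer (Q : Set (SL₂(F))) := Subgroup.le_normalizer hβQ
  have hβT : β ∉ Subgroup.zpowers y := by
    rw [hzy, Cfsg.Agent.S2430.mem_centralizer_singleton_iff, hβα]
    intro h
    have h1 : α ^ 2 = 1 := by
      rw [pow_two]; nth_rewrite 1 [← h]; exact inv_mul_cancel _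
    have := orderOf_le_of_pow_eq_one (by norm_num) h1
    omega
  -- the order of D ∩ T is even
  have hzT : (negOne : SL₂(F)) ∈ Subgroup.zpowers y := by
    rw [← hCy]
    exact Subgroup.center_le_centralizer _ negOne_mem_center
  have hzD : (negOne : SL₂(F)) ∈ Subgroup.normalizer (Q : Set (SL₂(F))) :=
    Subgroup.center_le_normalizer _ negOne_mem_center
  have h2F : (2 : F) ≠ 0 := two_ne_zero_of_odd hodd
  obtain ⟨m, hm⟩ : ∃ m, Nat.card ((Subgroup.zpowers y).subgroupOf
      (Subgroup.normalizer (Q : Set (SL₂(F))))) = 2 * m := by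
    have hz : (⟨negOne, hzD⟩ : Subgroup.normalizer (Q : Set (SL₂(F)))) ∈
        (Subgroup.zpowers y).subgroupOf (Subgroup.normalizer (Q : Set (SL₂(F)))) := by
      rw [Subgroup.mem_subgroupOf]; exact hzT
    have ho : orderOf (⟨⟨negOne, hzD⟩, hz⟩ : (Subgroup.zpowers y).subgroupOf
        (Subgroup.normalizer (Q : Set (SL₂(F))))) = 2 := by
      apply orderOf_eq_prime
      · apply Subtype.ext
        apply Subtype.ext
        show (negOne : SL₂(F)) ^ 2 = 1
        apply Subtype.ext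
        rw [pow_two, Matrix.SpecialLinearGroup.coe_mul, negOne_coe]
        simp
      · intro h
        exact negOne_ne_one h2F (congrArg (fun z => ((z : (Subgroup.zpowers y).subgroupOf
          (Subgroup.normalizer (Q : Set (SL₂(F))))) : Subgroup.normalizer (Q : Set (SL₂(F)))).1) h)
    have := orderOf_dvd_natCard (⟨⟨negOne, hzD⟩, hz⟩ : (Subgroup.zpowers y).subgroupOf
        (Subgroup.normalizer (Q : Set (SL₂(F)))))
    rw [ho] at this
    exact this
  rw [primeDegCount_dicyclic_sub hodd hl₀0 hl₀ hl₀2 hCy _ hDN β hβD hβT m hm 2 Nat.prime_two,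
    if_pos rfl]

end Cfsg.Agent.Lib.Helper38T
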