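import Cfsg.Agent.Lib.Helper3.CharOps

set_option autoImplicit false

/-!
A character of norm 2 is the sum of two distinct irreducible characters.
-/

namespace Cfsg.Agent.Lib.Helper38

open Cfsg Cfsg.Agent.Lib.Helper3
open scoped ComplexConjugate

theorem exists_two_of_sum_sq_eq_two {ι : Type*} [Fintype ι] [DecidableEq ι] (m : ι → ℕ)
    (h : ∑ i, m i ^ 2 = 2) :
    ∃ a b : ι, a ≠ b ∧ m a = 1 ∧ m b = 1 ∧ ∀ c, c ≠ a → c ≠ b → m c = 0 := by
  have hle : ∀ i, m i ≤ 1 := by
    intro i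
    have h1 : m i ^ 2 ≤ ∑ j, m j ^ 2 :=
      Finset.single_le_sum (f := fun j => m j ^ 2) (fun _ _ => Nat.zero_le _) (Finset.mem_univ i)
    rw [h] at h1
    by_contra hcon
    push Not at hcon
    have : 2 ≤ m i := hcon
    nlinarith
  have hsq : ∀ i, m i ^ 2 = if m i = 1 then 1 else 0 := by
    intro i
    have := hle i
    interval_cases (m i) <;> simp
  have hcard : (Finset.univ.filter (fun i => m i = 1)).card = 2 := by
    rw [← h, Finset.sum_congr rfl (fun i _ => hsq i), Finset.sum_boole, Nat.cast_id]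
  obtain ⟨a, b, hab, hS⟩ := Finset.card_eq_two.mp hcard
  have ha : a ∈ Finset.univ.filter (fun i => m i = 1) := by rw [hS]; simp
  have hb : b ∈ Finset.univ.filter (fun i => m i = 1) := by rw [hS]; simp
  refine ⟨a, b, hab, (Finset.mem_filter.mp ha).2, (Finset.mem_filter.mp hb).2, ?_⟩
  intro c hca hcb
  have hc : c ∉ Finset.univ.filter (fun i => m i = 1) := by
    rw [hS]; simp [hca, hcb]
  have h1 : m c ≠ 1 := fun h1 => hc (Finset.mem_filter.mpr ⟨Finset.mem_univ _, h1⟩)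
  have := hle c
  omega

theorem exists_two_irr_of_norm_two {G : Type*} [Group G] [Fintype G] {χ : G → ℂ}
    (hχ : IsCharacter G χ) (h : classInner χ χ = 2) :
    ∃ χ₁ χ₂ : G → ℂ, IsIrrCharacter G χ₁ ∧ IsIrrCharacter G χ₂ ∧ χ₁ ≠ χ₂ ∧ χ = χ₁ + χ₂ := by
  classical
  have := Fintype.ofFinite (IrrCharacter G)
  obtain ⟨m, hm, hsum⟩ := IsCharacter.exists_mult hχ
  have h1 : classInner χ χ = ∑ ψ : IrrCharacter G, ((m ψ : ℂ)) * conj ((m ψ : ℂ)) := by
    conv_lhs => rw [hsum]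
    exact classInner_sum_sum _ _
  have h2 : ∑ ψ : IrrCharacter G, m ψ ^ 2 = 2 := by
    have h3 : ((∑ ψ : IrrCharacter G, m ψ ^ 2 : ℕ) : ℂ) = 2 := by
      rw [← h, h1]
      push_cast
      apply Finset.sum_congr rfl
      intro ψ _
      rw [Complex.conj_natCast, pow_two]
    exact_mod_cast h3
  obtain ⟨a, b, hab, ha, hb, hc⟩ := exists_two_of_sum_sq_eq_two m h2
  refine ⟨a.1, b.1, a.2, b.2, fun h => hab (Subtype.ext h), ?_⟩
  rw [hsum, ← Finset.sum_subset (Finset.subset_univ {a, b})]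
  · rw [Finset.sum_pair hab, ha, hb, Nat.cast_one, one_smul, one_smul]
  · intro c _ hcab
    have hca : c ≠ a := fun h => hcab (by rw [h]; simp)
    have hcb : c ≠ b := fun h => hcab (by rw [h]; simp)
    rw [hc c hca hcb, Nat.cast_zero, zero_smul]

end Cfsg.Agent.Lib.Helper38
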