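import Mathlib
import Cfsg.Agent.Lib.Helper67.OgDefs
import Cfsg.Agent.Lib.Helper67.OgFam
import Cfsg.Agent.Lib.Helper37.OrthMinus
import Cfsg.Agent.Lib.Helper43.OrthCardMinus
import Cfsg.Agent.Lib.Helper39.SLPerfect
import Cfsg.Agent.Lib.Helper39.OgSq

/-!
# Og hive, leaf OG-M-SIGMA (helper38): `exists_sigma_minus`

The anisotropic plane `W = ⟨Pi.single (inr 0) 1, Pi.single (inr 1) 1⟩` of the minus form is the
norm form of `K = F[ω]`, `ω² = a ω - b`.  Multiplication by a norm one element `α + β ω` of `K`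
on `W` (identity on the hyperbolic part) is an isometry; the square of the rotation by `ξ / ξ̄`,
`ξ = x + ω`, lies in `Ω` and has no eigenvector on `W` for a suitable `x`.
-/

set_option autoImplicit false
set_option linter.unusedSectionVars false
set_option linter.unusedVariables false

namespace Cfsg.Agent.Lib.Helper67.Og

open Matrix Module QuadraticMap
open Cfsg.Agent.Lib.Helper37 Cfsg.Agent.Lib.Helper8 Cfsg.Agent.Lib.Helper43
open Cfsg.Agent.Lib.Helper37.OrthField
open scoped commutatorElement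

section concrete

variable (F : Type*) [Field F]

/-- multiplication by `α + β ω` on the anisotropic plane, identity on the hyperbolic part -/
def msigma_lin (m : ℕ) (a b α β : F) :
    ((Fin m ⊕ Fin m) ⊕ Fin 2 → F) →ₗ[F] ((Fin m ⊕ Fin m) ⊕ Fin 2 → F) where
  toFun x := Sum.elim (fun t => x (Sum.inl t))
    ![α * x (Sum.inr 0) - b * β * x (Sum.inr 1), β * x (Sum.inr 0) + (α + a * β) * x (Sum.inr 1)]
  map_add' := by
    intro x y
    funext t
    rcases t with t | t
    · rfl
    · have ht : t = 0 ∨ t = 1 := by fin_cases t <;> simp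
      rcases ht with rfl | rfl
      · simp only [Sum.elim_inr, Pi.add_apply, Matrix.cons_val_zero]; ring
      · simp only [Sum.elim_inr, Pi.add_apply, Matrix.cons_val_one, Matrix.cons_val_zero]; ring
  map_smul' := by
    intro c x
    funext t
    rcases t with t | t
    · rfl
    · have ht : t = 0 ∨ t = 1 := by fin_cases t <;> simp
      rcases ht with rfl | rfl
      · simp only [Sum.elim_inr, Pi.smul_apply, smul_eq_mul, Matrix.cons_val_zero,
          RingHom.id_apply]; ring
      · simp only [Sum.elim_inr, Pi.smul_apply, smul_eq_mul, Matrix.cons_val_one,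
          Matrix.cons_val_zero, RingHom.id_apply]; ring

theorem msigma_lin_inl (m : ℕ) (a b α β : F) (x : (Fin m ⊕ Fin m) ⊕ Fin 2 → F)
    (t : Fin m ⊕ Fin m) : msigma_lin F m a b α β x (Sum.inl t) = x (Sum.inl t) := rfl

theorem msigma_lin_inr0 (m : ℕ) (a b α β : F) (x : (Fin m ⊕ Fin m) ⊕ Fin 2 → F) :
    msigma_lin F m a b α β x (Sum.inr 0) = α * x (Sum.inr 0) - b * β * x (Sum.inr 1) := rfl

theorem msigma_lin_inr1 (m : ℕ) (a b α β : F) (x : (Fin m ⊕ Fin m) ⊕ Fin 2 → F) :
    msigma_lin F m a b α β x (Sum.inr 1)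
      = β * x (Sum.inr 0) + (α + a * β) * x (Sum.inr 1) := rfl

theorem msigma_lin_comp (m : ℕ) (a b α β α' β' : F) (x : (Fin m ⊕ Fin m) ⊕ Fin 2 → F) :
    msigma_lin F m a b α β (msigma_lin F m a b α' β' x)
      = msigma_lin F m a b (α * α' - b * β * β') (α * β' + β * α' + a * β * β') x := by
  funext t
  rcases t with t | t
  · rfl
  · have ht : t = 0 ∨ t = 1 := by fin_cases t <;> simp
    rcases ht with rfl | rfl
    · simp only [msigma_lin_inr0, msigma_lin_inr1]; ring
    · simp only [msigma_lin_inr0, msigma_lin_inr1]; ring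

theorem msigma_lin_one (m : ℕ) (a b : F) (x : (Fin m ⊕ Fin m) ⊕ Fin 2 → F) :
    msigma_lin F m a b 1 0 x = x := by
  funext t
  rcases t with t | t
  · rfl
  · have ht : t = 0 ∨ t = 1 := by fin_cases t <;> simp
    rcases ht with rfl | rfl
    · simp only [msigma_lin_inr0]; ring
    · simp only [msigma_lin_inr1]; ring

theorem msigma_lin_Q (m : ℕ) (a b α β : F) (h : α ^ 2 + a * α * β + b * β ^ 2 = 1)
    (x : (Fin m ⊕ Fin m) ⊕ Fin 2 → F) :
    minusForm m F a b (msigma_lin F m a b α β x) = minusForm m F a b x := by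
  rw [← minusForm_coe]
  simp only [Cfsg.quadFormMinus, msigma_lin_inl, msigma_lin_inr0, msigma_lin_inr1]
  linear_combination
    (x (Sum.inr 0) ^ 2 + a * x (Sum.inr 0) * x (Sum.inr 1) + b * x (Sum.inr 1) ^ 2) * h

/-- the linear equivalence: the inverse is multiplication by the conjugate -/
def msigma_equiv (m : ℕ) (a b α β : F) (h : α ^ 2 + a * α * β + b * β ^ 2 = 1) :
    ((Fin m ⊕ Fin m) ⊕ Fin 2 → F) ≃ₗ[F] ((Fin m ⊕ Fin m) ⊕ Fin 2 → F) :=
  LinearEquiv.ofLinearMap (msigma_lin F m a b α β) (msigma_lin F m a b (α + a * β) (-β))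
    (by
      refine LinearMap.ext fun x => ?_
      rw [LinearMap.comp_apply, msigma_lin_comp]
      have e1 : α * (α + a * β) - b * β * (-β) = 1 := by linear_combination h
      have e2 : α * (-β) + β * (α + a * β) + a * β * (-β) = 0 := by ring
      rw [e1, e2, msigma_lin_one]
      rfl)
    (by
      refine LinearMap.ext fun x => ?_
      rw [LinearMap.comp_apply, msigma_lin_comp]
      have e1 : (α + a * β) * α - b * (-β) * β = 1 := by linear_combination h
      have e2 : (α + a * β) * β + (-β) * α + a * (-β) * β = 0 := by ring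
      rw [e1, e2, msigma_lin_one]
      rfl)

theorem msigma_equiv_apply (m : ℕ) (a b α β : F) (h : α ^ 2 + a * α * β + b * β ^ 2 = 1)
    (x : (Fin m ⊕ Fin m) ⊕ Fin 2 → F) :
    msigma_equiv F m a b α β h x = msigma_lin F m a b α β x := rfl

theorem msigma_equiv_Q (m : ℕ) (a b α β : F) (h : α ^ 2 + a * α * β + b * β ^ 2 = 1)
    (x : (Fin m ⊕ Fin m) ⊕ Fin 2 → F) :
    minusForm m F a b (msigma_equiv F m a b α β h x) = minusForm m F a b x := by
  rw [msigma_equiv_apply]
  exact msigma_lin_Q F m a b α β h x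

/-- the isometry -/
noncomputable def msigma_iso (m : ℕ) (a b α β : F) (h : α ^ 2 + a * α * β + b * β ^ 2 = 1) :
    ↥(Cfsg.isometryGroup F ⇑(minusForm m F a b)) :=
  isoOfEquiv (minusForm m F a b) (msigma_equiv F m a b α β h)
    (msigma_equiv_Q F m a b α β h)

theorem msigma_act (m : ℕ) (a b α β : F) (h : α ^ 2 + a * α * β + b * β ^ 2 = 1)
    (x : (Fin m ⊕ Fin m) ⊕ Fin 2 → F) :
    act (minusForm m F a b) (msigma_iso F m a b α β h) x = msigma_lin F m a b α β x := by
  unfold act msigma_iso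
  rw [isoOfEquiv_mulVec, msigma_equiv_apply]

theorem msigma_lin_single (m : ℕ) (a b α β : F) (j : Fin m ⊕ Fin m) :
    msigma_lin F m a b α β (Pi.single (Sum.inl j) 1) = Pi.single (Sum.inl j) 1 := by
  funext t
  rcases t with t | t
  · rfl
  · have ht : t = 0 ∨ t = 1 := by fin_cases t <;> simp
    rcases ht with rfl | rfl
    · simp only [msigma_lin_inr0]; simp
    · simp only [msigma_lin_inr1]; simp

/-- choice of the parameter -/
theorem msigma_exists_x [Fintype F] (hF : 3 < Fintype.card F) (a b : F)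
    (hab : ∀ z₁ z₂ : F, z₁ ^ 2 + a * z₁ * z₂ + b * z₂ ^ 2 = 0 → z₁ = 0 ∧ z₂ = 0) :
    ∃ x : F, 2 * x + a ≠ 0 ∧ 2 * x ^ 2 + 2 * a * x + a ^ 2 - 2 * b ≠ 0 := by
  by_cases h2 : (2 : F) = 0
  · have ha : a ≠ 0 := by
      intro ha
      have hchar : ringChar F = 2 :=
        CharP.ringChar_of_prime_eq_zero Nat.prime_two (by exact_mod_cast h2)
      obtain ⟨c, hc⟩ := FiniteField.isSquare_of_char_two hchar b
      have := hab c 1 (by rw [ha, hc]; linear_combination (c * c) * h2)
      exact one_ne_zero this.2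
    refine ⟨0, ?_, ?_⟩
    · simpa using ha
    · have e : (2 : F) * 0 ^ 2 + 2 * a * 0 + a ^ 2 - 2 * b = a ^ 2 := by rw [h2]; ring
      rw [e]
      exact pow_ne_zero 2 ha
  · obtain ⟨y, hy⟩ : ∃ y : F, Polynomial.eval y
        (Polynomial.X * (Polynomial.X ^ 2 + Polynomial.C (a ^ 2 - 4 * b))) ≠ 0 := by
      have hm : (Polynomial.X ^ 2 + Polynomial.C (a ^ 2 - 4 * b) : Polynomial F).Monic :=
        Polynomial.monic_X_pow_add_C _ two_ne_zero
      apply Polynomial.exists_eval_ne_zero_of_natDegree_lt_card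
      · exact mul_ne_zero Polynomial.X_ne_zero hm.ne_zero
      · rw [Polynomial.natDegree_mul Polynomial.X_ne_zero hm.ne_zero, Polynomial.natDegree_X,
          Polynomial.natDegree_X_pow_add_C, Cardinal.mk_fintype]
        exact_mod_cast hF
    simp only [Polynomial.eval_mul, Polynomial.eval_X, Polynomial.eval_add, Polynomial.eval_pow,
      Polynomial.eval_C] at hy
    have hy1 : y ≠ 0 := left_ne_zero_of_mul hy
    have hy2 : y ^ 2 + (a ^ 2 - 4 * b) ≠ 0 := right_ne_zero_of_mul hy
    refine ⟨(y - a) / 2, ?_, ?_⟩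
    · have e : 2 * ((y - a) / 2) + a = y := by field_simp; ring
      rwa [e]
    · have e : 2 * ((y - a) / 2) ^ 2 + 2 * a * ((y - a) / 2) + a ^ 2 - 2 * b
          = (y ^ 2 + (a ^ 2 - 4 * b)) / 2 := by field_simp; ring
      rw [e]
      exact div_ne_zero hy2 h2

theorem exists_sigma_minus [Fintype F] (hF : 3 < Fintype.card F) (m : ℕ) (hm : 3 ≤ m)
    (a b : F) (hab : ∀ z₁ z₂ : F, z₁ ^ 2 + a * z₁ * z₂ + b * z₂ ^ 2 = 0 → z₁ = 0 ∧ z₂ = 0) :
    ∃ σ : ↥(Cfsg.isometryGroup F ⇑(minusForm m F a b)),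
      σ ∈ commutator ↥(Cfsg.isometryGroup F ⇑(minusForm m F a b)) ∧
      (∀ i, act (minusForm m F a b) σ (eM F m i) = eM F m i ∧
        act (minusForm m F a b) σ (fM F m i) = fM F m i) ∧
      (∀ w, InW (minusForm m F a b) (eM F m) (fM F m) w → w ≠ 0 →
        ∀ c : F, act (minusForm m F a b) σ w ≠ c • w) := by
  classical
  obtain ⟨x, hx1, hx2⟩ := msigma_exists_x F hF a b hab
  obtain ⟨N, hN⟩ : ∃ N : F, N = x ^ 2 + a * x + b := ⟨_, rfl⟩
  have hN0 : N ≠ 0 := by
    intro h0
    have := hab x 1 (by linear_combination h0 - hN)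
    exact one_ne_zero this.2
  have hnorm : ((x ^ 2 - b) / N) ^ 2 + a * ((x ^ 2 - b) / N) * ((2 * x + a) / N)
      + b * ((2 * x + a) / N) ^ 2 = 1 := by
    field_simp
    rw [hN]
    ring
  have hnd : (polarBilin (minusForm m F a b)).Nondegenerate :=
    (minus_family m F a b).nondegenerate (minusForm_zero_nondegenerate F a b hab)
  refine ⟨msigma_iso F m a b _ _ hnorm * msigma_iso F m a b _ _ hnorm, ?_, ?_, ?_⟩
  · exact Cfsg.Agent.Lib.Helper39.OgSq.sq_mem_omega (minusForm m F a b) hnd
      (Or.inl (by omega)) _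
  · intro i
    constructor
    · rw [act_mul, msigma_act, msigma_act]
      show msigma_lin F m a b _ _ (msigma_lin F m a b _ _ (Pi.single (Sum.inl (Sum.inl i)) 1))
        = Pi.single (Sum.inl (Sum.inl i)) 1
      rw [msigma_lin_single, msigma_lin_single]
    · rw [act_mul, msigma_act, msigma_act]
      show msigma_lin F m a b _ _ (msigma_lin F m a b _ _ (Pi.single (Sum.inl (Sum.inr i)) 1))
        = Pi.single (Sum.inl (Sum.inr i)) 1
      rw [msigma_lin_single, msigma_lin_single]
  · intro w hw hw0 c hc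
    rw [act_mul, msigma_act, msigma_act, msigma_lin_comp] at hc
    have h0 := congrFun hc (Sum.inr 0)
    have h1 := congrFun hc (Sum.inr 1)
    simp only [msigma_lin_inr0, msigma_lin_inr1, Pi.smul_apply, smul_eq_mul] at h0 h1
    have hβ : (x ^ 2 - b) / N * ((2 * x + a) / N) + (2 * x + a) / N * ((x ^ 2 - b) / N)
        + a * ((2 * x + a) / N) * ((2 * x + a) / N) ≠ 0 := by
      have e : (x ^ 2 - b) / N * ((2 * x + a) / N) + (2 * x + a) / N * ((x ^ 2 - b) / N)
          + a * ((2 * x + a) / N) * ((2 * x + a) / N)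
          = ((2 * x + a) * (2 * x ^ 2 + 2 * a * x + a ^ 2 - 2 * b)) / N ^ 2 := by
        field_simp
        ring
      rw [e]
      exact div_ne_zero (mul_ne_zero hx1 hx2) (pow_ne_zero 2 hN0)
    have key : ((x ^ 2 - b) / N * ((2 * x + a) / N) + (2 * x + a) / N * ((x ^ 2 - b) / N)
        + a * ((2 * x + a) / N) * ((2 * x + a) / N))
        * (w (Sum.inr 0) ^ 2 + a * w (Sum.inr 0) * w (Sum.inr 1) + b * w (Sum.inr 1) ^ 2) = 0 := by
      linear_combination w (Sum.inr 0) * h1 - w (Sum.inr 1) * h0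
    have hz := hab _ _ ((mul_eq_zero.mp key).resolve_left hβ)
    apply hw0
    funext t
    rcases t with (i | i) | t
    · have := (hw i).2
      rw [polar_minusForm_inr] at this
      exact this
    · have := (hw i).1
      rw [polar_minusForm_inl] at this
      exact this
    · have ht : t = 0 ∨ t = 1 := by fin_cases t <;> simp
      rcases ht with rfl | rfl
      · exact hz.1
      · exact hz.2

end concrete

end Cfsg.Agent.Lib.Helper67.Og
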