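import Mathlib

set_option autoImplicit false

namespace Cfsg.Agent.Lib.Helper38

open Polynomial Matrix

set_option linter.unusedSectionVars false

variable {F : Type*} [Field F] [Fintype F]

/-- The set of matrices that are polynomials of degree `< d` in `M`. -/
def polySet (d : ℕ) (M : Matrix (Fin d) (Fin d) F) : Set (Matrix (Fin d) (Fin d) F) :=
  (fun r : F[X] => aeval M r) '' (degreeLT F d : Set F[X])

theorem polySet_ncard_le (d : ℕ) (M : Matrix (Fin d) (Fin d) F) :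
    (polySet d M).ncard ≤ Fintype.card F ^ d := by
  have hfin : (degreeLT F d : Set F[X]).Finite := by
    have : Finite (degreeLT F d) := Finite.of_equiv _ (degreeLTEquiv F d).symm.toEquiv
    exact Set.toFinite _
  have h1 : (polySet d M).ncard ≤ (degreeLT F d : Set F[X]).ncard := Set.ncard_image_le hfin
  have h2 : (degreeLT F d : Set F[X]).ncard = Fintype.card F ^ d := by
    rw [← Nat.card_coe_set_eq]
    have := Nat.card_congr (degreeLTEquiv F d).toEquiv
    rw [SetLike.coe_sort_coe, this, Nat.card_eq_fintype_card, Fintype.card_fun, Fintype.card_fin]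
  exact h1.trans h2.le

theorem polySet_finite (d : ℕ) (M : Matrix (Fin d) (Fin d) F) : (polySet d M).Finite :=
  Set.toFinite _

theorem zero_mem_polySet (d : ℕ) (M : Matrix (Fin d) (Fin d) F) : (0 : Matrix (Fin d) (Fin d) F) ∈ polySet d M :=
  ⟨0, Submodule.zero_mem _, by simp⟩

theorem aeval_mem_polySet (d : ℕ) (hd : 1 ≤ d) (M : Matrix (Fin d) (Fin d) F) (P : F[X]) :
    aeval M P ∈ polySet d M := by
  have : Nonempty (Fin d) := ⟨⟨0, hd⟩⟩
  have hmonic := Matrix.charpoly_monic M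
  refine ⟨P %ₘ M.charpoly, ?_, ?_⟩
  · rw [SetLike.mem_coe, mem_degreeLT]
    have := degree_modByMonic_lt P hmonic
    rwa [Matrix.charpoly_degree_eq_dim, Fintype.card_fin] at this
  · have h := congrArg (fun r => aeval M r) (modByMonic_add_div P M.charpoly)
    simp only [map_add, map_mul, Matrix.aeval_self_charpoly, zero_mul, add_zero] at h
    exact h

theorem smul_pow_mem_polySet (d : ℕ) (hd : 1 ≤ d) (M : Matrix (Fin d) (Fin d) F) (c : F) (i : ℕ) :
    c • M ^ i ∈ polySet d M := by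
  have := aeval_mem_polySet d hd M (C c * X ^ i)
  simpa [Algebra.smul_def] using this

theorem card_nonzero_polySet_le (d : ℕ) (M : Matrix (Fin d) (Fin d) F) :
    Nat.card {N : Matrix (Fin d) (Fin d) F // N ∈ polySet d M ∧ N ≠ 0} ≤ Fintype.card F ^ d - 1 := by
  have hS : {N : Matrix (Fin d) (Fin d) F | N ∈ polySet d M ∧ N ≠ 0} = polySet d M \ {0} := by
    ext N; simp
  change Nat.card ↥{N : Matrix (Fin d) (Fin d) F | N ∈ polySet d M ∧ N ≠ 0} ≤ _
  rw [hS, Nat.card_coe_set_eq, Set.ncard_sdiff_singleton_of_mem (zero_mem_polySet d M)]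
  exact Nat.sub_le_sub_right (polySet_ncard_le d M) 1

end Cfsg.Agent.Lib.Helper38

namespace Cfsg.Agent.Lib.Helper38

open Polynomial Matrix

set_option linter.unusedSectionVars false

variable {F : Type*} [Field F] [Fintype F]

theorem mk_pow_eq_one_of_scalar (d : ℕ) (γ : GL (Fin d) F) (k : ℕ) (c : F)
    (h : ((γ ^ k : GL (Fin d) F) : Matrix (Fin d) (Fin d) F) = c • (1 : Matrix (Fin d) (Fin d) F)) :
    (QuotientGroup.mk γ : GL (Fin d) F ⧸ Subgroup.center (GL (Fin d) F)) ^ k = 1 := by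
  rw [← QuotientGroup.mk_pow, QuotientGroup.eq_one_iff,
    Matrix.GeneralLinearGroup.mem_center_iff_val_mem_range_scalar]
  refine ⟨c, ?_⟩
  rw [h, Matrix.scalar_apply, Matrix.smul_one_eq_diagonal]

theorem smul_unit_ne_zero (d : ℕ) (hd : 1 ≤ d) (γ : GL (Fin d) F) (c : Fˣ) :
    (c : F) • (γ : Matrix (Fin d) (Fin d) F) ≠ 0 := by
  intro h
  have h1 : ((c : F) • (γ : Matrix (Fin d) (Fin d) F)) * ((γ⁻¹ : GL (Fin d) F) : Matrix (Fin d) (Fin d) F) = 0 := by
    rw [h, zero_mul]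
  rw [smul_mul_assoc, ← Units.val_mul, mul_inv_cancel, Units.val_one] at h1
  have h2 := congrFun (congrFun h1 ⟨0, hd⟩) ⟨0, hd⟩
  simp at h2

theorem smul_unit_cancel (d : ℕ) (hd : 1 ≤ d) (γ : GL (Fin d) F) (c c' : F)
    (h : c • (γ : Matrix (Fin d) (Fin d) F) = c' • (γ : Matrix (Fin d) (Fin d) F)) : c = c' := by
  have h1 : (c • (γ : Matrix (Fin d) (Fin d) F)) * ((γ⁻¹ : GL (Fin d) F) : Matrix (Fin d) (Fin d) F) =
      (c' • (γ : Matrix (Fin d) (Fin d) F)) * ((γ⁻¹ : GL (Fin d) F) : Matrix (Fin d) (Fin d) F) := by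
    rw [h]
  rw [smul_mul_assoc, smul_mul_assoc, ← Units.val_mul, mul_inv_cancel, Units.val_one] at h1
  have h2 := congrFun (congrFun h1 ⟨0, hd⟩) ⟨0, hd⟩
  simpa using h2

theorem pgl_order_le (d : ℕ) (hd : 1 ≤ d) (γ : GL (Fin d) F) :
    (Fintype.card F - 1) * orderOf (QuotientGroup.mk γ : GL (Fin d) F ⧸ Subgroup.center (GL (Fin d) F)) ≤
      Fintype.card F ^ d - 1 := by
  set n := orderOf (QuotientGroup.mk γ : GL (Fin d) F ⧸ Subgroup.center (GL (Fin d) F)) with hn
  have hnpos : 0 < n := orderOf_pos _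
  let M : Matrix (Fin d) (Fin d) F := (γ : Matrix (Fin d) (Fin d) F)
  let φ : Fin n × Fˣ → {N : Matrix (Fin d) (Fin d) F // N ∈ polySet d M ∧ N ≠ 0} := fun x =>
    ⟨(x.2 : F) • M ^ (x.1 : ℕ), smul_pow_mem_polySet d hd M _ _, by
      have := smul_unit_ne_zero d hd (γ ^ (x.1 : ℕ)) x.2
      simpa [M] using this⟩
  have key : ∀ (i j : Fin n) (c c' : Fˣ), (i : ℕ) ≤ (j : ℕ) →
      (c : F) • M ^ (i : ℕ) = (c' : F) • M ^ (j : ℕ) → i = j ∧ c = c' := by
    intro i j c c' hij h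
    have hj : (j : ℕ) = (i : ℕ) + ((j : ℕ) - (i : ℕ)) := by omega
    have h1 : M ^ (j : ℕ) = M ^ (i : ℕ) * M ^ ((j : ℕ) - (i : ℕ)) := by
      rw [← pow_add, ← hj]
    -- multiply by inverse of M^i
    have hMi : M ^ (i : ℕ) = ((γ ^ (i : ℕ) : GL (Fin d) F) : Matrix (Fin d) (Fin d) F) := by
      simp [M]
    have h2 : ((γ ^ ((j : ℕ) - (i : ℕ)) : GL (Fin d) F) : Matrix (Fin d) (Fin d) F) =
        ((c : F) * ((c'⁻¹ : Fˣ) : F)) • (1 : Matrix (Fin d) (Fin d) F) := by
      have h3 : (((γ ^ (i : ℕ))⁻¹ : GL (Fin d) F) : Matrix (Fin d) (Fin d) F) * ((c : F) • M ^ (i : ℕ)) =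
          (((γ ^ (i : ℕ))⁻¹ : GL (Fin d) F) : Matrix (Fin d) (Fin d) F) * ((c' : F) • M ^ (j : ℕ)) := by
        rw [h]
      rw [h1, hMi, mul_smul_comm, mul_smul_comm, ← mul_assoc, ← Units.val_mul, inv_mul_cancel,
        Units.val_one, one_mul] at h3
      have hcc : ((c'⁻¹ : Fˣ) : F) * (c' : F) = 1 := by
        rw [← Units.val_mul, inv_mul_cancel, Units.val_one]
      have h4 : M ^ ((j : ℕ) - (i : ℕ)) = ((c : F) * ((c'⁻¹ : Fˣ) : F)) • (1 : Matrix (Fin d) (Fin d) F) := by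
        calc M ^ ((j : ℕ) - (i : ℕ)) = (((c'⁻¹ : Fˣ) : F) * (c' : F)) • M ^ ((j : ℕ) - (i : ℕ)) := by
              rw [hcc, one_smul]
          _ = ((c'⁻¹ : Fˣ) : F) • ((c' : F) • M ^ ((j : ℕ) - (i : ℕ))) := by rw [smul_smul]
          _ = ((c'⁻¹ : Fˣ) : F) • ((c : F) • (1 : Matrix (Fin d) (Fin d) F)) := by rw [h3]
          _ = ((c : F) * ((c'⁻¹ : Fˣ) : F)) • (1 : Matrix (Fin d) (Fin d) F) := by
              rw [smul_smul, mul_comm]
      rw [← h4]
      simp [M]
    have h5 := mk_pow_eq_one_of_scalar d γ _ _ h2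
    have h6 : n ∣ (j : ℕ) - (i : ℕ) := orderOf_dvd_of_pow_eq_one h5
    have h7 : (j : ℕ) - (i : ℕ) < n := by have := j.2; omega
    have h8 : (j : ℕ) - (i : ℕ) = 0 := Nat.eq_zero_of_dvd_of_lt h6 h7
    have hij' : i = j := by
      apply Fin.ext; omega
    refine ⟨hij', ?_⟩
    subst hij'
    rw [hMi] at h
    exact Units.ext (smul_unit_cancel d hd _ _ _ h)
  have hinj : Function.Injective φ := by
    rintro ⟨i, c⟩ ⟨j, c'⟩ h
    have h' : (c : F) • M ^ (i : ℕ) = (c' : F) • M ^ (j : ℕ) := congrArg Subtype.val h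
    rcases le_total (i : ℕ) (j : ℕ) with hij | hij
    · obtain ⟨h1, h2⟩ := key i j c c' hij h'
      rw [h1, h2]
    · obtain ⟨h1, h2⟩ := key j i c' c hij h'.symm
      rw [h1, h2]
  have hfin : Finite {N : Matrix (Fin d) (Fin d) F // N ∈ polySet d M ∧ N ≠ 0} := inferInstance
  have hcard := Nat.card_le_card_of_injective φ hinj
  rw [Nat.card_prod, Nat.card_eq_fintype_card, Fintype.card_fin, Nat.card_units,
    Nat.card_eq_fintype_card] at hcard
  calc (Fintype.card F - 1) * n = n * (Fintype.card F - 1) := mul_comm _ _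
    _ ≤ _ := hcard
    _ ≤ _ := card_nonzero_polySet_le d M

end Cfsg.Agent.Lib.Helper38

namespace Cfsg.Agent.Lib.Helper38

open Polynomial Matrix

set_option linter.unusedSectionVars false

variable {F : Type*} [Field F] [Fintype F]

theorem pgl_singer (d : ℕ) (hd : 1 ≤ d) :
    ∃ γ : GL (Fin d) F, Fintype.card F ^ d - 1 ≤
      (Fintype.card F - 1) * orderOf (QuotientGroup.mk γ : GL (Fin d) F ⧸ Subgroup.center (GL (Fin d) F)) := by
  obtain ⟨p, hp⟩ := CharP.exists F
  have hpp : Fact p.Prime := ⟨CharP.char_is_prime F p⟩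
  have hd0 : NeZero d := ⟨by omega⟩
  let K := FiniteField.Extension F p d
  have hfr : Module.finrank F K = d := FiniteField.finrank_extension F p d
  have hcardK : Nat.card K = Fintype.card F ^ d := by
    rw [FiniteField.natCard_extension, Nat.card_eq_fintype_card]
  let b := Module.finBasisOfFinrankEq F K hfr
  let ρ : K →ₐ[F] Matrix (Fin d) (Fin d) F := Algebra.leftMulMatrix b
  have hρ : Function.Injective ρ := Algebra.leftMulMatrix_injective b
  obtain ⟨ζ, hζ⟩ := IsCyclic.exists_generator (α := Kˣ)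
  have hoζ : orderOf ζ = Fintype.card F ^ d - 1 := by
    rw [orderOf_eq_card_of_forall_mem_zpowers hζ, Nat.card_units, hcardK]
  let γ : GL (Fin d) F := Units.map (ρ : K →* Matrix (Fin d) (Fin d) F) ζ
  refine ⟨γ, ?_⟩
  set n := orderOf (QuotientGroup.mk γ : GL (Fin d) F ⧸ Subgroup.center (GL (Fin d) F)) with hn
  have hnpos : 0 < n := orderOf_pos _
  have h1 : (QuotientGroup.mk γ : GL (Fin d) F ⧸ Subgroup.center (GL (Fin d) F)) ^ n = 1 :=
    pow_orderOf_eq_one _
  rw [← QuotientGroup.mk_pow, QuotientGroup.eq_one_iff,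
    Matrix.GeneralLinearGroup.mem_center_iff_val_mem_range_scalar] at h1
  obtain ⟨c, hc⟩ := h1
  have h2 : ((γ ^ n : GL (Fin d) F) : Matrix (Fin d) (Fin d) F) = ρ ((ζ : K) ^ n) := by
    simp [γ]
  have h3 : Matrix.scalar (Fin d) c = ρ (algebraMap F K c) := by
    rw [AlgHom.commutes, Matrix.scalar_apply, Algebra.algebraMap_eq_smul_one, Matrix.smul_one_eq_diagonal]
  have h4 : (ζ : K) ^ n = algebraMap F K c := by
    apply hρ
    rw [← h2, ← h3, hc]
  have hc0 : c ≠ 0 := by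
    rintro rfl
    rw [map_zero] at h4
    exact (pow_ne_zero n (Units.ne_zero ζ)) h4
  have h5 : c ^ (Fintype.card F - 1) = 1 := FiniteField.pow_card_sub_one_eq_one c hc0
  have h6 : ζ ^ (n * (Fintype.card F - 1)) = 1 := by
    apply Units.ext
    rw [Units.val_pow_eq_pow_val, pow_mul, h4, ← map_pow, h5, map_one, Units.val_one]
  have h7 : orderOf ζ ∣ n * (Fintype.card F - 1) := orderOf_dvd_of_pow_eq_one h6
  rw [hoζ] at h7
  have hq : 2 ≤ Fintype.card F := Fintype.one_lt_card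
  have hpos : 0 < n * (Fintype.card F - 1) := Nat.mul_pos hnpos (by omega)
  rw [mul_comm]
  exact Nat.le_of_dvd hpos h7

end Cfsg.Agent.Lib.Helper38
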