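import Cfsg.Agent.Lib.Helper38.DegreeTransfer

set_option autoImplicit false
set_option linter.unusedSimpArgs false
set_option linter.unusedSectionVars false

/-!
The character degree graph of `SL₂(F) ≅ PSL₂(F)`, `|F|` even.
-/

namespace Cfsg.Agent.Lib.Helper38

open Matrix Cfsg

variable {F : Type*} [Field F] [Fintype F] [DecidableEq F]

theorem center_SL2_eq_bot_of_char_two [CharP F 2] :
    Subgroup.center (Matrix.SpecialLinearGroup (Fin 2) F) = ⊥ := by
  rw [eq_bot_iff]
  intro A hA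
  rw [Matrix.SpecialLinearGroup.mem_center_iff] at hA
  obtain ⟨r, hr, hA⟩ := hA
  rw [Fintype.card_fin] at hr
  have h2 : (2 : F) = 0 := CharP.cast_eq_zero F 2
  have hr1 : r = 1 := by
    have : (r - 1) ^ 2 = 0 := by linear_combination hr - r * h2 + h2
    exact sub_eq_zero.mp ((pow_eq_zero_iff two_ne_zero).mp this)
  rw [Subgroup.mem_bot]
  apply Subtype.ext
  rw [← hA, hr1]
  simp

/-- in characteristic two `PSL₂(F) ≃* SL₂(F)`. -/
noncomputable def pslEquivSL_of_char_two [CharP F 2] :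
    Matrix.ProjectiveSpecialLinearGroup (Fin 2) F ≃* Matrix.SpecialLinearGroup (Fin 2) F :=
  (QuotientGroup.quotientMulEquivOfEq center_SL2_eq_bot_of_char_two).trans
    QuotientGroup.quotientBot

/-- the set of character degrees of `SL₂(F)`, `|F| ≥ 4` even. -/
theorem charDegrees_SL2_even (heven : Even (Fintype.card F)) (hq : 4 ≤ Fintype.card F) :
    charDegrees (Matrix.SpecialLinearGroup (Fin 2) F) =
      {1, Fintype.card F - 1, Fintype.card F, Fintype.card F + 1} := by
  have hcount := count_SL2_even F heven hq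
  have hpos : 1 ≤ Fintype.card F := by omega
  ext d
  simp only [Set.mem_insert_iff, Set.mem_singleton_iff]
  constructor
  · rintro ⟨χ, rfl⟩
    rcases irr_SL2_degree_even heven χ.1 χ.2 with h | h | h | h
    · left
      exact charDegree_of_natCast (n := 1) (by rw [h]; simp)
    · right; left
      exact charDegree_of_natCast (by rw [h, Nat.cast_sub hpos, Nat.cast_one])
    · right; right; left
      exact charDegree_of_natCast h
    · right; right; right
      exact charDegree_of_natCast (by rw [h]; push_cast; ring)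
  · have hne : ∀ (c : ℂ) (n : ℕ), c = (n : ℂ) →
        0 < Nat.card {χ : IrrCharacter (Matrix.SpecialLinearGroup (Fin 2) F) //
          (χ : Matrix.SpecialLinearGroup (Fin 2) F → ℂ) 1 = c} →
        n ∈ charDegrees (Matrix.SpecialLinearGroup (Fin 2) F) := by
      intro c n hc hpos
      have hfin := Nat.finite_of_card_ne_zero hpos.ne'
      obtain ⟨χ, hχ⟩ := (Nat.card_pos_iff.mp hpos).1
      exact ⟨χ, charDegree_of_natCast (hχ.trans hc)⟩
    rintro (rfl | rfl | rfl | rfl)
    · exact hne 1 1 (by simp) (by rw [hcount.1]; norm_num)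
    · exact hne ((Fintype.card F : ℂ) - 1) (Fintype.card F - 1)
        (by rw [Nat.cast_sub hpos, Nat.cast_one]) (by rw [hcount.2.2.2]; omega)
    · exact hne (Fintype.card F : ℂ) (Fintype.card F) rfl (by rw [hcount.2.1]; norm_num)
    · exact hne ((Fintype.card F : ℂ) + 1) (Fintype.card F + 1) (by push_cast; ring)
        (by rw [hcount.2.2.1]; omega)


theorem degreeGraph_adj_iff {G : Type*} [Group G] (r s : ℕ) :
    (degreeGraph G).Adj r s ↔ (r ≠ s ∧ r.Prime ∧ s.Prime ∧ ∃ d ∈ charDegrees G, r * s ∣ d) :=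
  Iff.rfl

/-- the degree graph of a group with character degrees `1, q - 1, q, q + 1`, `q` a power of two. -/
theorem degreeGraph_even {G : Type*} [Group G] (q n : ℕ) (hq : q = 2 ^ n) (h4 : 4 ≤ q)
    (hdeg : charDegrees G = {1, q - 1, q, q + 1}) :
    degreePrimes G = {r : ℕ | r.Prime ∧ r ∣ q * (q ^ 2 - 1)} ∧
    ∀ r s : ℕ, (degreeGraph G).Adj r s ↔ (r ≠ s ∧ r.Prime ∧ s.Prime ∧
      ((r ∣ q + 1 ∧ s ∣ q + 1) ∨ (r ∣ q - 1 ∧ s ∣ q - 1))) := by
  have hfac : q * (q ^ 2 - 1) = q * ((q - 1) * (q + 1)) := by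
    congr 1
    have h1 : q ^ 2 - 1 = q ^ 2 - 1 ^ 2 := by norm_num
    rw [h1, Nat.sq_sub_sq, mul_comm]
  constructor
  · ext r
    unfold degreePrimes
    rw [hdeg, hfac]
    simp only [Set.mem_ofPred_eq, Set.mem_insert_iff, Set.mem_singleton_iff, exists_eq_or_imp,
      exists_eq_left]
    constructor
    · rintro ⟨hr, h | h | h | h⟩
      · exact absurd (Nat.dvd_one.mp h) hr.one_lt.ne'
      · exact ⟨hr, Dvd.dvd.mul_left (Dvd.dvd.mul_right h _) _⟩
      · exact ⟨hr, Dvd.dvd.mul_right h _⟩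
      · exact ⟨hr, Dvd.dvd.mul_left (Dvd.dvd.mul_left h _) _⟩
    · rintro ⟨hr, h⟩
      refine ⟨hr, ?_⟩
      rcases (Nat.Prime.dvd_mul hr).mp h with h | h
      · right; right; left; exact h
      · rcases (Nat.Prime.dvd_mul hr).mp h with h | h
        · right; left; exact h
        · right; right; right; exact h
  · intro r s
    rw [degreeGraph_adj_iff, hdeg]
    simp only [Set.mem_insert_iff, Set.mem_singleton_iff, exists_eq_or_imp, exists_eq_left]
    constructor
    · rintro ⟨hne, hr, hs, h | h | h | h⟩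
      · exfalso
        have := Nat.dvd_one.mp h
        have h1 := Nat.eq_one_of_mul_eq_one_right this
        exact hr.one_lt.ne' h1
      · exact ⟨hne, hr, hs, Or.inr ⟨dvd_of_mul_right_dvd h, dvd_of_mul_left_dvd h⟩⟩
      · exfalso
        rw [hq] at h
        have h1 : r ∣ 2 ^ n := dvd_of_mul_right_dvd h
        have h2 : s ∣ 2 ^ n := dvd_of_mul_left_dvd h
        have e1 := (Nat.prime_dvd_prime_iff_eq hr Nat.prime_two).mp (hr.dvd_of_dvd_pow h1)
        have e2 := (Nat.prime_dvd_prime_iff_eq hs Nat.prime_two).mp (hs.dvd_of_dvd_pow h2)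
        exact hne (e1.trans e2.symm)
      · exact ⟨hne, hr, hs, Or.inl ⟨dvd_of_mul_right_dvd h, dvd_of_mul_left_dvd h⟩⟩
    · rintro ⟨hne, hr, hs, ⟨h1, h2⟩ | ⟨h1, h2⟩⟩
      · exact ⟨hne, hr, hs, Or.inr (Or.inr (Or.inr
          (Nat.Coprime.mul_dvd_of_dvd_of_dvd ((Nat.coprime_primes hr hs).mpr hne) h1 h2)))⟩
      · exact ⟨hne, hr, hs, Or.inr (Or.inl
          (Nat.Coprime.mul_dvd_of_dvd_of_dvd ((Nat.coprime_primes hr hs).mpr hne) h1 h2))⟩

end Cfsg.Agent.Lib.Helper38
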