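import Cfsg.Agent.Lib.Helper38.SL2CentralSign
import Cfsg.Agent.Lib.Helper38.PSL2DegreeGraphEven

set_option autoImplicit false
set_option linter.unusedSimpArgs false
set_option linter.unusedSectionVars false

/-!
The character degree graph of `SL₂(F)` and `PSL₂(F)`, `|F| > 5` odd.
-/

namespace Cfsg.Agent.Lib.Helper38

open Matrix Cfsg

variable {F : Type*} [Field F] [Fintype F] [DecidableEq F]

theorem mem_center_SL2 (z : Matrix.SpecialLinearGroup (Fin 2) F)
    (hz : z ∈ Subgroup.center (Matrix.SpecialLinearGroup (Fin 2) F)) :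
    z = 1 ∨ z = negOneSL F := by
  rw [Matrix.SpecialLinearGroup.mem_center_iff] at hz
  obtain ⟨r, hr, hz⟩ := hz
  rw [Fintype.card_fin] at hr
  have h00 : z.1 0 0 = r := by rw [← hz]; simp
  have h11 : z.1 1 1 = r := by rw [← hz]; simp
  have h01 : z.1 0 1 = 0 := by rw [← hz]; simp
  have h10 : z.1 1 0 = 0 := by rw [← hz]; simp
  have h1 : (r - 1) * (r + 1) = 0 := by linear_combination hr
  rcases mul_eq_zero.mp h1 with h | h
  · left
    have hr1 : r = 1 := by linear_combination h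
    apply sl2_ext
    · rw [h00, hr1, sl2_one_00]
    · rw [h01, sl2_one_01]
    · rw [h10, sl2_one_10]
    · rw [h11, hr1, sl2_one_11]
  · right
    have hr1 : r = -1 := by linear_combination h
    apply sl2_ext
    · rw [h00, hr1]; rfl
    · rw [h01]; rfl
    · rw [h10]; rfl
    · rw [h11, hr1]; rfl

/-- an irreducible character of `SL₂` trivial at `-1` gives a degree of `PSL₂`. -/
theorem mem_charDegrees_PSL2 {χ : Matrix.SpecialLinearGroup (Fin 2) F → ℂ}
    (hχ : IsIrrCharacter (Matrix.SpecialLinearGroup (Fin 2) F) χ)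
    (h : χ (negOneSL F) = χ 1) {n : ℕ} (hn : χ 1 = (n : ℂ)) :
    n ∈ charDegrees (Matrix.ProjectiveSpecialLinearGroup (Fin 2) F) := by
  obtain ⟨ψ, hψ, hval⟩ := Cfsg.Agent.Lib.Helper79.isIrrCharacter_deflate hχ
    (Subgroup.center (Matrix.SpecialLinearGroup (Fin 2) F)) (fun x hx => by
      rcases mem_center_SL2 x hx with rfl | rfl
      · rfl
      · exact h)
  refine ⟨⟨ψ, hψ⟩, ?_⟩
  apply charDegree_of_natCast
  have := hval 1
  rw [hn] at this
  exact this

theorem charDegrees_PSL2_subset :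
    charDegrees (Matrix.ProjectiveSpecialLinearGroup (Fin 2) F) ⊆
      charDegrees (Matrix.SpecialLinearGroup (Fin 2) F) :=
  charDegrees_subset_of_surjective
    (QuotientGroup.mk' (Subgroup.center (Matrix.SpecialLinearGroup (Fin 2) F)))
    (QuotientGroup.mk'_surjective _)

/-- the degrees of `SL₂(F)`, `|F| = 2k+1`, lie in the list. -/
theorem charDegrees_SL2_odd_subset {k : ℕ} (hk : Fintype.card F = 2 * k + 1) :
    charDegrees (Matrix.SpecialLinearGroup (Fin 2) F) ⊆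
      {1, 2 * k + 1, 2 * k + 2, 2 * k, k + 1, k} := by
  rintro d ⟨χ, rfl⟩
  simp only [Set.mem_insert_iff, Set.mem_singleton_iff]
  rcases irr_SL2_odd_types hk χ.1 χ.2 with ⟨-, h1⟩ | ⟨-, h1⟩ | ⟨α, -, -, h1⟩ |
    ⟨α, ξ', d, -, -, -, -, -, -, h1⟩ | ⟨ψ, -, -, h1⟩ | ⟨ψ, ξ', d, -, -, -, -, -, h1⟩
  · left; exact charDegree_of_natCast h1
  · right; left; exact charDegree_of_natCast h1
  · right; right; left; exact charDegree_of_natCast h1
  · right; right; right; right; left; exact charDegree_of_natCast h1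
  · right; right; right; left; exact charDegree_of_natCast h1
  · right; right; right; right; right; exact charDegree_of_natCast h1

/-- the degrees `q - 1, q, q + 1` occur for `PSL₂(F)`, `|F| = 2k+1 ≥ 7`. -/
theorem mem_charDegrees_PSL2_odd {k : ℕ} (hk : Fintype.card F = 2 * k + 1) (hk3 : 3 ≤ k) :
    2 * k ∈ charDegrees (Matrix.ProjectiveSpecialLinearGroup (Fin 2) F) ∧
    2 * k + 1 ∈ charDegrees (Matrix.ProjectiveSpecialLinearGroup (Fin 2) F) ∧
    2 * k + 2 ∈ charDegrees (Matrix.ProjectiveSpecialLinearGroup (Fin 2) F) := by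
  refine ⟨?_, ?_, ?_⟩
  · obtain ⟨χ, hχ, h1, h2⟩ := exists_deg_q_sub_one_trivial_center F hk hk3
    exact mem_charDegrees_PSL2 hχ h2 h1
  · exact mem_charDegrees_PSL2 (isIrr_steinbergSL (F := F)) (steinbergSL_negOne F)
      (by rw [steinbergSL_one, hk])
  · obtain ⟨χ, hχ, h1, h2⟩ := exists_deg_q_add_one_trivial_center F (by omega)
    exact mem_charDegrees_PSL2 hχ h2 (by rw [h1, hk])


/-- the degree graph of a group whose character degrees contain `q - 1, q, q + 1` and lie in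
`{1, q, q + 1, q - 1, (q + 1)/2, (q - 1)/2}`, `q = 2k + 1` a power of an odd prime. -/
theorem degreeGraph_odd {G : Type*} [Group G] (t n k : ℕ) (ht : t.Prime)
    (hq : 2 * k + 1 = t ^ n)
    (hsub : charDegrees G ⊆ {1, 2 * k + 1, 2 * k + 2, 2 * k, k + 1, k})
    (h1 : 2 * k ∈ charDegrees G) (h2 : 2 * k + 1 ∈ charDegrees G)
    (h3 : 2 * k + 2 ∈ charDegrees G) :
    degreePrimes G = {r : ℕ | r.Prime ∧ r ∣ (2 * k + 1) * ((2 * k + 1) ^ 2 - 1)} ∧
    ∀ r s : ℕ, (degreeGraph G).Adj r s ↔ (r ≠ s ∧ r.Prime ∧ s.Prime ∧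
      r ∣ (2 * k + 1) ^ 2 - 1 ∧ s ∣ (2 * k + 1) ^ 2 - 1 ∧
      (r = 2 ∨ s = 2 ∨ (r ∣ (2 * k + 1) + 1 ∧ s ∣ (2 * k + 1) + 1) ∨
        (r ∣ (2 * k + 1) - 1 ∧ s ∣ (2 * k + 1) - 1))) := by
  have hfac : (2 * k + 1) ^ 2 - 1 = 2 * k * (2 * k + 2) := by
    apply Nat.sub_eq_of_eq_add
    ring
  have e1 : (2 * k + 1) + 1 = 2 * k + 2 := by ring
  have e2 : (2 * k + 1) - 1 = 2 * k := by omega
  rw [hfac, e1, e2]
  have hk1 : k + 1 ∣ 2 * k + 2 := ⟨2, by ring⟩
  have hk0 : k ∣ 2 * k := ⟨2, by ring⟩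
  constructor
  · ext r
    unfold degreePrimes
    simp only [Set.mem_ofPred_eq]
    constructor
    · rintro ⟨hr, d, hd, hrd⟩
      refine ⟨hr, ?_⟩
      have := hsub hd
      simp only [Set.mem_insert_iff, Set.mem_singleton_iff] at this
      rcases this with rfl | rfl | rfl | rfl | rfl | rfl
      · exact absurd (Nat.dvd_one.mp hrd) hr.one_lt.ne'
      · exact Dvd.dvd.mul_right hrd _
      · exact Dvd.dvd.mul_left (Dvd.dvd.mul_left hrd _) _
      · exact Dvd.dvd.mul_left (Dvd.dvd.mul_right hrd _) _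
      · exact Dvd.dvd.mul_left (Dvd.dvd.mul_left (hrd.trans hk1) _) _
      · exact Dvd.dvd.mul_left (Dvd.dvd.mul_right (hrd.trans hk0) _) _
    · rintro ⟨hr, h⟩
      refine ⟨hr, ?_⟩
      rcases (Nat.Prime.dvd_mul hr).mp h with h | h
      · exact ⟨_, h2, h⟩
      · rcases (Nat.Prime.dvd_mul hr).mp h with h | h
        · exact ⟨_, h1, h⟩
        · exact ⟨_, h3, h⟩
  · intro r s
    rw [degreeGraph_adj_iff]
    constructor
    · rintro ⟨hne, hr, hs, d, hd, hrs⟩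
      have hrd : r ∣ d := dvd_of_mul_right_dvd hrs
      have hsd : s ∣ d := dvd_of_mul_left_dvd hrs
      have := hsub hd
      simp only [Set.mem_insert_iff, Set.mem_singleton_iff] at this
      rcases this with rfl | rfl | rfl | rfl | rfl | rfl
      · exact absurd (Nat.dvd_one.mp hrd) hr.one_lt.ne'
      · exfalso
        rw [hq] at hrd hsd
        have e1 := (Nat.prime_dvd_prime_iff_eq hr ht).mp (hr.dvd_of_dvd_pow hrd)
        have e2 := (Nat.prime_dvd_prime_iff_eq hs ht).mp (hs.dvd_of_dvd_pow hsd)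
        exact hne (e1.trans e2.symm)
      · exact ⟨hne, hr, hs, Dvd.dvd.mul_left hrd _, Dvd.dvd.mul_left hsd _,
          Or.inr (Or.inr (Or.inl ⟨hrd, hsd⟩))⟩
      · exact ⟨hne, hr, hs, Dvd.dvd.mul_right hrd _, Dvd.dvd.mul_right hsd _,
          Or.inr (Or.inr (Or.inr ⟨hrd, hsd⟩))⟩
      · exact ⟨hne, hr, hs, Dvd.dvd.mul_left (hrd.trans hk1) _, Dvd.dvd.mul_left (hsd.trans hk1) _,
          Or.inr (Or.inr (Or.inl ⟨hrd.trans hk1, hsd.trans hk1⟩))⟩
      · exact ⟨hne, hr, hs, Dvd.dvd.mul_right (hrd.trans hk0) _,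
          Dvd.dvd.mul_right (hsd.trans hk0) _,
          Or.inr (Or.inr (Or.inr ⟨hrd.trans hk0, hsd.trans hk0⟩))⟩
    · rintro ⟨hne, hr, hs, hr', hs', hcase⟩
      refine ⟨hne, hr, hs, ?_⟩
      have hcop := (Nat.coprime_primes hr hs).mpr hne
      have h2a : 2 ∣ 2 * k := ⟨k, rfl⟩
      have h2b : 2 ∣ 2 * k + 2 := ⟨k + 1, by ring⟩
      rcases hcase with rfl | rfl | ⟨ha, hb⟩ | ⟨ha, hb⟩
      · rcases (Nat.Prime.dvd_mul hs).mp hs' with h | h
        · exact ⟨_, h1, Nat.Coprime.mul_dvd_of_dvd_of_dvd hcop h2a h⟩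
        · exact ⟨_, h3, Nat.Coprime.mul_dvd_of_dvd_of_dvd hcop h2b h⟩
      · rcases (Nat.Prime.dvd_mul hr).mp hr' with h | h
        · exact ⟨_, h1, Nat.Coprime.mul_dvd_of_dvd_of_dvd hcop h h2a⟩
        · exact ⟨_, h3, Nat.Coprime.mul_dvd_of_dvd_of_dvd hcop h h2b⟩
      · exact ⟨_, h3, Nat.Coprime.mul_dvd_of_dvd_of_dvd hcop ha hb⟩
      · exact ⟨_, h1, Nat.Coprime.mul_dvd_of_dvd_of_dvd hcop ha hb⟩

end Cfsg.Agent.Lib.Helper38
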