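import Mathlib

set_option autoImplicit false

/-! Padé-type convergents in a simple algebraic extension `L = k[α]` (power basis `pb`):
filtration by degree, generic elements, contiguous relations. Used for S5060. -/

namespace Cfsg.Agent.Lib.Helper38.Pade

open Polynomial Module

variable {k L : Type*} [Field k] [Field L] [Algebra k L] (pb : PowerBasis k L)

/-- elements of `L` that are polynomials of degree `< s` in the generator -/
noncomputable def Fl (s : ℕ) : Submodule k L := (degreeLT k s).map (aeval pb.gen).toLinearMap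

theorem mem_Fl {s : ℕ} {x : L} :
    x ∈ Fl pb s ↔ ∃ P : k[X], P.degree < s ∧ aeval pb.gen P = x := by
  simp only [Fl, Submodule.mem_map, mem_degreeLT, AlgHom.toLinearMap_apply]

theorem Fl_mono {s t : ℕ} (h : s ≤ t) : Fl pb s ≤ Fl pb t := by
  intro x hx
  rw [mem_Fl] at hx ⊢
  obtain ⟨P, hP, rfl⟩ := hx
  exact ⟨P, lt_of_lt_of_le hP (by exact_mod_cast h), rfl⟩

theorem mem_Fl_zero {x : L} (hx : x ∈ Fl pb 0) : x = 0 := by
  rw [mem_Fl] at hx
  obtain ⟨P, hP, rfl⟩ := hx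
  have : P = 0 := by
    rw [← degree_eq_bot]
    by_contra h
    have h0 : (0 : WithBot ℕ) ≤ P.degree := by
      rw [← natDegree_lt_iff_degree_lt] at hP
      · omega
      · intro h1; rw [h1] at h; simp at h
    exact absurd (lt_of_le_of_lt h0 hP) (by simp)
  rw [this]; simp

theorem Fl_top {s : ℕ} (h : pb.dim ≤ s) (x : L) : x ∈ Fl pb s := by
  rw [mem_Fl]
  obtain ⟨f, hf, rfl⟩ := pb.exists_eq_aeval x
  refine ⟨f, ?_, rfl⟩
  exact lt_of_le_of_lt degree_le_natDegree (by exact_mod_cast lt_of_lt_of_le hf h)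

/-- uniqueness of low-degree representations -/
theorem uniq {P : k[X]} (hP : P.degree < pb.dim) (h0 : aeval pb.gen P = 0) : P = 0 := by
  by_contra hne
  have := pb.dim_le_natDegree_of_root hne h0
  have h2 : P.natDegree < pb.dim := by
    rwa [natDegree_lt_iff_degree_lt hne]
  omega

theorem uniq' {P Q : k[X]} (hP : P.degree < pb.dim) (hQ : Q.degree < pb.dim)
    (h : aeval pb.gen P = aeval pb.gen Q) : P = Q := by
  have : P - Q = 0 := by
    apply uniq pb
    · exact lt_of_le_of_lt (degree_sub_le P Q) (max_lt hP hQ)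
    · rw [map_sub, h, sub_self]
  exact sub_eq_zero.mp this

theorem mem_Fl_one {x : L} (hx : x ∈ Fl pb 1) : ∃ c : k, x = algebraMap k L c := by
  rw [mem_Fl] at hx
  obtain ⟨P, hP, rfl⟩ := hx
  have h1 : P.degree ≤ 0 := by
    have : P.degree < (1 : ℕ) := hP
    by_cases h0 : P = 0
    · rw [h0]; simp
    · rw [degree_eq_natDegree h0] at this ⊢
      have h2 : P.natDegree < 1 := by exact_mod_cast this
      have : P.natDegree = 0 := by omega
      rw [this]; simp
  rw [eq_C_of_degree_le_zero h1]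
  exact ⟨P.coeff 0, by simp⟩

theorem deg_X_mul_lt_iff {P : k[X]} {s : ℕ} :
    (X * P).degree < ((s + 1 : ℕ) : WithBot ℕ) ↔ P.degree < (s : WithBot ℕ) := by
  rw [degree_lt_iff_coeff_zero, degree_lt_iff_coeff_zero]
  constructor
  · intro h m hm
    have := h (m + 1) (by omega)
    rwa [coeff_X_mul] at this
  · intro h m hm
    obtain ⟨m', rfl⟩ : ∃ m', m = m' + 1 := ⟨m - 1, by omega⟩
    rw [coeff_X_mul]
    exact h m' (by omega)

theorem mul_gen_mem {s : ℕ} {x : L} (hx : x ∈ Fl pb s) : pb.gen * x ∈ Fl pb (s + 1) := by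
  rw [mem_Fl] at hx ⊢
  obtain ⟨P, hP, rfl⟩ := hx
  exact ⟨X * P, (deg_X_mul_lt_iff).mpr hP, by simp⟩

theorem mul_gen_not_mem {s t : ℕ} {x : L} (hx : x ∈ Fl pb t) (ht : t + 1 ≤ pb.dim)
    (hxs : x ∉ Fl pb s) : pb.gen * x ∉ Fl pb (s + 1) := by
  intro hmem
  by_cases hst : t ≤ s
  · exact hxs (Fl_mono pb hst hx)
  push Not at hst
  rw [mem_Fl] at hx hmem
  obtain ⟨P, hP, rfl⟩ := hx
  obtain ⟨Q, hQ, hQe⟩ := hmem
  have hdP : (X * P).degree < (pb.dim : WithBot ℕ) :=
    lt_of_lt_of_le ((deg_X_mul_lt_iff).mpr hP) (by exact_mod_cast ht)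
  have hdQ : Q.degree < (pb.dim : WithBot ℕ) :=
    lt_of_lt_of_le hQ (by exact_mod_cast (by omega : s + 1 ≤ pb.dim))
  have heq : X * P = Q := by
    apply uniq' pb hdP hdQ
    rw [hQe]; simp
  apply hxs
  rw [mem_Fl]
  refine ⟨P, ?_, rfl⟩
  rw [← heq] at hQ
  exact (deg_X_mul_lt_iff).mp hQ

/-- subtracting the leading coefficient -/
theorem sub_smul_mem {t : ℕ} {x y : L} (hx : x ∈ Fl pb (t + 1)) (hy : y ∈ Fl pb (t + 1))
    (hyt : y ∉ Fl pb t) : ∃ a : k, x - a • y ∈ Fl pb t := by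
  rw [mem_Fl] at hx hy
  obtain ⟨P, hP, rfl⟩ := hx
  obtain ⟨Q, hQ, rfl⟩ := hy
  have hQt : Q.coeff t ≠ 0 := by
    intro h0
    apply hyt
    rw [mem_Fl]
    refine ⟨Q, ?_, rfl⟩
    rw [degree_lt_iff_coeff_zero] at hQ ⊢
    intro m hm
    rcases Nat.eq_or_lt_of_le hm with h | h
    · rw [← h]; exact h0
    · exact hQ m (by omega)
  refine ⟨P.coeff t / Q.coeff t, ?_⟩
  rw [mem_Fl]
  refine ⟨P - C (P.coeff t / Q.coeff t) * Q, ?_, ?_⟩
  · rw [degree_lt_iff_coeff_zero] at hP hQ ⊢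
    intro m hm
    rw [coeff_sub, coeff_C_mul]
    rcases Nat.eq_or_lt_of_le hm with h | h
    · rw [← h]; field_simp; ring
    · rw [hP m (by omega), hQ m (by omega)]; ring
  · rw [map_sub, map_mul, aeval_C, Algebra.smul_def]

end Cfsg.Agent.Lib.Helper38.Pade
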