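import Cfsg.Agent.Lib.Helper38.PadeA

set_option autoImplicit false

/-! Generic elements of `L = k[α]` and their convergents. -/

namespace Cfsg.Agent.Lib.Helper38.Pade

open Polynomial Module

variable {k L : Type*} [Field k] [Field L] [Algebra k L] (pb : PowerBasis k L)

/-- `(P, Q) ↦ g * P(α) - Q(α)` on polynomials of degree `< s`, `< t`. -/
noncomputable def psi (s t : ℕ) (g : L) : (degreeLT k s × degreeLT k t) →ₗ[k] L where
  toFun PQ := g * aeval pb.gen (PQ.1 : k[X]) - aeval pb.gen (PQ.2 : k[X])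
  map_add' a b := by
    simp only [Prod.fst_add, Prod.snd_add, Submodule.coe_add, map_add]; ring
  map_smul' c a := by
    simp only [Prod.smul_fst, Prod.smul_snd, Submodule.coe_smul, map_smul, RingHom.id_apply]
    rw [mul_smul_comm, smul_sub]

/-- `(P, Q) ↦ h * P(α)`: the linear part of `psi` in `g`. -/
noncomputable def phi (s t : ℕ) (h : L) : (degreeLT k s × degreeLT k t) →ₗ[k] L where
  toFun PQ := h * aeval pb.gen (PQ.1 : k[X])
  map_add' a b := by
    simp only [Prod.fst_add, Submodule.coe_add, map_add]; ring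
  map_smul' c a := by
    simp only [Prod.smul_fst, Submodule.coe_smul, map_smul, RingHom.id_apply]
    rw [mul_smul_comm]

theorem psi_apply (s t : ℕ) (g : L) (PQ : degreeLT k s × degreeLT k t) :
    psi pb s t g PQ = g * aeval pb.gen (PQ.1 : k[X]) - aeval pb.gen (PQ.2 : k[X]) := rfl

theorem psi_add_smul (s t : ℕ) (g h : L) (c : k) :
    psi pb s t (g + c • h) = psi pb s t g + c • phi pb s t h := by
  ext PQ
  · simp only [psi, phi, LinearMap.coe_comp, LinearMap.coe_inl, Function.comp_apply,
      LinearMap.coe_mk, AddHom.coe_mk, LinearMap.add_apply, LinearMap.smul_apply,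
      Algebra.smul_def]
    simp; ring
  · simp only [psi, phi, LinearMap.coe_comp, LinearMap.coe_inr, Function.comp_apply,
      LinearMap.coe_mk, AddHom.coe_mk, LinearMap.add_apply, LinearMap.smul_apply,
      Algebra.smul_def]
    simp

theorem finrank_dom (s t : ℕ) : finrank k (degreeLT k s × degreeLT k t) = s + t := by
  rw [Module.finrank_prod, Module.finrank_eq_card_basis (degreeLT.basis k s),
    Module.finrank_eq_card_basis (degreeLT.basis k t)]
  simp

/-- finitely many bad parameters on a line through a good point -/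
theorem finite_bad {V W : Type*} [AddCommGroup V] [Module k V] [AddCommGroup W] [Module k W]
    [FiniteDimensional k V] [FiniteDimensional k W] (hd : finrank k V = finrank k W)
    (F₀ F₁ : V →ₗ[k] W) (h0 : Function.Injective F₀) :
    {c : k | ¬ Function.Injective (F₀ + c • F₁)}.Finite := by
  have hsurj : Function.Surjective F₀ :=
    (LinearMap.injective_iff_surjective_of_finrank_eq_finrank hd).mp h0
  let e : V ≃ₗ[k] W := LinearEquiv.ofBijective F₀ ⟨h0, hsurj⟩
  let E : Module.End k V := e.symm.toLinearMap ∘ₗ F₁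
  have hfin := Module.End.finite_hasEigenvalue E
  refine (hfin.image (fun μ => -μ⁻¹)).subset ?_
  intro c hc
  simp only [Set.mem_ofPred_eq] at hc
  rw [← LinearMap.ker_eq_bot, Submodule.eq_bot_iff] at hc
  push Not at hc
  obtain ⟨v, hv, hv0⟩ := hc
  rw [LinearMap.mem_ker, LinearMap.add_apply, LinearMap.smul_apply] at hv
  have hc0 : c ≠ 0 := by
    rintro rfl
    rw [zero_smul, add_zero] at hv
    exact hv0 (h0 (by rw [hv, map_zero]))
  have hEv : E v = (-c⁻¹) • v := by
    have h1 : F₀ v = -(c • F₁ v) := eq_neg_of_add_eq_zero_left hv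
    have h2 : e.symm (F₀ v) = v := e.symm_apply_apply v
    have h3 : E v = e.symm (F₁ v) := rfl
    have h4 : v = -(c • E v) := by
      have h5 : e.symm (F₀ v) = -(c • e.symm (F₁ v)) := by rw [h1, map_neg, map_smul]
      rw [h2] at h5
      rw [h3]; exact h5
    calc E v = (-c⁻¹) • (-(c • E v)) := by
          rw [smul_neg, neg_smul, neg_neg, smul_smul, inv_mul_cancel₀ hc0, one_smul]
      _ = (-c⁻¹) • v := by rw [← h4]
  refine ⟨-c⁻¹, ?_, ?_⟩
  · simp only [Set.mem_ofPred_eq]
    apply Module.End.hasEigenvalue_of_hasEigenvector (x := v)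
    rw [Module.End.hasEigenvector_iff]
    exact ⟨Module.End.mem_eigenspace_iff.mpr hEv, hv0⟩
  · simp

/-- genericity: injectivity of all the `psi` maps for `g` and `g * α` -/
def Gen (g : L) : Prop :=
  ∀ s, s ≤ pb.dim → Function.Injective (psi pb s (pb.dim - s) g) ∧
    Function.Injective (psi pb s (pb.dim - s) (g * pb.gen))

theorem psi_pow_injective (s : ℕ) (hs : s ≤ pb.dim) :
    Function.Injective (psi pb s (pb.dim - s) (pb.gen ^ (pb.dim - s))) := by
  rw [injective_iff_map_eq_zero]
  rintro ⟨⟨P, hP⟩, ⟨Q, hQ⟩⟩ h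
  rw [psi_apply] at h
  simp only at h
  rw [mem_degreeLT] at hP hQ
  have hPd : (X ^ (pb.dim - s) * P).degree < (pb.dim : WithBot ℕ) := by
    rw [degree_lt_iff_coeff_zero] at hP ⊢
    intro m hm
    rw [coeff_X_pow_mul']
    split_ifs with h1
    · exact hP _ (by omega)
    · rfl
  have hQd : Q.degree < (pb.dim : WithBot ℕ) :=
    lt_of_lt_of_le hQ (by exact_mod_cast Nat.sub_le _ _)
  have heq : X ^ (pb.dim - s) * P = Q := by
    apply uniq' pb hPd hQd
    rw [map_mul, map_pow, aeval_X]
    exact sub_eq_zero.mp h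
  have hP0 : P = 0 := by
    by_contra hne
    rw [degree_lt_iff_coeff_zero] at hQ
    have hlead : P.coeff P.natDegree ≠ 0 := by
      rwa [coeff_natDegree, leadingCoeff_ne_zero]
    have := hQ (P.natDegree + (pb.dim - s)) (by omega)
    rw [← heq, coeff_X_pow_mul] at this
    exact hlead this
  have hQ0 : Q = 0 := by rw [← heq, hP0, mul_zero]
  subst hP0 hQ0
  rfl

section generic

variable {ι : Type*} [Finite ι] (Cond : ι → L → Prop)

/-- abstract genericity lemma over an infinite field -/
theorem exists_generic [Infinite k]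
    (hw : ∀ i, ∃ x, Cond i x)
    (hl : ∀ i x h, Cond i x → {c : k | ¬ Cond i (x + c • h)}.Finite) :
    ∃ x, ∀ i, Cond i x := by
  classical
  have := Fintype.ofFinite ι
  suffices H : ∀ S : Finset ι, ∃ x, ∀ i ∈ S, Cond i x by
    obtain ⟨x, hx⟩ := H Finset.univ
    exact ⟨x, fun i => hx i (Finset.mem_univ i)⟩
  intro S
  induction S using Finset.induction_on with
  | empty => exact ⟨0, by simp⟩
  | insert j S hj ih =>
    obtain ⟨x, hx⟩ := ih
    obtain ⟨y, hy⟩ := hw j
    -- the line x + c (y - x)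
    have hfin1 : (⋃ i ∈ S, {c : k | ¬ Cond i (x + c • (y - x))}).Finite :=
      Set.Finite.biUnion S.finite_toSet (fun i hi => hl i x (y - x) (hx i hi))
    have hfin2 : {c : k | ¬ Cond j (x + c • (y - x))}.Finite := by
      have := hl j y (y - x) hy
      have h2 : {c : k | ¬ Cond j (x + c • (y - x))} ⊆
          (fun c => c + 1) '' {c : k | ¬ Cond j (y + c • (y - x))} := by
        intro c hc
        refine ⟨c - 1, ?_, by ring⟩
        simp only [Set.mem_ofPred_eq] at hc ⊢
        have : y + (c - 1) • (y - x) = x + c • (y - x) := by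
          rw [sub_smul, one_smul]; abel
        rwa [this]
      exact (this.image _).subset h2
    obtain ⟨c, hc⟩ := ((hfin1.union hfin2).infinite_compl).nonempty
    refine ⟨x + c • (y - x), ?_⟩
    intro i hi
    rw [Finset.mem_insert] at hi
    simp only [Set.mem_compl_iff, Set.mem_union, Set.mem_iUnion, Set.mem_ofPred_eq, not_or,
      not_exists, not_not] at hc
    rcases hi with rfl | hi
    · exact hc.2
    · exact hc.1 i hi

end generic

/-- the conditions indexed by `(s, ε)` -/
def Cnd (i : Fin (pb.dim + 1) × Bool) (g : L) : Prop :=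
  Function.Injective (psi pb i.1 (pb.dim - i.1) (if i.2 then g * pb.gen else g))

theorem Cnd_line (i : Fin (pb.dim + 1) × Bool) (x h : L) (hx : Cnd pb i x) :
    {c : k | ¬ Cnd pb i (x + c • h)}.Finite := by
  obtain ⟨s, b⟩ := i
  have hs : (s : ℕ) ≤ pb.dim := Nat.lt_succ_iff.mp s.2
  have : Module.Finite k L := pb.finite
  have hd : finrank k (degreeLT k (s : ℕ) × degreeLT k (pb.dim - s)) = finrank k L := by
    rw [finrank_dom, pb.finrank]; omega
  cases b
  · simp only [Cnd, Bool.false_eq_true, if_false] at hx ⊢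
    have := finite_bad hd (psi pb s (pb.dim - s) x) (phi pb s (pb.dim - s) h) hx
    simpa only [psi_add_smul] using this
  · simp only [Cnd, if_true] at hx ⊢
    have := finite_bad hd (psi pb s (pb.dim - s) (x * pb.gen)) (phi pb s (pb.dim - s) (h * pb.gen)) hx
    have h2 : ∀ c : k, (x + c • h) * pb.gen = x * pb.gen + c • (h * pb.gen) := by
      intro c; rw [add_mul, smul_mul_assoc]
    simpa only [h2, psi_add_smul] using this

theorem Cnd_witness (hα : pb.gen ≠ 0) (i : Fin (pb.dim + 1) × Bool) : ∃ x, Cnd pb i x := by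
  obtain ⟨s, b⟩ := i
  have hs : (s : ℕ) ≤ pb.dim := Nat.lt_succ_iff.mp s.2
  cases b
  · exact ⟨pb.gen ^ (pb.dim - s), by simpa [Cnd] using psi_pow_injective pb s hs⟩
  · refine ⟨pb.gen ^ (pb.dim - s) * pb.gen⁻¹, ?_⟩
    simp only [Cnd, if_true]
    rw [mul_assoc, inv_mul_cancel₀ hα, mul_one]
    exact psi_pow_injective pb s hs

theorem Gen_iff (g : L) : Gen pb g ↔ ∀ i, Cnd pb i g := by
  constructor
  · intro h i
    obtain ⟨s, b⟩ := i
    have hs : (s : ℕ) ≤ pb.dim := Nat.lt_succ_iff.mp s.2
    cases b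
    · simpa [Cnd] using (h s hs).1
    · simpa [Cnd] using (h s hs).2
  · intro h s hs
    have h1 := h (⟨s, Nat.lt_succ_iff.mpr hs⟩, false)
    have h2 := h (⟨s, Nat.lt_succ_iff.mpr hs⟩, true)
    simp only [Cnd, Bool.false_eq_true, if_false, if_true] at h1 h2
    exact ⟨h1, h2⟩

theorem exists_Gen [Infinite k] (hα : pb.gen ≠ 0) : ∃ g, Gen pb g := by
  obtain ⟨g, hg⟩ := exists_generic (Cnd pb) (Cnd_witness pb hα) (Cnd_line pb)
  exact ⟨g, (Gen_iff pb g).mpr hg⟩

theorem Gen_line {g : L} (hg : Gen pb g) (h : L) : {c : k | ¬ Gen pb (g + c • h)}.Finite := by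
  have : {c : k | ¬ Gen pb (g + c • h)} ⊆ ⋃ i, {c : k | ¬ Cnd pb i (g + c • h)} := by
    intro c hc
    simp only [Set.mem_ofPred_eq, Gen_iff, not_forall] at hc
    obtain ⟨i, hi⟩ := hc
    exact Set.mem_iUnion.mpr ⟨i, hi⟩
  refine (Set.finite_iUnion (fun i => ?_)).subset this
  exact Cnd_line pb i g h ((Gen_iff pb g).mp hg i)

/-- the "no short relation" consequence of genericity -/
def CC (g : L) : Prop :=
  ∀ s, s ≤ pb.dim → ∀ p ∈ Fl pb s, g * p ∈ Fl pb (pb.dim - s) → p = 0

theorem CC_of_injective {g : L}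
    (h : ∀ s, s ≤ pb.dim → Function.Injective (psi pb s (pb.dim - s) g)) : CC pb g := by
  intro s hs p hp hgp
  rw [mem_Fl] at hp hgp
  obtain ⟨P, hP, rfl⟩ := hp
  obtain ⟨Q, hQ, hQe⟩ := hgp
  have := h s hs (a₁ := (⟨P, mem_degreeLT.mpr hP⟩, ⟨Q, mem_degreeLT.mpr hQ⟩)) (a₂ := 0)
    (by rw [psi_apply, map_zero]; simp [hQe])
  have h1 := congrArg (fun z => (z.1 : k[X])) this
  simp only at h1
  rw [h1]; simp

theorem Gen.cc {g : L} (hg : Gen pb g) : CC pb g := CC_of_injective pb (fun s hs => (hg s hs).1)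
theorem Gen.cc' {g : L} (hg : Gen pb g) : CC pb (g * pb.gen) :=
  CC_of_injective pb (fun s hs => (hg s hs).2)

theorem CC.ne_zero {g : L} (hg : CC pb g) : g ≠ 0 := by
  rintro rfl
  have := hg pb.dim le_rfl 1 (Fl_top pb le_rfl 1) (by simp)
  exact one_ne_zero this

end Cfsg.Agent.Lib.Helper38.Pade
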