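import Cfsg.Agent.Lib.Helper38.PadeB

set_option autoImplicit false

/-! Convergents of a generic element, contiguous relations and the resulting chain of
elementary moves. -/

namespace Cfsg.Agent.Lib.Helper38.Pade

open Polynomial Module

variable {k L : Type*} [Field k] [Field L] [Algebra k L] (pb : PowerBasis k L)

/-- `p` is a convergent of level `s` for `g` -/
def IsConv (g : L) (s : ℕ) (p : L) : Prop :=
  p ∈ Fl pb (s + 1) ∧ g * p ∈ Fl pb (pb.dim - s) ∧ p ≠ 0

theorem exists_conv (g : L) {s : ℕ} (hs : s < pb.dim) : ∃ p, IsConv pb g s p := by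
  have : Module.Finite k L := pb.finite
  have hlt : finrank k L < finrank k (degreeLT k (s + 1) × degreeLT k (pb.dim - s)) := by
    rw [finrank_dom, pb.finrank]; omega
  have hker := LinearMap.ker_ne_bot_of_finrank_lt (f := psi pb (s + 1) (pb.dim - s) g) hlt
  rw [Ne, Submodule.eq_bot_iff] at hker
  push Not at hker
  obtain ⟨⟨⟨P, hP⟩, ⟨Q, hQ⟩⟩, hmem, hne⟩ := hker
  rw [LinearMap.mem_ker, psi_apply] at hmem
  simp only at hmem
  rw [mem_degreeLT] at hP hQ
  have hgp : g * aeval pb.gen P = aeval pb.gen Q := sub_eq_zero.mp hmem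
  refine ⟨aeval pb.gen P, (mem_Fl pb).mpr ⟨P, hP, rfl⟩, ?_, ?_⟩
  · rw [hgp]; exact (mem_Fl pb).mpr ⟨Q, hQ, rfl⟩
  · intro h0
    have hP0 : P = 0 :=
      uniq pb (lt_of_lt_of_le hP (by exact_mod_cast (by omega : s + 1 ≤ pb.dim))) h0
    have hQ0 : Q = 0 := by
      apply uniq pb (lt_of_lt_of_le hQ (by exact_mod_cast Nat.sub_le _ _))
      rw [← hgp, h0, mul_zero]
    apply hne
    subst hP0 hQ0
    rfl

variable {pb}

theorem IsConv.not_mem {g : L} (hg : CC pb g) {s : ℕ} (hs : s < pb.dim) {p : L}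
    (hp : IsConv pb g s p) : p ∉ Fl pb s := by
  intro h
  exact hp.2.2 (hg s hs.le p h hp.2.1)

theorem IsConv.mul_not_mem {g : L} (hg : CC pb g) {s : ℕ} (hs : s < pb.dim) {p : L}
    (hp : IsConv pb g s p) : g * p ∉ Fl pb (pb.dim - s - 1) := by
  intro h
  have : pb.dim - s - 1 = pb.dim - (s + 1) := by omega
  rw [this] at h
  exact hp.2.2 (hg (s + 1) hs p hp.1 h)

/-- contiguous relation -/
theorem contig {g : L} (hg : CC pb g) {s : ℕ} (hs : s + 2 ≤ pb.dim) {u v q : L}
    (hu : IsConv pb g s u) (hv : IsConv pb g (s + 1) v) (hq : q ∈ Fl pb (s + 2))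
    (hgq : g * q ∈ Fl pb (pb.dim - s)) :
    ∃ a b : k, q = a • v + b • u ∧ (q ∉ Fl pb (s + 1) → a ≠ 0) ∧
      (g * q ∉ Fl pb (pb.dim - s - 1) → b ≠ 0) := by
  have hv1 : v ∉ Fl pb (s + 1) := hv.not_mem hg (by omega)
  have hu1 : u ∉ Fl pb s := hu.not_mem hg (by omega)
  obtain ⟨a, ha⟩ := sub_smul_mem pb hq hv.1 hv1
  obtain ⟨b, hb⟩ := sub_smul_mem pb ha hu.1 hu1
  have hgw : g * (q - a • v - b • u) ∈ Fl pb (pb.dim - s) := by
    have e : g * (q - a • v - b • u) = g * q - a • (g * v) - b • (g * u) := by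
      rw [mul_sub, mul_sub, mul_smul_comm, mul_smul_comm]
    rw [e]
    refine Submodule.sub_mem _ (Submodule.sub_mem _ hgq (Submodule.smul_mem _ _ ?_))
      (Submodule.smul_mem _ _ hu.2.1)
    exact Fl_mono pb (by omega) hv.2.1
  have h0 := hg s (by omega) _ hb hgw
  have hqe : q = a • v + b • u := by
    have : q - a • v - b • u = 0 := h0
    rw [sub_sub, sub_eq_zero] at this
    exact this
  refine ⟨a, b, hqe, ?_, ?_⟩
  · intro hq1 ha0
    apply hq1
    rw [hqe, ha0, zero_smul, zero_add]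
    exact Submodule.smul_mem _ _ hu.1
  · intro hq1 hb0
    apply hq1
    rw [hqe, hb0, zero_smul, add_zero, mul_smul_comm]
    apply Submodule.smul_mem
    have : pb.dim - s - 1 = pb.dim - (s + 1) := by omega
    rw [this]
    exact hv.2.1

variable (k) in
/-- vectors reachable from `(c, 0)` by the elementary moves -/
inductive Reach (α : L) : L → L → Prop
  | base (c : k) (hc : c ≠ 0) : Reach α (algebraMap k L c) 0
  | tx (a : k) {p r : L} : Reach α p r → Reach α (p + a • r) r
  | ty (a : k) {p r : L} : Reach α p r → Reach α p (r + a • (α * p))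
  | sc (d₁ d₂ : k) (h₁ : d₁ ≠ 0) (h₂ : d₂ ≠ 0) {p r : L} : Reach α p r → Reach α (d₁ • p) (d₂ • r)

theorem Reach.congr {α p r p' r' : L} (h : Reach k α p r) (hp : p = p') (hr : r = r') :
    Reach k α p' r' := by subst hp hr; exact h

/-- the chain of convergents -/
theorem chain {g : L} (hg : Gen pb g) :
    ∀ s, s < pb.dim → ∀ p p', IsConv pb g s p → IsConv pb (g * pb.gen) s p' →
      Reach k pb.gen p (pb.gen * p') := by
  have hc := hg.cc
  have hc' := hg.cc'
  intro s
  induction s with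
  | zero =>
    intro hs p p' hp hp'
    obtain ⟨c, rfl⟩ := mem_Fl_one pb (by simpa using hp.1)
    obtain ⟨c', rfl⟩ := mem_Fl_one pb (by simpa using hp'.1)
    have hc0 : c ≠ 0 := by
      rintro rfl; exact hp.2.2 (map_zero _)
    refine ((Reach.base c hc0).ty (c' / c)).congr rfl ?_
    rw [zero_add, Algebra.smul_def, map_div₀]
    have : (algebraMap k L) c ≠ 0 := by
      rw [Ne, map_eq_zero]; exact hc0
    field_simp
  | succ s ih =>
    intro hs p₁ p₁' hp₁ hp₁'
    obtain ⟨u, hu⟩ := exists_conv pb g (show s < pb.dim by omega)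
    obtain ⟨u', hu'⟩ := exists_conv pb (g * pb.gen) (show s < pb.dim by omega)
    have hR := ih (by omega) u u' hu hu'
    -- first contiguous relation
    have hq : pb.gen * u' ∈ Fl pb (s + 2) := mul_gen_mem pb hu'.1
    have hgq : g * (pb.gen * u') ∈ Fl pb (pb.dim - s) := by
      rw [← mul_assoc]; exact hu'.2.1
    obtain ⟨a, b, hqe, ha, hb⟩ := contig hc (by omega) hu hp₁ hq hgq
    have ha0 : a ≠ 0 :=
      ha (mul_gen_not_mem pb hu'.1 (by omega) (hu'.not_mem hc' (by omega)))
    have hb0 : b ≠ 0 := by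
      apply hb
      rw [← mul_assoc]
      exact hu'.mul_not_mem hc' (by omega)
    have hp₁e : p₁ = (-b / a) • u + (1 : k) • (a⁻¹ • (pb.gen * u')) := by
      have e2 : -b / a + a⁻¹ * b = 0 := by field_simp; ring
      rw [hqe, one_smul, smul_add, smul_smul, smul_smul, inv_mul_cancel₀ ha0, one_smul,
        add_left_comm, ← add_smul, e2, zero_smul, add_zero]
    have hR1 : Reach k pb.gen p₁ (pb.gen * u') := by
      have h1 := ((hR.sc (-b / a) a⁻¹ (div_ne_zero (neg_ne_zero.mpr hb0) ha0)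
        (inv_ne_zero ha0)).tx 1).sc 1 a one_ne_zero ha0
      refine h1.congr ?_ ?_
      · rw [one_smul, ← hp₁e]
      · rw [smul_smul, mul_inv_cancel₀ ha0, one_smul]
    -- second contiguous relation
    have hq2 : p₁ ∈ Fl pb (s + 2) := hp₁.1
    have hgq2 : g * pb.gen * p₁ ∈ Fl pb (pb.dim - s) := by
      have : g * pb.gen * p₁ = pb.gen * (g * p₁) := by ring
      rw [this]
      have h2 := mul_gen_mem pb hp₁.2.1
      have : pb.dim - (s + 1) + 1 = pb.dim - s := by omega
      rwa [this] at h2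
    obtain ⟨a', b', hqe', ha', hb'⟩ := contig hc' (by omega) hu' hp₁' hq2 hgq2
    have ha0' : a' ≠ 0 := ha' (hp₁.not_mem hc (by omega))
    have hb0' : b' ≠ 0 := by
      apply hb'
      have : g * pb.gen * p₁ = pb.gen * (g * p₁) := by ring
      rw [this]
      have h3 := hp₁.mul_not_mem hc hs
      have h4 : pb.dim - s - 1 = (pb.dim - (s + 1) - 1) + 1 := by omega
      rw [h4]
      exact mul_gen_not_mem pb hp₁.2.1 (by omega) h3
    have hR2 := (hR1.sc 1 (-b' / a') one_ne_zero
      (div_ne_zero (neg_ne_zero.mpr hb0') ha0')).ty a'⁻¹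
    refine hR2.congr (one_smul _ _) ?_
    rw [one_smul]
    have : pb.gen * p₁' = a'⁻¹ • (pb.gen * p₁) - (b' / a') • (pb.gen * u') := by
      rw [hqe', mul_add, mul_smul_comm, mul_smul_comm, smul_add, smul_smul, smul_smul,
        inv_mul_cancel₀ ha0', one_smul]
      have : a'⁻¹ * b' = b' / a' := by field_simp
      rw [this]; abel
    rw [this, neg_div, neg_smul]; abel

theorem final {g : L} (hg : Gen pb g) : ∃ c : k, c ≠ 0 ∧ Reach k pb.gen 0 (c • g⁻¹) := by
  have hc := hg.cc
  have hc' := hg.cc'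
  have hg0 : g ≠ 0 := hc.ne_zero
  have hgα0 : g * pb.gen ≠ 0 := hc'.ne_zero
  have hα0 : pb.gen ≠ 0 := right_ne_zero_of_mul hgα0
  have hpos := pb.dim_pos
  obtain ⟨p, hp⟩ := exists_conv pb g (show pb.dim - 1 < pb.dim by omega)
  obtain ⟨p', hp'⟩ := exists_conv pb (g * pb.gen) (show pb.dim - 1 < pb.dim by omega)
  have hR := chain hg (pb.dim - 1) (by omega) p p' hp hp'
  have h1 : pb.dim - (pb.dim - 1) = 1 := by omega
  obtain ⟨c, hce⟩ := mem_Fl_one pb (by simpa [h1] using hp.2.1)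
  obtain ⟨c', hce'⟩ := mem_Fl_one pb (by simpa [h1] using hp'.2.1)
  have hpe : p = c • g⁻¹ := by
    rw [Algebra.smul_def, ← hce]; field_simp
  have hpe' : pb.gen * p' = c' • g⁻¹ := by
    rw [Algebra.smul_def, ← hce']; field_simp
  have hc0' : c' ≠ 0 := by
    rintro rfl
    rw [map_zero] at hce'
    rcases mul_eq_zero.mp hce' with h | h
    · exact hgα0 h
    · exact hp'.2.2 h
  refine ⟨c', hc0', ?_⟩
  refine (hR.tx (-c / c')).congr ?_ hpe'
  rw [hpe, hpe', smul_smul, ← add_smul]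
  have : c + -c / c' * c' = 0 := by field_simp; ring
  rw [this, zero_smul]

end Cfsg.Agent.Lib.Helper38.Pade
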