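import Cfsg.Agent.Lib.Helper38.Pm_TR2

/-! # Pm hive (S4427), leaf PM-QRTR (helper38): `tr (v ↦ e_Q v e_R) = |G| / (|Q| |R|)` for coprime orders -/

set_option autoImplicit false

namespace Cfsg.Agent.Lib.Helper63.Pm

open Classical

variable {G : Type*} [Group G] [Fintype G]

theorem qrtr_coeff_avg (H : Subgroup G) (g : G) :
    (pmAvg H).coeff g = if g ∈ H then (Nat.card H : ℂ)⁻¹ else 0 := by
  unfold pmAvg
  rw [MonoidAlgebra.coeff_smul, MonoidAlgebra.coeff_sum]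
  simp only [Finsupp.smul_apply, Finsupp.coe_finsetSum, Finset.sum_apply, MonoidAlgebra.of_apply,
    MonoidAlgebra.coeff_single, Finsupp.single_apply, smul_eq_mul]
  rw [Finset.sum_ite_eq']
  simp

omit [Fintype G] in
theorem qrtr_eq_one (Q R : Subgroup G) (hcop : (Nat.card Q).Coprime (Nat.card R)) (x z : G)
    (hz : z ∈ Q) (hw : x⁻¹ * z⁻¹ * x ∈ R) : z = 1 := by
  have h1 : orderOf z ∣ Nat.card Q := Subgroup.orderOf_dvd_natCard Q hz
  have h2 : orderOf (x⁻¹ * z⁻¹ * x) ∣ Nat.card R := Subgroup.orderOf_dvd_natCard R hw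
  have h3 : orderOf (x⁻¹ * z⁻¹ * x) = orderOf z := by
    have hs : SemiconjBy x⁻¹ z⁻¹ (x⁻¹ * z⁻¹ * x) := by
      unfold SemiconjBy
      rw [mul_assoc, mul_assoc, mul_inv_cancel, mul_one]
    rw [← SemiconjBy.orderOf_eq x⁻¹ hs, orderOf_inv]
  rw [h3] at h2
  have h4 : orderOf z ∣ 1 := by
    have := Nat.dvd_gcd h1 h2
    rwa [hcop] at this
  exact orderOf_eq_one_iff.1 (Nat.dvd_one.1 h4)

/-- PM-QRTR. -/
theorem pm_qrtr (Q R : Subgroup G) (hcop : (Nat.card Q).Coprime (Nat.card R)) :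
    LinearMap.trace ℂ (MonoidAlgebra ℂ G) (pmProj (pmAvg Q) (pmAvg R)) =
      (Fintype.card G : ℂ) / ((Nat.card Q : ℂ) * (Nat.card R : ℂ)) := by
  rw [pm_tr2]
  have hin : ∀ x : G, ∑ z : G, (pmAvg Q).coeff z * (pmAvg R).coeff (x⁻¹ * z⁻¹ * x) =
      (Nat.card Q : ℂ)⁻¹ * (Nat.card R : ℂ)⁻¹ := by
    intro x
    rw [Finset.sum_eq_single (1 : G)]
    · rw [qrtr_coeff_avg, qrtr_coeff_avg, if_pos (one_mem Q), if_pos]
      simp
    · intro z _ hz1
      rw [qrtr_coeff_avg, qrtr_coeff_avg]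
      by_cases hzQ : z ∈ Q
      · by_cases hwR : x⁻¹ * z⁻¹ * x ∈ R
        · exact absurd (qrtr_eq_one Q R hcop x z hzQ hwR) hz1
        · rw [if_neg hwR, mul_zero]
      · rw [if_neg hzQ, zero_mul]
    · intro h
      exact absurd (Finset.mem_univ _) h
  simp_rw [hin]
  rw [Finset.sum_const, Finset.card_univ, nsmul_eq_mul, div_eq_mul_inv, mul_inv]

end Cfsg.Agent.Lib.Helper63.Pm
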