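import Cfsg.Agent.Lib.Helper63.PmDefs

/-! # Pm hive (S4427), leaf PM-TR2 (helper38): the trace of `v ↦ a v b` on the group algebra -/

set_option autoImplicit false

namespace Cfsg.Agent.Lib.Helper63.Pm

open Classical

variable {G : Type*} [Group G] [Fintype G]

theorem tr2_coeff_mul (a w : MonoidAlgebra ℂ G) (x : G) :
    (a * w).coeff x = ∑ z : G, a.coeff z * w.coeff (z⁻¹ * x) := by
  rw [MonoidAlgebra.coeff_mul_apply_left, Finsupp.sum_fintype]
  intro i
  simp

/-- PM-TR2. -/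
theorem pm_tr2 (a b : MonoidAlgebra ℂ G) :
    LinearMap.trace ℂ (MonoidAlgebra ℂ G) (pmProj a b) =
      ∑ x : G, ∑ z : G, a.coeff z * b.coeff (x⁻¹ * z⁻¹ * x) := by
  rw [LinearMap.trace_eq_matrix_trace ℂ (MonoidAlgebra.basis G ℂ), Matrix.trace]
  refine Finset.sum_congr rfl fun x _ => ?_
  rw [Matrix.diag_apply, LinearMap.toMatrix_apply, MonoidAlgebra.basis_apply, pmProj_apply]
  have h1 : ((MonoidAlgebra.basis G ℂ).repr (a * (MonoidAlgebra.single x 1 * b))) x =
      (a * (MonoidAlgebra.single x 1 * b)).coeff x := rfl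
  rw [h1, tr2_coeff_mul]
  refine Finset.sum_congr rfl fun z _ => ?_
  rw [MonoidAlgebra.coeff_single_mul_apply, one_mul, mul_assoc]

end Cfsg.Agent.Lib.Helper63.Pm
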