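import Cfsg.Agent.Lib.Helper85.RhC1A

/-! # Rh hive (helper38): RH-C1B `c1_conj` -/

set_option autoImplicit false

namespace Cfsg.Agent.Lib.Helper38.Rh

open Cfsg.Agent.Lib.Helper12.Rt
open scoped Pointwise

/-- the centraliser of a conjugate -/
theorem c1bb_cent_conj {G : Type*} [Group G] (g y : G) :
    Subgroup.centralizer ({g * y * g⁻¹} : Set G) =
      (Subgroup.centralizer ({y} : Set G)).map (MulAut.conj g).toMonoidHom := by
  ext x
  rw [Subgroup.mem_map_equiv, Subgroup.mem_centralizer_singleton_iff, Subgroup.mem_centralizer_singleton_iff,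
    MulAut.conj_symm_apply]
  constructor
  · intro h
    have : g⁻¹ * (x * (g * y * g⁻¹)) * g = g⁻¹ * ((g * y * g⁻¹) * x) * g := by rw [h]
    calc g⁻¹ * x * g * y = g⁻¹ * (x * (g * y * g⁻¹)) * g := by group
      _ = g⁻¹ * ((g * y * g⁻¹) * x) * g := this
      _ = y * (g⁻¹ * x * g) := by group
  · intro h
    calc x * (g * y * g⁻¹) = g * ((g⁻¹ * x * g) * y) * g⁻¹ := by group
      _ = g * (y * (g⁻¹ * x * g)) * g⁻¹ := by rw [h]
      _ = g * y * g⁻¹ * x := by group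

/-- a Sylow `p`-subgroup (non-trivial) is centralised by an element of order `p` of itself -/
theorem c1bb_central_elt {G : Type*} [Group G] [Finite G] (p : ℕ) [Fact p.Prime] (P : Sylow p G)
    (hne : ∃ x ∈ P, x ≠ 1) : ∃ z : G, z ∈ P ∧ orderOf z = p ∧ ∀ x ∈ P, z * x = x * z := by
  have hP : IsPGroup p (P : Subgroup G) := P.isPGroup'
  have : Nontrivial (P : Subgroup G) := by
    obtain ⟨x, hx, hx1⟩ := hne
    exact ⟨⟨⟨x, hx⟩, 1, fun h => hx1 (congrArg Subtype.val h)⟩⟩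
  have := hP.center_nontrivial
  have hZ : IsPGroup p (Subgroup.center (P : Subgroup G)) := hP.to_subgroup _
  have hdvd : p ∣ Nat.card (Subgroup.center (P : Subgroup G)) := by
    rcases hZ.card_eq_or_dvd with h | h
    · exfalso
      have := Finite.one_lt_card (α := Subgroup.center (P : Subgroup G))
      omega
    · exact h
  obtain ⟨z, hz⟩ := exists_prime_orderOf_dvd_card' p hdvd
  refine ⟨((z : (P : Subgroup G)) : G), (z : (P : Subgroup G)).2, ?_, ?_⟩
  · rw [Subgroup.orderOf_coe, Subgroup.orderOf_coe]; exact hz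
  · intro x hx
    have := Subgroup.mem_center_iff.mp z.2 ⟨x, hx⟩
    have h2 := congrArg Subtype.val this
    simpa using h2.symm

section partB
variable {K : Type*} [Field K] [Fintype K] {G : Type*} [Group G] {m : ℕ} (D : RtData K G m)

include D

/-- RH-C1B -/
theorem c1_conj {C₁ C₂ : Subgroup G} (h1 : IsC1 m C₁) (h2 : IsC1 m C₂) :
    ∃ g : G, C₂ = C₁.map (MulAut.conj g).toMonoidHom := by
  have hfin : Finite G := D.finite
  obtain ⟨hcard₁, -, hcent₁⟩ := c1_basic D h1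
  obtain ⟨y₂, ℓ, hℓ, hℓ2, hℓq, hoy₂, rfl⟩ := h2
  have : Fact ℓ.Prime := ⟨hℓ⟩
  have hoddℓ : Odd ℓ := hℓ.odd_of_ne_two hℓ2
  -- an element `y'` of order `ℓ` of `C₁`
  obtain ⟨y', hy'⟩ := exists_prime_orderOf_dvd_card' (G := ↥C₁) ℓ (by rw [hcard₁]; exact hℓq)
  have hoy' : orderOf (y' : G) = ℓ := by rw [Subgroup.orderOf_coe]; exact hy'
  have hy'1 : (y' : G) ≠ 1 := by
    intro h
    rw [h, orderOf_one] at hoy'
    exact hℓ.one_lt.ne hoy'
  have hC₁ : Subgroup.centralizer ({(y' : G)} : Set G) = C₁ :=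
    hcent₁ _ y'.2 hy'1 (by rw [hoy']; exact hoddℓ)
  -- Sylow subgroups
  have hpg : ∀ y : G, orderOf y = ℓ → IsPGroup ℓ (Subgroup.zpowers y) := by
    intro y hy
    apply IsPGroup.of_card (n := 1)
    rw [Nat.card_zpowers, hy, pow_one]
  obtain ⟨P, hP⟩ := (hpg y₂ hoy₂).exists_le_sylow
  obtain ⟨Q, hQ⟩ := (hpg _ hoy').exists_le_sylow
  obtain ⟨g, hg⟩ := MulAction.exists_smul_eq G Q P
  have hy₂P : y₂ ∈ P := hP (Subgroup.mem_zpowers y₂)
  have hy''P : g * (y' : G) * g⁻¹ ∈ P := by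
    have h3 : (y' : G) ∈ (Q : Subgroup G) := hQ (Subgroup.mem_zpowers _)
    have h4 : MulAut.conj g • (y' : G) ∈ MulAut.conj g • (Q : Subgroup G) :=
      Subgroup.smul_mem_pointwise_smul _ _ _ h3
    rw [← Sylow.coe_subgroup_smul, hg] at h4
    have h5 : g * (y' : G) * g⁻¹ ∈ (P : Subgroup G) := by simpa [MulAut.smul_def] using h4
    exact h5
  have hy₂1 : y₂ ≠ 1 := by
    intro h
    rw [h, orderOf_one] at hoy₂
    exact hℓ.one_lt.ne hoy₂
  obtain ⟨z, -, hoz, hzP⟩ := c1bb_central_elt ℓ P ⟨y₂, hy₂P, hy₂1⟩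
  have hCz : IsC1 m (Subgroup.centralizer ({z} : Set G)) := ⟨z, ℓ, hℓ, hℓ2, hℓq, hoz, rfl⟩
  obtain ⟨-, -, hcentz⟩ := c1_basic D hCz
  have e1 : Subgroup.centralizer ({y₂} : Set G) = Subgroup.centralizer ({z} : Set G) := by
    apply hcentz y₂ _ hy₂1 (by rw [hoy₂]; exact hoddℓ)
    rw [Subgroup.mem_centralizer_singleton_iff]
    exact (hzP y₂ hy₂P).symm
  have hoy'' : orderOf (g * (y' : G) * g⁻¹) = ℓ := by
    rw [← hoy']
    have : g * (y' : G) * g⁻¹ = MulAut.conj g (y' : G) := by simp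
    rw [this, MulEquiv.orderOf_eq]
  have hy''1 : g * (y' : G) * g⁻¹ ≠ 1 := by
    intro h
    rw [h, orderOf_one] at hoy''
    exact hℓ.one_lt.ne hoy''
  have e2 : Subgroup.centralizer ({g * (y' : G) * g⁻¹} : Set G) = Subgroup.centralizer ({z} : Set G) := by
    apply hcentz _ _ hy''1 (by rw [hoy'']; exact hoddℓ)
    rw [Subgroup.mem_centralizer_singleton_iff]
    exact (hzP _ hy''P).symm
  refine ⟨g, ?_⟩
  rw [e1, ← e2, c1bb_cent_conj, hC₁]

end partB

end Cfsg.Agent.Lib.Helper38.Rh
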