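import Cfsg.Agent.Lib.Helper85.RhC1A
import Cfsg.Agent.Lib.Helper8.RhAR6

/-! # Rh hive (helper38): RH-C1V `c1_sq` (landed by the hive owner) -/

set_option autoImplicit false

namespace Cfsg.Agent.Lib.Helper38.Rh

open Cfsg.Agent.Lib.Helper12.Rt

/-- abstract core: an abelian group of order `4 k`, `k` odd, without elements of order `4`, has exactly `4`
elements with `g² = 1` -/
theorem c1vb_main {H : Type*} [Group H] [Finite H] (hcomm : ∀ x y : H, x * y = y * x) (k : ℕ) (hk : Odd k)
    (hcard : Nat.card H = 4 * k) (h4 : ∀ x : H, orderOf x ≠ 4) :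
    Nat.card {g : H // g * g = 1} = 4 := by
  classical
  have : Fact (Nat.Prime 2) := ⟨Nat.prime_two⟩
  -- the subgroup of elements with `g² = 1`
  let E : Subgroup H :=
    { carrier := {g | g * g = 1}
      one_mem' := by simp
      mul_mem' := by
        intro a b ha hb
        simp only [Set.mem_ofPred_eq] at ha hb ⊢
        calc a * b * (a * b) = a * (b * a) * b := by group
          _ = a * (a * b) * b := by rw [hcomm b a]
          _ = (a * a) * (b * b) := by group
          _ = 1 := by rw [ha, hb, one_mul]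
      inv_mem' := by
        intro a ha
        simp only [Set.mem_ofPred_eq] at ha ⊢
        have : a⁻¹ = a := by
          rw [inv_eq_iff_mul_eq_one]; exact ha
        rw [this]; exact ha }
  have hE : IsPGroup 2 E := by
    intro g
    refine ⟨1, ?_⟩
    have := g.2
    apply Subtype.ext
    simp only [pow_one, Subgroup.coe_pow, Subgroup.coe_one]
    rw [pow_two]; exact this
  obtain ⟨P⟩ : Nonempty (Sylow 2 H) := inferInstance
  have hPcard : Nat.card P = 4 := by
    rw [Sylow.card_eq_multiplicity, hcard]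
    have hk0 : k ≠ 0 := by rintro rfl; simp at hk
    rw [Nat.factorization_mul (by norm_num) hk0]
    have h4' : (4 : ℕ) = 2 ^ 2 := by norm_num
    have hk2 : k.factorization 2 = 0 := by
      apply Nat.factorization_eq_zero_of_not_dvd
      intro h2k
      exact (Nat.not_even_iff_odd.mpr hk) (even_iff_two_dvd.mpr h2k)
    rw [Finsupp.add_apply, hk2, h4', Nat.factorization_pow, Nat.prime_two.factorization]
    simp
  have hPE : (P : Subgroup H) ≤ E := by
    intro g hg
    show g * g = 1
    have h1 : orderOf (⟨g, hg⟩ : (P : Subgroup H)) ∣ Nat.card (P : Subgroup H) := orderOf_dvd_natCard _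
    rw [Subgroup.orderOf_mk, hPcard] at h1
    have h2 : orderOf g ≤ 4 := Nat.le_of_dvd (by norm_num) h1
    have h3 := h4 g
    have h5 : orderOf g = 1 ∨ orderOf g = 2 := by
      interval_cases h : orderOf g
      · simp at h1
      · left; rfl
      · right; rfl
      · norm_num at h1
      · exact absurd rfl h3
    rw [← pow_two]
    rcases h5 with h5 | h5
    · rw [orderOf_eq_one_iff] at h5; rw [h5]; simp
    · rw [← h5]; exact pow_orderOf_eq_one g
  have hEP : E = P := P.is_maximal' hE hPE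
  have : Nat.card {g : H // g * g = 1} = Nat.card E := rfl
  rw [this, hEP, hPcard]

/-- an element whose order divides `4 k`, `k` odd, is not `4`, and which is not of order `≤ 2`, has order divisible by an odd
prime divisor of `4 k` -/
theorem c1vb_odd_prime (n k : ℕ) (hk : Odd k) (hn : n ∣ 4 * k) (hn4 : n ≠ 4) (hn1 : n ≠ 1) (hn2 : n ≠ 2) :
    ∃ ℓ : ℕ, ℓ.Prime ∧ ℓ ≠ 2 ∧ ℓ ∣ 4 * k ∧ ℓ ∣ n := by
  have hk0 : k ≠ 0 := by rintro rfl; simp at hk
  have hn0 : n ≠ 0 := by
    rintro rfl
    rw [zero_dvd_iff] at hn; omega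
  obtain ⟨a, b, hb, rfl⟩ := Nat.exists_eq_two_pow_mul_odd hn0
  by_cases hb1 : b = 1
  · subst hb1
    exfalso
    rw [mul_one] at hn hn4 hn1 hn2
    have hcop : Nat.Coprime (2 ^ a) k := by
      apply Nat.Coprime.pow_left
      rw [Nat.coprime_two_left]; exact hk
    have h4 : 2 ^ a ∣ 4 := hcop.dvd_of_dvd_mul_right hn
    have ha : a ≤ 2 := by
      have : 2 ^ a ∣ 2 ^ 2 := by simpa using h4
      exact (Nat.pow_dvd_pow_iff_le_right (by norm_num)).mp this
    interval_cases a <;> simp_all
  · obtain ⟨ℓ, hℓ, hℓb⟩ := Nat.exists_prime_and_dvd hb1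
    refine ⟨ℓ, hℓ, ?_, ?_, ?_⟩
    · rintro rfl
      exact (Nat.not_even_iff_odd.mpr hb) (even_iff_two_dvd.mpr hℓb)
    · exact (hℓb.trans (Dvd.intro_left _ rfl)).trans hn
    · exact hℓb.trans (Dvd.intro_left _ rfl)

section partB
variable {K : Type*} [Field K] [Fintype K] {G : Type*} [Group G] {m : ℕ} (D : RtData K G m)

include D

/-- RH-C1V -/
theorem c1_sq {C : Subgroup G} (hm : 1 ≤ m) (hC : IsC1 m C) :
    Nat.card {g : G // g ∈ C ∧ g * g = 1} = 4 ∧ ∀ g ∈ C, g * g ≠ 1 → g ∈ Zset G m := by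
  have hfin : Finite G := D.finite
  obtain ⟨hcard, hcomm, -⟩ := c1_basic D hC
  obtain ⟨⟨k₁, hk₁, hodd, -⟩, -⟩ := q_add_one m hm
  constructor
  · have hmain := c1vb_main (H := ↥C)
      (fun x y => Subtype.ext (hcomm x.1 x.2 y.1 y.2)) k₁ hodd (by rw [hcard, hk₁])
      (fun x => by
        have := D.orderOf_ne_four (x : G)
        rwa [Subgroup.orderOf_coe] at this)
    rw [← hmain]
    refine Nat.card_congr
      { toFun := fun g => ⟨⟨g.1, g.2.1⟩, Subtype.ext g.2.2⟩
        invFun := fun g => ⟨g.1.1, g.1.2, by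
          have := congrArg Subtype.val g.2
          simpa using this⟩
        left_inv := fun g => rfl
        right_inv := fun g => rfl }
  · intro g hg hgg
    have h1 : orderOf g ∣ 4 * k₁ := by
      have h1 : orderOf (⟨g, hg⟩ : ↥C) ∣ Nat.card ↥C := orderOf_dvd_natCard _
      rwa [Subgroup.orderOf_mk, hcard, hk₁] at h1
    have hn1 : orderOf g ≠ 1 := by
      intro h
      rw [orderOf_eq_one_iff] at h
      apply hgg; rw [h, one_mul]
    have hn2 : orderOf g ≠ 2 := by
      intro h
      apply hgg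
      rw [← pow_two, ← h]; exact pow_orderOf_eq_one g
    obtain ⟨ℓ, hℓ, hℓ2, hℓq, hℓg⟩ := c1vb_odd_prime (orderOf g) k₁ hodd h1 (D.orderOf_ne_four g) hn1 hn2
    exact ⟨ℓ, hℓ, hℓ2, by rw [hk₁]; exact hℓq, hℓg⟩

end partB

end Cfsg.Agent.Lib.Helper38.Rh
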