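import Cfsg.Agent.Lib.Helper85.RhZCNTcore
import Cfsg.Agent.Lib.Helper85.RhC1A
import Cfsg.Agent.Lib.Helper38.RhC1B
import Cfsg.Agent.Lib.Helper38.RhC1V

/-! # Rh hive (helper38): RH-ZCNT `card_Zset` (wrapper of helper85's `zcnt_core`) -/

set_option autoImplicit false

namespace Cfsg.Agent.Lib.Helper38.Rh

open Cfsg.Agent.Lib.Helper12.Rt

section partB
variable {K : Type*} [Field K] [Fintype K] {G : Type*} [Group G] {m : ℕ} (D : RtData K G m)

include D

/-- RH-ZCNT -/
theorem card_Zset (hm : 1 ≤ m) {C : Subgroup G} (hC : IsC1 m C) :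
    Nat.card ↥(Zset G m) * Nat.card ↥(Subgroup.normalizer (C : Set G)) = Nat.card G * (qq m - 3) := by
  have := D.finite
  exact zcnt_core hC (fun _ hC' => c1_basic D hC') (fun _ _ h1 h2 => c1_conj D h1 h2)
    (fun _ hC' => c1_sq D hm hC')

end partB

end Cfsg.Agent.Lib.Helper38.Rh
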