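import Cfsg.Agent.Lib.Helper68.RhCNT2core
import Cfsg.Agent.Lib.Helper35.RhDER
import Cfsg.Agent.Lib.Helper51.RhDEC
import Cfsg.Agent.Lib.Helper38.RhZCNT

/-! # Rh hive (helper38): RH-CNT2 `count_eq` (wrapper of helper68's `cnt2_core`) -/

set_option autoImplicit false

namespace Cfsg.Agent.Lib.Helper38.Rh

open Cfsg.Agent.Lib.Helper12.Rt

section partB
variable {K : Type*} [Field K] [Fintype K] {G : Type*} [Group G] {m : ℕ} (D : RtData K G m)

include D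

/-- RH-CNT2 -/
theorem count_eq (hm : 1 ≤ m) (h : TorusHyp G (NN m)) {C : Subgroup G} (hC : IsC1 m C) (w₁ : ℕ)
    (hw : Nat.card ↥(Subgroup.normalizer (C : Set G)) = w₁ * (qq m + 1)) :
    (Nat.card {y : G // y ≠ 1 ∧ orderOf y ∣ NN m} : ℚ) +
      (gg m : ℚ) * ((qq m : ℚ) - 3) / ((w₁ : ℚ) * ((qq m : ℚ) + 1)) = (gg m : ℚ) * EE m :=
  cnt2_core D hm (card_derangements D hm) (fixN_eq_zero_iff D hm h) (not_mem_Zset_of_dvd D hm)
    (card_Zset D hm hC) w₁ hw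

end partB

end Cfsg.Agent.Lib.Helper38.Rh
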