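import Cfsg.Agent.Lib.Helper12.RtNonsplitD
import Cfsg.Agent.Lib.Helper38.RhDefs

/-! # Rh hive (helper38), part B: definitions over helper12's `RtData K G m` -/

set_option autoImplicit false

namespace Cfsg.Agent.Lib.Helper38.Rh

open Cfsg.Agent.Lib.Helper12.Rt

variable {K : Type*} [Field K] [Fintype K] {G : Type*} [Group G] {m : ℕ}

/-- the number of fixed points of `g` on the `q³ + 1` points `G / B` -/
noncomputable def fixN (D : RtData K G m) (g : G) : ℕ := Nat.card {c : G ⧸ D.R.B // g • c = c}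

/-- a `(q+1)`-torus: the centraliser of an element of odd prime order `ℓ ∣ q + 1` -/
def IsC1 (m : ℕ) (C : Subgroup G) : Prop :=
  ∃ (y : G) (ℓ : ℕ), ℓ.Prime ∧ ℓ ≠ 2 ∧ ℓ ∣ qq m + 1 ∧ orderOf y = ℓ ∧ C = Subgroup.centralizer ({y} : Set G)

/-- the elements whose order is divisible by an odd prime divisor of `q + 1` -/
def Zset (G : Type*) [Group G] (m : ℕ) : Set G :=
  {g : G | ∃ ℓ : ℕ, ℓ.Prime ∧ ℓ ≠ 2 ∧ ℓ ∣ qq m + 1 ∧ ℓ ∣ orderOf g}

end Cfsg.Agent.Lib.Helper38.Rh
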