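import Cfsg.Agent.Lib.Helper24.RhC1EX
import Cfsg.Agent.Lib.Helper46.RhK1N
import Cfsg.Agent.Lib.Helper38.RhCNT2
import Cfsg.Agent.Lib.Helper55.RhMAIN
import Cfsg.Agent.Lib.Helper38.RhC1B

/-! # Rh hive (helper38): RH-FINAL — the Hall tori of a group with `RtData`, given `TorusHyp` -/

set_option autoImplicit false

namespace Cfsg.Agent.Lib.Helper38.Rh

open Cfsg.Agent.Lib.Helper12.Rt

theorem final_card_normalizer_map {G : Type*} [Group G] (C : Subgroup G) (g : G) :
    Nat.card ↥(Subgroup.normalizer ((C.map (MulAut.conj g).toMonoidHom : Subgroup G) : Set G)) =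
      Nat.card ↥(Subgroup.normalizer (C : Set G)) := by
  have h := Subgroup.map_equiv_normalizer_eq C (MulAut.conj g)
  rw [← h]
  exact (Nat.card_congr ((MulAut.conj g).subgroupMap (Subgroup.normalizer (C : Set G))).toEquiv).symm

variable {K : Type*} [Field K] [Fintype K] {G : Type*} [Group G] {m : ℕ} (D : RtData K G m)

include D in
/-- RH-FINAL. -/
theorem hall_tori (hm : 1 ≤ m) (h : TorusHyp G (NN m)) :
    (∀ C : Subgroup G, IsC1 m C → Nat.card ↥(Subgroup.normalizer (C : Set G)) = 6 * (qq m + 1)) ∧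
    ∀ k ∈ ({qq m + rr m + 1, qq m - rr m + 1} : Set ℕ), ∃ A : Subgroup G, IsCyclic ↥A ∧ Nat.card ↥A = k ∧
      Nat.card ↥(Subgroup.normalizer (A : Set G)) = 6 * k ∧
      ∀ A₀ : Subgroup G, A₀ ≤ A → A₀ ≠ ⊥ →
        Subgroup.normalizer (A₀ : Set G) = Subgroup.normalizer (A : Set G) := by
  haveI := D.finite
  obtain ⟨C, hC⟩ := exists_C1 D hm
  obtain ⟨w₁, hw₁, hN⟩ := c1_card_normalizer D hm hC
  have hcount := count_eq D hm h hC w₁ hN
  have hcard : Nat.card G = gg m := by rw [D.card_G]; rfl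
  obtain ⟨h6, hA⟩ := exists_hall_tori m hm hcard h w₁ hw₁ hcount
  refine ⟨?_, hA⟩
  intro C' hC'
  obtain ⟨g, hg⟩ := c1_conj D hC hC'
  rw [hg, final_card_normalizer_map, hN, h6]

end Cfsg.Agent.Lib.Helper38.Rh
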