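import Cfsg.Agent.Lib.Helper38.RhDefsB
import Cfsg.Agent.Lib.Helper8.RhAR6
import Cfsg.Agent.S2429

/-! # Rh hive (helper38): RH-K1EX `exists_cyclic_k1` -/

set_option autoImplicit false

namespace Cfsg.Agent.Lib.Helper38.Rh

open Cfsg.Agent.Lib.Helper12.Rt Cfsg.Agent.Lib.Helper12.ReeInv Matrix

section partB
variable {K : Type*} [Field K] [Fintype K] {G : Type*} [Group G] {m : ℕ} (D : RtData K G m)

include D

/-- RH-K1EX -/
theorem exists_cyclic_k1 (hm : 1 ≤ m) : ∃ A : Subgroup G, IsCyclic ↥A ∧ Nat.card ↥A = (qq m + 1) / 4 := by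
  have hfin : Finite G := D.finite
  have hchar := Cfsg.Agent.Lib.Helper12.ReeOut.fact_charP D.R.hK
  obtain ⟨⟨k₁, hk₁, hodd, -⟩, -⟩ := q_add_one m hm
  obtain ⟨T', hcyc, hcard, -⟩ := Cfsg.Agent.S2429.result D.odd_K (F := K)
  obtain ⟨g, hg⟩ := hcyc.exists_generator
  have hog : orderOf g = qq m + 1 := by
    rw [orderOf_eq_card_of_forall_mem_zpowers hg, hcard, D.R.hK]; rfl
  have hog' : orderOf (g : SpecialLinearGroup (Fin 2) K) = 4 * k₁ := by
    rw [Subgroup.orderOf_coe, hog, hk₁]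
  set z : SpecialLinearGroup (Fin 2) K := (g : SpecialLinearGroup (Fin 2) K) ^ 4 with hz
  have hoz : orderOf z = k₁ := by
    rw [hz, orderOf_pow_of_dvd (by norm_num) (by rw [hog']; exact Dvd.intro _ rfl), hog']
    simp
  have hk4 : (qq m + 1) / 4 = k₁ := by rw [hk₁]; simp
  refine ⟨Subgroup.zpowers (D.I.φ z), inferInstance, ?_⟩
  rw [Nat.card_zpowers, hk4, ← hoz]
  apply Nat.dvd_antisymm (orderOf_map_dvd _ _)
  -- `orderOf z ∣ orderOf (φ z)`
  set k := orderOf (D.I.φ z) with hk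
  have h1 : D.I.φ (z ^ k) = 1 := by rw [map_pow, hk]; exact pow_orderOf_eq_one _
  rw [D.I.hker] at h1
  have h2 : z ^ (2 * k) = 1 := by
    rcases InvData.center_cases _ h1 with h | h
    · rw [mul_comm, pow_mul, h, one_pow]
    · rw [mul_comm, pow_mul, h, pow_two]; exact negI_sq
  have h3 : orderOf z ∣ 2 * k := orderOf_dvd_of_pow_eq_one h2
  have hcop : Nat.Coprime (orderOf z) 2 := by
    rw [hoz, Nat.coprime_two_right]; exact hodd
  exact hcop.dvd_of_dvd_mul_left h3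

end partB

end Cfsg.Agent.Lib.Helper38.Rh
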