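import Cfsg.Agent.Lib.Helper38.RhFINAL
import Cfsg.Agent.Lib.Helper2.RhK0
import Cfsg.Agent.Lib.Helper88.RhK1

/-! # Rh hive (helper38): the statement of S1158 for a group with `RtData` and `TorusHyp` -/

set_option autoImplicit false

namespace Cfsg.Agent.Lib.Helper38.Rh

open Cfsg.Agent.Lib.Helper12.Rt

variable {K : Type*} [Field K] [Fintype K] {G : Type*} [Group G] {m : ℕ} (D : RtData K G m)

include D in
/-- S1158 for an abstract group with `RtData` and `TorusHyp`. -/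
theorem s1158_abs (hm : 1 ≤ m) (h : TorusHyp G (NN m)) :
    ∀ kn ∈ ({((3 ^ (2 * m + 1) - 1) / 2, 2 * (3 ^ (2 * m + 1) - 1)), ((3 ^ (2 * m + 1) + 1) / 4, 6 * (3 ^ (2 * m + 1) + 1)),
        (3 ^ (2 * m + 1) - 3 ^ (m + 1) + 1, 6 * (3 ^ (2 * m + 1) - 3 ^ (m + 1) + 1)),
        (3 ^ (2 * m + 1) + 3 ^ (m + 1) + 1, 6 * (3 ^ (2 * m + 1) + 3 ^ (m + 1) + 1))} : Set (ℕ × ℕ)),
      ∃ A : Subgroup G, IsCyclic A ∧ Nat.card A = kn.1 ∧
        Nat.card (Subgroup.normalizer (A : Set G)) = kn.2 ∧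
        ∀ A₀ : Subgroup G, A₀ ≤ A → A₀ ≠ ⊥ →
          Subgroup.normalizer (A₀ : Set G) = Subgroup.normalizer (A : Set G) := by
  obtain ⟨h6, hA⟩ := hall_tori D hm h
  intro kn hkn
  simp only [Set.mem_insert_iff, Set.mem_singleton_iff] at hkn
  rcases hkn with rfl | rfl | rfl | rfl
  · exact hall_k0 D hm
  · exact hall_k1 D hm h6
  · exact hA (qq m - rr m + 1) (by right; rfl)
  · exact hA (qq m + rr m + 1) (by left; rfl)

end Cfsg.Agent.Lib.Helper38.Rh
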