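import Mathlib

set_option autoImplicit false

namespace Cfsg.Agent.Lib.Helper38

open Matrix

variable {F : Type*} [Field F]

/-- Build an `SL₂` element from its entries. -/
def mk2 (x y z w : F) (h : x * w - y * z = 1) : Matrix.SpecialLinearGroup (Fin 2) F :=
  ⟨!![x, y; z, w], by rw [Matrix.det_fin_two_of]; exact h⟩

@[simp] theorem mk2_00 (x y z w : F) (h : x * w - y * z = 1) : (mk2 x y z w h).1 0 0 = x := rfl
@[simp] theorem mk2_01 (x y z w : F) (h : x * w - y * z = 1) : (mk2 x y z w h).1 0 1 = y := rfl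
@[simp] theorem mk2_10 (x y z w : F) (h : x * w - y * z = 1) : (mk2 x y z w h).1 1 0 = z := rfl
@[simp] theorem mk2_11 (x y z w : F) (h : x * w - y * z = 1) : (mk2 x y z w h).1 1 1 = w := rfl

theorem sl2_ext (g h : Matrix.SpecialLinearGroup (Fin 2) F)
    (h00 : g.1 0 0 = h.1 0 0) (h01 : g.1 0 1 = h.1 0 1) (h10 : g.1 1 0 = h.1 1 0)
    (h11 : g.1 1 1 = h.1 1 1) : g = h := by
  apply Subtype.ext
  ext i j
  fin_cases i <;> fin_cases j <;> assumption

theorem sl2_det (g : Matrix.SpecialLinearGroup (Fin 2) F) :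
    g.1 0 0 * g.1 1 1 - g.1 0 1 * g.1 1 0 = 1 := by
  have := g.2
  rwa [Matrix.det_fin_two] at this

theorem sl2_mul_apply (g h : Matrix.SpecialLinearGroup (Fin 2) F) (i j : Fin 2) :
    (g * h).1 i j = g.1 i 0 * h.1 0 j + g.1 i 1 * h.1 1 j := by
  rw [Matrix.SpecialLinearGroup.coe_mul, Matrix.mul_apply, Fin.sum_univ_two]

theorem sl2_one_00 : (1 : Matrix.SpecialLinearGroup (Fin 2) F).1 0 0 = 1 := by simp
theorem sl2_one_01 : (1 : Matrix.SpecialLinearGroup (Fin 2) F).1 0 1 = 0 := by simp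
theorem sl2_one_10 : (1 : Matrix.SpecialLinearGroup (Fin 2) F).1 1 0 = 0 := by simp
theorem sl2_one_11 : (1 : Matrix.SpecialLinearGroup (Fin 2) F).1 1 1 = 1 := by simp

/-- `k * u * k⁻¹ = g` from `k * u = g * k`. -/
theorem isConj_of_semiconj {G : Type*} [Group G] (u g k : G) (h : k * u = g * k) : IsConj u g := by
  rw [isConj_iff]
  exact ⟨k, by rw [h, mul_inv_cancel_right]⟩

end Cfsg.Agent.Lib.Helper38
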