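import Mathlib
import Cfsg.Prelude.Def_ParabolicCharacters
import Cfsg.Agent.Lib.Helper38.SL2
import Cfsg.Agent.Lib.Helper38.SLCard
import Cfsg.Agent.Lib.Helper38.GL2Lines
import Cfsg.Agent.Lib.Helper38.Mackey

set_option autoImplicit false
set_option linter.unusedSimpArgs false

/-!
The Borel subgroup of `SL₂(F)`, its parametrisation by `Fˣ × F`, the Bruhat decomposition, and the
inner products of principal series functions.
-/

namespace Cfsg.Agent.Lib.Helper38

open Matrix Cfsg Cfsg.Agent.Lib.Helper25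
open scoped ComplexConjugate

variable {F : Type*} [Field F]

/-- The upper triangular subgroup of `SL₂(F)`. -/
abbrev borelSL (F : Type*) [Field F] : Subgroup (Matrix.SpecialLinearGroup (Fin 2) F) :=
  (Cfsg.upperTriangularGL 2 F).comap Matrix.SpecialLinearGroup.toGL

theorem mem_borelSL (g : Matrix.SpecialLinearGroup (Fin 2) F) :
    g ∈ borelSL F ↔ g.1 1 0 = 0 := by
  rw [Subgroup.mem_comap, mem_upperTriangularGL_two]
  rfl

theorem borelSL_diag (b : borelSL F) : b.1.1 0 0 * b.1.1 1 1 = 1 := by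
  have h := sl2_det b.1
  have h0 := (mem_borelSL b.1).mp b.2
  rw [h0, mul_zero, sub_zero] at h
  exact h

theorem borelSL_00_ne_zero (b : borelSL F) : b.1.1 0 0 ≠ 0 :=
  left_ne_zero_of_mul_eq_one (borelSL_diag b)

theorem borelSL_11 (b : borelSL F) : b.1.1 1 1 = (b.1.1 0 0)⁻¹ :=
  eq_inv_of_mul_eq_one_right (borelSL_diag b)

/-- The Weyl element of `SL₂`. -/
def weylSL (F : Type*) [Field F] : Matrix.SpecialLinearGroup (Fin 2) F :=
  mk2 0 (-1) 1 0 (by ring)

/-- upper triangular element of `SL₂` with given diagonal entry and upper right entry. -/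
def borelMk (t : Fˣ) (x : F) : borelSL F :=
  ⟨mk2 (t : F) x 0 ((t : F)⁻¹) (by simp), by rw [mem_borelSL]; rfl⟩

/-- `B ≃ Fˣ × F`. -/
def borelSLEquiv : borelSL F ≃ Fˣ × F where
  toFun b := (Units.mk0 (b.1.1 0 0) (borelSL_00_ne_zero b), b.1.1 0 1)
  invFun p := borelMk p.1 p.2
  left_inv b := by
    apply Subtype.ext
    apply sl2_ext
    · rfl
    · rfl
    · exact ((mem_borelSL b.1).mp b.2).symm
    · exact (borelSL_11 b).symm
  right_inv p := by
    apply Prod.ext
    · apply Units.ext; rfl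
    · rfl

noncomputable instance instFintypeBorelSL [Fintype F] [DecidableEq F] : Fintype (borelSL F) :=
  Fintype.ofEquiv _ (borelSLEquiv (F := F)).symm

theorem card_borelSL [Fintype F] :
    Nat.card (borelSL F) = Fintype.card F * (Fintype.card F - 1) := by
  rw [Nat.card_congr (borelSLEquiv (F := F)), Nat.card_prod, Nat.card_units,
    Nat.card_eq_fintype_card, mul_comm]

/-- Bruhat decomposition of `SL₂`. -/
theorem bruhat_SL (y : Matrix.SpecialLinearGroup (Fin 2) F) (hy : y ∉ borelSL F) :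
    ∃ b₁ b₂ : borelSL F, y = (b₁ : Matrix.SpecialLinearGroup (Fin 2) F) * weylSL F * b₂ := by
  rw [mem_borelSL] at hy
  have hdet := sl2_det y
  refine ⟨⟨mk2 1 (y.1 0 0 / y.1 1 0) 0 1 (by ring), by rw [mem_borelSL]; rfl⟩,
    ⟨mk2 (y.1 1 0) (y.1 1 1) 0 ((y.1 1 0)⁻¹) (by rw [mul_zero, sub_zero, mul_inv_cancel₀ hy]),
      by rw [mem_borelSL]; rfl⟩, ?_⟩
  apply sl2_ext
  · simp only [sl2_mul_apply, weylSL, mk2_00, mk2_01, mk2_10, mk2_11]
    field_simp
    ring
  · simp only [sl2_mul_apply, weylSL, mk2_00, mk2_01, mk2_10, mk2_11]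
    field_simp
    linear_combination (-(y.1 1 0)) * hdet
  · simp only [sl2_mul_apply, weylSL, mk2_00, mk2_01, mk2_10, mk2_11]
    ring
  · simp only [sl2_mul_apply, weylSL, mk2_00, mk2_01, mk2_10, mk2_11]
    ring

/-! ### multiplicative functions are class functions -/

theorem isClassFunction_of_mul {H : Type*} [Group H] (f : H → ℂ)
    (hmul : ∀ a b, f (a * b) = f a * f b) (h1 : f 1 = 1) : IsClassFunction H f := by
  intro g h
  rw [hmul, hmul, mul_comm (f h), mul_assoc, ← hmul, mul_inv_cancel, h1, mul_one]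

/-! ### sums of multiplicative characters over the units -/

theorem sum_units_eq_sum [Fintype F] [DecidableEq F] (f : F → ℂ) (h0 : f 0 = 0) :
    ∑ t : Fˣ, f (t : F) = ∑ a : F, f a := by
  rw [← Finset.sum_subset (Finset.subset_univ (Finset.univ.image (fun t : Fˣ => (t : F))))]
  · rw [Finset.sum_image]
    intro a _ b _ h
    exact Units.ext h
  · intro a _ ha
    have : a = 0 := by
      by_contra h
      apply ha
      rw [Finset.mem_image]
      exact ⟨Units.mk0 a h, Finset.mem_univ _, rfl⟩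
    rw [this, h0]

theorem sum_units_mulChar [Fintype F] [DecidableEq F] (χ : MulChar F ℂ) [Decidable (χ = 1)] :
    ∑ t : Fˣ, χ (t : F) = if χ = 1 then ((Fintype.card F : ℂ) - 1) else 0 := by
  rw [sum_units_eq_sum (fun a => χ a) (MulChar.map_zero χ)]
  split_ifs with h
  · rw [h, MulChar.sum_one_eq_card_units, Fintype.card_units, Nat.cast_sub Fintype.card_pos,
      Nat.cast_one]
  · exact MulChar.sum_eq_zero_of_ne_one h

theorem card_field_ne_zero_complex [Fintype F] : (Fintype.card F : ℂ) ≠ 0 := by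
  exact_mod_cast Fintype.card_pos.ne'

theorem card_field_sub_one_ne_zero_complex [Fintype F] : (Fintype.card F : ℂ) - 1 ≠ 0 := by
  have h : 1 < Fintype.card F := Fintype.one_lt_card
  have h2 : ((Fintype.card F - 1 : ℕ) : ℂ) ≠ 0 := by
    exact_mod_cast (Nat.sub_pos_of_lt h).ne'
  rwa [Nat.cast_sub h.le, Nat.cast_one] at h2

/-! ### the principal series linear characters of `B` -/

/-- the linear character `b ↦ α(b₀₀)` of `B`. -/
noncomputable def psFun (α : MulChar F ℂ) : borelSL F → ℂ := fun b => α (b.1.1 0 0)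

theorem psFun_mul (α : MulChar F ℂ) (a b : borelSL F) :
    psFun α (a * b) = psFun α a * psFun α b := by
  unfold psFun
  rw [← map_mul]
  congr 1
  rw [Subgroup.coe_mul, sl2_mul_apply, (mem_borelSL b.1).mp b.2, mul_zero, add_zero]

theorem psFun_one (α : MulChar F ℂ) : psFun α (1 : borelSL F) = 1 := by
  unfold psFun
  rw [Subgroup.coe_one, sl2_one_00, map_one]

theorem psFun_isClassFunction (α : MulChar F ℂ) : IsClassFunction (borelSL F) (psFun α) :=
  isClassFunction_of_mul _ (psFun_mul α) (psFun_one α)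

theorem weylSL_inv : (weylSL F)⁻¹ = mk2 0 1 (-1) 0 (by ring) := by
  rw [inv_eq_iff_mul_eq_one]
  apply sl2_ext
  · simp only [sl2_mul_apply, weylSL, mk2_00, mk2_01, mk2_10, mk2_11, sl2_one_00]; ring
  · simp only [sl2_mul_apply, weylSL, mk2_00, mk2_01, mk2_10, mk2_11, sl2_one_01]; ring
  · simp only [sl2_mul_apply, weylSL, mk2_00, mk2_01, mk2_10, mk2_11, sl2_one_10]; ring
  · simp only [sl2_mul_apply, weylSL, mk2_00, mk2_01, mk2_10, mk2_11, sl2_one_11]; ring

theorem weyl_conj_10 (b : Matrix.SpecialLinearGroup (Fin 2) F) :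
    ((weylSL F)⁻¹ * b * weylSL F).1 1 0 = - b.1 0 1 := by
  rw [weylSL_inv]
  simp only [sl2_mul_apply, weylSL, mk2_00, mk2_01, mk2_10, mk2_11]
  ring

theorem weyl_conj_00 (b : Matrix.SpecialLinearGroup (Fin 2) F) :
    ((weylSL F)⁻¹ * b * weylSL F).1 0 0 = b.1 1 1 := by
  rw [weylSL_inv]
  simp only [sl2_mul_apply, weylSL, mk2_00, mk2_01, mk2_10, mk2_11]
  ring

theorem conj_mulChar_inv [Fintype F] (β : MulChar F ℂ) (t : F) : conj (β t⁻¹) = β t := by
  have h := MulChar.star_apply' β t⁻¹
  rw [MulChar.inv_apply', inv_inv] at h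
  exact h

theorem conj_mulChar [Fintype F] (β : MulChar F ℂ) (t : F) : conj (β t) = β⁻¹ t :=
  MulChar.star_apply' β t

theorem mackeyPhi_psFun [Fintype F] [DecidableEq F] (α β : MulChar F ℂ) :
    mackeyPhi (borelSL F) (psFun α) (psFun β) (weylSL F) = ∑ t : Fˣ, (α * β) (t : F) := by
  unfold mackeyPhi
  rw [← (borelSLEquiv (F := F)).symm.sum_comp, Fintype.sum_prod_type]
  apply Finset.sum_congr rfl
  intro t _
  rw [Finset.sum_eq_single (0 : F)]
  · have hmem : (weylSL F)⁻¹ * ((borelSLEquiv.symm (t, (0 : F)) : borelSL F) :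
        Matrix.SpecialLinearGroup (Fin 2) F) * weylSL F ∈ borelSL F := by
      rw [mem_borelSL, weyl_conj_10]
      simp [borelSLEquiv, borelMk]
    rw [extendByZero_of_mem _ _ hmem]
    unfold psFun
    simp only [weyl_conj_00]
    simp only [borelSLEquiv, borelMk, Equiv.coe_fn_symm_mk, mk2_00, mk2_11]
    rw [conj_mulChar_inv, MulChar.mul_apply]
  · intro x _ hx
    have hmem : (weylSL F)⁻¹ * ((borelSLEquiv.symm (t, x) : borelSL F) :
        Matrix.SpecialLinearGroup (Fin 2) F) * weylSL F ∉ borelSL F := by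
      rw [mem_borelSL, weyl_conj_10]
      simpa [borelSLEquiv, borelMk] using hx
    rw [extendByZero_of_not_mem _ _ hmem, map_zero, mul_zero]
  · intro h
    exact absurd (Finset.mem_univ _) h

theorem classInner_psFun [Fintype F] [DecidableEq F] (α β : MulChar F ℂ) :
    classInner (psFun α) (psFun β) = ((Fintype.card F : ℂ) - 1)⁻¹ * ∑ t : Fˣ, (α * β⁻¹) (t : F) := by
  rw [classInner_def, ← (borelSLEquiv (F := F)).symm.sum_comp, Fintype.sum_prod_type]
  have h1 : ∀ t : Fˣ, ∑ x : F, psFun α (borelSLEquiv.symm (t, x)) *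
      conj (psFun β (borelSLEquiv.symm (t, x))) = (Fintype.card F : ℂ) * (α * β⁻¹) (t : F) := by
    intro t
    have : ∀ x : F, psFun α (borelSLEquiv.symm (t, x)) *
      conj (psFun β (borelSLEquiv.symm (t, x))) = (α * β⁻¹) (t : F) := by
      intro x
      unfold psFun
      simp only [borelSLEquiv, borelMk, Equiv.coe_fn_symm_mk, mk2_00]
      rw [conj_mulChar, MulChar.mul_apply]
    rw [Finset.sum_congr rfl (fun x _ => this x), Finset.sum_const, Finset.card_univ, nsmul_eq_mul]
  rw [Finset.sum_congr rfl (fun t _ => h1 t), ← Finset.mul_sum, card_borelSL,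
    Nat.cast_mul, Nat.cast_sub Fintype.card_pos, Nat.cast_one]
  have hq := card_field_ne_zero_complex (F := F)
  have hq1 := card_field_sub_one_ne_zero_complex (F := F)
  field_simp

/-- The Mackey inner product formula for the principal series of `SL₂(F)`. -/
theorem classInner_ps_SL [Fintype F] [DecidableEq F] (α β : MulChar F ℂ)
    [Decidable (α = β)] [Decidable (α = β⁻¹)] :
    classInner (indFun (borelSL F) (psFun α)) (indFun (borelSL F) (psFun β)) =
      (if α = β then 1 else 0) + (if α = β⁻¹ then 1 else 0) := by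
  classical
  rw [mackey_two_cosets (borelSL F) (psFun α) (psFun β) (psFun_isClassFunction α)
    (psFun_isClassFunction β) (weylSL F) bruhat_SL, classInner_psFun, mackeyPhi_psFun,
    sum_units_mulChar, sum_units_mulChar, card_borelSL, card_SL2]
  have hq := card_field_ne_zero_complex (F := F)
  have hq1 := card_field_sub_one_ne_zero_complex (F := F)
  have e1 : (α * β⁻¹ = 1) ↔ α = β := by
    rw [mul_inv_eq_one]
  have e2 : (α * β = 1) ↔ α = β⁻¹ := by
    rw [mul_eq_one_iff_eq_inv]
  simp only [e1, e2]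
  have hpos : 1 ≤ Fintype.card F ^ 2 := Nat.one_le_pow _ _ Fintype.card_pos
  rw [Nat.cast_mul, Nat.cast_mul, Nat.cast_sub hpos, Nat.cast_sub Fintype.card_pos, Nat.cast_pow,
    Nat.cast_one]
  congr 1
  · split_ifs
    · field_simp
    · simp
  · split_ifs
    · field_simp
      ring
    · simp

end Cfsg.Agent.Lib.Helper38
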