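import Cfsg.Agent.Lib.Helper38.SL2ClassSum

set_option autoImplicit false
set_option linter.unusedSimpArgs false
set_option linter.unusedSectionVars false

/-!
The centralizer of an elliptic companion matrix in `SL₂(F)`, `|F| = q` odd: a cyclic group of
order `q + 1`.
-/

namespace Cfsg.Agent.Lib.Helper38

open Matrix Cfsg Polynomial

variable {F : Type*} [Field F] [Fintype F] [DecidableEq F]

/-- the centralizer of the companion matrix. -/
def ellCentralizer (t : F) : Subgroup (Matrix.SpecialLinearGroup (Fin 2) F) :=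
  Subgroup.centralizer {companionSL t}

theorem companionSL_mem_ellCentralizer (t : F) : companionSL t ∈ ellCentralizer t := by
  unfold ellCentralizer
  rw [Subgroup.mem_centralizer_iff]
  intro h hh
  rw [Set.mem_singleton_iff] at hh
  rw [hh]

theorem mem_ellCentralizer_entries {t : F} {c : Matrix.SpecialLinearGroup (Fin 2) F}
    (hc : c ∈ ellCentralizer t) : c.1 0 1 = -c.1 1 0 ∧ c.1 1 1 = c.1 0 0 + t * c.1 1 0 := by
  unfold ellCentralizer at hc
  rw [Subgroup.mem_centralizer_iff] at hc
  have h := hc (companionSL t) rfl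
  have e00 := congrArg (fun y : Matrix.SpecialLinearGroup (Fin 2) F => y.1 0 0) h
  have e10 := congrArg (fun y : Matrix.SpecialLinearGroup (Fin 2) F => y.1 1 0) h
  simp only [sl2_mul_apply, companionSL, mk2_00, mk2_01, mk2_10, mk2_11] at e00 e10
  constructor
  · linear_combination -e00
  · linear_combination -e10

/-- the order of the centralizer. -/
theorem card_ellCentralizer (hodd : Odd (Fintype.card F)) (t : F) (ht : IsEllTr t) :
    Nat.card (ellCentralizer t) = Fintype.card F + 1 := by
  classical
  have h1 := Cfsg.Agent.Lib.Helper3.card_filter_isConj (companionSL t)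
  have h2 : (Finset.univ.filter (fun x : Matrix.SpecialLinearGroup (Fin 2) F =>
      IsConj x (companionSL t))) =
      Finset.univ.filter (fun g : Matrix.SpecialLinearGroup (Fin 2) F => trSL g = t) := by
    ext x
    rw [Finset.mem_filter, Finset.mem_filter]
    constructor
    · rintro ⟨-, hx⟩
      refine ⟨Finset.mem_univ _, ?_⟩
      rw [trSL_eq_of_isConj hx, trSL_companionSL]
    · rintro ⟨-, hx⟩
      refine ⟨Finset.mem_univ _, ?_⟩
      apply isConj_of_trSL_eq hodd
      · rw [hx, trSL_companionSL]
      · rw [hx]; exact ht.sq_ne_four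
  rw [h2, card_trSL_fiber t ht] at h1
  have h3 := Subgroup.index_mul_card (Subgroup.centralizer ({companionSL t} :
    Set (Matrix.SpecialLinearGroup (Fin 2) F)))
  rw [← h1, card_SL2] at h3
  unfold ellCentralizer
  have hq : 1 < Fintype.card F := Fintype.one_lt_card
  have hpos : 0 < Fintype.card F * (Fintype.card F - 1) :=
    Nat.mul_pos (by omega) (by omega)
  apply Nat.eq_of_mul_eq_mul_left hpos
  rw [h3]
  obtain ⟨q, hq'⟩ : ∃ q, Fintype.card F = q + 1 := ⟨Fintype.card F - 1, by omega⟩
  rw [hq']
  have : (q + 1) ^ 2 - 1 = q * (q + 2) := by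
    have : (q + 1) ^ 2 = q * (q + 2) + 1 := by ring
    omega
  rw [this, Nat.add_sub_cancel]
  ring

section Cyclic

variable (t : F)

/-- the polynomial `X² - tX + 1`. -/
noncomputable def ellPoly : F[X] := C 1 * X ^ 2 + C (-t) * X + C 1

theorem ellPoly_natDegree : (ellPoly t).natDegree = 2 :=
  natDegree_quadratic one_ne_zero

theorem ellPoly_monic : (ellPoly t).Monic := by
  unfold Monic ellPoly
  exact leadingCoeff_quadratic one_ne_zero

theorem ellPoly_irreducible (ht : IsEllTr t) : Irreducible (ellPoly t) := by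
  rw [(ellPoly_monic t).irreducible_iff_roots_eq_zero_of_degree_le_three
    (by rw [ellPoly_natDegree]) (by rw [ellPoly_natDegree]; norm_num)]
  apply Multiset.eq_zero_of_forall_notMem
  intro a ha
  rw [mem_roots (ellPoly_monic t).ne_zero] at ha
  unfold IsRoot ellPoly at ha
  simp only [eval_add, eval_mul, eval_C, eval_pow, eval_X] at ha
  apply ht
  exact ⟨2 * a - t, by linear_combination (-4 : F) * ha⟩

/-- the map from the centralizer to `F[X]/(X² - tX + 1)`. -/
noncomputable def ellMap (c : ellCentralizer t) : AdjoinRoot (ellPoly t) :=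
  AdjoinRoot.mk (ellPoly t) (C (c.1.1 0 0) + C (c.1.1 1 0) * X)

theorem ellMap_mul (c c' : ellCentralizer t) : ellMap t (c * c') = ellMap t c * ellMap t c' := by
  unfold ellMap
  rw [← map_mul, AdjoinRoot.mk_eq_mk]
  obtain ⟨h01, h11⟩ := mem_ellCentralizer_entries c.2
  refine ⟨-C (c.1.1 1 0 * c'.1.1 1 0), ?_⟩
  rw [Subgroup.coe_mul, sl2_mul_apply, sl2_mul_apply, h01, h11]
  unfold ellPoly
  simp only [map_add, map_mul, map_neg, map_one]
  ring

theorem ellMap_one : ellMap t 1 = 1 := by
  unfold ellMap
  rw [Subgroup.coe_one, sl2_one_00, sl2_one_10]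
  simp

/-- the map as a monoid homomorphism. -/
noncomputable def ellHom : ellCentralizer t →* AdjoinRoot (ellPoly t) where
  toFun := ellMap t
  map_one' := ellMap_one t
  map_mul' := ellMap_mul t

theorem ellHom_injective : Function.Injective (ellHom t) := by
  intro c c' h
  change ellMap t c = ellMap t c' at h
  unfold ellMap at h
  rw [AdjoinRoot.mk_eq_mk] at h
  have hdeg : (C (c.1.1 0 0) + C (c.1.1 1 0) * X - (C (c'.1.1 0 0) + C (c'.1.1 1 0) * X)).degree <
      (ellPoly t).degree := by
    rw [degree_eq_natDegree (ellPoly_monic t).ne_zero, ellPoly_natDegree]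
    have e : C (c.1.1 0 0) + C (c.1.1 1 0) * X - (C (c'.1.1 0 0) + C (c'.1.1 1 0) * X) =
        C (c.1.1 1 0 - c'.1.1 1 0) * X + C (c.1.1 0 0 - c'.1.1 0 0) := by
      simp only [map_sub]; ring
    rw [e]
    exact lt_of_le_of_lt (degree_linear_le) (by norm_num)
  have h0 := eq_zero_of_dvd_of_degree_lt h hdeg
  have e0 := congrArg (fun p : F[X] => p.coeff 0) h0
  have e1 := congrArg (fun p : F[X] => p.coeff 1) h0
  simp only [coeff_sub, coeff_add, coeff_C_mul, coeff_C_zero, coeff_X_zero, coeff_X_one,
    coeff_zero, mul_zero, mul_one, add_zero] at e0 e1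
  rw [coeff_C_of_ne_zero one_ne_zero, coeff_C_of_ne_zero one_ne_zero] at e1
  obtain ⟨h01, h11⟩ := mem_ellCentralizer_entries c.2
  obtain ⟨h01', h11'⟩ := mem_ellCentralizer_entries c'.2
  have e00 : c.1.1 0 0 = c'.1.1 0 0 := by linear_combination e0
  have e10 : c.1.1 1 0 = c'.1.1 1 0 := by linear_combination e1
  apply Subtype.ext
  apply sl2_ext
  · exact e00
  · rw [h01, h01', e10]
  · exact e10
  · rw [h11, h11', e00, e10]

theorem isCyclic_ellCentralizer (ht : IsEllTr t) : IsCyclic (ellCentralizer t) := by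
  have : Fact (Irreducible (ellPoly t)) := ⟨ellPoly_irreducible t ht⟩
  exact isCyclic_of_injective_ringHom (ellHom t) (ellHom_injective t)

end Cyclic

end Cfsg.Agent.Lib.Helper38
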