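import Cfsg.Agent.Lib.Helper38.SL2Elliptic

set_option autoImplicit false
set_option linter.unusedSimpArgs false
set_option linter.unusedSectionVars false

/-!
Sums of class functions over `SL₂(F)`, `|F|` odd, by the type of element.
-/

namespace Cfsg.Agent.Lib.Helper38

open Matrix Cfsg Cfsg.Agent.Lib.Helper25
open scoped ComplexConjugate

variable {F : Type*} [Field F] [Fintype F] [DecidableEq F]

theorem IsClassFunction.conj_inv_mul {G : Type*} [Group G] {f : G → ℂ} (hf : IsClassFunction G f)
    (g n : G) : f (n⁻¹ * g * n) = f g := by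
  have := hf g n⁻¹
  rwa [inv_inv] at this

theorem trSL_one : trSL (1 : Matrix.SpecialLinearGroup (Fin 2) F) = 2 := by
  unfold trSL
  rw [sl2_one_00, sl2_one_11]
  norm_num

theorem trSL_negOneSL : trSL (negOneSL F) = -2 := by
  unfold trSL negOneSL
  simp only [mk2_00, mk2_11]
  norm_num

/-- a diagonal element with `tr² = 4` is `±1`. -/
theorem central_of_diag_of_tr (g : Matrix.SpecialLinearGroup (Fin 2) F) (h01 : g.1 0 1 = 0)
    (h10 : g.1 1 0 = 0) (htr : trSL g ^ 2 = 4) : g = 1 ∨ g = negOneSL F := by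
  have heq := diag_eq_of_upper g h10 htr
  have hdet := sl2_det g
  rw [h01, zero_mul, sub_zero, ← heq] at hdet
  have h : (g.1 0 0 - 1) * (g.1 0 0 + 1) = 0 := by linear_combination hdet
  rcases mul_eq_zero.mp h with h1 | h1
  · left
    have h00 : g.1 0 0 = 1 := by linear_combination h1
    apply sl2_ext
    · rw [h00, sl2_one_00]
    · rw [h01, sl2_one_01]
    · rw [h10, sl2_one_10]
    · rw [← heq, h00, sl2_one_11]
  · right
    have h00 : g.1 0 0 = -1 := by linear_combination h1
    apply sl2_ext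
    · rw [h00]; rfl
    · rw [h01]; rfl
    · rw [h10]; rfl
    · rw [← heq, h00]; rfl

open Classical in
/-- the sum of a class function over `SL₂(F)`, by type. -/
theorem sum_by_type (hodd : Odd (Fintype.card F))
    {f : Matrix.SpecialLinearGroup (Fin 2) F → ℂ}
    (hf : IsClassFunction (Matrix.SpecialLinearGroup (Fin 2) F) f) (cU cS : ℂ)
    (hU : ∀ b : Matrix.SpecialLinearGroup (Fin 2) F, b.1 1 0 = 0 → b.1 0 0 = b.1 1 1 →
      b.1 0 1 ≠ 0 → f b = cU)
    (hS : ∀ b : Matrix.SpecialLinearGroup (Fin 2) F, b.1 0 1 = 0 → b.1 1 0 = 0 →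
      b.1 0 0 ^ 2 ≠ 1 → f b = cS) :
    ∑ g, f g = f 1 + f (negOneSL F) +
      ((Finset.univ.filter (fun g : Matrix.SpecialLinearGroup (Fin 2) F =>
        trSL g ^ 2 = 4 ∧ g ≠ 1 ∧ g ≠ negOneSL F)).card : ℂ) * cU +
      ((Finset.univ.filter (fun g : Matrix.SpecialLinearGroup (Fin 2) F =>
        trSL g ^ 2 ≠ 4 ∧ IsSquare (trSL g ^ 2 - 4))).card : ℂ) * cS +
      ((Fintype.card F : ℂ) * ((Fintype.card F : ℂ) - 1)) *
        ∑ t ∈ Finset.univ.filter (fun t : F => IsEllTr t), f (companionSL t) := by
  classical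
  have h2 := two_ne_zero_of_odd_card hodd
  have hne : negOneSL F ≠ 1 := negOneSL_ne_one h2
  have hpt : ∀ g : Matrix.SpecialLinearGroup (Fin 2) F, f g =
      (if g = 1 then f 1 else 0) + (if g = negOneSL F then f (negOneSL F) else 0) +
      (if trSL g ^ 2 = 4 ∧ g ≠ 1 ∧ g ≠ negOneSL F then cU else 0) +
      (if trSL g ^ 2 ≠ 4 ∧ IsSquare (trSL g ^ 2 - 4) then cS else 0) +
      (if IsEllTr (trSL g) then f g else 0) := by
    intro g
    by_cases h1 : g = 1
    · subst h1
      have ht : trSL (1 : Matrix.SpecialLinearGroup (Fin 2) F) ^ 2 = 4 := by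
        rw [trSL_one]; norm_num
      rw [if_pos rfl, if_neg (Ne.symm hne), if_neg (by simp), if_neg (by simp [ht]),
        if_neg (fun h => h.sq_ne_four ht)]
      ring
    by_cases hm1 : g = negOneSL F
    · subst hm1
      have ht : trSL (negOneSL F) ^ 2 = 4 := by
        rw [trSL_negOneSL]; norm_num
      rw [if_neg hne, if_pos rfl, if_neg (by simp), if_neg (by simp [ht]),
        if_neg (fun h => h.sq_ne_four ht)]
      ring
    rw [if_neg h1, if_neg hm1]
    by_cases ht : trSL g ^ 2 = 4
    · rw [if_pos ⟨ht, h1, hm1⟩, if_neg (by simp [ht]), if_neg (fun h => h.sq_ne_four ht)]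
      have hnc : ¬ (g.1 0 1 = 0 ∧ g.1 1 0 = 0) := by
        rintro ⟨h01, h10⟩
        rcases central_of_diag_of_tr g h01 h10 ht with h | h
        · exact h1 h
        · exact hm1 h
      obtain ⟨n, hn1, hn2, hn3⟩ := exists_conj_upper h2 g ht hnc
      rw [← IsClassFunction.conj_inv_mul hf g n, hU _ hn1 hn2 hn3]
      ring
    · rw [if_neg (by simp [ht])]
      by_cases hsq : IsSquare (trSL g ^ 2 - 4)
      · rw [if_pos ⟨ht, hsq⟩, if_neg (fun h => h hsq)]
        obtain ⟨c, v, hv, hcv⟩ := exists_eigenvector_of_isSquare h2 g hsq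
        obtain ⟨n, hn1, hn2, hn3⟩ := exists_conj_diag g c v hv hcv ht
        rw [← IsClassFunction.conj_inv_mul hf g n, hS _ hn1 hn2 hn3]
        ring
      · rw [if_neg (fun h => hsq h.2), if_pos (show IsEllTr (trSL g) from hsq)]
        ring
  rw [Finset.sum_congr rfl (fun g _ => hpt g)]
  simp only [Finset.sum_add_distrib]
  rw [Finset.sum_ite_eq' Finset.univ (1 : Matrix.SpecialLinearGroup (Fin 2) F),
    if_pos (Finset.mem_univ _), Finset.sum_ite_eq' Finset.univ (negOneSL F),
    if_pos (Finset.mem_univ _), sum_ite_const, sum_ite_const]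
  congr 1
  rw [← Finset.sum_fiberwise Finset.univ (fun g : Matrix.SpecialLinearGroup (Fin 2) F => trSL g),
    Finset.sum_filter, Finset.mul_sum]
  apply Finset.sum_congr rfl
  intro t _
  by_cases ht : IsEllTr t
  · rw [if_pos ht, ← sum_trSL_fiber hodd hf t ht]
    apply Finset.sum_congr rfl
    intro g hg
    rw [Finset.mem_filter] at hg
    rw [hg.2, if_pos ht]
  · rw [if_neg ht, mul_zero]
    apply Finset.sum_eq_zero
    intro g hg
    rw [Finset.mem_filter] at hg
    rw [hg.2, if_neg ht]

/-- an element with elliptic trace has no eigenvector. -/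
theorem no_eigenvector_of_isEllTr (g : Matrix.SpecialLinearGroup (Fin 2) F)
    (h : IsEllTr (trSL g)) (c : F) (v : Fin 2 → F) (hv : v ≠ 0) : g.1.mulVec v ≠ c • v :=
  fun hcv => h (isSquare_disc_of_eigenvector g c v hv hcv)

theorem card_SL2_complex :
    (Fintype.card (Matrix.SpecialLinearGroup (Fin 2) F) : ℂ) =
      (Fintype.card F : ℂ) * ((Fintype.card F : ℂ) ^ 2 - 1) := by
  rw [← Nat.card_eq_fintype_card, card_SL2, Nat.cast_mul,
    Nat.cast_sub (Nat.one_le_pow _ _ Fintype.card_pos)]
  push_cast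
  ring

theorem sum_eq_card_mul_classInner {G : Type*} [Group G] [Fintype G] (φ ψ : G → ℂ) :
    ∑ g, φ g * conj (ψ g) = (Fintype.card G : ℂ) * classInner φ ψ := by
  unfold classInner
  rw [Nat.card_eq_fintype_card, ← mul_assoc, mul_inv_cancel₀, one_mul]
  exact Nat.cast_ne_zero.mpr Fintype.card_ne_zero

open Classical in
/-- the counts of non-central elements with `tr² = 4` and of elliptic trace values. -/
theorem card_types (hodd : Odd (Fintype.card F)) :
    ((Finset.univ.filter (fun g : Matrix.SpecialLinearGroup (Fin 2) F =>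
        trSL g ^ 2 = 4 ∧ g ≠ 1 ∧ g ≠ negOneSL F)).card : ℂ) = 2 * ((Fintype.card F : ℂ) ^ 2 - 1) ∧
    2 * ((Finset.univ.filter (fun t : F => IsEllTr t)).card : ℂ) = (Fintype.card F : ℂ) - 1 := by
  have hq0 : (Fintype.card F : ℂ) ≠ 0 := Nat.cast_ne_zero.mpr Fintype.card_ne_zero
  have hq1 : (Fintype.card F : ℂ) - 1 ≠ 0 := by
    have h1 : 1 < Fintype.card F := Fintype.one_lt_card
    have : ((Fintype.card F - 1 : ℕ) : ℂ) ≠ 0 := Nat.cast_ne_zero.mpr (by omega)
    rwa [Nat.cast_sub Fintype.card_pos, Nat.cast_one] at this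
  have hcfS := isClassFunction_of_irr (isIrr_steinbergSL (F := F))
  have hStell : ∀ t : F, IsEllTr t → steinbergSL F (companionSL t) = -1 := by
    intro t ht
    apply (steinbergSL_values (companionSL t)).2.1
    intro c v hv
    exact no_eigenvector_of_isEllTr _ (by rw [trSL_companionSL]; exact ht) c v hv
  -- the trivial character
  have r1 := sum_by_type hodd (f := fun _ => (1 : ℂ)) (fun _ _ => rfl) 1 1 (fun _ _ _ _ => rfl)
    (fun _ _ _ _ => rfl)
  simp only [Finset.sum_const, Finset.card_univ, nsmul_eq_mul, mul_one] at r1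
  rw [card_SL2_complex] at r1
  -- the Steinberg character
  have r2 := sum_by_type hodd hcfS 0 1 (fun b h1 h2 h3 => (steinbergSL_values b).2.2 h1 h2 h3)
    (fun b h1 h2 h3 => (steinbergSL_values b).1 h1 h2 h3)
  rw [steinbergSL_negOne, steinbergSL_one, Finset.sum_congr rfl (fun t ht => hStell t
    (Finset.mem_filter.mp ht).2), Finset.sum_const, nsmul_eq_mul] at r2
  have hS1 : ∑ g, steinbergSL F g = 0 := by
    have h := sum_eq_card_mul_classInner (steinbergSL F) (fun _ => (1 : ℂ))
    rw [Cfsg.Agent.Lib.Helper3.classInner_irr isIrr_steinbergSL isIrr_one_SL, if_neg, mul_zero] at h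
    · simpa using h
    · intro he
      have := congrFun he 1
      rw [steinbergSL_one] at this
      have h1 : 1 < Fintype.card F := Fintype.one_lt_card
      have : Fintype.card F = 1 := by exact_mod_cast this
      omega
  rw [hS1] at r2
  -- the square of the Steinberg character
  have hcf2 : IsClassFunction (Matrix.SpecialLinearGroup (Fin 2) F)
      (fun g => steinbergSL F g * conj (steinbergSL F g)) := by
    intro g h
    simp only
    rw [hcfS g h]
  have r3 := sum_by_type hodd hcf2 0 1
    (fun b h1 h2 h3 => by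
      rw [(steinbergSL_values b).2.2 h1 h2 h3, zero_mul])
    (fun b h1 h2 h3 => by
      rw [(steinbergSL_values b).1 h1 h2 h3, map_one, mul_one])
  rw [steinbergSL_negOne, steinbergSL_one, Complex.conj_natCast,
    Finset.sum_congr rfl (fun t ht => by
      rw [hStell t (Finset.mem_filter.mp ht).2, map_neg, map_one]; ring :
      ∀ t ∈ Finset.univ.filter (fun t : F => IsEllTr t),
        steinbergSL F (companionSL t) * conj (steinbergSL F (companionSL t)) = 1),
    Finset.sum_const, nsmul_eq_mul, sum_eq_card_mul_classInner,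
    Cfsg.Agent.Lib.Helper3.classInner_irr isIrr_steinbergSL isIrr_steinbergSL, if_pos rfl,
    card_SL2_complex] at r3
  constructor
  · linear_combination r3 - r1
  · apply mul_left_cancel₀ (mul_ne_zero hq0 hq1)
    linear_combination r2 - r3

end Cfsg.Agent.Lib.Helper38
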