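import Cfsg.Agent.Lib.Helper38.SL2CuspParam

set_option autoImplicit false
set_option linter.unusedSimpArgs false
set_option linter.unusedSectionVars false

/-!
There are enough irreducible restrictions of cuspidal characters to `SL₂(F)`, `|F| = q` odd:
at least `(q - 1)/2`.
-/

namespace Cfsg.Agent.Lib.Helper38

open Matrix Cfsg Cfsg.Agent.Lib.Helper25
open scoped ComplexConjugate

variable {F : Type*} [Field F] [Fintype F] [DecidableEq F]

/-- over the field with three elements every multiplicative character has square one. -/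
theorem mulChar_sq_eq_one_of_card_three (hq : Fintype.card F = 3) (α : MulChar F ℂ) :
    α ^ 2 = 1 := by
  ext a
  rw [MulChar.one_apply_coe, pow_two, MulChar.mul_apply, ← map_mul]
  have := FiniteField.pow_card_sub_one_eq_one (a : F) a.ne_zero
  rw [hq] at this
  have h2 : (a : F) * (a : F) = 1 := by
    rw [← pow_two]; exact this
  rw [h2]
  exact MulChar.map_one α

/-- for `q = 3` some cuspidal character of `GL₂` has an irreducible restriction to `SL₂`. -/
theorem exists_cusp_irr_three (hq : Fintype.card F = 3) :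
    ∃ ψ : GL (Fin 2) F → ℂ, IsCuspidalGL ψ ∧
      IsIrrCharacter (Matrix.SpecialLinearGroup (Fin 2) F) (resSL ψ) := by
  classical
  by_contra hcon
  push Not at hcon
  have : Fintype (IrrCharacter (Matrix.SpecialLinearGroup (Fin 2) F)) := Fintype.ofFinite _
  have hk : Fintype.card F = 2 * 1 + 1 := by rw [hq]
  have hodd : Odd (Fintype.card F) := ⟨1, hk⟩
  obtain ⟨d₀, hd₀⟩ := exists_nonsquare_unit hodd
  -- the types
  have htypes : ∀ χ : IrrCharacter (Matrix.SpecialLinearGroup (Fin 2) F),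
      ((χ : Matrix.SpecialLinearGroup (Fin 2) F → ℂ) = (fun _ => (1 : ℂ)) ∧
        (χ : Matrix.SpecialLinearGroup (Fin 2) F → ℂ) 1 = ((1 : ℕ) : ℂ)) ∨
      ((χ : Matrix.SpecialLinearGroup (Fin 2) F → ℂ) 1 = ((3 : ℕ) : ℂ)) ∨
      ((χ : Matrix.SpecialLinearGroup (Fin 2) F → ℂ) 1 = ((2 : ℕ) : ℂ) ∧
        tw d₀ (χ : Matrix.SpecialLinearGroup (Fin 2) F → ℂ) ≠
          (χ : Matrix.SpecialLinearGroup (Fin 2) F → ℂ)) ∨
      ((χ : Matrix.SpecialLinearGroup (Fin 2) F → ℂ) 1 = ((1 : ℕ) : ℂ) ∧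
        tw d₀ (χ : Matrix.SpecialLinearGroup (Fin 2) F → ℂ) ≠
          (χ : Matrix.SpecialLinearGroup (Fin 2) F → ℂ)) := by
    intro χ
    have hcf := isClassFunction_of_irr χ.2
    rcases irr_SL2_odd_types hk χ.1 χ.2 with ⟨h0, h1⟩ | ⟨-, h1⟩ | ⟨α, hα, -, -⟩ |
      ⟨α, ξ', d, -, -, hirr', hne, -, hd, h1⟩ | ⟨ψ, hc, he, -⟩ |
      ⟨ψ, ξ', d, -, hirr', hne, -, hd, h1⟩
    · left; exact ⟨h0, h1⟩
    · right; left; exact h1
    · exact absurd (mulChar_sq_eq_one_of_card_three hq α) hα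
    · right; right; left
      refine ⟨h1, ?_⟩
      have e := hd.eq_tw_nonsquare hne hcf (isClassFunction_of_irr hirr') d₀ hd₀
      rw [← e]
      exact fun h => hne h.symm
    · exfalso
      apply hcon ψ hc
      rw [← he]
      exact χ.2
    · right; right; right
      refine ⟨h1, ?_⟩
      have e := hd.eq_tw_nonsquare hne hcf (isClassFunction_of_irr hirr') d₀ hd₀
      rw [← e]
      exact fun h => hne h.symm
  -- the degree values
  obtain ⟨w, hw⟩ : ∃ w : Fin 3 → ℕ, w = ![1, 3, 2] := ⟨_, rfl⟩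
  have hwinj : Function.Injective w := by
    rw [hw]
    intro i j h
    fin_cases i <;> fin_cases j <;> simp at h ⊢
  have hvinj : Function.Injective (fun i => ((w i : ℕ) : ℂ)) :=
    Nat.cast_injective.comp hwinj
  have hex : ∀ χ : IrrCharacter (Matrix.SpecialLinearGroup (Fin 2) F),
      ∃ i, (χ : Matrix.SpecialLinearGroup (Fin 2) F → ℂ) 1 = ((w i : ℕ) : ℂ) := by
    intro χ
    rw [hw]
    rcases htypes χ with ⟨-, h1⟩ | h1 | ⟨h1, -⟩ | ⟨h1, -⟩
    · exact ⟨0, h1⟩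
    · exact ⟨1, h1⟩
    · exact ⟨2, h1⟩
    · exact ⟨0, h1⟩
  have r1 := sum_split_fin
    (fun χ : IrrCharacter (Matrix.SpecialLinearGroup (Fin 2) F) =>
      (χ : Matrix.SpecialLinearGroup (Fin 2) F → ℂ) 1) (fun i => ((w i : ℕ) : ℂ)) hvinj hex
    (fun χ => (χ : Matrix.SpecialLinearGroup (Fin 2) F → ℂ) 1 ^ 2)
    (fun i => ((w i : ℕ) : ℂ) ^ 2) (fun χ i h => by rw [h])
  beta_reduce at r1
  rw [Cfsg.Agent.Lib.Helper3.sum_sq_degree, card_SL2, hq, hw] at r1
  simp only [Fin.sum_univ_three, Matrix.cons_val] at r1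
  -- degree three: only the Steinberg character
  have hst : Nat.card {χ : IrrCharacter (Matrix.SpecialLinearGroup (Fin 2) F) //
      (χ : Matrix.SpecialLinearGroup (Fin 2) F → ℂ) 1 = ((3 : ℕ) : ℂ)} = 1 := by
    rw [Nat.card_eq_one_iff_unique]
    refine ⟨⟨?_⟩, ⟨⟨⟨steinbergSL F, isIrr_steinbergSL⟩, by
      change steinbergSL F 1 = _
      rw [steinbergSL_one, hq]⟩⟩⟩
    rintro ⟨⟨χ, hχ⟩, h1⟩ ⟨⟨χ', hχ'⟩, h1'⟩
    have e1 := irr_SL2_deg_q χ hχ (by rw [hq]; exact h1)
    have e2 := irr_SL2_deg_q χ' hχ' (by rw [hq]; exact h1')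
    subst e1; subst e2; rfl
  rw [hst] at r1
  -- the unstable characters
  have r3 := card_unstable_le hodd d₀ hd₀
  have hsub : (Finset.univ.filter (fun χ : IrrCharacter (Matrix.SpecialLinearGroup (Fin 2) F) =>
        (χ : Matrix.SpecialLinearGroup (Fin 2) F → ℂ) 1 = ((2 : ℕ) : ℂ))) ∪
      ((Finset.univ.filter (fun χ : IrrCharacter (Matrix.SpecialLinearGroup (Fin 2) F) =>
        (χ : Matrix.SpecialLinearGroup (Fin 2) F → ℂ) 1 = ((1 : ℕ) : ℂ))).erase
        ⟨fun _ => 1, Cfsg.Agent.Lib.Helper3.isIrrCharacter_one⟩) ⊆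
      (Finset.univ.filter (fun χ : IrrCharacter (Matrix.SpecialLinearGroup (Fin 2) F) =>
        tw d₀ (χ : Matrix.SpecialLinearGroup (Fin 2) F → ℂ) ≠
          (χ : Matrix.SpecialLinearGroup (Fin 2) F → ℂ))) := by
    intro χ hχ
    rw [Finset.mem_union, Finset.mem_filter, Finset.mem_erase, Finset.mem_filter] at hχ
    rw [Finset.mem_filter]
    refine ⟨Finset.mem_univ _, ?_⟩
    rcases hχ with ⟨-, h⟩ | ⟨hne, -, h⟩
    · rcases htypes χ with ⟨-, h1⟩ | h1 | ⟨-, h2⟩ | ⟨h1, -⟩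
      · have := Nat.cast_injective (R := ℂ) (h.symm.trans h1); omega
      · have := Nat.cast_injective (R := ℂ) (h.symm.trans h1); omega
      · exact h2
      · have := Nat.cast_injective (R := ℂ) (h.symm.trans h1); omega
    · rcases htypes χ with ⟨h0, -⟩ | h1 | ⟨h1, -⟩ | ⟨-, h2⟩
      · exact absurd (Subtype.ext h0) hne
      · have := Nat.cast_injective (R := ℂ) (h.symm.trans h1); omega
      · have := Nat.cast_injective (R := ℂ) (h.symm.trans h1); omega
      · exact h2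
  have hdisj : Disjoint
      (Finset.univ.filter (fun χ : IrrCharacter (Matrix.SpecialLinearGroup (Fin 2) F) =>
        (χ : Matrix.SpecialLinearGroup (Fin 2) F → ℂ) 1 = ((2 : ℕ) : ℂ)))
      ((Finset.univ.filter (fun χ : IrrCharacter (Matrix.SpecialLinearGroup (Fin 2) F) =>
        (χ : Matrix.SpecialLinearGroup (Fin 2) F → ℂ) 1 = ((1 : ℕ) : ℂ))).erase
        ⟨fun _ => 1, Cfsg.Agent.Lib.Helper3.isIrrCharacter_one⟩) := by
    rw [Finset.disjoint_left]
    intro χ h1 h2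
    rw [Finset.mem_filter] at h1
    rw [Finset.mem_erase, Finset.mem_filter] at h2
    have := Nat.cast_injective (R := ℂ) (h1.2.symm.trans h2.2.2)
    omega
  have r3' := (Finset.card_le_card hsub).trans r3
  rw [Finset.card_union_of_disjoint hdisj, Finset.card_erase_of_mem (by
    rw [Finset.mem_filter]
    exact ⟨Finset.mem_univ _, by simp⟩), ← natCard_subtype_eq_card_filter,
    ← natCard_subtype_eq_card_filter] at r3'
  obtain ⟨n₁, hn₁⟩ : ∃ n : ℕ, n = Nat.card
      {χ : IrrCharacter (Matrix.SpecialLinearGroup (Fin 2) F) //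
        (χ : Matrix.SpecialLinearGroup (Fin 2) F → ℂ) 1 = ((1 : ℕ) : ℂ)} := ⟨_, rfl⟩
  obtain ⟨n₂, hn₂⟩ : ∃ n : ℕ, n = Nat.card
      {χ : IrrCharacter (Matrix.SpecialLinearGroup (Fin 2) F) //
        (χ : Matrix.SpecialLinearGroup (Fin 2) F → ℂ) 1 = ((2 : ℕ) : ℂ)} := ⟨_, rfl⟩
  rw [← hn₁, ← hn₂] at r1 r3'
  have r1' : ((24 : ℕ) : ℂ) = ((n₁ + 9 + 4 * n₂ : ℕ) : ℂ) := by
    push_cast
    push_cast at r1
    linear_combination r1
  have r1'' := Nat.cast_injective (R := ℂ) r1'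
  omega

/-- there are at least `(q - 1)/2` irreducible restrictions of cuspidal characters. -/
theorem card_cuspIrr_ge (hodd : Odd (Fintype.card F)) :
    Fintype.card F - 1 ≤ 2 * Nat.card
      {χ : IrrCharacter (Matrix.SpecialLinearGroup (Fin 2) F) // ∃ ψ : GL (Fin 2) F → ℂ,
        IsCuspidalGL ψ ∧ (χ : Matrix.SpecialLinearGroup (Fin 2) F → ℂ) = resSL ψ} := by
  classical
  obtain ⟨k, hk⟩ := hodd
  have hq1 : 1 < Fintype.card F := Fintype.one_lt_card
  by_cases hk1 : k = 1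
  · have hq : Fintype.card F = 3 := by omega
    obtain ⟨ψ, hc, hirr⟩ := exists_cusp_irr_three hq
    have : 0 < Nat.card
        {χ : IrrCharacter (Matrix.SpecialLinearGroup (Fin 2) F) // ∃ ψ : GL (Fin 2) F → ℂ,
          IsCuspidalGL ψ ∧ (χ : Matrix.SpecialLinearGroup (Fin 2) F → ℂ) = resSL ψ} := by
      rw [Nat.card_pos_iff]
      exact ⟨⟨⟨⟨resSL ψ, hirr⟩, ψ, hc, rfl⟩⟩, inferInstance⟩
    omega
  · have hk2 : 2 ≤ k := by omega
    have hcount := (count_SL2_odd_aux F hk hk2).2.2.2.1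
    have hqC : (Fintype.card F : ℂ) = 2 * (k : ℂ) + 1 := by rw [hk]; push_cast; ring
    have hinj : Nat.card {χ : IrrCharacter (Matrix.SpecialLinearGroup (Fin 2) F) //
        (χ : Matrix.SpecialLinearGroup (Fin 2) F → ℂ) 1 = ((2 * k : ℕ) : ℂ)} ≤ Nat.card
        {χ : IrrCharacter (Matrix.SpecialLinearGroup (Fin 2) F) // ∃ ψ : GL (Fin 2) F → ℂ,
          IsCuspidalGL ψ ∧ (χ : Matrix.SpecialLinearGroup (Fin 2) F → ℂ) = resSL ψ} := by
      apply Nat.card_le_card_of_injective (fun χ => ⟨χ.1, by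
        obtain ⟨ψ, hc, he⟩ := irr_SL2_deg_q_sub_one (by omega) χ.1.1 χ.1.2 (by
          rw [χ.2, hqC]; push_cast; ring)
        exact ⟨ψ, hc, he⟩⟩)
      intro χ χ' h
      have := congrArg Subtype.val h
      exact Subtype.ext this
    rw [hcount] at hinj
    omega

end Cfsg.Agent.Lib.Helper38
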