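import Cfsg.Agent.Lib.Helper38.SL2TorusChar

set_option autoImplicit false
set_option linter.unusedSimpArgs false
set_option linter.unusedSectionVars false

/-!
Parametrization of the cuspidal characters of degree `q - 1` of `SL₂(F)` by the characters of a
cyclic subgroup of order `q + 1`.
-/

namespace Cfsg.Agent.Lib.Helper38

open Matrix Cfsg Cfsg.Agent.Lib.Helper25
open scoped ComplexConjugate

variable {F : Type*} [Field F] [Fintype F] [DecidableEq F]

/-- exact values of the restriction of a cuspidal character at the non-central elements with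
`tr² = 4`. -/
theorem resSL_unip_val {ψ : GL (Fin 2) F → ℂ} (hc : IsCuspidalGL ψ) {ε : ℂ}
    (hε : ∀ g, resSL ψ (negOneSL F * g) = ε * resSL ψ g)
    (b : Matrix.SpecialLinearGroup (Fin 2) F) (h10 : b.1 1 0 = 0) (heq : b.1 0 0 = b.1 1 1)
    (h01 : b.1 0 1 ≠ 0) :
    (b.1 0 0 = 1 ∧ resSL ψ b = -1) ∨ (b.1 0 0 = -1 ∧ resSL ψ b = -ε) := by
  have hdet := sl2_det b
  rw [h10, mul_zero, sub_zero, ← heq] at hdet
  have h : (b.1 0 0 - 1) * (b.1 0 0 + 1) = 0 := by linear_combination hdet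
  rcases mul_eq_zero.mp h with h1 | h1
  · left
    have h00 : b.1 0 0 = 1 := by linear_combination h1
    refine ⟨h00, ?_⟩
    unfold resSL
    apply cusp_unip hc
    · rw [toGL_apply]; exact h10
    · rw [toGL_apply]; exact h00
    · rw [toGL_apply, ← heq]; exact h00
    · rw [toGL_apply]; exact h01
  · right
    have h00 : b.1 0 0 = -1 := by linear_combination h1
    refine ⟨h00, ?_⟩
    have hb : b = negOneSL F * (negOneSL F * b) := by
      apply sl2_ext <;> simp [sl2_mul_apply, negOneSL]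
    rw [hb, hε]
    have : resSL ψ (negOneSL F * b) = -1 := by
      unfold resSL
      apply cusp_unip hc
      · rw [toGL_apply, sl2_mul_apply]; simp [negOneSL, h10]
      · rw [toGL_apply, sl2_mul_apply]; simp [negOneSL, h00]
      · rw [toGL_apply, sl2_mul_apply]; simp [negOneSL, ← heq, h00]
      · rw [toGL_apply, sl2_mul_apply]; simp [negOneSL, h01]
    rw [this]
    ring

section Torus

variable (C : Subgroup (Matrix.SpecialLinearGroup (Fin 2) F))

open Classical in
/-- two irreducible restrictions of cuspidal characters with the same central sign and the same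
values on the non-central elements of `C` are equal. -/
theorem cusp_eq_of_torus_eq (hodd : Odd (Fintype.card F)) (hcyc : IsCyclic C)
    (hcard : Nat.card C = Fintype.card F + 1)
    {ψ ψ' : GL (Fin 2) F → ℂ} (hc : IsCuspidalGL ψ) (hc' : IsCuspidalGL ψ')
    (hirr : IsIrrCharacter (Matrix.SpecialLinearGroup (Fin 2) F) (resSL ψ))
    (hirr' : IsIrrCharacter (Matrix.SpecialLinearGroup (Fin 2) F) (resSL ψ'))
    {ε : ℂ} (hε1 : ε = 1 ∨ ε = -1) (hε : ∀ g, resSL ψ (negOneSL F * g) = ε * resSL ψ g)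
    (hε' : ∀ g, resSL ψ' (negOneSL F * g) = ε * resSL ψ' g)
    (hval : ∀ c : C, (c : Matrix.SpecialLinearGroup (Fin 2) F) ≠ 1 →
      (c : Matrix.SpecialLinearGroup (Fin 2) F) ≠ negOneSL F →
      resSL ψ' (c : Matrix.SpecialLinearGroup (Fin 2) F) =
        resSL ψ (c : Matrix.SpecialLinearGroup (Fin 2) F)) :
    resSL ψ = resSL ψ' := by
  have hcomm := comm_of_isCyclic C hcyc
  have hq0 : (Fintype.card F : ℂ) ≠ 0 := Nat.cast_ne_zero.mpr Fintype.card_ne_zero
  have hq1 := card_field_sub_one_ne_zero_complex (F := F)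
  obtain ⟨hS1, -⟩ := cusp_torus_sums C hodd hcard hcomm hc hε1 hε
  rw [Cfsg.Agent.Lib.Helper3.classInner_irr hirr hirr, if_pos rfl] at hS1
  have hcf := isClassFunction_resSL hc
  have hcf' := isClassFunction_resSL hc'
  have hεε : ε * conj ε = 1 := by
    rcases hε1 with h | h <;> rw [h] <;> simp
  have hcf2 : IsClassFunction (Matrix.SpecialLinearGroup (Fin 2) F)
      (fun g => resSL ψ g * conj (resSL ψ' g)) := by
    intro g h
    simp only
    rw [hcf g h, hcf' g h]
  have h1 := sum_torus C hodd hcard hcomm hcf2 1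
    (fun b h10 heq h01 => by
      rcases resSL_unip_val hc hε b h10 heq h01 with ⟨h00, h⟩ | ⟨h00, h⟩ <;>
        rcases resSL_unip_val hc' hε' b h10 heq h01 with ⟨h00', h'⟩ | ⟨h00', h'⟩
      · simp only [h, h']; simp
      · exfalso
        rw [h00] at h00'
        exact two_ne_zero_of_odd_card hodd (by linear_combination h00')
      · exfalso
        rw [h00] at h00'
        exact two_ne_zero_of_odd_card hodd (by linear_combination -h00')
      · simp only [h, h']
        rw [map_neg]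
        linear_combination hεε)
    (fun b h01 h10 hne => by
      rw [resSL_diag hc b h01 h10 hne, zero_mul])
  have hm1 : resSL ψ (negOneSL F) = ε * ((Fintype.card F : ℂ) - 1) := by
    have := hε 1
    rwa [mul_one, resSL_one hc] at this
  have hm1' : resSL ψ' (negOneSL F) = ε * ((Fintype.card F : ℂ) - 1) := by
    have := hε' 1
    rwa [mul_one, resSL_one hc'] at this
  have hconjq : conj ((Fintype.card F : ℂ) - 1) = (Fintype.card F : ℂ) - 1 := by
    rw [map_sub, Complex.conj_natCast, map_one]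
  have h3 : ∀ c ∈ Finset.univ.filter (fun c : C =>
      (c : Matrix.SpecialLinearGroup (Fin 2) F) ≠ 1 ∧
        (c : Matrix.SpecialLinearGroup (Fin 2) F) ≠ negOneSL F),
      resSL ψ (c : Matrix.SpecialLinearGroup (Fin 2) F) *
        conj (resSL ψ' (c : Matrix.SpecialLinearGroup (Fin 2) F)) =
      resSL ψ (c : Matrix.SpecialLinearGroup (Fin 2) F) *
        conj (resSL ψ (c : Matrix.SpecialLinearGroup (Fin 2) F)) := by
    intro c hcm
    rw [Finset.mem_filter] at hcm
    rw [hval c hcm.2.1 hcm.2.2]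
  rw [Finset.sum_congr rfl h3, hS1, sum_eq_card_mul_classInner, card_SL2_complex, resSL_one hc,
    resSL_one hc', hm1, hm1', hconjq, map_mul, hconjq] at h1
  have h4 : classInner (resSL ψ) (resSL ψ') = 1 := by
    apply mul_left_cancel₀ (mul_ne_zero (two_ne_zero (α := ℂ))
      (mul_ne_zero hq0 (mul_ne_zero hq1 (natCast_add_ne_zero (Fintype.card F) 1 one_pos))))
    push_cast
    linear_combination h1 + 2 * ((Fintype.card F : ℂ) - 1) ^ 2 * hεε
  rw [Cfsg.Agent.Lib.Helper3.classInner_irr hirr hirr'] at h4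
  by_contra hne
  rw [if_neg hne] at h4
  exact zero_ne_one h4

/-- `χ` has the values on `C` attached to the homomorphism `θ`. -/
def HasTorusParam (χ : Matrix.SpecialLinearGroup (Fin 2) F → ℂ) (θ : C →* ℂˣ) : Prop :=
  (∀ c : C, (c : Matrix.SpecialLinearGroup (Fin 2) F) ≠ 1 →
    (c : Matrix.SpecialLinearGroup (Fin 2) F) ≠ negOneSL F →
    χ (c : Matrix.SpecialLinearGroup (Fin 2) F) = -(((θ c : ℂˣ) : ℂ) + (((θ c)⁻¹ : ℂˣ) : ℂ))) ∧
  (∀ hm : negOneSL F ∈ C, ∀ g, χ (negOneSL F * g) = ((θ ⟨negOneSL F, hm⟩ : ℂˣ) : ℂ) * χ g)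

theorem hom_negOne_sq (θ : C →* ℂˣ) (hm : negOneSL F ∈ C) :
    θ ⟨negOneSL F, hm⟩ * θ ⟨negOneSL F, hm⟩ = 1 := by
  rw [← map_mul]
  have : (⟨negOneSL F, hm⟩ : C) * ⟨negOneSL F, hm⟩ = 1 := Subtype.ext negOneSL_mul_self
  rw [this, map_one]

theorem HasTorusParam.inv {χ : Matrix.SpecialLinearGroup (Fin 2) F → ℂ} {θ : C →* ℂˣ}
    (h : HasTorusParam C χ θ) : HasTorusParam C χ θ⁻¹ := by
  refine ⟨?_, ?_⟩
  · intro c h1 hm1
    rw [h.1 c h1 hm1, MonoidHom.inv_apply, inv_inv, add_comm]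
  · intro hm g
    rw [h.2 hm g, MonoidHom.inv_apply]
    congr 2
    exact (inv_eq_of_mul_eq_one_right (hom_negOne_sq C θ hm)).symm

/-- an irreducible restriction of a cuspidal character has a parameter. -/
theorem exists_torusParam (hodd : Odd (Fintype.card F)) (hcyc : IsCyclic C)
    (hcard : Nat.card C = Fintype.card F + 1)
    {ψ : GL (Fin 2) F → ℂ} (hc : IsCuspidalGL ψ)
    (hirr : IsIrrCharacter (Matrix.SpecialLinearGroup (Fin 2) F) (resSL ψ)) :
    ∃ θ : C →* ℂˣ, (∃ c : C, θ c ^ 2 ≠ 1) ∧ HasTorusParam C (resSL ψ) θ := by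
  have hm := negOneSL_mem_of_card C hodd hcard
  obtain ⟨ε, hε1, hε⟩ := cusp_central_sign hc
  obtain ⟨θ, hθ, hθz, hval⟩ := cusp_torus_irr C hodd hcyc hcard hm hc hirr hε1 hε
  refine ⟨θ, hθ, hval, ?_⟩
  intro hm' g
  rw [hθz]
  exact hε g

/-- the parameter determines the character. -/
theorem eq_of_torusParam (hodd : Odd (Fintype.card F)) (hcyc : IsCyclic C)
    (hcard : Nat.card C = Fintype.card F + 1)
    {ψ ψ' : GL (Fin 2) F → ℂ} (hc : IsCuspidalGL ψ) (hc' : IsCuspidalGL ψ')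
    (hirr : IsIrrCharacter (Matrix.SpecialLinearGroup (Fin 2) F) (resSL ψ))
    (hirr' : IsIrrCharacter (Matrix.SpecialLinearGroup (Fin 2) F) (resSL ψ'))
    {θ θ' : C →* ℂˣ} (h : HasTorusParam C (resSL ψ) θ) (h' : HasTorusParam C (resSL ψ') θ')
    (hθ : θ' = θ ∨ θ' = θ⁻¹) : resSL ψ = resSL ψ' := by
  have hm := negOneSL_mem_of_card C hodd hcard
  have h'' : HasTorusParam C (resSL ψ') θ := by
    rcases hθ with rfl | rfl
    · exact h'
    · have h3 := h'.inv
      have h4 : θ⁻¹⁻¹ = θ := by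
        ext c
        simp
      rwa [h4] at h3
  apply cusp_eq_of_torus_eq C hodd hcyc hcard hc hc' hirr hirr'
    (units_sq_eq_one (hom_negOne_sq C θ hm)) (h.2 hm) (h''.2 hm)
  intro c h1 hm1
  rw [h.1 c h1 hm1, h''.1 c h1 hm1]

/-- a homomorphism of order two on a cyclic group of even order. -/
theorem exists_hom_order_two {G : Type*} [Group G] [Finite G] [IsCyclic G] (m : ℕ)
    (hcard : Nat.card G = 2 * m) : ∃ θ₀ : G →* ℂˣ, θ₀ ≠ 1 ∧ ∀ c, θ₀ c ^ 2 = 1 := by
  obtain ⟨x, hx⟩ := IsCyclic.exists_generator (α := G)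
  have hord : orderOf x = 2 * m := by
    rw [← hcard]
    exact orderOf_eq_card_of_forall_mem_zpowers hx
  have hdvd : orderOf (-1 : ℂˣ) ∣ orderOf x := by
    rw [hord]
    apply orderOf_dvd_of_pow_eq_one
    rw [pow_mul]
    simp
  refine ⟨monoidHomOfForallMemZpowers hx hdvd, ?_, ?_⟩
  · intro h
    have := congrArg (fun η : G →* ℂˣ => η x) h
    simp only [monoidHomOfForallMemZpowers_apply_gen, MonoidHom.one_apply] at this
    have h2 := congrArg (fun u : ℂˣ => (u : ℂ)) this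
    simp only [Units.val_neg, Units.val_one] at h2
    norm_num at h2
  · intro c
    obtain ⟨k, rfl⟩ := Subgroup.mem_zpowers_iff.mp (hx c)
    rw [map_zpow, monoidHomOfForallMemZpowers_apply_gen, ← zpow_natCast, ← _root_.zpow_mul,
      mul_comm, _root_.zpow_mul]
    simp

theorem hom_inv_sq_ne_one {G : Type*} [Group G] {θ : G →* ℂˣ} (h : ∃ c : G, θ c ^ 2 ≠ 1) :
    ∃ c : G, θ⁻¹ c ^ 2 ≠ 1 := by
  obtain ⟨c, hc⟩ := h
  refine ⟨c, fun h1 => hc ?_⟩
  rw [MonoidHom.inv_apply, inv_pow, inv_eq_one] at h1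
  exact h1

theorem hom_ne_inv_of_sq_ne_one {G : Type*} [Group G] {θ : G →* ℂˣ} (h : ∃ c : G, θ c ^ 2 ≠ 1) :
    θ ≠ θ⁻¹ := by
  obtain ⟨c, hc⟩ := h
  intro h1
  apply hc
  have := congrArg (fun η : G →* ℂˣ => η c) h1
  simp only [MonoidHom.inv_apply] at this
  rw [pow_two]
  nth_rewrite 1 [this]
  exact inv_mul_cancel (θ c)

/-- the number of homomorphisms `C → ℂˣ` which are not self-inverse is at most `q - 1`. -/
theorem card_hom_sq_ne_one_le (hcyc : IsCyclic C) (hcard : Nat.card C = Fintype.card F + 1)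
    (hodd : Odd (Fintype.card F)) [Finite (C →* ℂˣ)] :
    Nat.card {θ : C →* ℂˣ // ∃ c : C, θ c ^ 2 ≠ 1} ≤ Fintype.card F - 1 := by
  classical
  have : IsMulCommutative C := IsCyclic.isMulCommutative
  have : Fintype (IrrCharacter C) := Fintype.ofFinite _
  have hD : Nat.card (C →* ℂˣ) = Fintype.card F + 1 := by
    rw [← Nat.card_congr (Equiv.ofBijective (irrHom (A := C)) ⟨irrHom_injective, irrHom_surjective⟩),
      ← hcard, Nat.card_eq_fintype_card, Nat.card_eq_fintype_card]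
    exact Nat.cast_injective (R := ℂ) card_irr_abelian
  obtain ⟨m, hm⟩ : ∃ m, Fintype.card F + 1 = 2 * m := by
    obtain ⟨k, hk⟩ := hodd
    exact ⟨k + 1, by omega⟩
  obtain ⟨θ₀, hθ₀1, hθ₀2⟩ := exists_hom_order_two (G := C) m (by rw [hcard, hm])
  have h2 : 1 < Nat.card {θ : C →* ℂˣ // ¬ ∃ c : C, θ c ^ 2 ≠ 1} := by
    rw [Finite.one_lt_card_iff_nontrivial]
    refine ⟨⟨⟨1, ?_⟩, ⟨θ₀, ?_⟩, ?_⟩⟩
    · push Not
      intro c
      simp
    · push Not
      exact hθ₀2
    · intro h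
      apply hθ₀1
      have := congrArg Subtype.val h
      exact this.symm
  have h3 := Nat.card_congr (Equiv.sumCompl (fun θ : C →* ℂˣ => ∃ c : C, θ c ^ 2 ≠ 1))
  rw [Nat.card_sum, hD] at h3
  omega

open Classical in
/-- every homomorphism which is not self-inverse is the parameter of a cuspidal character,
provided there are enough of these. -/
theorem exists_cusp_of_torusParam (hodd : Odd (Fintype.card F)) (hcyc : IsCyclic C)
    (hcard : Nat.card C = Fintype.card F + 1)
    (hA : Fintype.card F - 1 ≤ 2 * Nat.card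
      {χ : IrrCharacter (Matrix.SpecialLinearGroup (Fin 2) F) // ∃ ψ : GL (Fin 2) F → ℂ,
        IsCuspidalGL ψ ∧ (χ : Matrix.SpecialLinearGroup (Fin 2) F → ℂ) = resSL ψ})
    (θ : C →* ℂˣ) (hθ : ∃ c : C, θ c ^ 2 ≠ 1) :
    ∃ ψ : GL (Fin 2) F → ℂ, IsCuspidalGL ψ ∧
      IsIrrCharacter (Matrix.SpecialLinearGroup (Fin 2) F) (resSL ψ) ∧
      HasTorusParam C (resSL ψ) θ := by
  have : IsMulCommutative C := IsCyclic.isMulCommutative
  have : Finite (C →* ℂˣ) := Finite.of_surjective (irrHom (A := C)) irrHom_surjective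
  have key : ∀ a : {χ : IrrCharacter (Matrix.SpecialLinearGroup (Fin 2) F) //
      ∃ ψ : GL (Fin 2) F → ℂ, IsCuspidalGL ψ ∧
        (χ : Matrix.SpecialLinearGroup (Fin 2) F → ℂ) = resSL ψ},
      ∃ (ψ : GL (Fin 2) F → ℂ) (η : C →* ℂˣ), IsCuspidalGL ψ ∧
        ((a : IrrCharacter (Matrix.SpecialLinearGroup (Fin 2) F)) :
          Matrix.SpecialLinearGroup (Fin 2) F → ℂ) = resSL ψ ∧
        (∃ c : C, η c ^ 2 ≠ 1) ∧ HasTorusParam C (resSL ψ) η := by
    rintro ⟨χ, ψ, hc, he⟩
    have hirr : IsIrrCharacter (Matrix.SpecialLinearGroup (Fin 2) F) (resSL ψ) := he ▸ χ.2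
    obtain ⟨η, h1, h2⟩ := exists_torusParam C hodd hcyc hcard hc hirr
    exact ⟨ψ, η, hc, he, h1, h2⟩
  choose Ψ Th hΨc hΨe hTh1 hTh2 using key
  have hΨirr : ∀ a, IsIrrCharacter (Matrix.SpecialLinearGroup (Fin 2) F) (resSL (Ψ a)) := by
    intro a
    rw [← hΨe a]
    exact a.1.2
  obtain ⟨Φ, hΦ⟩ : ∃ Φ : {χ : IrrCharacter (Matrix.SpecialLinearGroup (Fin 2) F) //
      ∃ ψ : GL (Fin 2) F → ℂ, IsCuspidalGL ψ ∧
        (χ : Matrix.SpecialLinearGroup (Fin 2) F → ℂ) = resSL ψ} × Bool →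
      {η : C →* ℂˣ // ∃ c : C, η c ^ 2 ≠ 1},
      ∀ p, ((Φ p : {η : C →* ℂˣ // ∃ c : C, η c ^ 2 ≠ 1}) : C →* ℂˣ) =
        if p.2 = true then (Th p.1)⁻¹ else Th p.1 := by
    refine ⟨fun p => if h : p.2 = true then ⟨(Th p.1)⁻¹, hom_inv_sq_ne_one (hTh1 p.1)⟩
      else ⟨Th p.1, hTh1 p.1⟩, ?_⟩
    intro p
    by_cases h : p.2 = true
    · simp only [dif_pos h, if_pos h]
    · simp only [dif_neg h, if_neg h]
  have hΦval : ∀ p, ((Φ p : {η : C →* ℂˣ // ∃ c : C, η c ^ 2 ≠ 1}) : C →* ℂˣ) = Th p.1 ∨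
      ((Φ p : {η : C →* ℂˣ // ∃ c : C, η c ^ 2 ≠ 1}) : C →* ℂˣ) = (Th p.1)⁻¹ := by
    intro p
    rw [hΦ p]
    by_cases h : p.2 = true
    · right; rw [if_pos h]
    · left; rw [if_neg h]
  have hinvinv : ∀ η : C →* ℂˣ, η⁻¹⁻¹ = η := by
    intro η
    ext c
    simp
  have hΦinj : Function.Injective Φ := by
    rintro ⟨a, b⟩ ⟨a', b'⟩ h
    have hv := congrArg Subtype.val h
    have haa : a = a' := by
      have hrel : Th a' = Th a ∨ Th a' = (Th a)⁻¹ := by
        rcases hΦval (a, b) with h1 | h1 <;> rcases hΦval (a', b') with h2 | h2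
        · left; rw [← h1, ← h2, hv]
        · right
          simp only at h1 h2
          rw [h1, h2] at hv
          rw [hv, hinvinv]
        · right
          simp only at h1 h2
          rw [h1, h2] at hv
          rw [hv]
        · left
          simp only at h1 h2
          rw [h1, h2] at hv
          rw [← hinvinv (Th a'), ← hv, hinvinv]
      have := eq_of_torusParam C hodd hcyc hcard (hΨc a) (hΨc a') (hΨirr a) (hΨirr a')
        (hTh2 a) (hTh2 a') hrel
      rw [← hΨe a, ← hΨe a'] at this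
      exact Subtype.ext (Subtype.ext this)
    subst haa
    have hbb : b = b' := by
      by_contra hne
      rw [hΦ (a, b), hΦ (a, b')] at hv
      simp only at hv
      rcases Bool.eq_false_or_eq_true b with hb | hb <;>
        rcases Bool.eq_false_or_eq_true b' with hb' | hb'
      · exact hne (hb.trans hb'.symm)
      · rw [hb, hb'] at hv
        simp only [if_true, Bool.false_eq_true, if_false] at hv
        exact hom_ne_inv_of_sq_ne_one (hTh1 a) hv.symm
      · rw [hb, hb'] at hv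
        simp only [if_true, Bool.false_eq_true, if_false] at hv
        exact hom_ne_inv_of_sq_ne_one (hTh1 a) hv
      · exact hne (hb.trans hb'.symm)
    rw [hbb]
  have hcardle : Nat.card {η : C →* ℂˣ // ∃ c : C, η c ^ 2 ≠ 1} ≤
      Nat.card ({χ : IrrCharacter (Matrix.SpecialLinearGroup (Fin 2) F) //
        ∃ ψ : GL (Fin 2) F → ℂ, IsCuspidalGL ψ ∧
          (χ : Matrix.SpecialLinearGroup (Fin 2) F → ℂ) = resSL ψ} × Bool) := by
    rw [Nat.card_prod, Nat.card_eq_fintype_card (α := Bool), Fintype.card_bool]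
    have := card_hom_sq_ne_one_le C hcyc hcard hodd
    omega
  have hbij := hΦinj.bijective_of_nat_card_le hcardle
  obtain ⟨⟨a, b⟩, hab⟩ := hbij.2 ⟨θ, hθ⟩
  have hv := congrArg Subtype.val hab
  simp only at hv
  refine ⟨Ψ a, hΨc a, hΨirr a, ?_⟩
  rcases hΦval (a, b) with h1 | h1
  · simp only at h1
    rw [← hv, h1]
    exact hTh2 a
  · simp only at h1
    rw [← hv, h1]
    exact (hTh2 a).inv

end Torus

end Cfsg.Agent.Lib.Helper38
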