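import Cfsg.Agent.Lib.Helper38.SL2Torus
import Cfsg.Agent.Lib.Helper25.CharUtil

set_option autoImplicit false
set_option linter.unusedSimpArgs false
set_option linter.unusedSectionVars false

/-!
Restriction of the cuspidal characters of `SL₂(F)` to a non-split torus: the two sums.
-/

namespace Cfsg.Agent.Lib.Helper38

open Matrix Cfsg Cfsg.Agent.Lib.Helper25
open scoped ComplexConjugate

variable {F : Type*} [Field F] [Fintype F] [DecidableEq F]

theorem toGL_negOneSL :
    (Matrix.SpecialLinearGroup.toGL (negOneSL F) : GL (Fin 2) F) = scalarGL (-1 : Fˣ) := by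
  apply gl2_ext <;> simp [toGL_apply, negOneSL, scalarGL]

/-- the central sign of the restriction of a cuspidal character. -/
theorem cusp_central_sign {ψ : GL (Fin 2) F → ℂ} (hc : IsCuspidalGL ψ) :
    ∃ ε : ℂ, (ε = 1 ∨ ε = -1) ∧ ∀ g, resSL ψ (negOneSL F * g) = ε * resSL ψ g := by
  obtain ⟨c, -, hcz⟩ := irr_central_scalar hc.1 (scalarGL_mem_center (-1 : Fˣ))
  have hq1 := card_field_sub_one_ne_zero_complex (F := F)
  have hsq : scalarGL (-1 : Fˣ) * scalarGL (-1 : Fˣ) = (1 : GL (Fin 2) F) := by
    apply gl2_ext <;> simp [gl2_mul_apply, scalarGL]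
  have h1 := hcz (scalarGL (-1 : Fˣ))
  rw [hsq] at h1
  have h1' := hcz 1
  rw [mul_one] at h1'
  rw [h1', cusp_one hc] at h1
  have hcc : (c - 1) * (c + 1) = 0 := by
    have : ((Fintype.card F : ℂ) - 1) * ((c - 1) * (c + 1)) = 0 := by
      linear_combination -h1
    exact (mul_eq_zero.mp this).resolve_left hq1
  refine ⟨c, ?_, ?_⟩
  · rcases mul_eq_zero.mp hcc with h | h
    · left; linear_combination h
    · right; linear_combination h
  · intro g
    unfold resSL
    rw [map_mul, toGL_negOneSL, hcz]

theorem resSL_one {ψ : GL (Fin 2) F → ℂ} (hc : IsCuspidalGL ψ) :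
    resSL ψ 1 = (Fintype.card F : ℂ) - 1 := by
  unfold resSL
  rw [map_one, cusp_one hc]

theorem resSL_diag {ψ : GL (Fin 2) F → ℂ} (hc : IsCuspidalGL ψ)
    (b : Matrix.SpecialLinearGroup (Fin 2) F) (h01 : b.1 0 1 = 0) (h10 : b.1 1 0 = 0)
    (hne : b.1 0 0 ^ 2 ≠ 1) : resSL ψ b = 0 := by
  unfold resSL
  apply cusp_diag hc _ (by rw [toGL_apply]; exact h01) (by rw [toGL_apply]; exact h10)
  rw [toGL_apply, toGL_apply]
  intro heq
  apply hne
  have hdet := sl2_det b
  rw [h01, zero_mul, sub_zero, ← heq] at hdet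
  linear_combination hdet

/-- values of the restriction of a cuspidal character at the non-central elements with
`tr² = 4`. -/
theorem resSL_unip {ψ : GL (Fin 2) F → ℂ} (hc : IsCuspidalGL ψ) {ε : ℂ}
    (hε : ∀ g, resSL ψ (negOneSL F * g) = ε * resSL ψ g)
    (b : Matrix.SpecialLinearGroup (Fin 2) F) (h10 : b.1 1 0 = 0) (heq : b.1 0 0 = b.1 1 1)
    (h01 : b.1 0 1 ≠ 0) : resSL ψ b = -1 ∨ resSL ψ b = -ε := by
  have hdet := sl2_det b
  rw [h10, mul_zero, sub_zero, ← heq] at hdet
  have h : (b.1 0 0 - 1) * (b.1 0 0 + 1) = 0 := by linear_combination hdet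
  rcases mul_eq_zero.mp h with h1 | h1
  · left
    have h00 : b.1 0 0 = 1 := by linear_combination h1
    unfold resSL
    apply cusp_unip hc
    · rw [toGL_apply]; exact h10
    · rw [toGL_apply]; exact h00
    · rw [toGL_apply, ← heq]; exact h00
    · rw [toGL_apply]; exact h01
  · right
    have h00 : b.1 0 0 = -1 := by linear_combination h1
    have hb : b = negOneSL F * (negOneSL F * b) := by
      apply sl2_ext <;> simp [sl2_mul_apply, negOneSL]
    rw [hb, hε]
    have : resSL ψ (negOneSL F * b) = -1 := by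
      unfold resSL
      apply cusp_unip hc
      · rw [toGL_apply, sl2_mul_apply]; simp [negOneSL, h10]
      · rw [toGL_apply, sl2_mul_apply]; simp [negOneSL, h00]
      · rw [toGL_apply, sl2_mul_apply]; simp [negOneSL, ← heq, h00]
      · rw [toGL_apply, sl2_mul_apply]; simp [negOneSL, h01]
    rw [this]
    ring

theorem isClassFunction_resSL {ψ : GL (Fin 2) F → ℂ} (hc : IsCuspidalGL ψ) :
    IsClassFunction (Matrix.SpecialLinearGroup (Fin 2) F) (resSL ψ) :=
  Cfsg.Agent.Lib.Helper3.IsCharacter.isClassFunction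
    (isCharacter_resSL (Cfsg.Agent.Lib.Helper3.IsIrrCharacter.isCharacter hc.1))

/-- the restriction of a cuspidal character is orthogonal to the Steinberg character. -/
theorem classInner_resSL_steinberg {ψ : GL (Fin 2) F → ℂ} (hc : IsCuspidalGL ψ) :
    classInner (resSL ψ) (steinbergSL F) = 0 := by
  have hne : ∀ n : ℕ, (Fintype.card F : ℂ) - 1 ≠ (Fintype.card F : ℂ) + n := by
    intro n h
    have : ((n + 1 : ℕ) : ℂ) = 0 := by push_cast; linear_combination -h
    exact Nat.cast_ne_zero.mpr (Nat.succ_ne_zero n) this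
  rcases resSL_dichotomy hc.1 with h | ⟨ξ₁, ξ₂, h1, h2, -, hsum⟩
  · rw [Cfsg.Agent.Lib.Helper3.classInner_irr h isIrr_steinbergSL, if_neg]
    intro he
    have := congrFun he 1
    rw [resSL_one hc, steinbergSL_one] at this
    exact hne 0 (by rw [this]; simp)
  · have e := congrFun hsum 1
    rw [resSL_one hc, Pi.add_apply] at e
    obtain ⟨n₁, -, hn₁⟩ := irr_degree h1
    obtain ⟨n₂, -, hn₂⟩ := irr_degree h2
    rw [hsum, Cfsg.Agent.Lib.Helper3.classInner_add_left,
      Cfsg.Agent.Lib.Helper3.classInner_irr h1 isIrr_steinbergSL,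
      Cfsg.Agent.Lib.Helper3.classInner_irr h2 isIrr_steinbergSL, if_neg, if_neg, add_zero]
    · intro he
      have := congrFun he 1
      rw [steinbergSL_one] at this
      rw [this, hn₁] at e
      exact hne n₁ (by rw [e]; ring)
    · intro he
      have := congrFun he 1
      rw [steinbergSL_one] at this
      rw [this, hn₂] at e
      exact hne n₂ (by rw [e])

section Torus

variable (C : Subgroup (Matrix.SpecialLinearGroup (Fin 2) F))

open Classical in
/-- the two sums of the restriction of a cuspidal character over the non-central elements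
of `C`. -/
theorem cusp_torus_sums (hodd : Odd (Fintype.card F))
    (hcard : Nat.card C = Fintype.card F + 1)
    (hcomm : ∀ a ∈ C, ∀ b ∈ C, a * b = b * a)
    {ψ : GL (Fin 2) F → ℂ} (hc : IsCuspidalGL ψ) {ε : ℂ} (hε1 : ε = 1 ∨ ε = -1)
    (hε : ∀ g, resSL ψ (negOneSL F * g) = ε * resSL ψ g) :
    (∑ c ∈ Finset.univ.filter (fun c : C => (c : Matrix.SpecialLinearGroup (Fin 2) F) ≠ 1 ∧
          (c : Matrix.SpecialLinearGroup (Fin 2) F) ≠ negOneSL F),
        resSL ψ (c : Matrix.SpecialLinearGroup (Fin 2) F) *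
          conj (resSL ψ (c : Matrix.SpecialLinearGroup (Fin 2) F)) =
      2 * (classInner (resSL ψ) (resSL ψ) * ((Fintype.card F : ℂ) + 1) - 4)) ∧
    (∑ c ∈ Finset.univ.filter (fun c : C => (c : Matrix.SpecialLinearGroup (Fin 2) F) ≠ 1 ∧
          (c : Matrix.SpecialLinearGroup (Fin 2) F) ≠ negOneSL F),
        resSL ψ (c : Matrix.SpecialLinearGroup (Fin 2) F) = 2 * (1 + ε)) := by
  have hq0 : (Fintype.card F : ℂ) ≠ 0 := Nat.cast_ne_zero.mpr Fintype.card_ne_zero
  have hq1 := card_field_sub_one_ne_zero_complex (F := F)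
  have hcf := isClassFunction_resSL hc
  have hcfS := isClassFunction_of_irr (isIrr_steinbergSL (F := F))
  have hεε : ε * conj ε = 1 := by
    rcases hε1 with h | h <;> rw [h] <;> simp
  have hm1 : resSL ψ (negOneSL F) = ε * ((Fintype.card F : ℂ) - 1) := by
    have := hε 1
    rwa [mul_one, resSL_one hc] at this
  have hconjq : conj ((Fintype.card F : ℂ) - 1) = (Fintype.card F : ℂ) - 1 := by
    rw [map_sub, Complex.conj_natCast, map_one]
  constructor
  · have hcf2 : IsClassFunction (Matrix.SpecialLinearGroup (Fin 2) F)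
        (fun g => resSL ψ g * conj (resSL ψ g)) := by
      intro g h
      simp only
      rw [hcf g h]
    have h1 := sum_torus C hodd hcard hcomm hcf2 1
      (fun b h10 heq h01 => by
        rcases resSL_unip hc hε b h10 heq h01 with h | h
        · simp only [h]; simp
        · simp only [h]
          rw [map_neg]
          linear_combination hεε)
      (fun b h01 h10 hne => by
        rw [resSL_diag hc b h01 h10 hne, zero_mul])
    rw [sum_eq_card_mul_classInner, card_SL2_complex, resSL_one hc, hm1, hconjq, map_mul,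
      hconjq] at h1
    apply mul_left_cancel₀ (mul_ne_zero hq0 hq1)
    linear_combination -h1 - 2 * ((Fintype.card F : ℂ) - 1) ^ 2 * hεε
  · have hcf2 : IsClassFunction (Matrix.SpecialLinearGroup (Fin 2) F)
        (fun g => resSL ψ g * conj (steinbergSL F g)) := by
      intro g h
      simp only
      rw [hcf g h, hcfS g h]
    have h1 := sum_torus C hodd hcard hcomm hcf2 0
      (fun b h10 heq h01 => by
        rw [(steinbergSL_values b).2.2 h10 heq h01, map_zero, mul_zero])
      (fun b h01 h10 hne => by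
        rw [resSL_diag hc b h01 h10 hne, zero_mul])
    have h3 : ∀ c ∈ Finset.univ.filter (fun c : C =>
        (c : Matrix.SpecialLinearGroup (Fin 2) F) ≠ 1 ∧
          (c : Matrix.SpecialLinearGroup (Fin 2) F) ≠ negOneSL F),
        resSL ψ (c : Matrix.SpecialLinearGroup (Fin 2) F) *
          conj (steinbergSL F (c : Matrix.SpecialLinearGroup (Fin 2) F)) =
        -resSL ψ (c : Matrix.SpecialLinearGroup (Fin 2) F) := by
      intro c hcm
      rw [Finset.mem_filter] at hcm
      have hell := isEllTr_of_mem C hodd hcard c c.2 hcm.2.1 hcm.2.2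
      rw [(steinbergSL_values (c : Matrix.SpecialLinearGroup (Fin 2) F)).2.1
        (fun a v hv => no_eigenvector_of_isEllTr _ hell a v hv), map_neg, map_one]
      ring
    rw [Finset.sum_congr rfl h3, Finset.sum_neg_distrib, sum_eq_card_mul_classInner,
      classInner_resSL_steinberg hc, resSL_one hc, hm1, steinbergSL_negOne, steinbergSL_one,
      Complex.conj_natCast] at h1
    apply mul_left_cancel₀ (mul_ne_zero hq0 hq1)
    linear_combination h1

end Torus

end Cfsg.Agent.Lib.Helper38
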