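import Cfsg.Agent.Lib.Helper38.PSL2DegreeGraphOdd

set_option autoImplicit false
set_option linter.unusedSimpArgs false
set_option linter.unusedSectionVars false

/-!
Elliptic elements of `SL₂(F)`, `|F|` odd: eigenvectors and the discriminant, conjugacy of
elements with the same trace, the fibres of the trace.
-/

namespace Cfsg.Agent.Lib.Helper38

open Matrix Cfsg Cfsg.Agent.Lib.Helper25
open scoped ComplexConjugate

variable {F : Type*} [Field F] [Fintype F] [DecidableEq F]

/-- the trace of an element of `SL₂`. -/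
def trSL (g : Matrix.SpecialLinearGroup (Fin 2) F) : F := g.1 0 0 + g.1 1 1

/-- the companion matrix `[0, -1; 1, t]`. -/
def companionSL (t : F) : Matrix.SpecialLinearGroup (Fin 2) F := mk2 0 (-1) 1 t (by ring)

@[simp] theorem trSL_companionSL (t : F) : trSL (companionSL t) = t := by
  simp [trSL, companionSL]

theorem trSL_conj (g x : Matrix.SpecialLinearGroup (Fin 2) F) :
    trSL (x⁻¹ * g * x) = trSL g := sl2_conj_trace g x

theorem trSL_eq_of_isConj {g h : Matrix.SpecialLinearGroup (Fin 2) F} (hc : IsConj g h) :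
    trSL g = trSL h := by
  rw [isConj_iff] at hc
  obtain ⟨c, rfl⟩ := hc
  have := trSL_conj g c⁻¹
  rw [inv_inv] at this
  exact this.symm

/-- an eigenvalue is a root of the characteristic polynomial. -/
theorem charpoly_of_eigenvector (g : Matrix.SpecialLinearGroup (Fin 2) F) (c : F) (v : Fin 2 → F)
    (hv : v ≠ 0) (h : g.1.mulVec v = c • v) : c ^ 2 - trSL g * c + 1 = 0 := by
  have h0 := congrFun h 0
  have h1 := congrFun h 1
  simp only [Matrix.mulVec, dotProduct, Fin.sum_univ_two, Pi.smul_apply, smul_eq_mul] at h0 h1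
  have hdet := sl2_det g
  have e0 : (c ^ 2 - trSL g * c + 1) * v 0 = 0 := by
    unfold trSL
    linear_combination (g.1 1 1 - c) * h0 - g.1 0 1 * h1 - v 0 * hdet
  have e1 : (c ^ 2 - trSL g * c + 1) * v 1 = 0 := by
    unfold trSL
    linear_combination (g.1 0 0 - c) * h1 - g.1 1 0 * h0 - v 1 * hdet
  by_contra hne
  apply hv
  funext i
  fin_cases i
  · exact (mul_eq_zero.mp e0).resolve_left hne
  · exact (mul_eq_zero.mp e1).resolve_left hne

theorem isSquare_disc_of_eigenvector (g : Matrix.SpecialLinearGroup (Fin 2) F) (c : F)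
    (v : Fin 2 → F) (hv : v ≠ 0) (h : g.1.mulVec v = c • v) : IsSquare (trSL g ^ 2 - 4) := by
  have := charpoly_of_eigenvector g c v hv h
  exact ⟨2 * c - trSL g, by linear_combination (-4 : F) * this⟩

/-- if the discriminant is a square there is an eigenvector. -/
theorem exists_eigenvector_of_isSquare (h2 : (2 : F) ≠ 0)
    (g : Matrix.SpecialLinearGroup (Fin 2) F) (h : IsSquare (trSL g ^ 2 - 4)) :
    ∃ (c : F) (v : Fin 2 → F), v ≠ 0 ∧ g.1.mulVec v = c • v := by
  obtain ⟨s, hs⟩ := h
  by_cases h01 : g.1 0 1 = 0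
  · refine ⟨g.1 1 1, ![0, 1], ?_, ?_⟩
    · intro h
      have := congrFun h 1
      simp at this
    · funext i
      fin_cases i
      · simp [Matrix.mulVec, dotProduct, Fin.sum_univ_two, h01]
      · simp [Matrix.mulVec, dotProduct, Fin.sum_univ_two]
  · have hdet := sl2_det g
    have hc : ((trSL g + s) / 2) ^ 2 - trSL g * ((trSL g + s) / 2) + 1 = 0 := by
      field_simp
      linear_combination -hs
    refine ⟨(trSL g + s) / 2, ![g.1 0 1, (trSL g + s) / 2 - g.1 0 0], ?_, ?_⟩
    · intro h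
      have := congrFun h 0
      simp at this
      exact h01 this
    · funext i
      fin_cases i
      · simp [Matrix.mulVec, dotProduct, Fin.sum_univ_two]
        ring
      · simp [Matrix.mulVec, dotProduct, Fin.sum_univ_two]
        unfold trSL at hc ⊢
        linear_combination -hc - hdet

/-- an element with an eigenvector and `tr² ≠ 4` is conjugate to a diagonal element with distinct
entries. -/
theorem exists_conj_diag (g : Matrix.SpecialLinearGroup (Fin 2) F) (c : F) (v : Fin 2 → F)
    (hv : v ≠ 0) (h : g.1.mulVec v = c • v) (htr : trSL g ^ 2 ≠ 4) :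
    ∃ n : Matrix.SpecialLinearGroup (Fin 2) F, (n⁻¹ * g * n).1 0 1 = 0 ∧ (n⁻¹ * g * n).1 1 0 = 0 ∧
      (n⁻¹ * g * n).1 0 0 ^ 2 ≠ 1 := by
  obtain ⟨n₁, hn₁⟩ := upper_of_eigenvector g c v hv h
  obtain ⟨b, hb⟩ : ∃ b, b = n₁⁻¹ * g * n₁ := ⟨_, rfl⟩
  rw [← hb] at hn₁
  have hbdet := sl2_det b
  rw [hn₁, mul_zero, sub_zero] at hbdet
  have hbtr : trSL b = trSL g := by rw [hb]; exact trSL_conj g n₁
  have hne : b.1 0 0 ≠ b.1 1 1 := by
    intro heq
    apply htr
    rw [← hbtr]
    unfold trSL
    rw [← heq] at hbdet ⊢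
    linear_combination 4 * hbdet
  have hne' : b.1 0 0 - b.1 1 1 ≠ 0 := sub_ne_zero.mpr hne
  obtain ⟨u, hu⟩ : ∃ u : Matrix.SpecialLinearGroup (Fin 2) F,
      u = mk2 1 (-(b.1 0 1) / (b.1 0 0 - b.1 1 1)) 0 1 (by ring) := ⟨_, rfl⟩
  refine ⟨n₁ * u, ?_, ?_, ?_⟩
  · have : (n₁ * u)⁻¹ * g * (n₁ * u) = u⁻¹ * b * u := by rw [hb]; group
    rw [this, sl2_conj_01, hu]
    simp only [mk2_00, mk2_01, mk2_10, mk2_11]
    rw [hn₁]
    field_simp
    ring
  · have : (n₁ * u)⁻¹ * g * (n₁ * u) = u⁻¹ * b * u := by rw [hb]; group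
    rw [this, sl2_conj_10, hu]
    simp only [mk2_00, mk2_01, mk2_10, mk2_11]
    rw [hn₁]
    ring
  · have : (n₁ * u)⁻¹ * g * (n₁ * u) = u⁻¹ * b * u := by rw [hb]; group
    rw [this, sl2_conj_00, hu]
    simp only [mk2_00, mk2_01, mk2_10, mk2_11]
    rw [hn₁]
    intro h1
    apply hne
    have h3 : b.1 0 0 ^ 2 = 1 := by linear_combination h1
    have h4 : b.1 0 0 * (b.1 0 0 - b.1 1 1) = 0 := by linear_combination h3 - hbdet
    rcases mul_eq_zero.mp h4 with h5 | h5
    · rw [h5] at hbdet; simp at hbdet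
    · exact sub_eq_zero.mp h5

/-- elements of `SL₂` with the same trace `t`, `t² ≠ 4`, are conjugate. -/
theorem isConj_of_trSL_eq (hodd : Odd (Fintype.card F))
    (g g' : Matrix.SpecialLinearGroup (Fin 2) F) (ht : trSL g = trSL g') (h4 : trSL g ^ 2 ≠ 4) :
    IsConj g g' := by
  have hns : ∀ k : Matrix.SpecialLinearGroup (Fin 2) F, trSL k ^ 2 ≠ 4 →
      ¬ IsScalarGL (Matrix.SpecialLinearGroup.toGL k) := by
    intro k hk hs
    apply hk
    have hdet := sl2_det k
    obtain ⟨h01, h10, heq⟩ := hs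
    rw [toGL_apply] at h01 h10 heq
    rw [toGL_apply] at heq
    unfold trSL
    rw [h01, zero_mul, sub_zero, ← heq] at hdet
    rw [← heq]
    linear_combination 4 * hdet
  have hc : IsConj (Matrix.SpecialLinearGroup.toGL g) (Matrix.SpecialLinearGroup.toGL g') := by
    apply isConj_of_tr_det (hns g h4) (hns g' (by rw [← ht]; exact h4))
    · exact ht
    · have h1 := sl2_det g
      have h2 := sl2_det g'
      unfold detGL
      simp only [toGL_apply]
      rw [h1, h2]
  rw [isConj_iff] at hc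
  obtain ⟨x, hx⟩ := hc
  obtain ⟨⟨s, d⟩, hsd⟩ := (slTimesDiag_bijective (F := F)).2 x
  have h1 : Matrix.SpecialLinearGroup.toGL (s * twistSL d g * s⁻¹) =
      Matrix.SpecialLinearGroup.toGL g' := by
    rw [← hx, ← hsd, map_mul, map_mul, toGL_twistSL, map_inv]
    unfold slTimesDiag
    simp only
    group
  have h2 : s * twistSL d g * s⁻¹ = g' := by
    apply sl2_ext
    · have := congrArg (fun y : GL (Fin 2) F => (y : Matrix (Fin 2) (Fin 2) F) 0 0) h1
      simpa only [toGL_apply] using this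
    · have := congrArg (fun y : GL (Fin 2) F => (y : Matrix (Fin 2) (Fin 2) F) 0 1) h1
      simpa only [toGL_apply] using this
    · have := congrArg (fun y : GL (Fin 2) F => (y : Matrix (Fin 2) (Fin 2) F) 1 0) h1
      simpa only [toGL_apply] using this
    · have := congrArg (fun y : GL (Fin 2) F => (y : Matrix (Fin 2) (Fin 2) F) 1 1) h1
      simpa only [toGL_apply] using this
  have h3 : IsConj (twistSL d g) g' := isConj_iff.mpr ⟨s, h2⟩
  exact (isConj_twistSL hodd d g h4).trans h3

/-- a trace value `t` is elliptic when `t² - 4` is not a square. -/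
def IsEllTr (t : F) : Prop := ¬ IsSquare (t ^ 2 - 4)

theorem IsEllTr.sq_ne_four {t : F} (h : IsEllTr t) : t ^ 2 ≠ 4 := by
  intro h4
  apply h
  rw [h4, sub_self]
  exact ⟨0, by ring⟩

/-- an element with elliptic trace has non-zero upper right entry. -/
theorem apply_01_ne_zero_of_isEllTr (g : Matrix.SpecialLinearGroup (Fin 2) F)
    (h : IsEllTr (trSL g)) : g.1 0 1 ≠ 0 := by
  intro h01
  apply h
  have hdet := sl2_det g
  rw [h01, zero_mul, sub_zero] at hdet
  refine ⟨g.1 0 0 - g.1 1 1, ?_⟩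
  unfold trSL
  linear_combination (4 : F) * hdet

/-- the fibre of the trace over an elliptic value is in bijection with `F × Fˣ`. -/
noncomputable def ellFiberEquiv (t : F) (ht : IsEllTr t) :
    {g : Matrix.SpecialLinearGroup (Fin 2) F // trSL g = t} ≃ F × Fˣ where
  toFun g := (g.1.1 0 0, Units.mk0 (g.1.1 0 1)
    (apply_01_ne_zero_of_isEllTr g.1 (by rw [g.2]; exact ht)))
  invFun p := ⟨mk2 p.1 (p.2 : F) ((p.1 * (t - p.1) - 1) * ((p.2⁻¹ : Fˣ) : F)) (t - p.1) (by
      have hd : ((p.2 : Fˣ) : F) * ((p.2⁻¹ : Fˣ) : F) = 1 := by simp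
      linear_combination (-(p.1 * (t - p.1) - 1)) * hd), by
    unfold trSL
    simp only [mk2_00, mk2_11]
    ring⟩
  left_inv := by
    rintro ⟨g, hg⟩
    apply Subtype.ext
    have hdet := sl2_det g
    have h01 := apply_01_ne_zero_of_isEllTr g (by rw [hg]; exact ht)
    have h11 : g.1 1 1 = t - g.1 0 0 := by
      rw [← hg]; unfold trSL; ring
    apply sl2_ext
    · simp
    · simp
    · simp only [mk2_10, Units.val_inv_eq_inv_val, Units.val_mk0]
      field_simp
      rw [← h11]
      linear_combination hdet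
    · simp only [mk2_11]
      exact h11.symm
  right_inv := by
    rintro ⟨a, b⟩
    apply Prod.ext
    · simp
    · apply Units.ext
      simp

theorem card_trSL_fiber (t : F) (ht : IsEllTr t) :
    (Finset.univ.filter (fun g : Matrix.SpecialLinearGroup (Fin 2) F => trSL g = t)).card =
      Fintype.card F * (Fintype.card F - 1) := by
  rw [← Fintype.card_subtype, Fintype.card_congr (ellFiberEquiv t ht), Fintype.card_prod,
    Fintype.card_units]

/-- the sum of a class function over an elliptic fibre of the trace. -/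
theorem sum_trSL_fiber (hodd : Odd (Fintype.card F))
    {f : Matrix.SpecialLinearGroup (Fin 2) F → ℂ}
    (hf : IsClassFunction (Matrix.SpecialLinearGroup (Fin 2) F) f) (t : F) (ht : IsEllTr t) :
    ∑ g ∈ Finset.univ.filter (fun g : Matrix.SpecialLinearGroup (Fin 2) F => trSL g = t), f g =
      ((Fintype.card F : ℂ) * ((Fintype.card F : ℂ) - 1)) * f (companionSL t) := by
  have h : ∀ g ∈ Finset.univ.filter (fun g : Matrix.SpecialLinearGroup (Fin 2) F => trSL g = t),
      f g = f (companionSL t) := by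
    intro g hg
    rw [Finset.mem_filter] at hg
    apply Cfsg.Agent.Lib.Helper3.IsClassFunction.eq_of_isConj hf
    apply isConj_of_trSL_eq hodd
    · rw [hg.2, trSL_companionSL]
    · rw [hg.2]; exact ht.sq_ne_four
  rw [Finset.sum_congr rfl h, Finset.sum_const, card_trSL_fiber t ht, nsmul_eq_mul,
    Nat.cast_mul, Nat.cast_sub Fintype.card_pos, Nat.cast_one]

end Cfsg.Agent.Lib.Helper38
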