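import Cfsg.Agent.Lib.Helper38.SL2TorusChar
import Cfsg.Agent.Lib.Helper38.SL2Centralizer

set_option autoImplicit false
set_option linter.unusedSimpArgs false
set_option linter.unusedSectionVars false

/-!
Values of the characters of degree `(q ± 1)/2` of `SL₂(F)` on the semisimple elements.
-/

namespace Cfsg.Agent.Lib.Helper38

open Matrix Cfsg Cfsg.Agent.Lib.Helper25
open scoped ComplexConjugate

variable {F : Type*} [Field F] [Fintype F] [DecidableEq F]

/-- the quadratic character: a multiplicative character of order two takes the value `1` exactly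
at the non-zero squares. -/
theorem mulChar_order_two_apply (α : MulChar F ℂ) (h2 : α ^ 2 = 1) (h1 : α ≠ 1) (a : F)
    (ha : a ≠ 0) : (IsSquare a → α a = 1) ∧ (¬ IsSquare a → α a = -1) := by
  have hsq : ∀ b : F, b ≠ 0 → α b * α b = 1 := by
    intro b hb
    have := congrArg (fun β : MulChar F ℂ => β b) h2
    simp only [pow_two, MulChar.mul_apply] at this
    rw [this]
    exact MulChar.one_apply (isUnit_iff_ne_zero.mpr hb)
  constructor
  · rintro ⟨b, rfl⟩
    have hb : b ≠ 0 := left_ne_zero_of_mul ha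
    rw [map_mul]
    exact hsq b hb
  · intro hns
    have h3 := hsq a ha
    have : (α a - 1) * (α a + 1) = 0 := by linear_combination h3
    rcases mul_eq_zero.mp this with h4 | h4
    · exfalso
      apply h1
      have ha1 : α a = 1 := by linear_combination h4
      ext u
      rw [MulChar.one_apply_coe]
      by_cases hu : IsSquare (u : F)
      · obtain ⟨b, hb⟩ := hu
        rw [hb, map_mul]
        exact hsq b (left_ne_zero_of_mul (hb ▸ u.ne_zero))
      · obtain ⟨s, hs⟩ := exists_sq_of_nonsquare u (Units.mk0 a ha) hu hns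
        rw [hs, Units.val_mul, map_mul, Units.val_mk0, ha1, one_mul, Units.val_pow_eq_pow_val,
          pow_two, map_mul]
        exact hsq _ s.ne_zero
    · linear_combination h4

/-- values of the characters of degree `(q + 1)/2` at the split semisimple elements. -/
theorem half_ps_diag {k : ℕ} (hk : Fintype.card F = 2 * k + 1) (hk2 : 2 ≤ k)
    (χ : Matrix.SpecialLinearGroup (Fin 2) F → ℂ)
    (hχ : IsIrrCharacter (Matrix.SpecialLinearGroup (Fin 2) F) χ)
    (hdeg : χ 1 = ((k + 1 : ℕ) : ℂ)) (g : Matrix.SpecialLinearGroup (Fin 2) F)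
    (h01 : g.1 0 1 = 0) (h10 : g.1 1 0 = 0) (hne : g.1 0 0 ^ 2 ≠ 1) :
    (IsSquare (g.1 0 0) → χ g = 1) ∧ (¬ IsSquare (g.1 0 0) → χ g = -1) := by
  have hodd : Odd (Fintype.card F) := ⟨k, hk⟩
  obtain ⟨d₀, hd₀⟩ := exists_nonsquare_unit hodd
  obtain ⟨α, ha2, ha1, -, hsum⟩ := (half_degree_types hk hk2 d₀ hd₀ χ hχ).1 hdeg
  have hdet := sl2_det g
  rw [h01, zero_mul, sub_zero] at hdet
  have h00 : g.1 0 0 ≠ 0 := left_ne_zero_of_mul_eq_one hdet
  have e := congrFun hsum g
  rw [ps_SL_diag α g h01 h10 hne, Pi.add_apply, tw_apply_of_diag d₀ χ g h01 h10] at e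
  have hαα : α (g.1 0 0) * α (g.1 1 1) = 1 := by
    rw [← map_mul, hdet]
    exact MulChar.map_one α
  obtain ⟨hs, hns⟩ := mulChar_order_two_apply α ha2 ha1 (g.1 0 0) h00
  constructor
  · intro h
    have h5 := hs h
    rw [h5, one_mul] at hαα
    rw [h5, hαα] at e
    linear_combination (-1 / 2 : ℂ) * e
  · intro h
    have h5 := hns h
    rw [h5] at hαα
    have h6 : α (g.1 1 1) = -1 := by linear_combination -hαα
    rw [h5, h6] at e
    linear_combination (-1 / 2 : ℂ) * e

/-- on a cyclic group of order `2m`, a non-trivial self-inverse homomorphism to `ℂˣ` takes the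
value `1` exactly at the elements with `c ^ m = 1`, and `-1` otherwise. -/
theorem cyclic_sign {G : Type*} [Group G] [Finite G] [IsCyclic G] (m : ℕ) (hm : 0 < m)
    (hcard : Nat.card G = 2 * m) (θ : G →* ℂˣ) (h1 : θ ≠ 1) (hr : θ⁻¹ = θ) (c : G) :
    (c ^ m = 1 → ((θ c : ℂˣ) : ℂ) = 1) ∧ (c ^ m ≠ 1 → ((θ c : ℂˣ) : ℂ) = -1) := by
  obtain ⟨x, hx⟩ := IsCyclic.exists_generator (α := G)
  have hord : orderOf x = 2 * m := by
    rw [← hcard]
    exact orderOf_eq_card_of_forall_mem_zpowers hx
  have hθx : ((θ x : ℂˣ) : ℂ) = -1 := by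
    have h3 : θ x * θ x = 1 := by
      have := congrArg (fun η : G →* ℂˣ => η x) hr
      simp only [MonoidHom.inv_apply] at this
      nth_rewrite 1 [← this]
      exact inv_mul_cancel (θ x)
    rcases units_sq_eq_one h3 with h4 | h4
    · exfalso
      apply h1
      apply hom_eq_of_generator x hx
      rw [MonoidHom.one_apply]
      exact Units.ext h4
    · exact h4
  obtain ⟨n, hn⟩ : ∃ n : ℕ, x ^ n = c := by
    have := hx c
    rw [← mem_powers_iff_mem_zpowers] at this
    exact this
  have hθc : ((θ c : ℂˣ) : ℂ) = (-1) ^ n := by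
    rw [← hn, map_pow, Units.val_pow_eq_pow_val, hθx]
  have hiff : c ^ m = 1 ↔ Even n := by
    rw [← hn, ← pow_mul, ← orderOf_dvd_iff_pow_eq_one, hord, Nat.mul_dvd_mul_iff_right hm,
      even_iff_two_dvd]
  constructor
  · intro h
    rw [hθc, (hiff.mp h).neg_one_pow]
  · intro h
    have hoddn : Odd n := by
      rw [← Nat.not_even_iff_odd]
      exact fun he => h (hiff.mpr he)
    rw [hθc, hoddn.neg_one_pow]

/-- values of the characters of degree `(q - 1)/2` at the elliptic elements. -/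
theorem half_cusp_elliptic {k : ℕ} (hk : Fintype.card F = 2 * k + 1) (hk2 : 2 ≤ k)
    (χ : Matrix.SpecialLinearGroup (Fin 2) F → ℂ)
    (hχ : IsIrrCharacter (Matrix.SpecialLinearGroup (Fin 2) F) χ)
    (hdeg : χ 1 = ((k : ℕ) : ℂ)) (g : Matrix.SpecialLinearGroup (Fin 2) F)
    (hg : ∀ (c : F) (v : Fin 2 → F), v ≠ 0 → g.1.mulVec v ≠ c • v) :
    (g ^ (k + 1) = 1 → χ g = -1) ∧ (g ^ (k + 1) ≠ 1 → χ g = 1) := by
  have hodd : Odd (Fintype.card F) := ⟨k, hk⟩
  have h2 := two_ne_zero_of_odd_card hodd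
  obtain ⟨d₀, hd₀⟩ := exists_nonsquare_unit hodd
  obtain ⟨ψ, hc, hne, hsum⟩ := (half_degree_types hk hk2 d₀ hd₀ χ hχ).2 hdeg
  have hell : IsEllTr (trSL g) := by
    intro hsq
    obtain ⟨c, v, hv, hcv⟩ := exists_eigenvector_of_isSquare h2 g hsq
    exact hg c v hv hcv
  obtain ⟨t, ht⟩ : ∃ t, t = trSL g := ⟨_, rfl⟩
  rw [← ht] at hell
  have hcyc := isCyclic_ellCentralizer t hell
  have hcard := card_ellCentralizer hodd t hell
  have hm := negOneSL_mem_of_card (ellCentralizer t) hodd hcard
  obtain ⟨θ₀, hθ1, hθr, hval⟩ :=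
    cusp_torus_half (ellCentralizer t) hodd hcyc hcard hm hc d₀ hχ hne hsum
  have hconj : IsConj g (companionSL t) := by
    apply isConj_of_trSL_eq hodd
    · rw [trSL_companionSL, ht]
    · rw [← ht]; exact hell.sq_ne_four
  have hcf := isClassFunction_of_irr hχ
  have hχg : χ g = χ (companionSL t) :=
    Cfsg.Agent.Lib.Helper3.IsClassFunction.eq_of_isConj hcf hconj
  have hc1 : companionSL t ≠ 1 := by
    intro h
    have := congrArg trSL h
    rw [trSL_companionSL, trSL_one] at this
    apply hell.sq_ne_four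
    rw [this]; norm_num
  have hcm1 : companionSL t ≠ negOneSL F := by
    intro h
    have := congrArg trSL h
    rw [trSL_companionSL, trSL_negOneSL] at this
    apply hell.sq_ne_four
    rw [this]; norm_num
  have hv := hval ⟨companionSL t, companionSL_mem_ellCentralizer t⟩ hc1 hcm1
  simp only at hv
  have hcard' : Nat.card (ellCentralizer t) = 2 * (k + 1) := by rw [hcard, hk]; ring
  obtain ⟨hs1, hs2⟩ := cyclic_sign (k + 1) (Nat.succ_pos k) hcard' θ₀ hθ1 hθr
    ⟨companionSL t, companionSL_mem_ellCentralizer t⟩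
  have hpow : g ^ (k + 1) = 1 ↔
      (⟨companionSL t, companionSL_mem_ellCentralizer t⟩ : ellCentralizer t) ^ (k + 1) = 1 := by
    rw [isConj_iff] at hconj
    obtain ⟨y, hy⟩ := hconj
    rw [Subtype.ext_iff, Subgroup.coe_pow, Subgroup.coe_one]
    simp only
    rw [← hy, conj_pow]
    constructor
    · intro h; rw [h]; group
    · intro h
      have : g ^ (k + 1) = y⁻¹ * (y * g ^ (k + 1) * y⁻¹) * y := by group
      rw [this, h]; group
  constructor
  · intro h
    rw [hχg, hv, hs1 (hpow.mp h)]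
  · intro h
    rw [hχg, hv, hs2 (fun h' => h (hpow.mpr h'))]
    ring

end Cfsg.Agent.Lib.Helper38
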