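import Cfsg.Agent.Lib.Helper38.GL2TableValues
import Cfsg.Agent.Lib.Helper79.CenterIndex

set_option autoImplicit false
set_option linter.unusedSimpArgs false
set_option linter.unusedSectionVars false

/-!
Irreducible characters of `SL₂(F)` via Clifford theory from `GL₂(F)`.
-/

namespace Cfsg.Agent.Lib.Helper38

open Matrix Cfsg Cfsg.Agent.Lib.Helper25
open scoped ComplexConjugate

variable {F : Type*} [Field F] [Fintype F] [DecidableEq F]

/-! ### restriction of the principal series -/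

theorem extendByZero_psFunGL_toGL' (α β : MulChar F ℂ)
    (k : Matrix.SpecialLinearGroup (Fin 2) F) :
    extendByZero (borelGL F) (psFunGL α β) (Matrix.SpecialLinearGroup.toGL k) =
      extendByZero (borelSL F) (psFun (α * β⁻¹)) k := by
  by_cases hk : k ∈ borelSL F
  · have hk' : Matrix.SpecialLinearGroup.toGL k ∈ borelGL F := hk
    rw [extendByZero_of_mem _ _ hk, extendByZero_of_mem _ _ hk']
    unfold psFunGL psFun
    simp only [toGL_apply]
    have h11 := borelSL_11 ⟨k, hk⟩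
    simp only at h11
    rw [h11, MulChar.mul_apply, MulChar.inv_apply']
  · have hk' : Matrix.SpecialLinearGroup.toGL k ∉ borelGL F := hk
    rw [extendByZero_of_not_mem _ _ hk, extendByZero_of_not_mem _ _ hk']

/-- restriction of the principal series of `GL₂` to `SL₂`. -/
theorem ps_GL_restrict' (α β : MulChar F ℂ) (n : Matrix.SpecialLinearGroup (Fin 2) F) :
    indFun (borelGL F) (psFunGL α β) (Matrix.SpecialLinearGroup.toGL n) =
      indFun (borelSL F) (psFun (α * β⁻¹)) n := by
  rw [indFun_apply, indFun_apply, card_borelGL, card_borelSL]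
  rw [← (Equiv.ofBijective _ (slTimesDiag_bijective (F := F))).sum_comp, Fintype.sum_prod_type]
  have hterm : ∀ (m : Matrix.SpecialLinearGroup (Fin 2) F) (d : Fˣ),
      extendByZero (borelGL F) (psFunGL α β)
        ((Equiv.ofBijective _ (slTimesDiag_bijective (F := F)) (m, d))⁻¹ *
          Matrix.SpecialLinearGroup.toGL n *
          (Equiv.ofBijective _ (slTimesDiag_bijective (F := F)) (m, d))) =
        extendByZero (borelSL F) (psFun (α * β⁻¹)) (m⁻¹ * n * m) := by
    intro m d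
    rw [← extendByZero_psFunGL_toGL']
    have h1 : (Equiv.ofBijective _ (slTimesDiag_bijective (F := F)) (m, d)) =
        Matrix.SpecialLinearGroup.toGL m * diagGL d := rfl
    rw [h1]
    have h2 : (Matrix.SpecialLinearGroup.toGL m * diagGL d)⁻¹ * Matrix.SpecialLinearGroup.toGL n *
        (Matrix.SpecialLinearGroup.toGL m * diagGL d) =
        (((⟨diagGL d, diagGL_mem d⟩ : borelGL F)⁻¹ : borelGL F) : GL (Fin 2) F) *
          Matrix.SpecialLinearGroup.toGL (m⁻¹ * n * m) *
          ((((⟨diagGL d, diagGL_mem d⟩ : borelGL F)⁻¹ : borelGL F) : GL (Fin 2) F))⁻¹ := by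
      simp only [Subgroup.coe_inv, map_mul, map_inv]
      group
    rw [h2, extendByZero_conj_mem _ _ (psFunGL_isClassFunction α β)]
  rw [Finset.sum_congr rfl (fun m _ => Finset.sum_congr rfl (fun d _ => hterm m d))]
  simp only [Finset.sum_const, Finset.card_univ, nsmul_eq_mul, Fintype.card_units]
  rw [← Finset.mul_sum, Nat.cast_mul, Nat.cast_mul, Nat.cast_pow, Nat.cast_sub Fintype.card_pos,
    Nat.cast_one]
  have hq := card_field_ne_zero_complex (F := F)
  have hq1 := card_field_sub_one_ne_zero_complex (F := F)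
  field_simp

/-! ### a general irreducibility criterion -/

theorem isIrr_sub_of_norm_two {G : Type*} [Group G] [Fintype G] {R L : G → ℂ}
    (hR : IsCharacter G R) (hnorm : classInner R R = 2) (hL : IsIrrCharacter G L)
    (hRL : classInner R L = 1) : IsIrrCharacter G (R - L) := by
  classical
  obtain ⟨χ₁, χ₂, h1, h2, hne, hsum⟩ := exists_two_irr_of_norm_two hR hnorm
  rw [hsum, classInner_add_left, Cfsg.Agent.Lib.Helper3.classInner_irr h1 hL,
    Cfsg.Agent.Lib.Helper3.classInner_irr h2 hL] at hRL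
  rw [hsum]
  by_cases e1 : χ₁ = L
  · rw [← e1, add_sub_cancel_left]
    exact h2
  · by_cases e2 : χ₂ = L
    · rw [← e2, add_sub_cancel_right]
      exact h1
    · rw [if_neg e1, if_neg e2] at hRL
      norm_num at hRL

/-! ### the trivial and the Steinberg character of `SL₂` -/

theorem isIrr_one_SL : IsIrrCharacter (Matrix.SpecialLinearGroup (Fin 2) F) (fun _ => (1 : ℂ)) :=
  Cfsg.Agent.Lib.Helper3.isIrrCharacter_one

/-- the Steinberg character of `SL₂(F)`. -/
noncomputable def steinbergSL (F : Type*) [Field F] [Fintype F] [DecidableEq F] :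
    Matrix.SpecialLinearGroup (Fin 2) F → ℂ :=
  indFun (borelSL F) (psFun 1) - fun _ => (1 : ℂ)

theorem psFun_one_eq : psFun (1 : MulChar F ℂ) = fun _ : borelSL F => (1 : ℂ) := by
  funext b
  unfold psFun
  rw [MulChar.one_apply (isUnit_iff_ne_zero.mpr (borelSL_00_ne_zero b))]

theorem classInner_ps_SL_one :
    classInner (indFun (borelSL F) (psFun (1 : MulChar F ℂ))) (fun _ => (1 : ℂ)) = 1 := by
  rw [frobenius_reciprocity _ _ _
    (Cfsg.Agent.Lib.Helper3.IsCharacter.isClassFunction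
      (Cfsg.Agent.Lib.Helper3.IsIrrCharacter.isCharacter isIrr_one_SL)), psFun_one_eq]
  have h := Cfsg.Agent.Lib.Helper3.classInner_irr
    (Cfsg.Agent.Lib.Helper3.isIrrCharacter_one (G := borelSL F))
    (Cfsg.Agent.Lib.Helper3.isIrrCharacter_one (G := borelSL F))
  rw [if_pos rfl] at h
  exact h

theorem isIrr_steinbergSL : IsIrrCharacter (Matrix.SpecialLinearGroup (Fin 2) F) (steinbergSL F) := by
  classical
  apply isIrr_sub_of_norm_two (isCharacter_ps_SL 1) _ isIrr_one_SL classInner_ps_SL_one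
  rw [classInner_ps_SL, if_pos rfl, if_pos (by simp)]
  norm_num

theorem ps_SL_one (α : MulChar F ℂ) :
    indFun (borelSL F) (psFun α) 1 = (Fintype.card F : ℂ) + 1 := by
  rw [ps_SL_central α 1 sl2_one_01 sl2_one_10 (by rw [sl2_one_00, sl2_one_11]), sl2_one_00,
    map_one, mul_one]

theorem steinbergSL_one : steinbergSL F 1 = (Fintype.card F : ℂ) := by
  unfold steinbergSL
  rw [Pi.sub_apply, ps_SL_one]
  ring

/-! ### restriction from `GL₂` to `SL₂` -/

/-- restriction of a function on `GL₂` to `SL₂`. -/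
def resSL (χ : GL (Fin 2) F → ℂ) : Matrix.SpecialLinearGroup (Fin 2) F → ℂ :=
  fun n => χ (Matrix.SpecialLinearGroup.toGL n)

theorem isCharacter_resSL {χ : GL (Fin 2) F → ℂ} (hχ : IsCharacter (GL (Fin 2) F) χ) :
    IsCharacter (Matrix.SpecialLinearGroup (Fin 2) F) (resSL χ) :=
  Cfsg.Agent.Lib.Helper79.isCharacter_comp hχ Matrix.SpecialLinearGroup.toGL

theorem det_slTimesDiag (m : Matrix.SpecialLinearGroup (Fin 2) F) (d : Fˣ) :
    Matrix.GeneralLinearGroup.det (slTimesDiag (m, d)) = d := by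
  unfold slTimesDiag
  rw [map_mul, Matrix.SpecialLinearGroup.coeToGL_det, one_mul]
  apply Units.ext
  rw [Matrix.GeneralLinearGroup.val_det_apply, Matrix.det_fin_two]
  simp [diagGL]

theorem diagGL_one : diagGL (1 : Fˣ) = (1 : GL (Fin 2) F) := by
  apply gl2_ext
  · simp [diagGL]
  · simp [diagGL]
  · simp [diagGL]
  · simp [diagGL]

/-- the inner product of two restrictions as a sum of inner products of twists. -/
theorem classInner_resSL (χ ψ : GL (Fin 2) F → ℂ) :
    classInner (resSL χ) (resSL ψ) =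
      ∑ γ : MulChar F ℂ, classInner (fun g => χ g * detChar γ g) ψ := by
  simp only [classInner_def]
  rw [← Finset.mul_sum, Finset.sum_comm]
  have h1 : ∀ g : GL (Fin 2) F, ∑ γ : MulChar F ℂ, χ g * detChar γ g * conj (ψ g) =
      χ g * conj (ψ g) *
        (if Matrix.GeneralLinearGroup.det g = 1 then ((Fintype.card F : ℂ) - 1) else 0) := by
    intro g
    rw [← sum_mulChar_apply, Finset.mul_sum]
    apply Finset.sum_congr rfl
    intro γ _
    unfold detChar
    ring
  rw [Finset.sum_congr rfl (fun g _ => h1 g),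
    ← (Equiv.ofBijective _ (slTimesDiag_bijective (F := F))).sum_comp, Fintype.sum_prod_type]
  have h2 : ∀ m : Matrix.SpecialLinearGroup (Fin 2) F, ∑ d : Fˣ,
      χ (Equiv.ofBijective _ (slTimesDiag_bijective (F := F)) (m, d)) *
        conj (ψ (Equiv.ofBijective _ (slTimesDiag_bijective (F := F)) (m, d))) *
        (if Matrix.GeneralLinearGroup.det
          (Equiv.ofBijective _ (slTimesDiag_bijective (F := F)) (m, d)) = 1
          then ((Fintype.card F : ℂ) - 1) else 0) =
      resSL χ m * conj (resSL ψ m) * ((Fintype.card F : ℂ) - 1) := by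
    intro m
    rw [Finset.sum_eq_single (1 : Fˣ)]
    · have e : Equiv.ofBijective _ (slTimesDiag_bijective (F := F)) (m, (1 : Fˣ)) =
          Matrix.SpecialLinearGroup.toGL m := by
        show Matrix.SpecialLinearGroup.toGL m * diagGL 1 = _
        rw [diagGL_one, mul_one]
      rw [e, Matrix.SpecialLinearGroup.coeToGL_det, if_pos rfl]
      rfl
    · intro d _ hd
      have e : Matrix.GeneralLinearGroup.det
          (Equiv.ofBijective _ (slTimesDiag_bijective (F := F)) (m, d)) = d :=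
        det_slTimesDiag m d
      rw [e, if_neg hd, mul_zero]
    · intro h; exact absurd (Finset.mem_univ _) h
  rw [Finset.sum_congr rfl (fun m _ => h2 m), ← Finset.sum_mul, card_GL2, card_SL2]
  have hpos : 1 ≤ Fintype.card F ^ 2 := Nat.one_le_pow _ _ Fintype.card_pos
  have hle : Fintype.card F ≤ Fintype.card F ^ 2 := by
    rw [pow_two]; exact Nat.le_mul_of_pos_left _ Fintype.card_pos
  simp only [Nat.cast_mul, Nat.cast_pow, Nat.cast_sub hpos, Nat.cast_sub hle, Nat.cast_one]
  have hq := card_field_ne_zero_complex (F := F)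
  have hq1 := card_field_sub_one_ne_zero_complex (F := F)
  have hq2 : (Fintype.card F : ℂ) ^ 2 - 1 ≠ 0 := by
    have : (Fintype.card F : ℂ) ^ 2 - 1 = ((Fintype.card F : ℂ) - 1) * ((Fintype.card F : ℂ) + 1) := by
      ring
    rw [this]
    apply mul_ne_zero hq1
    have h3 : ((Fintype.card F + 1 : ℕ) : ℂ) ≠ 0 := Nat.cast_ne_zero.mpr (Nat.succ_ne_zero _)
    simpa using h3
  field_simp

/-! ### twisting by linear characters -/

theorem detChar_mul_conj (γ : MulChar F ℂ) (g : GL (Fin 2) F) :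
    detChar γ g * conj (detChar γ g) = 1 := by
  unfold detChar
  rw [conj_mulChar, ← MulChar.mul_apply, mul_inv_cancel,
    MulChar.one_apply (Units.isUnit _)]

theorem isIrr_twist {χ : GL (Fin 2) F → ℂ} (hχ : IsIrrCharacter (GL (Fin 2) F) χ)
    (γ : MulChar F ℂ) : IsIrrCharacter (GL (Fin 2) F) (fun g => χ g * detChar γ g) := by
  have hc : IsCharacter (GL (Fin 2) F) (fun g => χ g * detChar γ g) :=
    Cfsg.Agent.Lib.Helper3.IsCharacter.mul (Cfsg.Agent.Lib.Helper3.IsIrrCharacter.isCharacter hχ)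
      (Cfsg.Agent.Lib.Helper3.IsIrrCharacter.isCharacter (isIrr_detChar γ))
  apply Cfsg.Agent.Lib.Helper3.isIrrCharacter_of_classInner_self_eq_one hc
  have h1 := Cfsg.Agent.Lib.Helper3.classInner_irr hχ hχ
  rw [if_pos rfl] at h1
  rw [← h1, classInner_def, classInner_def]
  congr 1
  apply Finset.sum_congr rfl
  intro g _
  rw [map_mul]
  have := detChar_mul_conj γ g
  linear_combination (χ g * conj (χ g)) * this

theorem irr_apply_center_ne_zero {G : Type*} [Group G] [Finite G] {χ : G → ℂ}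
    (hχ : IsIrrCharacter G χ) {z : G} (hz : z ∈ Subgroup.center G) : χ z ≠ 0 := by
  obtain ⟨n, ρ, hρ, rfl⟩ := hχ
  have : ρ.IsIrreducible := hρ
  obtain ⟨c, hc, hcc⟩ := Cfsg.Agent.Lib.Helper79.exists_scalar_of_mem_center ρ hz
  have hn : Nontrivial (Fin n → ℂ) :=
    ((Cfsg.Agent.Lib.Helper3.isIrreducible_iff ρ).mp hρ).1
  have hn0 : (Module.finrank ℂ (Fin n → ℂ) : ℂ) ≠ 0 := by
    exact_mod_cast (Module.finrank_pos (R := ℂ) (M := Fin n → ℂ)).ne'
  have hc0 : c ≠ 0 := by
    intro h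
    rw [h, zero_mul] at hcc
    exact zero_ne_one hcc
  unfold Representation.character
  rw [hc, map_smul, LinearMap.trace_id, smul_eq_mul]
  exact mul_ne_zero hc0 hn0

theorem scalarGL_mem_center (a : Fˣ) : scalarGL a ∈ Subgroup.center (GL (Fin 2) F) := by
  rw [Subgroup.mem_center_iff]
  intro h
  exact scalarGL_comm a h

theorem detChar_scalarGL (γ : MulChar F ℂ) (a : Fˣ) :
    detChar γ (scalarGL a) = (γ ^ 2) (a : F) := by
  rw [detChar_apply]
  simp only [scalarGL, gl2_00, gl2_01, gl2_10, gl2_11, mul_zero, sub_zero]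
  rw [MulChar.pow_apply_coe, map_mul, pow_two]

/-- the stabiliser of an irreducible character under twisting consists of characters of
order at most 2. -/
theorem sq_eq_one_of_twist_eq {χ : GL (Fin 2) F → ℂ} (hχ : IsIrrCharacter (GL (Fin 2) F) χ)
    (γ : MulChar F ℂ) (h : (fun g => χ g * detChar γ g) = χ) : γ ^ 2 = 1 := by
  ext a
  have h1 : χ (scalarGL a) * detChar γ (scalarGL a) = χ (scalarGL a) := congrFun h (scalarGL a)
  have h2 := irr_apply_center_ne_zero hχ (scalarGL_mem_center a)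
  rw [detChar_scalarGL] at h1
  have h3 : χ (scalarGL a) * ((γ ^ 2) (a : F) - 1) = 0 := by linear_combination h1
  rcases mul_eq_zero.mp h3 with h4 | h4
  · exact absurd h4 h2
  · rw [MulChar.one_apply_coe]
    linear_combination h4

theorem card_mulChar_sq_eq_one_le :
    (Finset.univ.filter (fun γ : MulChar F ℂ => γ ^ 2 = 1)).card ≤ 2 := by
  classical
  obtain ⟨e⟩ := MulChar.mulEquiv_units F ℂ
  have : IsCyclic (MulChar F ℂ) := isCyclic_of_surjective e.symm e.symm.surjective
  have h := IsCyclic.card_pow_eq_one_le (α := MulChar F ℂ) (n := 2) (by norm_num)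
  convert h using 2

theorem detChar_one_char (g : GL (Fin 2) F) : detChar (1 : MulChar F ℂ) g = 1 := by
  unfold detChar
  rw [MulChar.one_apply (Units.isUnit _)]

/-- the restriction of an irreducible character of `GL₂` to `SL₂` has norm 1 or 2. -/
theorem norm_resSL {χ : GL (Fin 2) F → ℂ} (hχ : IsIrrCharacter (GL (Fin 2) F) χ) :
    classInner (resSL χ) (resSL χ) = 1 ∨ classInner (resSL χ) (resSL χ) = 2 := by
  classical
  rw [classInner_resSL]
  have h1 : ∀ γ : MulChar F ℂ, classInner (fun g => χ g * detChar γ g) χ =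
      if (fun g => χ g * detChar γ g) = χ then 1 else 0 := fun γ =>
    Cfsg.Agent.Lib.Helper3.classInner_irr (isIrr_twist hχ γ) hχ
  rw [Finset.sum_congr rfl (fun γ _ => h1 γ), Finset.sum_boole]
  have hsub : Finset.univ.filter (fun γ : MulChar F ℂ => (fun g => χ g * detChar γ g) = χ) ⊆
      Finset.univ.filter (fun γ : MulChar F ℂ => γ ^ 2 = 1) := by
    intro γ hγ
    rw [Finset.mem_filter] at hγ ⊢
    exact ⟨Finset.mem_univ _, sq_eq_one_of_twist_eq hχ γ hγ.2⟩
  have hle := (Finset.card_le_card hsub).trans card_mulChar_sq_eq_one_le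
  have hpos : 0 < (Finset.univ.filter
      (fun γ : MulChar F ℂ => (fun g => χ g * detChar γ g) = χ)).card := by
    apply Finset.card_pos.mpr
    refine ⟨1, ?_⟩
    rw [Finset.mem_filter]
    refine ⟨Finset.mem_univ _, ?_⟩
    funext g
    rw [detChar_one_char, mul_one]
  set s := (Finset.univ.filter
      (fun γ : MulChar F ℂ => (fun g => χ g * detChar γ g) = χ)).card with hs
  have : s = 1 ∨ s = 2 := by omega
  rcases this with h | h
  · left; rw [h]; norm_num
  · right; rw [h]; norm_num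

/-- restriction of an irreducible character of `GL₂` to `SL₂`: irreducible, or the sum of two
distinct irreducible characters. -/
theorem resSL_dichotomy {χ : GL (Fin 2) F → ℂ} (hχ : IsIrrCharacter (GL (Fin 2) F) χ) :
    IsIrrCharacter (Matrix.SpecialLinearGroup (Fin 2) F) (resSL χ) ∨
      ∃ ξ₁ ξ₂ : Matrix.SpecialLinearGroup (Fin 2) F → ℂ,
        IsIrrCharacter (Matrix.SpecialLinearGroup (Fin 2) F) ξ₁ ∧
        IsIrrCharacter (Matrix.SpecialLinearGroup (Fin 2) F) ξ₂ ∧ ξ₁ ≠ ξ₂ ∧
        resSL χ = ξ₁ + ξ₂ := by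
  have hc := isCharacter_resSL (Cfsg.Agent.Lib.Helper3.IsIrrCharacter.isCharacter hχ)
  rcases norm_resSL hχ with h | h
  · exact Or.inl (Cfsg.Agent.Lib.Helper3.isIrrCharacter_of_classInner_self_eq_one hc h)
  · exact Or.inr (exists_two_irr_of_norm_two hc h)

/-! ### Clifford theory for `SL₂ ≤ GL₂` -/

/-- two irreducible constituents of the restriction of an irreducible character of `GL₂` to
`SL₂` are conjugate under a diagonal matrix. -/
theorem clifford_SL2 {χ : GL (Fin 2) F → ℂ} (hχ : IsIrrCharacter (GL (Fin 2) F) χ)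
    {ξ ξ' : Matrix.SpecialLinearGroup (Fin 2) F → ℂ}
    (hξ : IsIrrCharacter (Matrix.SpecialLinearGroup (Fin 2) F) ξ)
    (hξ' : IsIrrCharacter (Matrix.SpecialLinearGroup (Fin 2) F) ξ')
    (h : classInner (resSL χ) ξ ≠ 0) (h' : classInner (resSL χ) ξ' ≠ 0) :
    ∃ d : Fˣ, ∀ g k : Matrix.SpecialLinearGroup (Fin 2) F,
      Matrix.SpecialLinearGroup.toGL k = diagGL d * Matrix.SpecialLinearGroup.toGL g * (diagGL d)⁻¹ →
        ξ' k = ξ g := by
  classical
  have : Fintype ((Matrix.GeneralLinearGroup.det : GL (Fin 2) F →* Fˣ).ker) := Fintype.ofFinite _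
  have hθ : IsIrrCharacter ((Matrix.GeneralLinearGroup.det : GL (Fin 2) F →* Fˣ).ker)
      (fun k => ξ ((slKerEquiv F).symm k)) :=
    Cfsg.Agent.Lib.Helper79.isIrrCharacter_comp_surjective hξ (slKerEquiv F).symm.toMonoidHom
      (slKerEquiv F).symm.surjective
  have hθ' : IsIrrCharacter ((Matrix.GeneralLinearGroup.det : GL (Fin 2) F →* Fˣ).ker)
      (fun k => ξ' ((slKerEquiv F).symm k)) :=
    Cfsg.Agent.Lib.Helper79.isIrrCharacter_comp_surjective hξ' (slKerEquiv F).symm.toMonoidHom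
      (slKerEquiv F).symm.surjective
  have hρK : (fun k : (Matrix.GeneralLinearGroup.det : GL (Fin 2) F →* Fˣ).ker => χ k) =
      fun k => (resSL χ) ((slKerEquiv F).symm k) := by
    funext k
    unfold resSL
    rw [← slKerEquiv_coe, MulEquiv.apply_symm_apply]
  have hc1 : classInner (fun k : (Matrix.GeneralLinearGroup.det : GL (Fin 2) F →* Fˣ).ker => χ k)
      (fun k => ξ ((slKerEquiv F).symm k)) ≠ 0 := by
    rw [hρK, classInner_comp_equiv (slKerEquiv F).symm (resSL χ) ξ]
    exact h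
  have hc2 : classInner (fun k : (Matrix.GeneralLinearGroup.det : GL (Fin 2) F →* Fˣ).ker => χ k)
      (fun k => ξ' ((slKerEquiv F).symm k)) ≠ 0 := by
    rw [hρK, classInner_comp_equiv (slKerEquiv F).symm (resSL χ) ξ']
    exact h'
  obtain ⟨y, hy⟩ := Cfsg.Agent.Lib.Helper75.clifford_conj
    ((Matrix.GeneralLinearGroup.det : GL (Fin 2) F →* Fˣ).ker) hχ hθ hθ' hc1 hc2
  have hconj : ∀ g k : Matrix.SpecialLinearGroup (Fin 2) F,
      Matrix.SpecialLinearGroup.toGL k = y⁻¹ * Matrix.SpecialLinearGroup.toGL g * y →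
        ξ' k = ξ g := by
    intro g k hgk
    have e1 := congrFun hy (slKerEquiv F k)
    rw [Cfsg.Agent.Lib.Helper75.conjFun_apply] at e1
    simp only [MulEquiv.symm_apply_apply] at e1
    rw [e1]
    congr 1
    rw [MulEquiv.symm_apply_eq]
    apply Subtype.ext
    show y * ((slKerEquiv F k : (Matrix.GeneralLinearGroup.det : GL (Fin 2) F →* Fˣ).ker) :
      GL (Fin 2) F) * y⁻¹ = _
    rw [slKerEquiv_coe, slKerEquiv_coe, hgk]
    group
  -- reduce to a diagonal conjugator
  obtain ⟨⟨m, d⟩, hmd⟩ := (slTimesDiag_bijective (F := F)).2 y⁻¹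
  have hcf : IsClassFunction (Matrix.SpecialLinearGroup (Fin 2) F) ξ' :=
    Cfsg.Agent.Lib.Helper3.IsCharacter.isClassFunction
      (Cfsg.Agent.Lib.Helper3.IsIrrCharacter.isCharacter hξ')
  refine ⟨d, ?_⟩
  intro g k hgk
  have hy' : y = (Matrix.SpecialLinearGroup.toGL m * diagGL d)⁻¹ := by
    rw [← inv_inv y, ← hmd]
    rfl
  have h1 : ξ' (m * k * m⁻¹) = ξ g := by
    apply hconj
    rw [hy']
    simp only [map_mul, map_inv, hgk]
    group
  rw [← h1]
  exact (hcf k m).symm

/-- every irreducible character of `SL₂` lies under an irreducible character of `GL₂`. -/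
theorem exists_irr_GL2_over {ξ : Matrix.SpecialLinearGroup (Fin 2) F → ℂ}
    (hξ : IsIrrCharacter (Matrix.SpecialLinearGroup (Fin 2) F) ξ) :
    ∃ χ : GL (Fin 2) F → ℂ, IsIrrCharacter (GL (Fin 2) F) χ ∧ classInner (resSL χ) ξ ≠ 0 := by
  classical
  have : Fintype ((Matrix.GeneralLinearGroup.det : GL (Fin 2) F →* Fˣ).ker) := Fintype.ofFinite _
  set K := (Matrix.GeneralLinearGroup.det : GL (Fin 2) F →* Fˣ).ker with hK
  set θ : K → ℂ := fun k => ξ ((slKerEquiv F).symm k) with hθ
  have hΨcf : IsClassFunction (GL (Fin 2) F) (indFun K θ) := indFun_isClassFunction K θ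
  have hΨ0 : indFun K θ ≠ 0 := by
    intro h0
    have h1 := congrFun h0 1
    rw [indFun_apply, Pi.zero_apply] at h1
    have h2 : ∀ x : GL (Fin 2) F, extendByZero K θ (x⁻¹ * 1 * x) = ξ 1 := by
      intro x
      have e : x⁻¹ * 1 * x = ((1 : K) : GL (Fin 2) F) := by
        rw [mul_one, inv_mul_cancel]; rfl
      rw [e, extendByZero_coe, hθ]
      simp only [map_one]
    rw [Finset.sum_congr rfl (fun x _ => h2 x), Finset.sum_const, Finset.card_univ,
      nsmul_eq_mul] at h1
    obtain ⟨n, hn, -, hn0⟩ := Cfsg.Agent.Lib.Helper3.IsIrrCharacter.apply_one_dvd_card hξ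
    rw [hn] at h1
    have hK0 : (Nat.card K : ℂ) ≠ 0 := card_ne_zero_complex
    have hG0 : (Fintype.card (GL (Fin 2) F) : ℂ) ≠ 0 := by
      exact_mod_cast Fintype.card_pos.ne'
    have hn0' : (n : ℂ) ≠ 0 := by exact_mod_cast hn0
    rcases mul_eq_zero.mp h1 with h3 | h3
    · exact absurd (inv_eq_zero.mp h3) hK0
    · rcases mul_eq_zero.mp h3 with h4 | h4
      · exact hG0 h4
      · exact hn0' h4
  obtain ⟨ψ, hψ, hne⟩ := Cfsg.Agent.Lib.Helper3.exists_irr_classInner_ne_zero hΨcf hΨ0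
  refine ⟨ψ, hψ, ?_⟩
  rw [frobenius_reciprocity K θ ψ (Cfsg.Agent.Lib.Helper3.IsCharacter.isClassFunction
    (Cfsg.Agent.Lib.Helper3.IsIrrCharacter.isCharacter hψ))] at hne
  have hρK : (fun k : K => ψ k) = fun k => (resSL ψ) ((slKerEquiv F).symm k) := by
    funext k
    unfold resSL
    rw [← slKerEquiv_coe, MulEquiv.apply_symm_apply]
  rw [hρK, hθ, classInner_comp_equiv (slKerEquiv F).symm ξ (resSL ψ)] at hne
  intro h0
  apply hne
  rw [← classInner_conj_symm, h0, map_zero]

/-! ### the classification -/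

/-- conjugacy of two functions on `SL₂` under the diagonal matrix `diag(1, d)`. -/
def DiagConj (d : Fˣ) (ξ ξ' : Matrix.SpecialLinearGroup (Fin 2) F → ℂ) : Prop :=
  ∀ g k : Matrix.SpecialLinearGroup (Fin 2) F,
    Matrix.SpecialLinearGroup.toGL k = diagGL d * Matrix.SpecialLinearGroup.toGL g * (diagGL d)⁻¹ →
      ξ' k = ξ g

theorem DiagConj.one_eq {d : Fˣ} {ξ ξ' : Matrix.SpecialLinearGroup (Fin 2) F → ℂ}
    (h : DiagConj d ξ ξ') : ξ' 1 = ξ 1 := by
  apply h 1 1
  simp

theorem resSL_irr_case {χ : GL (Fin 2) F → ℂ}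
    (hirr : IsIrrCharacter (Matrix.SpecialLinearGroup (Fin 2) F) (resSL χ))
    {ξ : Matrix.SpecialLinearGroup (Fin 2) F → ℂ}
    (hξ : IsIrrCharacter (Matrix.SpecialLinearGroup (Fin 2) F) ξ)
    (h : classInner (resSL χ) ξ ≠ 0) : ξ = resSL χ := by
  classical
  rw [Cfsg.Agent.Lib.Helper3.classInner_irr hirr hξ] at h
  by_contra hne
  rw [if_neg (fun e => hne e.symm)] at h
  exact h rfl

theorem resSL_two_case {χ : GL (Fin 2) F → ℂ} (hχ : IsIrrCharacter (GL (Fin 2) F) χ)
    (hnot : ¬ IsIrrCharacter (Matrix.SpecialLinearGroup (Fin 2) F) (resSL χ))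
    {ξ : Matrix.SpecialLinearGroup (Fin 2) F → ℂ}
    (hξ : IsIrrCharacter (Matrix.SpecialLinearGroup (Fin 2) F) ξ)
    (h : classInner (resSL χ) ξ ≠ 0) :
    ∃ (ξ' : Matrix.SpecialLinearGroup (Fin 2) F → ℂ) (d : Fˣ),
      IsIrrCharacter (Matrix.SpecialLinearGroup (Fin 2) F) ξ' ∧ ξ ≠ ξ' ∧ resSL χ = ξ + ξ' ∧
        DiagConj d ξ ξ' := by
  classical
  rcases resSL_dichotomy hχ with hirr | ⟨ξ₁, ξ₂, h1, h2, hne, hsum⟩
  · exact absurd hirr hnot
  · have h11 := Cfsg.Agent.Lib.Helper3.classInner_irr h1 h1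
    have h22 := Cfsg.Agent.Lib.Helper3.classInner_irr h2 h2
    have h12 := Cfsg.Agent.Lib.Helper3.classInner_irr h1 h2
    have h21 := Cfsg.Agent.Lib.Helper3.classInner_irr h2 h1
    rw [if_pos rfl] at h11 h22
    rw [if_neg hne] at h12
    rw [if_neg hne.symm] at h21
    have hcase : ξ = ξ₁ ∨ ξ = ξ₂ := by
      by_contra hcon
      push Not at hcon
      apply h
      rw [hsum, classInner_add_left, Cfsg.Agent.Lib.Helper3.classInner_irr h1 hξ,
        Cfsg.Agent.Lib.Helper3.classInner_irr h2 hξ, if_neg (fun e => hcon.1 e.symm),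
        if_neg (fun e => hcon.2 e.symm), add_zero]
    rcases hcase with rfl | rfl
    · have h' : classInner (resSL χ) ξ₂ ≠ 0 := by
        rw [hsum, classInner_add_left, h12, h22]; norm_num
      obtain ⟨d, hd⟩ := clifford_SL2 hχ h1 h2 h h'
      exact ⟨ξ₂, d, h2, hne, hsum, hd⟩
    · have h' : classInner (resSL χ) ξ₁ ≠ 0 := by
        rw [hsum, classInner_add_left, h11, h21]; norm_num
      obtain ⟨d, hd⟩ := clifford_SL2 hχ h2 h1 h h'
      exact ⟨ξ₁, d, h1, hne.symm, by rw [hsum, add_comm], hd⟩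

theorem resSL_detChar (γ : MulChar F ℂ) :
    resSL (detChar γ) = fun _ : Matrix.SpecialLinearGroup (Fin 2) F => (1 : ℂ) := by
  funext n
  unfold resSL detChar
  rw [Matrix.SpecialLinearGroup.coeToGL_det, Units.val_one, map_one]

theorem resSL_ps (α β : MulChar F ℂ) :
    resSL (indFun (borelGL F) (psFunGL α β)) = indFun (borelSL F) (psFun (α * β⁻¹)) := by
  funext n
  exact ps_GL_restrict' α β n

theorem resSL_steinbergGL (γ : MulChar F ℂ) : resSL (steinbergGL γ) = steinbergSL F := by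
  funext n
  unfold steinbergGL steinbergSL resSL
  rw [Pi.sub_apply, Pi.sub_apply, ps_GL_restrict', mul_inv_cancel]
  congr 1
  exact congrFun (resSL_detChar γ) n

/-- **Classification of the irreducible characters of `SL₂(F)`.** -/
theorem irr_SL2_cases (ξ : Matrix.SpecialLinearGroup (Fin 2) F → ℂ)
    (hξ : IsIrrCharacter (Matrix.SpecialLinearGroup (Fin 2) F) ξ) :
    (ξ = fun _ => (1 : ℂ)) ∨ (ξ = steinbergSL F) ∨
    (∃ α : MulChar F ℂ, α ^ 2 ≠ 1 ∧ ξ = indFun (borelSL F) (psFun α)) ∨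
    (∃ (α : MulChar F ℂ) (ξ' : Matrix.SpecialLinearGroup (Fin 2) F → ℂ) (d : Fˣ),
      α ^ 2 = 1 ∧ α ≠ 1 ∧ IsIrrCharacter (Matrix.SpecialLinearGroup (Fin 2) F) ξ' ∧ ξ ≠ ξ' ∧
        indFun (borelSL F) (psFun α) = ξ + ξ' ∧ DiagConj d ξ ξ') ∨
    (∃ χ : GL (Fin 2) F → ℂ, IsCuspidalGL χ ∧ ξ = resSL χ) ∨
    (∃ (χ : GL (Fin 2) F → ℂ) (ξ' : Matrix.SpecialLinearGroup (Fin 2) F → ℂ) (d : Fˣ),
      IsCuspidalGL χ ∧ IsIrrCharacter (Matrix.SpecialLinearGroup (Fin 2) F) ξ' ∧ ξ ≠ ξ' ∧
        resSL χ = ξ + ξ' ∧ DiagConj d ξ ξ') := by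
  classical
  obtain ⟨χ, hχ, hne⟩ := exists_irr_GL2_over hξ
  rcases irr_GL2_cases χ hχ with ⟨γ, rfl⟩ | ⟨γ, rfl⟩ | ⟨α, β, hab, rfl⟩ | hc
  · left
    rw [resSL_detChar] at hne
    have := resSL_irr_case (χ := detChar γ) (by rw [resSL_detChar]; exact isIrr_one_SL) hξ
      (by rw [resSL_detChar]; exact hne)
    rw [this, resSL_detChar]
  · right; left
    have := resSL_irr_case (χ := steinbergGL γ)
      (by rw [resSL_steinbergGL]; exact isIrr_steinbergSL) hξ hne
    rw [this, resSL_steinbergGL]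
  · have hδ : α * β⁻¹ ≠ 1 := fun h => hab (mul_inv_eq_one.mp h)
    by_cases hsq : (α * β⁻¹) ^ 2 = 1
    · right; right; right; left
      have hnot : ¬ IsIrrCharacter (Matrix.SpecialLinearGroup (Fin 2) F)
          (resSL (indFun (borelGL F) (psFunGL α β))) := by
        rw [resSL_ps, isIrr_ps_SL_iff]
        exact fun h => h hsq
      obtain ⟨ξ', d, hξ', hneq, hsum, hd⟩ := resSL_two_case hχ hnot hξ hne
      rw [resSL_ps] at hsum
      exact ⟨α * β⁻¹, ξ', d, hsq, hδ, hξ', hneq, hsum, hd⟩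
    · right; right; left
      have hirr : IsIrrCharacter (Matrix.SpecialLinearGroup (Fin 2) F)
          (resSL (indFun (borelGL F) (psFunGL α β))) := by
        rw [resSL_ps, isIrr_ps_SL_iff]
        exact hsq
      have := resSL_irr_case hirr hξ hne
      rw [resSL_ps] at this
      exact ⟨α * β⁻¹, hsq, this⟩
  · by_cases hirr : IsIrrCharacter (Matrix.SpecialLinearGroup (Fin 2) F) (resSL χ)
    · right; right; right; right; left
      exact ⟨χ, hc, resSL_irr_case hirr hξ hne⟩
    · right; right; right; right; right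
      obtain ⟨ξ', d, hξ', hneq, hsum, hd⟩ := resSL_two_case hχ hirr hξ hne
      exact ⟨χ, ξ', d, hc, hξ', hneq, hsum, hd⟩

end Cfsg.Agent.Lib.Helper38
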