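import Cfsg.Agent.Lib.Helper38.SL2Borel

set_option autoImplicit false
set_option linter.unusedSimpArgs false

/-!
Values of the principal series functions of `SL₂(F)`.
-/

namespace Cfsg.Agent.Lib.Helper38

open Matrix Cfsg Cfsg.Agent.Lib.Helper25
open scoped ComplexConjugate

variable {F : Type*} [Field F]

theorem sl2_inv_00 (x : Matrix.SpecialLinearGroup (Fin 2) F) : (x⁻¹).1 0 0 = x.1 1 1 := by
  rw [Matrix.SpecialLinearGroup.coe_inv, Matrix.adjugate_fin_two]; rfl
theorem sl2_inv_01 (x : Matrix.SpecialLinearGroup (Fin 2) F) : (x⁻¹).1 0 1 = - x.1 0 1 := by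
  rw [Matrix.SpecialLinearGroup.coe_inv, Matrix.adjugate_fin_two]; rfl
theorem sl2_inv_10 (x : Matrix.SpecialLinearGroup (Fin 2) F) : (x⁻¹).1 1 0 = - x.1 1 0 := by
  rw [Matrix.SpecialLinearGroup.coe_inv, Matrix.adjugate_fin_two]; rfl
theorem sl2_inv_11 (x : Matrix.SpecialLinearGroup (Fin 2) F) : (x⁻¹).1 1 1 = x.1 0 0 := by
  rw [Matrix.SpecialLinearGroup.coe_inv, Matrix.adjugate_fin_two]; rfl

theorem sl2_conj_10 (g x : Matrix.SpecialLinearGroup (Fin 2) F) :
    (x⁻¹ * g * x).1 1 0 =
      x.1 0 0 ^ 2 * g.1 1 0 + x.1 0 0 * x.1 1 0 * (g.1 1 1 - g.1 0 0) - x.1 1 0 ^ 2 * g.1 0 1 := by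
  simp only [sl2_mul_apply, sl2_inv_00, sl2_inv_01, sl2_inv_10, sl2_inv_11]
  ring

theorem sl2_conj_00 (g x : Matrix.SpecialLinearGroup (Fin 2) F) :
    (x⁻¹ * g * x).1 0 0 =
      x.1 1 1 * (g.1 0 0 * x.1 0 0 + g.1 0 1 * x.1 1 0) -
        x.1 0 1 * (g.1 1 0 * x.1 0 0 + g.1 1 1 * x.1 1 0) := by
  simp only [sl2_mul_apply, sl2_inv_00, sl2_inv_01, sl2_inv_10, sl2_inv_11]
  ring

/-- value of the extension by zero of `psFun α`. -/
theorem extendByZero_psFun (α : MulChar F ℂ) [DecidableEq F]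
    (y : Matrix.SpecialLinearGroup (Fin 2) F) :
    extendByZero (borelSL F) (psFun α) y = if y.1 1 0 = 0 then α (y.1 0 0) else 0 := by
  split_ifs with h
  · rw [extendByZero_of_mem _ _ ((mem_borelSL y).mpr h)]
    rfl
  · rw [extendByZero_of_not_mem _ _ (fun h' => h ((mem_borelSL y).mp h'))]

theorem card_filter_10 [Fintype F] [DecidableEq F] :
    (Finset.univ.filter (fun x : Matrix.SpecialLinearGroup (Fin 2) F => x.1 1 0 = 0)).card =
      Fintype.card F * (Fintype.card F - 1) := by
  rw [← card_borelSL, Nat.card_eq_fintype_card, ← Fintype.card_subtype]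
  apply Fintype.card_congr
  exact Equiv.subtypeEquivRight (fun x => (mem_borelSL x).symm)

theorem card_filter_00 [Fintype F] [DecidableEq F] :
    (Finset.univ.filter (fun x : Matrix.SpecialLinearGroup (Fin 2) F => x.1 0 0 = 0)).card =
      Fintype.card F * (Fintype.card F - 1) := by
  rw [← card_filter_10]
  apply Finset.card_equiv (Equiv.mulLeft (weylSL F))
  intro x
  simp only [Finset.mem_filter, Finset.mem_univ, true_and, Equiv.coe_mulLeft]
  rw [sl2_mul_apply]
  simp [weylSL]

theorem sum_ite_const {ι : Type*} [Fintype ι] (p : ι → Prop) [DecidablePred p] (c : ℂ) :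
    ∑ x : ι, (if p x then c else 0) = ((Finset.univ.filter p).card : ℂ) * c := by
  rw [Finset.sum_ite, Finset.sum_const, Finset.sum_const_zero, add_zero, nsmul_eq_mul]

theorem ps_SL_apply [Fintype F] [DecidableEq F] (α : MulChar F ℂ)
    (g : Matrix.SpecialLinearGroup (Fin 2) F) :
    indFun (borelSL F) (psFun α) g =
      ((Fintype.card F : ℂ) * ((Fintype.card F : ℂ) - 1))⁻¹ *
        ∑ x : Matrix.SpecialLinearGroup (Fin 2) F,
          (if (x⁻¹ * g * x).1 1 0 = 0 then α ((x⁻¹ * g * x).1 0 0) else 0) := by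
  rw [indFun_apply, card_borelSL, Nat.cast_mul, Nat.cast_sub Fintype.card_pos, Nat.cast_one]
  congr 1
  apply Finset.sum_congr rfl
  intro x _
  exact extendByZero_psFun α _

/-- value at a non-central diagonal element. -/
theorem ps_SL_diag [Fintype F] [DecidableEq F] (α : MulChar F ℂ)
    (g : Matrix.SpecialLinearGroup (Fin 2) F) (h01 : g.1 0 1 = 0) (h10 : g.1 1 0 = 0)
    (hne : g.1 0 0 ^ 2 ≠ 1) :
    indFun (borelSL F) (psFun α) g = α (g.1 0 0) + α (g.1 1 1) := by
  have hdet := sl2_det g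
  rw [h01, zero_mul, sub_zero] at hdet
  have hne' : g.1 1 1 - g.1 0 0 ≠ 0 := by
    intro h
    apply hne
    have : g.1 1 1 = g.1 0 0 := sub_eq_zero.mp h
    rw [this] at hdet
    rw [pow_two]; exact hdet
  rw [ps_SL_apply]
  have hterm : ∀ x : Matrix.SpecialLinearGroup (Fin 2) F,
      (if (x⁻¹ * g * x).1 1 0 = 0 then α ((x⁻¹ * g * x).1 0 0) else 0) =
        (if x.1 1 0 = 0 then α (g.1 0 0) else 0) + (if x.1 0 0 = 0 then α (g.1 1 1) else 0) := by
    intro x
    have hx := sl2_det x
    rw [sl2_conj_10, sl2_conj_00, h01, h10]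
    by_cases h1 : x.1 1 0 = 0
    · have h2 : x.1 0 0 ≠ 0 := by
        intro h2
        rw [h1, h2] at hx
        simp at hx
      rw [if_pos h1, if_neg h2, if_pos (by rw [h1]; ring), add_zero]
      congr 1
      rw [h1] at hx ⊢
      linear_combination (g.1 0 0) * hx
    · by_cases h2 : x.1 0 0 = 0
      · rw [if_neg h1, if_pos h2, if_pos (by rw [h2]; ring), zero_add]
        congr 1
        rw [h2] at hx ⊢
        linear_combination (g.1 1 1) * hx
      · rw [if_neg h1, if_neg h2, if_neg, add_zero]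
        intro h3
        have : x.1 0 0 * x.1 1 0 * (g.1 1 1 - g.1 0 0) = 0 := by linear_combination h3
        rcases mul_eq_zero.mp this with h4 | h4
        · rcases mul_eq_zero.mp h4 with h5 | h5
          · exact h2 h5
          · exact h1 h5
        · exact hne' h4
  rw [Finset.sum_congr rfl (fun x _ => hterm x), Finset.sum_add_distrib, sum_ite_const,
    sum_ite_const, card_filter_10, card_filter_00, Nat.cast_mul, Nat.cast_sub Fintype.card_pos,
    Nat.cast_one]
  have hq := card_field_ne_zero_complex (F := F)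
  have hq1 := card_field_sub_one_ne_zero_complex (F := F)
  field_simp

/-- value at an element without eigenvectors. -/
theorem ps_SL_elliptic [Fintype F] [DecidableEq F] (α : MulChar F ℂ)
    (g : Matrix.SpecialLinearGroup (Fin 2) F)
    (hg : ∀ (c : F) (v : Fin 2 → F), v ≠ 0 → g.1.mulVec v ≠ c • v) :
    indFun (borelSL F) (psFun α) g = 0 := by
  rw [ps_SL_apply]
  have hterm : ∀ x : Matrix.SpecialLinearGroup (Fin 2) F,
      (if (x⁻¹ * g * x).1 1 0 = 0 then α ((x⁻¹ * g * x).1 0 0) else 0) = 0 := by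
    intro x
    rw [if_neg]
    intro h
    have hx := sl2_det x
    have hv : (fun i => x.1 i 0) ≠ (0 : Fin 2 → F) := by
      intro h0
      have e0 := congrFun h0 0
      have e1 := congrFun h0 1
      simp only [Pi.zero_apply] at e0 e1
      rw [e0, e1] at hx
      simp at hx
    apply hg ((x⁻¹ * g * x).1 0 0) (fun i => x.1 i 0) hv
    have hmul : g * x = x * (x⁻¹ * g * x) := by group
    funext i
    have e : (g * x).1 i 0 = (x * (x⁻¹ * g * x)).1 i 0 := by rw [← hmul]
    rw [sl2_mul_apply g x, sl2_mul_apply x (x⁻¹ * g * x), h, mul_zero, add_zero] at e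
    simp only [Matrix.mulVec, dotProduct, Fin.sum_univ_two, Pi.smul_apply, smul_eq_mul]
    rw [e, mul_comm]
  rw [Finset.sum_congr rfl (fun x _ => hterm x), Finset.sum_const_zero, mul_zero]

/-- value at a non-central element `±u`. -/
theorem ps_SL_unipotent [Fintype F] [DecidableEq F] (α : MulChar F ℂ)
    (g : Matrix.SpecialLinearGroup (Fin 2) F) (h10 : g.1 1 0 = 0) (heq : g.1 0 0 = g.1 1 1)
    (h01 : g.1 0 1 ≠ 0) :
    indFun (borelSL F) (psFun α) g = α (g.1 0 0) := by
  rw [ps_SL_apply]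
  have hterm : ∀ x : Matrix.SpecialLinearGroup (Fin 2) F,
      (if (x⁻¹ * g * x).1 1 0 = 0 then α ((x⁻¹ * g * x).1 0 0) else 0) =
        (if x.1 1 0 = 0 then α (g.1 0 0) else 0) := by
    intro x
    have hx := sl2_det x
    rw [sl2_conj_10, sl2_conj_00, h10, heq]
    by_cases h1 : x.1 1 0 = 0
    · rw [if_pos h1, if_pos (by rw [h1]; ring)]
      congr 1
      rw [h1] at hx ⊢
      linear_combination (g.1 1 1) * hx
    · rw [if_neg h1, if_neg]
      intro h3
      have : x.1 1 0 ^ 2 * g.1 0 1 = 0 := by linear_combination -h3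
      rcases mul_eq_zero.mp this with h4 | h4
      · exact h1 ((pow_eq_zero_iff (two_ne_zero)).mp h4)
      · exact h01 h4
  rw [Finset.sum_congr rfl (fun x _ => hterm x), sum_ite_const, card_filter_10, Nat.cast_mul,
    Nat.cast_sub Fintype.card_pos, Nat.cast_one]
  have hq := card_field_ne_zero_complex (F := F)
  have hq1 := card_field_sub_one_ne_zero_complex (F := F)
  field_simp

/-- value at a central element. -/
theorem ps_SL_central [Fintype F] [DecidableEq F] (α : MulChar F ℂ)
    (g : Matrix.SpecialLinearGroup (Fin 2) F) (h01 : g.1 0 1 = 0) (h10 : g.1 1 0 = 0)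
    (heq : g.1 0 0 = g.1 1 1) :
    indFun (borelSL F) (psFun α) g = ((Fintype.card F : ℂ) + 1) * α (g.1 0 0) := by
  rw [ps_SL_apply]
  have hterm : ∀ x : Matrix.SpecialLinearGroup (Fin 2) F,
      (if (x⁻¹ * g * x).1 1 0 = 0 then α ((x⁻¹ * g * x).1 0 0) else 0) = α (g.1 0 0) := by
    intro x
    have hx := sl2_det x
    rw [sl2_conj_10, sl2_conj_00, h10, h01, heq]
    rw [if_pos (by ring)]
    congr 1
    linear_combination (g.1 1 1) * hx
  rw [Finset.sum_congr rfl (fun x _ => hterm x), Finset.sum_const, Finset.card_univ,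
    (Nat.card_eq_fintype_card (α := Matrix.SpecialLinearGroup (Fin 2) F)).symm, card_SL2,
    nsmul_eq_mul]
  have hpos : 1 ≤ Fintype.card F ^ 2 := Nat.one_le_pow _ _ Fintype.card_pos
  rw [Nat.cast_mul, Nat.cast_sub hpos, Nat.cast_pow, Nat.cast_one]
  have hq := card_field_ne_zero_complex (F := F)
  have hq1 := card_field_sub_one_ne_zero_complex (F := F)
  field_simp
  ring

end Cfsg.Agent.Lib.Helper38
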