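import Cfsg.Agent.Lib.Helper38.GL2Borel
import Cfsg.Agent.Lib.Helper38.SL2PSValues
import Cfsg.Agent.Lib.Helper38.NormTwo
import Cfsg.Agent.Lib.Helper75.Clifford

set_option autoImplicit false
set_option linter.unusedSimpArgs false

/-!
Restriction of the principal series of `GL₂(F)` to `SL₂(F)`, and the splitting of the principal
series of `SL₂(F)` attached to the quadratic character.
-/

namespace Cfsg.Agent.Lib.Helper38

open Matrix Cfsg Cfsg.Agent.Lib.Helper25
open scoped ComplexConjugate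

variable {F : Type*} [Field F]

/-- `diag(1, d)` in `GL₂`. -/
noncomputable def diagGL (d : Fˣ) : GL (Fin 2) F := gl2 1 0 0 (d : F) (by simp)

theorem diagGL_mem (d : Fˣ) : diagGL d ∈ borelGL F := by
  rw [mem_borelGL]; rfl

/-- the map `SL₂ × Fˣ → GL₂`, `(m, d) ↦ m · diag(1, d)`. -/
noncomputable def slTimesDiag (p : Matrix.SpecialLinearGroup (Fin 2) F × Fˣ) : GL (Fin 2) F :=
  Matrix.SpecialLinearGroup.toGL p.1 * diagGL p.2

theorem toGL_apply (m : Matrix.SpecialLinearGroup (Fin 2) F) (i j : Fin 2) :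
    ((Matrix.SpecialLinearGroup.toGL m : GL (Fin 2) F) : Matrix (Fin 2) (Fin 2) F) i j = m.1 i j :=
  rfl

theorem slTimesDiag_injective : Function.Injective (slTimesDiag (F := F)) := by
  rintro ⟨m, d⟩ ⟨m', d'⟩ h
  unfold slTimesDiag at h
  simp only at h
  have e00 := congrArg (fun y : GL (Fin 2) F => (y : Matrix (Fin 2) (Fin 2) F) 0 0) h
  have e01 := congrArg (fun y : GL (Fin 2) F => (y : Matrix (Fin 2) (Fin 2) F) 0 1) h
  have e10 := congrArg (fun y : GL (Fin 2) F => (y : Matrix (Fin 2) (Fin 2) F) 1 0) h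
  have e11 := congrArg (fun y : GL (Fin 2) F => (y : Matrix (Fin 2) (Fin 2) F) 1 1) h
  simp only [gl2_mul_apply, toGL_apply, diagGL, gl2_00, gl2_01, gl2_10, gl2_11, mul_one, mul_zero,
    add_zero, zero_add] at e00 e01 e10 e11
  have hm := sl2_det m
  have hm' := sl2_det m'
  have hd : (d : F) = d' := by
    have h1 : (d : F) = m.1 0 0 * (m.1 1 1 * d) - (m.1 0 1 * d) * m.1 1 0 := by
      linear_combination (-(d : F)) * hm
    have h2 : (d' : F) = m'.1 0 0 * (m'.1 1 1 * d') - (m'.1 0 1 * d') * m'.1 1 0 := by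
      linear_combination (-(d' : F)) * hm'
    rw [h1, h2, e00, e01, e10, e11]
  have hd0 : (d' : F) ≠ 0 := d'.ne_zero
  rw [hd] at e01 e11
  refine Prod.ext ?_ (Units.ext hd)
  apply sl2_ext
  · exact e00
  · exact mul_right_cancel₀ hd0 e01
  · exact e10
  · exact mul_right_cancel₀ hd0 e11

theorem slTimesDiag_bijective [Fintype F] [DecidableEq F] :
    Function.Bijective (slTimesDiag (F := F)) := by
  apply Function.Injective.bijective_of_nat_card_le slTimesDiag_injective
  rw [Nat.card_prod, Nat.card_units, Nat.card_eq_fintype_card (α := F),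
    card_SL_mul (F := F) 2 (by norm_num)]

/-- value of the extension by zero of `psFunGL α 1` on `SL₂`. -/
theorem extendByZero_psFunGL_toGL [Fintype F] [DecidableEq F] (α : MulChar F ℂ)
    (k : Matrix.SpecialLinearGroup (Fin 2) F) :
    extendByZero (borelGL F) (psFunGL α 1) (Matrix.SpecialLinearGroup.toGL k) =
      extendByZero (borelSL F) (psFun α) k := by
  by_cases hk : k ∈ borelSL F
  · have hk' : Matrix.SpecialLinearGroup.toGL k ∈ borelGL F := hk
    rw [extendByZero_of_mem _ _ hk, extendByZero_of_mem _ _ hk']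
    unfold psFunGL psFun
    simp only [toGL_apply]
    have h11 : k.1 1 1 ≠ 0 := by
      have := borelSL_diag ⟨k, hk⟩
      exact right_ne_zero_of_mul_eq_one this
    rw [MulChar.one_apply (isUnit_iff_ne_zero.mpr h11), mul_one]
  · have hk' : Matrix.SpecialLinearGroup.toGL k ∉ borelGL F := hk
    rw [extendByZero_of_not_mem _ _ hk, extendByZero_of_not_mem _ _ hk']

/-- restriction of the principal series of `GL₂` to `SL₂`. -/
theorem ps_GL_restrict [Fintype F] [DecidableEq F] (α : MulChar F ℂ)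
    (n : Matrix.SpecialLinearGroup (Fin 2) F) :
    indFun (borelGL F) (psFunGL α 1) (Matrix.SpecialLinearGroup.toGL n) =
      indFun (borelSL F) (psFun α) n := by
  rw [indFun_apply, indFun_apply, card_borelGL, card_borelSL]
  rw [← (Equiv.ofBijective _ (slTimesDiag_bijective (F := F))).sum_comp, Fintype.sum_prod_type]
  have hterm : ∀ (m : Matrix.SpecialLinearGroup (Fin 2) F) (d : Fˣ),
      extendByZero (borelGL F) (psFunGL α 1)
        ((Equiv.ofBijective _ (slTimesDiag_bijective (F := F)) (m, d))⁻¹ *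
          Matrix.SpecialLinearGroup.toGL n *
          (Equiv.ofBijective _ (slTimesDiag_bijective (F := F)) (m, d))) =
        extendByZero (borelSL F) (psFun α) (m⁻¹ * n * m) := by
    intro m d
    rw [← extendByZero_psFunGL_toGL]
    have h1 : (Equiv.ofBijective _ (slTimesDiag_bijective (F := F)) (m, d)) =
        Matrix.SpecialLinearGroup.toGL m * diagGL d := rfl
    rw [h1]
    have h2 : (Matrix.SpecialLinearGroup.toGL m * diagGL d)⁻¹ * Matrix.SpecialLinearGroup.toGL n *
        (Matrix.SpecialLinearGroup.toGL m * diagGL d) =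
        (((⟨diagGL d, diagGL_mem d⟩ : borelGL F)⁻¹ : borelGL F) : GL (Fin 2) F) *
          Matrix.SpecialLinearGroup.toGL (m⁻¹ * n * m) *
          ((((⟨diagGL d, diagGL_mem d⟩ : borelGL F)⁻¹ : borelGL F) : GL (Fin 2) F))⁻¹ := by
      simp only [Subgroup.coe_inv, map_mul, map_inv]
      group
    rw [h2, extendByZero_conj_mem _ _ (psFunGL_isClassFunction α 1)]
  rw [Finset.sum_congr rfl (fun m _ => Finset.sum_congr rfl (fun d _ => hterm m d))]
  simp only [Finset.sum_const, Finset.card_univ, nsmul_eq_mul, Fintype.card_units]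
  rw [← Finset.mul_sum, Nat.cast_mul, Nat.cast_mul, Nat.cast_pow, Nat.cast_sub Fintype.card_pos,
    Nat.cast_one]
  have hq := card_field_ne_zero_complex (F := F)
  have hq1 := card_field_sub_one_ne_zero_complex (F := F)
  field_simp

/-- `SL₂(F)` as the kernel of the determinant on `GL₂(F)`. -/
noncomputable def slKerEquiv (F : Type*) [Field F] :
    Matrix.SpecialLinearGroup (Fin 2) F ≃*
      (Matrix.GeneralLinearGroup.det : GL (Fin 2) F →* Fˣ).ker where
  toFun A := ⟨Matrix.SpecialLinearGroup.toGL A, by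
    rw [MonoidHom.mem_ker]; exact Matrix.SpecialLinearGroup.coeToGL_det A⟩
  invFun g := ⟨g.1.1, by
    have := congrArg Units.val (MonoidHom.mem_ker.1 g.2)
    simpa using this⟩
  left_inv A := by
    apply Subtype.ext; rfl
  right_inv g := by
    apply Subtype.ext; apply Units.ext; rfl
  map_mul' A B := by
    apply Subtype.ext
    exact map_mul Matrix.SpecialLinearGroup.toGL A B

theorem slKerEquiv_coe (A : Matrix.SpecialLinearGroup (Fin 2) F) :
    ((slKerEquiv F A : (Matrix.GeneralLinearGroup.det : GL (Fin 2) F →* Fˣ).ker) : GL (Fin 2) F) =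
      Matrix.SpecialLinearGroup.toGL A := rfl

/-- transport of the inner product along a group isomorphism. -/
theorem classInner_comp_equiv {N K : Type*} [Group N] [Group K] [Fintype N] [Fintype K]
    (e : K ≃* N) (f g : N → ℂ) :
    classInner (fun k : K => f (e k)) (fun k : K => g (e k)) = classInner f g := by
  rw [classInner_def, classInner_def, Nat.card_congr e.toEquiv]
  congr 1
  exact Fintype.sum_equiv e.toEquiv _ _ (fun k => rfl)

/-- The principal series of `SL₂(F)` attached to the quadratic character splits into two distinct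
irreducible characters of the same degree, conjugate under `GL₂(F)`. -/
theorem ps_SL_quadratic [Fintype F] [DecidableEq F] (hodd : Odd (Fintype.card F))
    (α : MulChar F ℂ) (hα : α ^ 2 = 1) (hα1 : α ≠ 1) :
    ∃ χ₁ χ₂ : Matrix.SpecialLinearGroup (Fin 2) F → ℂ,
      IsIrrCharacter (Matrix.SpecialLinearGroup (Fin 2) F) χ₁ ∧
      IsIrrCharacter (Matrix.SpecialLinearGroup (Fin 2) F) χ₂ ∧ χ₁ ≠ χ₂ ∧
      indFun (borelSL F) (psFun α) = χ₁ + χ₂ ∧
      χ₁ 1 = (((Fintype.card F + 1) / 2 : ℕ) : ℂ) ∧ χ₂ 1 = (((Fintype.card F + 1) / 2 : ℕ) : ℂ) ∧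
      ∃ x : GL (Fin 2) F, ∀ g h : Matrix.SpecialLinearGroup (Fin 2) F,
        Matrix.SpecialLinearGroup.toGL h = x * Matrix.SpecialLinearGroup.toGL g * x⁻¹ →
          χ₂ h = χ₁ g := by
  classical
  have hinv : α = α⁻¹ := by
    rw [eq_inv_iff_mul_eq_one, ← pow_two]; exact hα
  have hnorm : classInner (indFun (borelSL F) (psFun α)) (indFun (borelSL F) (psFun α)) = 2 := by
    rw [classInner_ps_SL, if_pos rfl, if_pos hinv]; norm_num
  obtain ⟨χ₁, χ₂, h1, h2, hne, hsum⟩ := exists_two_irr_of_norm_two (isCharacter_ps_SL α) hnorm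
  -- Clifford theory for `SL₂ ≤ GL₂`
  have hρ : IsIrrCharacter (GL (Fin 2) F) (indFun (borelGL F) (psFunGL α 1)) :=
    isIrr_ps_GL α 1 hα1
  have hres : ∀ n : Matrix.SpecialLinearGroup (Fin 2) F,
      indFun (borelGL F) (psFunGL α 1) (Matrix.SpecialLinearGroup.toGL n) = (χ₁ + χ₂) n := by
    intro n
    rw [ps_GL_restrict, hsum]
  have : Fintype ((Matrix.GeneralLinearGroup.det : GL (Fin 2) F →* Fˣ).ker) := Fintype.ofFinite _
  have hθ₁ : IsIrrCharacter ((Matrix.GeneralLinearGroup.det : GL (Fin 2) F →* Fˣ).ker)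
      (fun k => χ₁ ((slKerEquiv F).symm k)) :=
    Cfsg.Agent.Lib.Helper79.isIrrCharacter_comp_surjective h1 (slKerEquiv F).symm.toMonoidHom
      (slKerEquiv F).symm.surjective
  have hθ₂ : IsIrrCharacter ((Matrix.GeneralLinearGroup.det : GL (Fin 2) F →* Fˣ).ker)
      (fun k => χ₂ ((slKerEquiv F).symm k)) :=
    Cfsg.Agent.Lib.Helper79.isIrrCharacter_comp_surjective h2 (slKerEquiv F).symm.toMonoidHom
      (slKerEquiv F).symm.surjective
  have hρK : (fun k : (Matrix.GeneralLinearGroup.det : GL (Fin 2) F →* Fˣ).ker =>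
      indFun (borelGL F) (psFunGL α 1) k) = fun k => (χ₁ + χ₂) ((slKerEquiv F).symm k) := by
    funext k
    rw [← hres, ← slKerEquiv_coe, MulEquiv.apply_symm_apply]
  have h11 := Cfsg.Agent.Lib.Helper3.classInner_irr h1 h1
  have h22 := Cfsg.Agent.Lib.Helper3.classInner_irr h2 h2
  have h12 := Cfsg.Agent.Lib.Helper3.classInner_irr h1 h2
  have h21 := Cfsg.Agent.Lib.Helper3.classInner_irr h2 h1
  rw [if_pos rfl] at h11 h22
  rw [if_neg hne] at h12
  rw [if_neg hne.symm] at h21
  have hc1 : classInner (fun k : (Matrix.GeneralLinearGroup.det : GL (Fin 2) F →* Fˣ).ker =>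
      indFun (borelGL F) (psFunGL α 1) k) (fun k => χ₁ ((slKerEquiv F).symm k)) ≠ 0 := by
    rw [hρK, classInner_comp_equiv (slKerEquiv F).symm (χ₁ + χ₂) χ₁, classInner_add_left, h11, h21]
    norm_num
  have hc2 : classInner (fun k : (Matrix.GeneralLinearGroup.det : GL (Fin 2) F →* Fˣ).ker =>
      indFun (borelGL F) (psFunGL α 1) k) (fun k => χ₂ ((slKerEquiv F).symm k)) ≠ 0 := by
    rw [hρK, classInner_comp_equiv (slKerEquiv F).symm (χ₁ + χ₂) χ₂, classInner_add_left, h12, h22]
    norm_num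
  obtain ⟨y, hy⟩ := Cfsg.Agent.Lib.Helper75.clifford_conj
    ((Matrix.GeneralLinearGroup.det : GL (Fin 2) F →* Fˣ).ker) hρ hθ₁ hθ₂ hc1 hc2
  have hconj : ∀ g h : Matrix.SpecialLinearGroup (Fin 2) F,
      Matrix.SpecialLinearGroup.toGL h = y⁻¹ * Matrix.SpecialLinearGroup.toGL g * y⁻¹⁻¹ →
        χ₂ h = χ₁ g := by
    intro g h hgh
    have e1 := congrFun hy (slKerEquiv F h)
    rw [Cfsg.Agent.Lib.Helper75.conjFun_apply] at e1
    simp only [MulEquiv.symm_apply_apply] at e1
    rw [e1]
    congr 1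
    rw [MulEquiv.symm_apply_eq]
    apply Subtype.ext
    show y * ((slKerEquiv F h : (Matrix.GeneralLinearGroup.det : GL (Fin 2) F →* Fˣ).ker) :
      GL (Fin 2) F) * y⁻¹ = _
    rw [slKerEquiv_coe, slKerEquiv_coe, hgh]
    group
  have hdeg : χ₂ 1 = χ₁ 1 := by
    apply hconj 1 1
    simp
  have hsum1 : χ₁ 1 + χ₂ 1 = (Fintype.card F : ℂ) + 1 := by
    have := ps_SL_central α (1 : Matrix.SpecialLinearGroup (Fin 2) F) sl2_one_01 sl2_one_10
      (by rw [sl2_one_00, sl2_one_11])
    rw [sl2_one_00, map_one, mul_one, hsum] at this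
    exact this
  have hhalf : χ₁ 1 = (((Fintype.card F + 1) / 2 : ℕ) : ℂ) := by
    obtain ⟨k, hk⟩ := hodd
    rw [hdeg] at hsum1
    have h3 : (Fintype.card F + 1) / 2 = k + 1 := by omega
    rw [h3]
    rw [hk] at hsum1
    push_cast at hsum1 ⊢
    linear_combination (1 / 2 : ℂ) * hsum1
  refine ⟨χ₁, χ₂, h1, h2, hne, hsum, hhalf, by rw [hdeg]; exact hhalf, y⁻¹, hconj⟩

end Cfsg.Agent.Lib.Helper38
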