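import Cfsg.Agent.Lib.Helper38.SL2TableOdd
import Mathlib.NumberTheory.LegendreSymbol.QuadraticChar.Basic

set_option autoImplicit false
set_option linter.unusedSimpArgs false
set_option linter.unusedSectionVars false

/-!
Conjugation of `SL₂(F)` by `diag(1, d)`: classes of elements with `tr² ≠ 4` are stable (`|F|` odd),
and the normal form of the elements with `tr² = 4`.
-/

namespace Cfsg.Agent.Lib.Helper38

open Matrix Cfsg Cfsg.Agent.Lib.Helper25
open scoped ComplexConjugate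

variable {F : Type*} [Field F] [Fintype F] [DecidableEq F]

theorem two_ne_zero_of_odd_card (hodd : Odd (Fintype.card F)) : (2 : F) ≠ 0 := by
  apply Ring.two_ne_zero
  intro h
  have h2 := FiniteField.even_card_iff_char_two.mp h
  have h3 := Nat.odd_iff.mp hodd
  omega

/-- the binary form `a² + t a b + b²` with `t² ≠ 4` represents every element of a finite field
of odd order. -/
theorem normForm_universal (hodd : Odd (Fintype.card F)) (t d : F) (ht : t ^ 2 ≠ 4) :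
    ∃ a b : F, a ^ 2 + t * a * b + b ^ 2 = d := by
  have h2 := two_ne_zero_of_odd_card hodd
  have h4 : (4 : F) ≠ 0 := by
    have : (4 : F) = 2 * 2 := by norm_num
    rw [this]; exact mul_ne_zero h2 h2
  have hc : (1 - t ^ 2 / 4 : F) ≠ 0 := by
    intro h
    apply ht
    field_simp at h
    linear_combination -h
  obtain ⟨a', b, hab⟩ := FiniteField.exists_root_sum_quadratic
    (f := Polynomial.C (1 : F) * Polynomial.X ^ 2 + Polynomial.C 0 * Polynomial.X + Polynomial.C 0)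
    (g := Polynomial.C (1 - t ^ 2 / 4 : F) * Polynomial.X ^ 2 + Polynomial.C 0 * Polynomial.X +
      Polynomial.C (-d))
    (Polynomial.degree_quadratic one_ne_zero) (Polynomial.degree_quadratic hc)
    (Nat.odd_iff.mp hodd)
  simp only [Polynomial.eval_add, Polynomial.eval_mul, Polynomial.eval_C, Polynomial.eval_pow,
    Polynomial.eval_X] at hab
  refine ⟨a' - t * b / 2, b, ?_⟩
  field_simp
  field_simp at hab
  linear_combination hab

/-- conjugation by `diag(1, d)` on `SL₂`. -/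
def twistSL (d : Fˣ) (g : Matrix.SpecialLinearGroup (Fin 2) F) :
    Matrix.SpecialLinearGroup (Fin 2) F :=
  mk2 (g.1 0 0) (g.1 0 1 * ((d⁻¹ : Fˣ) : F)) ((d : F) * g.1 1 0) (g.1 1 1) (by
    have h := sl2_det g
    have hd : ((d⁻¹ : Fˣ) : F) * (d : F) = 1 := by simp
    linear_combination h - g.1 0 1 * g.1 1 0 * hd)

@[simp] theorem twistSL_00 (d : Fˣ) (g : Matrix.SpecialLinearGroup (Fin 2) F) :
    (twistSL d g).1 0 0 = g.1 0 0 := rfl
@[simp] theorem twistSL_01 (d : Fˣ) (g : Matrix.SpecialLinearGroup (Fin 2) F) :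
    (twistSL d g).1 0 1 = g.1 0 1 * ((d⁻¹ : Fˣ) : F) := rfl
@[simp] theorem twistSL_10 (d : Fˣ) (g : Matrix.SpecialLinearGroup (Fin 2) F) :
    (twistSL d g).1 1 0 = (d : F) * g.1 1 0 := rfl
@[simp] theorem twistSL_11 (d : Fˣ) (g : Matrix.SpecialLinearGroup (Fin 2) F) :
    (twistSL d g).1 1 1 = g.1 1 1 := rfl

theorem toGL_twistSL (d : Fˣ) (g : Matrix.SpecialLinearGroup (Fin 2) F) :
    Matrix.SpecialLinearGroup.toGL (twistSL d g) =
      diagGL d * Matrix.SpecialLinearGroup.toGL g * (diagGL d)⁻¹ := by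
  rw [eq_mul_inv_iff_mul_eq]
  have hd : ((d⁻¹ : Fˣ) : F) * (d : F) = 1 := by simp
  apply gl2_ext <;>
    simp only [gl2_mul_apply, toGL_apply, diagGL, twistSL_00, twistSL_01, twistSL_10, twistSL_11,
      gl2_00, gl2_01, gl2_10, gl2_11, mul_one, mul_zero, add_zero, zero_add, one_mul, zero_mul]
  · linear_combination g.1 0 1 * hd
  · ring

theorem DiagConj.apply_twist {d : Fˣ} {ξ ξ' : Matrix.SpecialLinearGroup (Fin 2) F → ℂ}
    (h : DiagConj d ξ ξ') (g : Matrix.SpecialLinearGroup (Fin 2) F) : ξ' (twistSL d g) = ξ g :=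
  h g _ (toGL_twistSL d g)

theorem twistSL_mul (d e : Fˣ) (g : Matrix.SpecialLinearGroup (Fin 2) F) :
    twistSL d (twistSL e g) = twistSL (d * e) g := by
  apply sl2_ext <;> simp only [twistSL_00, twistSL_01, twistSL_10, twistSL_11, mul_inv,
    Units.val_mul] <;> ring

theorem twistSL_one (g : Matrix.SpecialLinearGroup (Fin 2) F) : twistSL 1 g = g := by
  apply sl2_ext <;> simp

/-- conjugation by `diag(1, d)` preserves the `SL₂`-class of `g` when `tr(g)² ≠ 4`. -/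
theorem isConj_twistSL (hodd : Odd (Fintype.card F)) (d : Fˣ)
    (g : Matrix.SpecialLinearGroup (Fin 2) F) (ht : (g.1 0 0 + g.1 1 1) ^ 2 ≠ 4) :
    IsConj g (twistSL d g) := by
  obtain ⟨a, b, hab⟩ := normForm_universal hodd (g.1 0 0 + g.1 1 1) (d : F) ht
  have hg := sl2_det g
  have hd : ((d⁻¹ : Fˣ) : F) * (d : F) = 1 := by simp
  rw [isConj_iff]
  refine ⟨mk2 ((a + b * g.1 1 1) * ((d⁻¹ : Fˣ) : F)) (-(b * g.1 0 1) * ((d⁻¹ : Fˣ) : F))
    (-(b * g.1 1 0)) (a + b * g.1 0 0) ?_, ?_⟩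
  · linear_combination ((d⁻¹ : Fˣ) : F) * hab + hd + ((d⁻¹ : Fˣ) : F) * b ^ 2 * hg
  · rw [mul_inv_eq_iff_eq_mul]
    apply sl2_ext <;>
      simp only [sl2_mul_apply, mk2_00, mk2_01, mk2_10, mk2_11, twistSL_00, twistSL_01, twistSL_10,
        twistSL_11]
    · ring
    · ring
    · linear_combination (-(g.1 1 0 * (a + b * g.1 1 1))) * hd
    · linear_combination (b * g.1 1 0 * g.1 0 1) * hd


/-! ### normal form of the elements with `tr² = 4` -/

theorem sl2_conj_01 (g x : Matrix.SpecialLinearGroup (Fin 2) F) :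
    (x⁻¹ * g * x).1 0 1 =
      x.1 1 1 * (g.1 0 0 * x.1 0 1 + g.1 0 1 * x.1 1 1) -
        x.1 0 1 * (g.1 1 0 * x.1 0 1 + g.1 1 1 * x.1 1 1) := by
  simp only [sl2_mul_apply, sl2_inv_00, sl2_inv_01, sl2_inv_10, sl2_inv_11]
  ring

theorem sl2_conj_11 (g x : Matrix.SpecialLinearGroup (Fin 2) F) :
    (x⁻¹ * g * x).1 1 1 =
      x.1 0 0 * (g.1 1 0 * x.1 0 1 + g.1 1 1 * x.1 1 1) -
        x.1 1 0 * (g.1 0 0 * x.1 0 1 + g.1 0 1 * x.1 1 1) := by
  simp only [sl2_mul_apply, sl2_inv_00, sl2_inv_01, sl2_inv_10, sl2_inv_11]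
  ring

theorem sl2_conj_trace (g x : Matrix.SpecialLinearGroup (Fin 2) F) :
    (x⁻¹ * g * x).1 0 0 + (x⁻¹ * g * x).1 1 1 = g.1 0 0 + g.1 1 1 := by
  have hx := sl2_det x
  rw [sl2_conj_00, sl2_conj_11]
  linear_combination (g.1 0 0 + g.1 1 1) * hx

/-- an upper triangular element of `SL₂` with trace `t`, `t² = 4`, has equal diagonal entries. -/
theorem diag_eq_of_upper (k : Matrix.SpecialLinearGroup (Fin 2) F) (h10 : k.1 1 0 = 0)
    (htr : (k.1 0 0 + k.1 1 1) ^ 2 = 4) : k.1 0 0 = k.1 1 1 := by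
  have hk := sl2_det k
  rw [h10, mul_zero, sub_zero] at hk
  have h : (k.1 0 0 - k.1 1 1) ^ 2 = 0 := by linear_combination htr - 4 * hk
  exact sub_eq_zero.mp ((pow_eq_zero_iff two_ne_zero).mp h)

/-- a non-central element of `SL₂` with `tr² = 4` is conjugate to an upper triangular element
`[ε, y; 0, ε]` with `y ≠ 0`. -/
theorem exists_conj_upper (h2 : (2 : F) ≠ 0) (g : Matrix.SpecialLinearGroup (Fin 2) F)
    (htr : (g.1 0 0 + g.1 1 1) ^ 2 = 4) (hnc : ¬ (g.1 0 1 = 0 ∧ g.1 1 0 = 0)) :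
    ∃ n : Matrix.SpecialLinearGroup (Fin 2) F, (n⁻¹ * g * n).1 1 0 = 0 ∧
      (n⁻¹ * g * n).1 0 0 = (n⁻¹ * g * n).1 1 1 ∧ (n⁻¹ * g * n).1 0 1 ≠ 0 := by
  have hg := sl2_det g
  by_cases h10 : g.1 1 0 = 0
  · refine ⟨1, ?_, ?_, ?_⟩
    · simpa using h10
    · simpa using diag_eq_of_upper g h10 htr
    · simpa using fun h => hnc ⟨h, h10⟩
  · have h210 : 2 * g.1 1 0 ≠ 0 := mul_ne_zero h2 h10
    obtain ⟨n, hn⟩ : ∃ n : Matrix.SpecialLinearGroup (Fin 2) F,
        n = mk2 (g.1 0 0 - g.1 1 1) (-(2 * g.1 1 0)⁻¹) (2 * g.1 1 0) 0 (by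
          have := inv_mul_cancel₀ h210
          linear_combination this) := ⟨_, rfl⟩
    have n00 : n.1 0 0 = g.1 0 0 - g.1 1 1 := by rw [hn]; rfl
    have n10 : n.1 1 0 = 2 * g.1 1 0 := by rw [hn]; rfl
    have hk10 : (n⁻¹ * g * n).1 1 0 = 0 := by
      rw [sl2_conj_10, n00, n10]
      linear_combination (-(g.1 1 0)) * htr + (4 * g.1 1 0) * hg
    have htr' : ((n⁻¹ * g * n).1 0 0 + (n⁻¹ * g * n).1 1 1) ^ 2 = 4 := by
      rw [sl2_conj_trace]; exact htr
    refine ⟨n, hk10, diag_eq_of_upper _ hk10 htr', ?_⟩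
    intro hk01
    have heq := diag_eq_of_upper _ hk10 htr'
    -- then `g = n k n⁻¹` would be diagonal
    apply h10
    have hgk : g = (n⁻¹)⁻¹ * (n⁻¹ * g * n) * n⁻¹ := by group
    rw [hgk, sl2_conj_10, hk10, hk01, heq]
    ring

/-! ### the twist as a group automorphism -/

theorem twistSL_mul_mul (d : Fˣ) (g h : Matrix.SpecialLinearGroup (Fin 2) F) :
    twistSL d (g * h) = twistSL d g * twistSL d h := by
  have hd : ((d⁻¹ : Fˣ) : F) * (d : F) = 1 := by simp
  apply sl2_ext <;>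
    simp only [sl2_mul_apply, twistSL_00, twistSL_01, twistSL_10, twistSL_11]
  · linear_combination (-(g.1 0 1 * h.1 1 0)) * hd
  · ring
  · ring
  · linear_combination (-(g.1 1 0 * h.1 0 1)) * hd

/-- conjugation by `diag(1, d)` as an automorphism of `SL₂`. -/
def twistEquiv (d : Fˣ) :
    Matrix.SpecialLinearGroup (Fin 2) F ≃* Matrix.SpecialLinearGroup (Fin 2) F where
  toFun := twistSL d
  invFun := twistSL d⁻¹
  left_inv g := by rw [twistSL_mul, inv_mul_cancel, twistSL_one]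
  right_inv g := by rw [twistSL_mul, mul_inv_cancel, twistSL_one]
  map_mul' := twistSL_mul_mul d

@[simp] theorem twistEquiv_apply (d : Fˣ) (g : Matrix.SpecialLinearGroup (Fin 2) F) :
    twistEquiv d g = twistSL d g := rfl

/-- for a square `d = s²`, the twist is inner. -/
theorem twistSL_sq (s : Fˣ) (g : Matrix.SpecialLinearGroup (Fin 2) F) :
    twistSL (s ^ 2) g =
      mk2 ((s⁻¹ : Fˣ) : F) 0 0 (s : F) (by simp) * g *
        (mk2 ((s⁻¹ : Fˣ) : F) 0 0 (s : F) (by simp))⁻¹ := by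
  have hs : ((s⁻¹ : Fˣ) : F) * (s : F) = 1 := by simp
  have e : (((s ^ 2)⁻¹ : Fˣ) : F) = ((s⁻¹ : Fˣ) : F) ^ 2 := by simp [inv_pow]
  rw [eq_mul_inv_iff_mul_eq]
  apply sl2_ext <;>
    simp only [sl2_mul_apply, twistSL_00, twistSL_01, twistSL_10, twistSL_11, mk2_00, mk2_01,
      mk2_10, mk2_11, mul_zero, add_zero, zero_add, zero_mul, e, Units.val_pow_eq_pow_val]
  · ring
  · linear_combination (g.1 0 1 * ((s⁻¹ : Fˣ) : F)) * hs
  · linear_combination ((s : F) * g.1 1 0) * hs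
  · ring

theorem IsClassFunction.twist_sq {f : Matrix.SpecialLinearGroup (Fin 2) F → ℂ}
    (hf : IsClassFunction (Matrix.SpecialLinearGroup (Fin 2) F) f) (s : Fˣ)
    (g : Matrix.SpecialLinearGroup (Fin 2) F) : f (twistSL (s ^ 2) g) = f g := by
  rw [twistSL_sq, hf]

/-- the product of two non-squares is a square. -/
theorem exists_sq_of_nonsquare (d d₀ : Fˣ)
    (hd : ¬ IsSquare (d : F)) (hd₀ : ¬ IsSquare (d₀ : F)) : ∃ s : Fˣ, d = d₀ * s ^ 2 := by
  have h1 := (quadraticChar_neg_one_iff_not_isSquare (F := F)).mpr hd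
  have h2 := (quadraticChar_neg_one_iff_not_isSquare (F := F)).mpr hd₀
  have h3 : quadraticChar F ((d : F) * (d₀ : F)) = 1 := by
    rw [map_mul, h1, h2]; norm_num
  have hne : (d : F) * (d₀ : F) ≠ 0 := mul_ne_zero d.ne_zero d₀.ne_zero
  obtain ⟨r, hr⟩ := (quadraticChar_one_iff_isSquare hne).mp h3
  have hr0 : r ≠ 0 := by
    intro h
    rw [h, mul_zero] at hr
    exact hne hr
  refine ⟨Units.mk0 r hr0 * d₀⁻¹, ?_⟩
  apply Units.ext
  simp only [Units.val_mul, Units.val_pow_eq_pow_val, Units.val_mk0, Units.val_inv_eq_inv_val]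
  have hd0 : (d₀ : F) ≠ 0 := d₀.ne_zero
  field_simp
  linear_combination hr

end Cfsg.Agent.Lib.Helper38
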