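import Cfsg.Agent.Lib.Helper38.SL2Table

set_option autoImplicit false
set_option linter.unusedSimpArgs false
set_option linter.unusedSectionVars false

/-!
Irreducible characters of `SL₂(F)`, `|F|` odd: degrees as natural numbers, sums over the
unipotent subgroup.
-/

namespace Cfsg.Agent.Lib.Helper38

open Matrix Cfsg Cfsg.Agent.Lib.Helper25
open scoped ComplexConjugate

variable {F : Type*} [Field F] [Fintype F] [DecidableEq F]

/-- the types of irreducible characters of `SL₂(F)` for `|F| = 2k+1`, with degrees. -/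
theorem irr_SL2_odd_types {k : ℕ} (hk : Fintype.card F = 2 * k + 1)
    (ξ : Matrix.SpecialLinearGroup (Fin 2) F → ℂ)
    (hξ : IsIrrCharacter (Matrix.SpecialLinearGroup (Fin 2) F) ξ) :
    ((ξ = fun _ => (1 : ℂ)) ∧ ξ 1 = ((1 : ℕ) : ℂ)) ∨
    ((ξ = steinbergSL F) ∧ ξ 1 = ((2 * k + 1 : ℕ) : ℂ)) ∨
    (∃ α : MulChar F ℂ, α ^ 2 ≠ 1 ∧ ξ = indFun (borelSL F) (psFun α) ∧
      ξ 1 = ((2 * k + 2 : ℕ) : ℂ)) ∨
    (∃ (α : MulChar F ℂ) (ξ' : Matrix.SpecialLinearGroup (Fin 2) F → ℂ) (d : Fˣ),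
      α ^ 2 = 1 ∧ α ≠ 1 ∧ IsIrrCharacter (Matrix.SpecialLinearGroup (Fin 2) F) ξ' ∧ ξ ≠ ξ' ∧
        indFun (borelSL F) (psFun α) = ξ + ξ' ∧ DiagConj d ξ ξ' ∧ ξ 1 = ((k + 1 : ℕ) : ℂ)) ∨
    (∃ χ : GL (Fin 2) F → ℂ, IsCuspidalGL χ ∧ ξ = resSL χ ∧ ξ 1 = ((2 * k : ℕ) : ℂ)) ∨
    (∃ (χ : GL (Fin 2) F → ℂ) (ξ' : Matrix.SpecialLinearGroup (Fin 2) F → ℂ) (d : Fˣ),
      IsCuspidalGL χ ∧ IsIrrCharacter (Matrix.SpecialLinearGroup (Fin 2) F) ξ' ∧ ξ ≠ ξ' ∧
        resSL χ = ξ + ξ' ∧ DiagConj d ξ ξ' ∧ ξ 1 = ((k : ℕ) : ℂ)) := by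
  have hq : (Fintype.card F : ℂ) = 2 * (k : ℂ) + 1 := by
    rw [hk]; push_cast; ring
  rcases irr_SL2_cases ξ hξ with rfl | rfl | ⟨α, hα, rfl⟩ | ⟨α, ξ', d, h1, h2, h3, h4, hsum, hd⟩ |
    ⟨χ, hc, rfl⟩ | ⟨χ, ξ', d, hc, h3, h4, hsum, hd⟩
  · left
    exact ⟨rfl, by simp⟩
  · right; left
    refine ⟨rfl, ?_⟩
    rw [steinbergSL_one, hq]; push_cast; ring
  · right; right; left
    refine ⟨α, hα, rfl, ?_⟩
    rw [ps_SL_one, hq]; push_cast; ring
  · right; right; right; left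
    refine ⟨α, ξ', d, h1, h2, h3, h4, hsum, hd, ?_⟩
    have e := congrFun hsum 1
    rw [ps_SL_one, Pi.add_apply, hd.one_eq, hq] at e
    push_cast
    linear_combination (-1 / 2 : ℂ) * e
  · right; right; right; right; left
    refine ⟨χ, hc, rfl, ?_⟩
    unfold resSL
    rw [map_one, cusp_one hc, hq]; push_cast; ring
  · right; right; right; right; right
    refine ⟨χ, ξ', d, hc, h3, h4, hsum, hd, ?_⟩
    have e := congrFun hsum 1
    unfold resSL at e
    rw [map_one, cusp_one hc, Pi.add_apply, hd.one_eq, hq] at e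
    linear_combination (-1 / 2 : ℂ) * e

/-! ### sums over the unipotent subgroup -/

/-- the upper unitriangular element with entry `x`. -/
def unipSL (x : F) : Matrix.SpecialLinearGroup (Fin 2) F := mk2 1 x 0 1 (by ring)

theorem unipSL_zero : unipSL (0 : F) = 1 := by
  apply sl2_ext
  · simp [unipSL]
  · simp [unipSL]
  · simp [unipSL]
  · simp [unipSL]

theorem unipSL_injective : Function.Injective (unipSL (F := F)) := by
  intro x y h
  have := congrArg (fun g : Matrix.SpecialLinearGroup (Fin 2) F => g.1 0 1) h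
  simpa [unipSL] using this

theorem sumU_eq (χ : Matrix.SpecialLinearGroup (Fin 2) F → ℂ) :
    (∑ g : Matrix.SpecialLinearGroup (Fin 2) F,
      if g.1 1 0 = 0 ∧ g.1 0 0 = 1 ∧ g.1 1 1 = 1 then χ g else 0) = ∑ x : F, χ (unipSL x) := by
  rw [← Finset.sum_filter]
  have h : Finset.univ.filter (fun g : Matrix.SpecialLinearGroup (Fin 2) F =>
      g.1 1 0 = 0 ∧ g.1 0 0 = 1 ∧ g.1 1 1 = 1) = Finset.univ.image unipSL := by
    ext g
    simp only [Finset.mem_filter, Finset.mem_univ, true_and, Finset.mem_image]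
    constructor
    · rintro ⟨h10, h00, h11⟩
      refine ⟨g.1 0 1, ?_⟩
      apply sl2_ext
      · simp [unipSL, h00]
      · simp [unipSL]
      · simp [unipSL, h10]
      · simp [unipSL, h11]
    · rintro ⟨x, rfl⟩
      simp [unipSL]
  rw [h, Finset.sum_image (fun x _ y _ hxy => unipSL_injective hxy)]

theorem sum_unip_split (f : F → ℂ) (c : ℂ) (h : ∀ x : F, x ≠ 0 → f x = c) :
    ∑ x : F, f x = f 0 + ((Fintype.card F : ℂ) - 1) * c := by
  rw [← Finset.add_sum_erase Finset.univ _ (Finset.mem_univ (0 : F))]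
  congr 1
  rw [Finset.sum_congr rfl (fun x hx => h x (Finset.ne_of_mem_erase hx)), Finset.sum_const,
    Finset.card_erase_of_mem (Finset.mem_univ _), Finset.card_univ, nsmul_eq_mul,
    Nat.cast_sub Fintype.card_pos, Nat.cast_one]

theorem sumU_ps (α : MulChar F ℂ) :
    ∑ x : F, indFun (borelSL F) (psFun α) (unipSL x) = 2 * (Fintype.card F : ℂ) := by
  rw [sum_unip_split _ 1, unipSL_zero, ps_SL_one]
  · ring
  · intro x hx
    rw [ps_SL_unipotent α (unipSL x) rfl rfl (by simpa [unipSL] using hx)]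
    simp [unipSL]

theorem sumU_steinberg :
    ∑ x : F, steinbergSL F (unipSL x) = (Fintype.card F : ℂ) := by
  rw [sum_unip_split _ 0, unipSL_zero, steinbergSL_one]
  · ring
  · intro x hx
    exact (steinbergSL_values (unipSL x)).2.2 rfl rfl (by simpa [unipSL] using hx)

theorem sumU_cusp {χ : GL (Fin 2) F → ℂ} (hc : IsCuspidalGL χ) :
    ∑ x : F, resSL χ (unipSL x) = 0 := by
  rw [← cusp_sum hc 1 1]
  apply Finset.sum_congr rfl
  intro x _
  unfold resSL
  congr 1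
  apply gl2_ext <;> simp [unipSL, borelGLMk, toGL_apply]

theorem sumU_diagConj {d : Fˣ} {ξ ξ' : Matrix.SpecialLinearGroup (Fin 2) F → ℂ}
    (hd : DiagConj d ξ ξ') : ∑ x : F, ξ' (unipSL x) = ∑ x : F, ξ (unipSL x) := by
  rw [← Equiv.sum_comp (Equiv.mulRight₀ ((d : F)⁻¹) (inv_ne_zero d.ne_zero))
    (fun x => ξ' (unipSL x))]
  apply Finset.sum_congr rfl
  intro x _
  apply hd
  rw [eq_mul_inv_iff_mul_eq]
  apply gl2_ext <;>
    simp only [gl2_mul_apply, toGL_apply, diagGL, unipSL, gl2_00, gl2_01, gl2_10, gl2_11, mk2_00,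
      mk2_01, mk2_10, mk2_11, Equiv.mulRight₀_apply] <;>
    first | (field_simp; done) | (field_simp; ring)

/-- the sum of an irreducible character over the unipotent subgroup, by degree. -/
theorem sumU_by_degree (hodd : Odd (Fintype.card F)) (hq : 5 ≤ Fintype.card F)
    (χ : Matrix.SpecialLinearGroup (Fin 2) F → ℂ)
    (hχ : IsIrrCharacter (Matrix.SpecialLinearGroup (Fin 2) F) χ) :
    (χ 1 = (Fintype.card F : ℂ) + 1 → ∑ x : F, χ (unipSL x) = 2 * (Fintype.card F : ℂ)) ∧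
    (χ 1 = (Fintype.card F : ℂ) → ∑ x : F, χ (unipSL x) = (Fintype.card F : ℂ)) ∧
    (χ 1 = (Fintype.card F : ℂ) - 1 → ∑ x : F, χ (unipSL x) = 0) ∧
    (χ 1 = (((Fintype.card F + 1) / 2 : ℕ) : ℂ) → ∑ x : F, χ (unipSL x) = (Fintype.card F : ℂ)) ∧
    (χ 1 = (((Fintype.card F - 1) / 2 : ℕ) : ℂ) → ∑ x : F, χ (unipSL x) = 0) := by
  obtain ⟨k, hk⟩ := hodd
  have hk2 : 2 ≤ k := by omega
  have hq' : (Fintype.card F : ℂ) = 2 * (k : ℂ) + 1 := by
    rw [hk]; push_cast; ring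
  have e1 : (Fintype.card F + 1) / 2 = k + 1 := by omega
  have e2 : (Fintype.card F - 1) / 2 = k := by omega
  rw [e1, e2]
  have hd1 : (Fintype.card F : ℂ) + 1 = ((2 * k + 2 : ℕ) : ℂ) := by rw [hq']; push_cast; ring
  have hd2 : (Fintype.card F : ℂ) = ((2 * k + 1 : ℕ) : ℂ) := by rw [hq']; push_cast; ring
  have hd3 : (Fintype.card F : ℂ) - 1 = ((2 * k : ℕ) : ℂ) := by rw [hq']; push_cast; ring
  -- the sums for each type
  have key : ∀ n : ℕ, χ 1 = (n : ℂ) →
      (n = 2 * k + 2 → ∑ x : F, χ (unipSL x) = 2 * (Fintype.card F : ℂ)) ∧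
      (n = 2 * k + 1 → ∑ x : F, χ (unipSL x) = (Fintype.card F : ℂ)) ∧
      (n = 2 * k → ∑ x : F, χ (unipSL x) = 0) ∧
      (n = k + 1 → ∑ x : F, χ (unipSL x) = (Fintype.card F : ℂ)) ∧
      (n = k → ∑ x : F, χ (unipSL x) = 0) := by
    intro n hn
    rcases irr_SL2_odd_types hk χ hχ with ⟨rfl, h1⟩ | ⟨rfl, h1⟩ | ⟨α, hα, rfl, h1⟩ |
      ⟨α, ξ', d, -, -, -, -, hsum, hd, h1⟩ | ⟨ψ, hc, rfl, h1⟩ | ⟨ψ, ξ', d, hc, -, -, hsum, hd, h1⟩
    · have hnn : n = 1 := Nat.cast_injective (R := ℂ) (hn.symm.trans h1)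
      refine ⟨?_, ?_, ?_, ?_, ?_⟩ <;> intro h <;> omega
    · have hnn : n = 2 * k + 1 := Nat.cast_injective (R := ℂ) (hn.symm.trans h1)
      refine ⟨?_, ?_, ?_, ?_, ?_⟩
      · intro h; omega
      · intro _; exact sumU_steinberg
      · intro h; omega
      · intro h; omega
      · intro h; omega
    · have hnn : n = 2 * k + 2 := Nat.cast_injective (R := ℂ) (hn.symm.trans h1)
      refine ⟨?_, ?_, ?_, ?_, ?_⟩
      · intro _; exact sumU_ps α
      · intro h; omega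
      · intro h; omega
      · intro h; omega
      · intro h; omega
    · have hnn : n = k + 1 := Nat.cast_injective (R := ℂ) (hn.symm.trans h1)
      refine ⟨?_, ?_, ?_, ?_, ?_⟩
      · intro h; omega
      · intro h; omega
      · intro h; omega
      · intro _
        have h2 := sumU_ps α
        rw [hsum] at h2
        simp only [Pi.add_apply, Finset.sum_add_distrib] at h2
        rw [sumU_diagConj hd] at h2
        linear_combination (1 / 2 : ℂ) * h2
      · intro h; omega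
    · have hnn : n = 2 * k := Nat.cast_injective (R := ℂ) (hn.symm.trans h1)
      refine ⟨?_, ?_, ?_, ?_, ?_⟩
      · intro h; omega
      · intro h; omega
      · intro _; exact sumU_cusp hc
      · intro h; omega
      · intro h; omega
    · have hnn : n = k := Nat.cast_injective (R := ℂ) (hn.symm.trans h1)
      refine ⟨?_, ?_, ?_, ?_, ?_⟩
      · intro h; omega
      · intro h; omega
      · intro h; omega
      · intro h; omega
      · intro _
        have h2 := sumU_cusp hc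
        rw [hsum] at h2
        simp only [Pi.add_apply, Finset.sum_add_distrib] at h2
        rw [sumU_diagConj hd] at h2
        linear_combination (1 / 2 : ℂ) * h2
  rw [hd1, hd3]
  refine ⟨fun h => (key _ h).1 rfl, ?_, fun h => (key _ h).2.2.1 rfl,
    fun h => (key _ h).2.2.2.1 rfl, fun h => (key _ h).2.2.2.2 rfl⟩
  intro h
  rw [hd2] at h
  exact (key _ h).2.1 rfl

end Cfsg.Agent.Lib.Helper38
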