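import Cfsg.Agent.Lib.Helper38.SL2ClassSum

set_option autoImplicit false
set_option linter.unusedSimpArgs false
set_option linter.unusedSectionVars false

/-!
Abelian subgroups of order `q + 1` of `SL₂(F)`, `|F| = q` odd (non-split tori).
-/

namespace Cfsg.Agent.Lib.Helper38

open Matrix Cfsg Cfsg.Agent.Lib.Helper25
open scoped ComplexConjugate

variable {F : Type*} [Field F] [Fintype F] [DecidableEq F]

/-- the only elements of `SL₂` with square one are `±1`. -/
theorem sl2_sq_eq_one (h2 : (2 : F) ≠ 0) (g : Matrix.SpecialLinearGroup (Fin 2) F)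
    (h : g * g = 1) : g = 1 ∨ g = negOneSL F := by
  have hdet := sl2_det g
  have e00 := congrArg (fun y : Matrix.SpecialLinearGroup (Fin 2) F => y.1 0 0) h
  have e01 := congrArg (fun y : Matrix.SpecialLinearGroup (Fin 2) F => y.1 0 1) h
  have e10 := congrArg (fun y : Matrix.SpecialLinearGroup (Fin 2) F => y.1 1 0) h
  have e11 := congrArg (fun y : Matrix.SpecialLinearGroup (Fin 2) F => y.1 1 1) h
  simp only [sl2_mul_apply, sl2_one_00, sl2_one_01, sl2_one_10, sl2_one_11] at e00 e01 e10 e11
  have htr : trSL g ≠ 0 := by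
    intro ht
    apply h2
    unfold trSL at ht
    have h11 : g.1 1 1 = -g.1 0 0 := by linear_combination ht
    rw [h11] at hdet
    linear_combination -e00 - hdet
  have h01 : g.1 0 1 = 0 := by
    have : g.1 0 1 * trSL g = 0 := by unfold trSL; linear_combination e01
    exact (mul_eq_zero.mp this).resolve_right htr
  have h10 : g.1 1 0 = 0 := by
    have : g.1 1 0 * trSL g = 0 := by unfold trSL; linear_combination e10
    exact (mul_eq_zero.mp this).resolve_right htr
  apply central_of_diag_of_tr g h01 h10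
  rw [h01, zero_mul, sub_zero] at hdet
  rw [h01, zero_mul, add_zero] at e00
  rw [h10, zero_mul, zero_add] at e11
  unfold trSL
  linear_combination e00 + e11 + 2 * hdet

theorem unipSL_mul (x y : F) : unipSL x * unipSL y = unipSL (x + y) := by
  apply sl2_ext <;> simp [sl2_mul_apply, unipSL]
  ring

theorem unipSL_pow (x : F) (m : ℕ) : unipSL x ^ m = unipSL (m * x) := by
  induction m with
  | zero => simp [unipSL_zero]
  | succ m ih =>
    rw [pow_succ, ih, unipSL_mul]
    congr 1
    push_cast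
    ring

/-- powers of an upper triangular element. -/
theorem upper_pow (b : Matrix.SpecialLinearGroup (Fin 2) F) (h10 : b.1 1 0 = 0) (m : ℕ) :
    (b ^ m).1 1 0 = 0 ∧ (b ^ m).1 0 0 = b.1 0 0 ^ m := by
  induction m with
  | zero => simp
  | succ m ih =>
    rw [pow_succ]
    constructor
    · rw [sl2_mul_apply, ih.1, h10]; ring
    · rw [sl2_mul_apply, ih.2, h10]; ring

theorem natCast_card_add_one : ((Fintype.card F + 1 : ℕ) : F) = 1 := by
  rw [Nat.cast_add, Nat.cast_one, FiniteField.cast_card_eq_zero, zero_add]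

/-- an element with an eigenvector whose order divides `q + 1` is central. -/
theorem central_of_pow_of_eigenvector (hodd : Odd (Fintype.card F))
    (c : Matrix.SpecialLinearGroup (Fin 2) F) (hpow : c ^ (Fintype.card F + 1) = 1)
    (a : F) (v : Fin 2 → F) (hv : v ≠ 0) (hcv : c.1.mulVec v = a • v) :
    c = 1 ∨ c = negOneSL F := by
  have h2 := two_ne_zero_of_odd_card hodd
  obtain ⟨n, hn⟩ := upper_of_eigenvector c a v hv hcv
  obtain ⟨b, hb⟩ : ∃ b, b = n⁻¹ * c * n := ⟨_, rfl⟩
  rw [← hb] at hn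
  have hbpow : b ^ (Fintype.card F + 1) = 1 := by
    have e : n⁻¹ * c * n = n⁻¹ * c * (n⁻¹)⁻¹ := by rw [inv_inv]
    rw [hb, e, conj_pow, hpow]
    group
  have hbdet := sl2_det b
  rw [hn, mul_zero, sub_zero] at hbdet
  have hb00 : b.1 0 0 ≠ 0 := left_ne_zero_of_mul_eq_one hbdet
  have h1 := (upper_pow b hn (Fintype.card F + 1)).2
  rw [hbpow, sl2_one_00] at h1
  have h3 := FiniteField.pow_card_sub_one_eq_one (b.1 0 0) hb00
  have hsq : b.1 0 0 ^ 2 = 1 := by
    have : b.1 0 0 ^ (Fintype.card F + 1) = b.1 0 0 ^ (Fintype.card F - 1) * b.1 0 0 ^ 2 := by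
      rw [← pow_add]
      congr 1
      have := Fintype.card_pos (α := F)
      omega
    rw [this, h3, one_mul] at h1
    exact h1.symm
  have h11 : b.1 1 1 = b.1 0 0 := by
    have : b.1 0 0 * (b.1 1 1 - b.1 0 0) = 0 := by linear_combination hbdet - hsq
    exact sub_eq_zero.mp ((mul_eq_zero.mp this).resolve_left hb00)
  have hbb : b * b = unipSL (2 * b.1 0 0 * b.1 0 1) := by
    apply sl2_ext <;> simp only [sl2_mul_apply, unipSL, mk2_00, mk2_01, mk2_10, mk2_11, hn, h11]
    · linear_combination hsq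
    · ring
    · ring
    · linear_combination hsq
  obtain ⟨m, hm⟩ : ∃ m, Fintype.card F + 1 = 2 * m := by
    obtain ⟨k, hk⟩ := hodd
    exact ⟨k + 1, by omega⟩
  have h4 : b ^ (Fintype.card F + 1) = unipSL (b.1 0 0 * b.1 0 1) := by
    rw [hm, pow_mul, pow_two, hbb, unipSL_pow]
    congr 1
    have : ((2 * m : ℕ) : F) = 1 := by rw [← hm]; exact natCast_card_add_one
    push_cast at this
    linear_combination (b.1 0 0 * b.1 0 1) * this
  rw [hbpow, ← unipSL_zero] at h4
  have h5 := unipSL_injective h4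
  have h01 : b.1 0 1 = 0 := (mul_eq_zero.mp h5.symm).resolve_left hb00
  have hbc : b = 1 ∨ b = negOneSL F := by
    apply central_of_diag_of_tr b h01 hn
    unfold trSL
    rw [h11]
    linear_combination 4 * hsq
  have hcb : c = n * b * n⁻¹ := by rw [hb]; group
  rcases hbc with h | h
  · left; rw [hcb, h]; group
  · right
    rw [hcb, h]
    have := (Subgroup.mem_center_iff.mp (negOneSL_mem_center (F := F))) n
    rw [this]
    group

section Torus

variable (C : Subgroup (Matrix.SpecialLinearGroup (Fin 2) F))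

theorem negOneSL_mem_of_card (hodd : Odd (Fintype.card F))
    (hcard : Nat.card C = Fintype.card F + 1) : negOneSL F ∈ C := by
  have h2 := two_ne_zero_of_odd_card hodd
  have hdvd : 2 ∣ Nat.card C := by
    rw [hcard]
    obtain ⟨k, hk⟩ := hodd
    exact ⟨k + 1, by omega⟩
  have : Fact (Nat.Prime 2) := ⟨Nat.prime_two⟩
  obtain ⟨x, hx⟩ := exists_prime_orderOf_dvd_card' 2 hdvd
  have hx2 : x ^ 2 = 1 := by
    have := pow_orderOf_eq_one x
    rwa [hx] at this
  have hx1 : x ≠ 1 := by
    intro h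
    rw [h, orderOf_one] at hx
    norm_num at hx
  have hx2' : (x : Matrix.SpecialLinearGroup (Fin 2) F) * x = 1 := by
    have := congrArg (Subtype.val) hx2
    rw [pow_two] at this
    exact_mod_cast this
  rcases sl2_sq_eq_one h2 _ hx2' with h | h
  · exact absurd (Subtype.ext h) hx1
  · rw [← h]; exact x.2

/-- non-central elements of `C` have elliptic trace. -/
theorem isEllTr_of_mem (hodd : Odd (Fintype.card F))
    (hcard : Nat.card C = Fintype.card F + 1) (c : Matrix.SpecialLinearGroup (Fin 2) F)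
    (hc : c ∈ C) (h1 : c ≠ 1) (hm1 : c ≠ negOneSL F) : IsEllTr (trSL c) := by
  intro hsq
  have h2 := two_ne_zero_of_odd_card hodd
  obtain ⟨a, v, hv, hcv⟩ := exists_eigenvector_of_isSquare h2 c hsq
  have hpow : c ^ (Fintype.card F + 1) = 1 := by
    have := pow_card_eq_one' (G := C) (x := ⟨c, hc⟩)
    rw [hcard] at this
    have := congrArg Subtype.val this
    rwa [Subgroup.coe_pow, Subgroup.coe_one] at this
  rcases central_of_pow_of_eigenvector hodd c hpow a v hv hcv with h | h
  · exact h1 h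
  · exact hm1 h

/-- two commuting elements with the same elliptic trace are equal or inverse to each other. -/
theorem eq_or_eq_inv_of_trSL_eq (h2 : (2 : F) ≠ 0) (c c' : Matrix.SpecialLinearGroup (Fin 2) F)
    (hcomm : c * c' = c' * c) (ht : trSL c' = trSL c) (hell : IsEllTr (trSL c)) :
    c' = c ∨ c' = c⁻¹ := by
  have hdet := sl2_det c
  have hdet' := sl2_det c'
  have hx := apply_01_ne_zero_of_isEllTr c hell
  have e00 := congrArg (fun y : Matrix.SpecialLinearGroup (Fin 2) F => y.1 0 0) hcomm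
  have e01 := congrArg (fun y : Matrix.SpecialLinearGroup (Fin 2) F => y.1 0 1) hcomm
  simp only [sl2_mul_apply] at e00 e01
  have E1 : c.1 0 1 * c'.1 1 0 = c'.1 0 1 * c.1 1 0 := by linear_combination e00
  have E2 : c.1 0 1 * (c'.1 1 1 - c'.1 0 0) = c'.1 0 1 * (c.1 1 1 - c.1 0 0) := by
    linear_combination e01
  have htr : c'.1 0 0 + c'.1 1 1 = c.1 0 0 + c.1 1 1 := ht
  have h4 : trSL c ^ 2 - 4 ≠ 0 := sub_ne_zero.mpr hell.sq_ne_four
  have key : (c.1 0 1 ^ 2 - c'.1 0 1 ^ 2) * (trSL c ^ 2 - 4) = 0 := by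
    unfold trSL
    linear_combination (-(c.1 0 1 ^ 2) * (c.1 0 0 + c.1 1 1 + (c'.1 0 0 + c'.1 1 1))) * htr +
      4 * c.1 0 1 ^ 2 * hdet' +
      (c.1 0 1 * (c'.1 1 1 - c'.1 0 0) + c'.1 0 1 * (c.1 1 1 - c.1 0 0)) * E2 +
      4 * c.1 0 1 * c'.1 0 1 * E1 - 4 * c'.1 0 1 ^ 2 * hdet
  have key2 : (c.1 0 1 - c'.1 0 1) * (c.1 0 1 + c'.1 0 1) = 0 := by
    have := (mul_eq_zero.mp key).resolve_right h4
    linear_combination this
  rcases mul_eq_zero.mp key2 with h | h
  · left
    have hx' : c'.1 0 1 = c.1 0 1 := by linear_combination -h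
    rw [hx'] at E1 E2
    have h10 : c'.1 1 0 = c.1 1 0 := mul_left_cancel₀ hx E1
    have hd : c'.1 1 1 - c'.1 0 0 = c.1 1 1 - c.1 0 0 := mul_left_cancel₀ hx E2
    have h00 : c'.1 0 0 = c.1 0 0 := by
      apply mul_left_cancel₀ h2
      linear_combination htr - hd
    have h11 : c'.1 1 1 = c.1 1 1 := by linear_combination hd + h00
    exact sl2_ext _ _ h00 hx' h10 h11
  · right
    have hx' : c'.1 0 1 = -c.1 0 1 := by linear_combination h
    rw [hx'] at E1 E2
    have h10 : c'.1 1 0 = -c.1 1 0 := by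
      apply mul_left_cancel₀ hx
      linear_combination E1
    have hd : c'.1 1 1 - c'.1 0 0 = -(c.1 1 1 - c.1 0 0) := by
      apply mul_left_cancel₀ hx
      linear_combination E2
    have h00 : c'.1 0 0 = c.1 1 1 := by
      apply mul_left_cancel₀ h2
      linear_combination htr - hd
    have h11 : c'.1 1 1 = c.1 0 0 := by linear_combination hd + h00
    apply sl2_ext
    · rw [sl2_inv_00, h00]
    · rw [sl2_inv_01, hx']
    · rw [sl2_inv_10, h10]
    · rw [sl2_inv_11, h11]

open Classical in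
/-- the trace is two-to-one from the non-central elements of `C` onto the elliptic trace values. -/
theorem sum_ellTr_eq (hodd : Odd (Fintype.card F))
    (hcard : Nat.card C = Fintype.card F + 1)
    (hcomm : ∀ a ∈ C, ∀ b ∈ C, a * b = b * a) (h : F → ℂ) :
    2 * ∑ t ∈ Finset.univ.filter (fun t : F => IsEllTr t), h t =
      ∑ c ∈ Finset.univ.filter (fun c : C => (c : Matrix.SpecialLinearGroup (Fin 2) F) ≠ 1 ∧
        (c : Matrix.SpecialLinearGroup (Fin 2) F) ≠ negOneSL F),
        h (trSL (c : Matrix.SpecialLinearGroup (Fin 2) F)) := by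
  have h2 := two_ne_zero_of_odd_card hodd
  have hm := negOneSL_mem_of_card C hodd hcard
  obtain ⟨S, hS⟩ : ∃ S : Finset C, S = Finset.univ.filter
      (fun c : C => (c : Matrix.SpecialLinearGroup (Fin 2) F) ≠ 1 ∧
        (c : Matrix.SpecialLinearGroup (Fin 2) F) ≠ negOneSL F) := ⟨_, rfl⟩
  obtain ⟨T, hT⟩ : ∃ T : Finset F, T = Finset.univ.filter (fun t : F => IsEllTr t) := ⟨_, rfl⟩
  rw [← hS, ← hT]
  have hmaps : ∀ c ∈ S, trSL (c : Matrix.SpecialLinearGroup (Fin 2) F) ∈ T := by
    intro c hc
    rw [hS, Finset.mem_filter] at hc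
    rw [hT, Finset.mem_filter]
    exact ⟨Finset.mem_univ _, isEllTr_of_mem C hodd hcard c c.2 hc.2.1 hc.2.2⟩
  -- the fibres have at most two elements
  have hfib : ∀ t ∈ T, (S.filter (fun c : C =>
      trSL (c : Matrix.SpecialLinearGroup (Fin 2) F) = t)).card ≤ 2 := by
    intro t ht
    rw [hT, Finset.mem_filter] at ht
    by_cases hne : (S.filter (fun c : C =>
      trSL (c : Matrix.SpecialLinearGroup (Fin 2) F) = t)).Nonempty
    · obtain ⟨c₀, hc₀⟩ := hne
      rw [Finset.mem_filter] at hc₀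
      have hsub : S.filter (fun c : C => trSL (c : Matrix.SpecialLinearGroup (Fin 2) F) = t) ⊆
          {c₀, c₀⁻¹} := by
        intro c hc
        rw [Finset.mem_filter] at hc
        rw [Finset.mem_insert, Finset.mem_singleton]
        rcases eq_or_eq_inv_of_trSL_eq h2 (c₀ : Matrix.SpecialLinearGroup (Fin 2) F) c
          (hcomm _ c₀.2 _ c.2) (by rw [hc.2, hc₀.2]) (by rw [hc₀.2]; exact ht.2) with h | h
        · left; exact Subtype.ext h
        · right; exact Subtype.ext (by rw [h]; rfl)
      exact (Finset.card_le_card hsub).trans Finset.card_le_two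
    · rw [Finset.not_nonempty_iff_eq_empty] at hne
      rw [hne]; simp
  -- cardinalities
  have hScard : S.card + 2 = Fintype.card F + 1 := by
    have h1 := Finset.card_filter_add_card_filter_not (s := (Finset.univ : Finset C))
      (fun c : C => (c : Matrix.SpecialLinearGroup (Fin 2) F) ≠ 1 ∧
        (c : Matrix.SpecialLinearGroup (Fin 2) F) ≠ negOneSL F)
    rw [← hS, Finset.card_univ, ← Nat.card_eq_fintype_card, hcard] at h1
    have h3 : (Finset.univ.filter (fun c : C => ¬ ((c : Matrix.SpecialLinearGroup (Fin 2) F) ≠ 1 ∧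
        (c : Matrix.SpecialLinearGroup (Fin 2) F) ≠ negOneSL F))) =
        {(1 : C), (⟨negOneSL F, hm⟩ : C)} := by
      ext c
      rw [Finset.mem_filter, Finset.mem_insert, Finset.mem_singleton]
      constructor
      · rintro ⟨-, hc⟩
        by_cases h1 : (c : Matrix.SpecialLinearGroup (Fin 2) F) = 1
        · left; exact Subtype.ext h1
        · right
          apply Subtype.ext
          by_contra h3
          exact hc ⟨h1, h3⟩
      · rintro (rfl | rfl)
        · exact ⟨Finset.mem_univ _, fun h => h.1 rfl⟩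
        · exact ⟨Finset.mem_univ _, fun h => h.2 rfl⟩
    rw [h3, Finset.card_pair] at h1
    · exact h1
    · intro h
      have := congrArg Subtype.val h
      exact negOneSL_ne_one h2 this.symm
  have hTcard : 2 * T.card + 1 = Fintype.card F := by
    have := (card_types (F := F) hodd).2
    rw [← hT] at this
    have h4 : ((2 * T.card + 1 : ℕ) : ℂ) = (Fintype.card F : ℂ) := by
      push_cast
      linear_combination this
    exact_mod_cast h4
  have hsum : S.card = ∑ t ∈ T, (S.filter (fun c : C =>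
      trSL (c : Matrix.SpecialLinearGroup (Fin 2) F) = t)).card :=
    Finset.card_eq_sum_card_fiberwise hmaps
  have hall : ∀ t ∈ T, (S.filter (fun c : C =>
      trSL (c : Matrix.SpecialLinearGroup (Fin 2) F) = t)).card = 2 := by
    have h5 : ∑ t ∈ T, (S.filter (fun c : C =>
        trSL (c : Matrix.SpecialLinearGroup (Fin 2) F) = t)).card = ∑ _t ∈ T, 2 := by
      rw [← hsum, Finset.sum_const, smul_eq_mul]
      omega
    exact (Finset.sum_eq_sum_iff_of_le hfib).mp h5
  rw [← Finset.sum_fiberwise_of_maps_to hmaps, Finset.mul_sum]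
  apply Finset.sum_congr rfl
  intro t ht
  have h6 : ∀ c ∈ S.filter (fun c : C => trSL (c : Matrix.SpecialLinearGroup (Fin 2) F) = t),
      h (trSL (c : Matrix.SpecialLinearGroup (Fin 2) F)) = h t := by
    intro c hc
    rw [Finset.mem_filter] at hc
    rw [hc.2]
  rw [Finset.sum_congr rfl h6, Finset.sum_const, hall t ht, nsmul_eq_mul]
  norm_num

open Classical in
/-- the sum of a class function vanishing on the split elements, in terms of `C`. -/
theorem sum_torus (hodd : Odd (Fintype.card F))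
    (hcard : Nat.card C = Fintype.card F + 1)
    (hcomm : ∀ a ∈ C, ∀ b ∈ C, a * b = b * a)
    {f : Matrix.SpecialLinearGroup (Fin 2) F → ℂ}
    (hf : IsClassFunction (Matrix.SpecialLinearGroup (Fin 2) F) f) (cU : ℂ)
    (hU : ∀ b : Matrix.SpecialLinearGroup (Fin 2) F, b.1 1 0 = 0 → b.1 0 0 = b.1 1 1 →
      b.1 0 1 ≠ 0 → f b = cU)
    (hS : ∀ b : Matrix.SpecialLinearGroup (Fin 2) F, b.1 0 1 = 0 → b.1 1 0 = 0 →
      b.1 0 0 ^ 2 ≠ 1 → f b = 0) :
    2 * ∑ g, f g = 2 * (f 1 + f (negOneSL F)) + 4 * ((Fintype.card F : ℂ) ^ 2 - 1) * cU +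
      ((Fintype.card F : ℂ) * ((Fintype.card F : ℂ) - 1)) *
        ∑ c ∈ Finset.univ.filter (fun c : C => (c : Matrix.SpecialLinearGroup (Fin 2) F) ≠ 1 ∧
          (c : Matrix.SpecialLinearGroup (Fin 2) F) ≠ negOneSL F),
          f (c : Matrix.SpecialLinearGroup (Fin 2) F) := by
  have h1 := sum_by_type hodd hf cU 0 hU hS
  have h2 := sum_ellTr_eq C hodd hcard hcomm (fun t => f (companionSL t))
  have h3 : ∀ c ∈ Finset.univ.filter (fun c : C =>
      (c : Matrix.SpecialLinearGroup (Fin 2) F) ≠ 1 ∧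
        (c : Matrix.SpecialLinearGroup (Fin 2) F) ≠ negOneSL F),
      f (companionSL (trSL (c : Matrix.SpecialLinearGroup (Fin 2) F))) =
        f (c : Matrix.SpecialLinearGroup (Fin 2) F) := by
    intro c hc
    rw [Finset.mem_filter] at hc
    have hell := isEllTr_of_mem C hodd hcard c c.2 hc.2.1 hc.2.2
    apply Cfsg.Agent.Lib.Helper3.IsClassFunction.eq_of_isConj hf
    apply isConj_of_trSL_eq hodd
    · rw [trSL_companionSL]
    · rw [trSL_companionSL]; exact hell.sq_ne_four
  rw [Finset.sum_congr rfl h3] at h2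
  rw [h1, (card_types (F := F) hodd).1, ← h2]
  ring

end Torus

end Cfsg.Agent.Lib.Helper38
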