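import Cfsg.Agent.Lib.Helper38.SL2CuspTorus
import Cfsg.Agent.Lib.Helper38.AbelianRestrict

set_option autoImplicit false
set_option linter.unusedSimpArgs false
set_option linter.unusedSectionVars false

/-!
Values of the cuspidal characters of `SL₂(F)`, `|F|` odd, on a cyclic subgroup of order `q + 1`.
-/

namespace Cfsg.Agent.Lib.Helper38

open Matrix Cfsg Cfsg.Agent.Lib.Helper25
open scoped ComplexConjugate

variable {F : Type*} [Field F] [Fintype F] [DecidableEq F]

theorem trSL_inv (g : Matrix.SpecialLinearGroup (Fin 2) F) : trSL g⁻¹ = trSL g := by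
  unfold trSL
  rw [sl2_inv_00, sl2_inv_11, add_comm]

theorem negOneSL_mul_self : negOneSL F * negOneSL F = 1 := by
  apply sl2_ext <;> simp [sl2_mul_apply, negOneSL]

/-- a class function takes the same value at an element with elliptic trace and its inverse. -/
theorem apply_inv_of_isEllTr (hodd : Odd (Fintype.card F))
    {f : Matrix.SpecialLinearGroup (Fin 2) F → ℂ}
    (hf : IsClassFunction (Matrix.SpecialLinearGroup (Fin 2) F) f)
    (c : Matrix.SpecialLinearGroup (Fin 2) F) (hc : IsEllTr (trSL c)) : f c⁻¹ = f c := by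
  apply Cfsg.Agent.Lib.Helper3.IsClassFunction.eq_of_isConj hf
  apply isConj_of_trSL_eq hodd
  · exact trSL_inv c
  · rw [trSL_inv]; exact hc.sq_ne_four

section Torus

variable (C : Subgroup (Matrix.SpecialLinearGroup (Fin 2) F))

theorem comm_of_isCyclic (hcyc : IsCyclic C) : ∀ a ∈ C, ∀ b ∈ C, a * b = b * a := by
  intro a ha b hb
  have : IsMulCommutative C := IsCyclic.isMulCommutative
  have h := mul_comm' (⟨a, ha⟩ : C) ⟨b, hb⟩
  exact congrArg Subtype.val h

/-- a class function on `SL₂` restricted to `C` is inversion invariant. -/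
theorem torus_apply_inv (hodd : Odd (Fintype.card F)) (hcard : Nat.card C = Fintype.card F + 1)
    {f : Matrix.SpecialLinearGroup (Fin 2) F → ℂ}
    (hf : IsClassFunction (Matrix.SpecialLinearGroup (Fin 2) F) f) (c : C) :
    f ((c⁻¹ : C) : Matrix.SpecialLinearGroup (Fin 2) F) =
      f (c : Matrix.SpecialLinearGroup (Fin 2) F) := by
  rw [Subgroup.coe_inv]
  by_cases h1 : (c : Matrix.SpecialLinearGroup (Fin 2) F) = 1
  · rw [h1, inv_one]
  by_cases hm1 : (c : Matrix.SpecialLinearGroup (Fin 2) F) = negOneSL F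
  · rw [hm1]
    congr 1
    exact inv_eq_of_mul_eq_one_right negOneSL_mul_self
  exact apply_inv_of_isEllTr hodd hf _ (isEllTr_of_mem C hodd hcard c c.2 h1 hm1)

open Classical in
/-- splitting a sum over `C` into the central and the non-central elements. -/
theorem sum_torus_split (hodd : Odd (Fintype.card F)) (hm : negOneSL F ∈ C) (g : C → ℂ) :
    ∑ c : C, g c = g 1 + g ⟨negOneSL F, hm⟩ +
      ∑ c ∈ Finset.univ.filter (fun c : C => (c : Matrix.SpecialLinearGroup (Fin 2) F) ≠ 1 ∧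
        (c : Matrix.SpecialLinearGroup (Fin 2) F) ≠ negOneSL F), g c := by
  have h2 := two_ne_zero_of_odd_card hodd
  rw [← Finset.sum_filter_add_sum_filter_not Finset.univ
    (fun c : C => (c : Matrix.SpecialLinearGroup (Fin 2) F) ≠ 1 ∧
      (c : Matrix.SpecialLinearGroup (Fin 2) F) ≠ negOneSL F), add_comm]
  congr 1
  have h3 : (Finset.univ.filter (fun c : C => ¬ ((c : Matrix.SpecialLinearGroup (Fin 2) F) ≠ 1 ∧
      (c : Matrix.SpecialLinearGroup (Fin 2) F) ≠ negOneSL F))) =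
      {(1 : C), (⟨negOneSL F, hm⟩ : C)} := by
    ext c
    rw [Finset.mem_filter, Finset.mem_insert, Finset.mem_singleton]
    constructor
    · rintro ⟨-, hc⟩
      by_cases h1 : (c : Matrix.SpecialLinearGroup (Fin 2) F) = 1
      · left; exact Subtype.ext h1
      · right
        apply Subtype.ext
        by_contra h3
        exact hc ⟨h1, h3⟩
    · rintro (rfl | rfl)
      · exact ⟨Finset.mem_univ _, fun h => h.1 rfl⟩
      · exact ⟨Finset.mem_univ _, fun h => h.2 rfl⟩
  rw [h3, Finset.sum_pair]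
  intro h
  have := congrArg Subtype.val h
  exact negOneSL_ne_one h2 this.symm

/-- two homomorphisms on a cyclic group agreeing at a generator are equal. -/
theorem hom_eq_of_generator {G : Type*} [Group G] (x : G) (hx : ∀ c : G, c ∈ Subgroup.zpowers x)
    (θ θ' : G →* ℂˣ) (h : θ x = θ' x) : θ = θ' := by
  ext c
  obtain ⟨k, rfl⟩ := Subgroup.mem_zpowers_iff.mp (hx c)
  rw [map_zpow, map_zpow, h]

open Classical in
/-- the sum of an irreducible character of `C` over the non-central elements. -/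
theorem sum_irr_noncentral (hodd : Odd (Fintype.card F)) (hm : negOneSL F ∈ C)
    [IsMulCommutative C] (φ : IrrCharacter C) :
    ∑ c ∈ Finset.univ.filter (fun c : C => (c : Matrix.SpecialLinearGroup (Fin 2) F) ≠ 1 ∧
        (c : Matrix.SpecialLinearGroup (Fin 2) F) ≠ negOneSL F), (φ : C → ℂ) c =
      (if (φ : C → ℂ) = (fun _ => (1 : ℂ)) then (Fintype.card C : ℂ) else 0) - 1 -
        (φ : C → ℂ) ⟨negOneSL F, hm⟩ := by
  have h1 := sum_torus_split C hodd hm (φ : C → ℂ)
  have h2 := sum_eq_card_mul_classInner (φ : C → ℂ) (fun _ => (1 : ℂ))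
  rw [Cfsg.Agent.Lib.Helper3.classInner_irr φ.2 Cfsg.Agent.Lib.Helper3.isIrrCharacter_one] at h2
  simp only [map_one, mul_one] at h2
  rw [h2, (irr_linear φ).2] at h1
  by_cases h : (φ : C → ℂ) = (fun _ => (1 : ℂ))
  · rw [if_pos h] at h1 ⊢
    linear_combination -h1
  · rw [if_neg h] at h1 ⊢
    linear_combination -h1

theorem units_sq_eq_one {u : ℂˣ} (h : u * u = 1) : (u : ℂ) = 1 ∨ (u : ℂ) = -1 := by
  have h1 : (u : ℂ) * (u : ℂ) = 1 := by
    have := congrArg (fun v : ℂˣ => (v : ℂ)) h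
    simpa using this
  have : ((u : ℂ) - 1) * ((u : ℂ) + 1) = 0 := by linear_combination h1
  rcases mul_eq_zero.mp this with h2 | h2
  · left; linear_combination h2
  · right; linear_combination h2

/-- on a cyclic group, two distinct non-trivial homomorphisms to `ℂˣ` cannot both be
self-inverse. -/
theorem not_both_real {G : Type*} [Group G] [IsCyclic G] (θ₁ θ₂ : G →* ℂˣ) (h1 : θ₁ ≠ 1)
    (h2 : θ₂ ≠ 1) (hne : θ₁ ≠ θ₂) (hr1 : θ₁⁻¹ = θ₁) (hr2 : θ₂⁻¹ = θ₂) : False := by
  obtain ⟨x, hx⟩ := IsCyclic.exists_generator (α := G)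
  have key : ∀ θ : G →* ℂˣ, θ ≠ 1 → θ⁻¹ = θ → ((θ x : ℂˣ) : ℂ) = -1 := by
    intro θ hθ1 hθr
    have h3 : θ x * θ x = 1 := by
      have := congrArg (fun η : G →* ℂˣ => η x) hθr
      simp only [MonoidHom.inv_apply] at this
      nth_rewrite 1 [← this]
      exact inv_mul_cancel (θ x)
    rcases units_sq_eq_one h3 with h4 | h4
    · exfalso
      apply hθ1
      apply hom_eq_of_generator x hx
      rw [MonoidHom.one_apply]
      exact Units.ext h4
    · exact h4
  apply hne
  apply hom_eq_of_generator x hx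
  apply Units.ext
  rw [key θ₁ h1 hr1, key θ₂ h2 hr2]

open Classical in
/-- the values on `C` of an irreducible restriction of a cuspidal character. -/
theorem cusp_torus_irr (hodd : Odd (Fintype.card F)) (hcyc : IsCyclic C)
    (hcard : Nat.card C = Fintype.card F + 1) (hm : negOneSL F ∈ C)
    {ψ : GL (Fin 2) F → ℂ} (hc : IsCuspidalGL ψ)
    (hirr : IsIrrCharacter (Matrix.SpecialLinearGroup (Fin 2) F) (resSL ψ))
    {ε : ℂ} (hε1 : ε = 1 ∨ ε = -1) (hε : ∀ g, resSL ψ (negOneSL F * g) = ε * resSL ψ g) :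
    ∃ θ : C →* ℂˣ, (∃ c : C, θ c ^ 2 ≠ 1) ∧ ((θ ⟨negOneSL F, hm⟩ : ℂˣ) : ℂ) = ε ∧
      ∀ c : C, (c : Matrix.SpecialLinearGroup (Fin 2) F) ≠ 1 →
        (c : Matrix.SpecialLinearGroup (Fin 2) F) ≠ negOneSL F →
        resSL ψ (c : Matrix.SpecialLinearGroup (Fin 2) F) =
          -(((θ c : ℂˣ) : ℂ) + (((θ c)⁻¹ : ℂˣ) : ℂ)) := by
  have hcomm := comm_of_isCyclic C hcyc
  have : IsMulCommutative C := IsCyclic.isMulCommutative
  have : Fintype (IrrCharacter C) := Fintype.ofFinite _
  have h2 := two_ne_zero_of_odd_card hodd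
  obtain ⟨hS1, hS2⟩ := cusp_torus_sums C hodd hcard hcomm hc hε1 hε
  rw [Cfsg.Agent.Lib.Helper3.classInner_irr hirr hirr, if_pos rfl] at hS1
  obtain ⟨f, hf⟩ : ∃ f : C → ℂ,
      f = fun c : C => resSL ψ (c : Matrix.SpecialLinearGroup (Fin 2) F) := ⟨_, rfl⟩
  have hfc : IsCharacter C f := by
    rw [hf]
    exact Cfsg.Agent.Lib.Helper3.IsCharacter.restrict
      (isCharacter_resSL (Cfsg.Agent.Lib.Helper3.IsIrrCharacter.isCharacter hc.1)) C
  have hcardC : (Fintype.card C : ℂ) = (Fintype.card F : ℂ) + 1 := by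
    rw [← Nat.card_eq_fintype_card, hcard]; push_cast; ring
  have hcardC0 : (Fintype.card C : ℂ) ≠ 0 := Nat.cast_ne_zero.mpr Fintype.card_ne_zero
  obtain ⟨z, hz⟩ : ∃ z : C, z = ⟨negOneSL F, hm⟩ := ⟨_, rfl⟩
  have hz1 : z ≠ 1 := by
    intro h
    rw [hz] at h
    exact negOneSL_ne_one h2 (congrArg Subtype.val h)
  have hzz : z * z = 1 := by
    rw [hz]
    apply Subtype.ext
    exact negOneSL_mul_self
  have hfz : ∀ a, f (z * a) = ε * f a := by
    intro a
    rw [hf, hz]
    exact hε a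
  have hinv : ∀ a, f a⁻¹ = f a := by
    intro a
    rw [hf]
    exact torus_apply_inv C hodd hcard (isClassFunction_resSL hc) a
  have hf1 : f 1 = (Fintype.card F : ℂ) - 1 := by
    rw [hf]; exact resSL_one hc
  have hfzv : f z = ε * ((Fintype.card F : ℂ) - 1) := by
    have := hfz 1
    rwa [mul_one, hf1] at this
  have hεε : ε * conj ε = 1 := by
    rcases hε1 with h | h <;> rw [h] <;> simp
  have hconjq : conj ((Fintype.card F : ℂ) - 1) = (Fintype.card F : ℂ) - 1 := by
    rw [map_sub, Complex.conj_natCast, map_one]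
  have hdeg : f 1 = (Fintype.card C : ℂ) - 2 := by rw [hf1, hcardC]; ring
  have hnorm : classInner f f = 2 * (Fintype.card C : ℂ) - 6 := by
    unfold classInner
    rw [Nat.card_eq_fintype_card, inv_mul_eq_iff_eq_mul₀ hcardC0,
      sum_torus_split C hodd hm (fun c => f c * conj (f c)), ← hz, hf1, hfzv, hcardC]
    have : ∑ c ∈ Finset.univ.filter (fun c : C =>
        (c : Matrix.SpecialLinearGroup (Fin 2) F) ≠ 1 ∧
          (c : Matrix.SpecialLinearGroup (Fin 2) F) ≠ negOneSL F), f c * conj (f c) =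
        2 * (1 * ((Fintype.card F : ℂ) + 1) - 4) := by
      rw [← hS1, hf]
    rw [this, map_mul, hconjq]
    linear_combination ((Fintype.card F : ℂ) - 1) ^ 2 * hεε
  obtain ⟨φ₁, φ₂, hne, hz₁, hz₂, hval, hreal⟩ :=
    restrict_two hfc z hz1 hzz ε hε1 hfz hinv hdeg hnorm
  -- neither `φ₁` nor `φ₂` is trivial
  have hsumS : ∑ c ∈ Finset.univ.filter (fun c : C =>
      (c : Matrix.SpecialLinearGroup (Fin 2) F) ≠ 1 ∧
        (c : Matrix.SpecialLinearGroup (Fin 2) F) ≠ negOneSL F), f c = 2 * (1 + ε) := by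
    rw [← hS2, hf]
  have hvalS : ∀ c ∈ Finset.univ.filter (fun c : C =>
      (c : Matrix.SpecialLinearGroup (Fin 2) F) ≠ 1 ∧
        (c : Matrix.SpecialLinearGroup (Fin 2) F) ≠ negOneSL F),
      f c = -((φ₁ : C → ℂ) c + (φ₂ : C → ℂ) c) := by
    intro c hcm
    rw [Finset.mem_filter] at hcm
    apply hval c
    · intro h; exact hcm.2.1 (by rw [h]; rfl)
    · intro h; exact hcm.2.2 (by rw [h, hz])
  rw [Finset.sum_congr rfl hvalS, Finset.sum_neg_distrib, Finset.sum_add_distrib,
    sum_irr_noncentral C hodd hm φ₁, sum_irr_noncentral C hodd hm φ₂, ← hz, hz₁, hz₂] at hsumS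
  have hnt : (φ₁ : C → ℂ) ≠ (fun _ => (1 : ℂ)) ∧ (φ₂ : C → ℂ) ≠ (fun _ => (1 : ℂ)) := by
    by_cases h1 : (φ₁ : C → ℂ) = (fun _ => (1 : ℂ))
    · exfalso
      rw [if_pos h1] at hsumS
      by_cases h3 : (φ₂ : C → ℂ) = (fun _ => (1 : ℂ))
      · exact hne (Subtype.ext (h1.trans h3.symm))
      · rw [if_neg h3] at hsumS
        apply hcardC0
        linear_combination -hsumS
    · by_cases h3 : (φ₂ : C → ℂ) = (fun _ => (1 : ℂ))
      · exfalso
        rw [if_neg h1, if_pos h3] at hsumS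
        apply hcardC0
        linear_combination -hsumS
      · exact ⟨h1, h3⟩
  have hθnt : ∀ φ : IrrCharacter C, (φ : C → ℂ) ≠ (fun _ => (1 : ℂ)) → irrHom φ ≠ 1 := by
    intro φ hφ h
    apply hφ
    funext c
    rw [← irrHom_apply, h]
    simp
  -- the two characters are complex conjugate
  have hconj : φ₂ = conjIrr φ₁ := by
    rcases hreal with h | ⟨h3, h4⟩
    · exact h
    · exfalso
      apply not_both_real (irrHom φ₁) (irrHom φ₂) (hθnt φ₁ hnt.1) (hθnt φ₂ hnt.2)
        (fun h => hne (irrHom_injective h))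
      · rw [← irrHom_conjIrr, h3]
      · rw [← irrHom_conjIrr, h4]
  refine ⟨irrHom φ₁, ?_, ?_, ?_⟩
  · by_contra hall
    push Not at hall
    apply hne
    rw [hconj]
    apply irrHom_injective
    rw [irrHom_conjIrr]
    ext c
    have := hall c
    rw [MonoidHom.inv_apply]
    have h5 : (irrHom φ₁ c)⁻¹ = irrHom φ₁ c := by
      rw [inv_eq_iff_eq_inv, eq_inv_iff_mul_eq_one, ← pow_two]
      exact this
    rw [h5]
  · rw [irrHom_apply, ← hz]; exact hz₁
  · intro c hc1 hcm1
    have h6 := hval c (by intro h; exact hc1 (by rw [h]; rfl))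
      (by intro h; exact hcm1 (by rw [h, hz]))
    rw [hf] at h6
    simp only at h6
    rw [h6, hconj, conjIrr_apply, irrHom_apply, Units.val_inv_eq_inv_val, irrHom_apply]
    congr 2
    exact eq_inv_of_mul_eq_one_right (irr_mul_conj φ₁ c)

open Classical in
/-- the values on `C` of a constituent of a reducible restriction of a cuspidal character. -/
theorem cusp_torus_half (hodd : Odd (Fintype.card F)) (hcyc : IsCyclic C)
    (hcard : Nat.card C = Fintype.card F + 1) (hm : negOneSL F ∈ C)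
    {ψ : GL (Fin 2) F → ℂ} (hc : IsCuspidalGL ψ) (d₀ : Fˣ)
    {χ : Matrix.SpecialLinearGroup (Fin 2) F → ℂ}
    (hχ : IsIrrCharacter (Matrix.SpecialLinearGroup (Fin 2) F) χ)
    (hne : tw d₀ χ ≠ χ) (hsum : resSL ψ = χ + tw d₀ χ) :
    ∃ θ₀ : C →* ℂˣ, θ₀ ≠ 1 ∧ θ₀⁻¹ = θ₀ ∧
      ∀ c : C, (c : Matrix.SpecialLinearGroup (Fin 2) F) ≠ 1 →
        (c : Matrix.SpecialLinearGroup (Fin 2) F) ≠ negOneSL F →
        χ (c : Matrix.SpecialLinearGroup (Fin 2) F) = -((θ₀ c : ℂˣ) : ℂ) := by
  have hcomm := comm_of_isCyclic C hcyc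
  have : IsMulCommutative C := IsCyclic.isMulCommutative
  have : Fintype (IrrCharacter C) := Fintype.ofFinite _
  have h2 := two_ne_zero_of_odd_card hodd
  have hq1 := card_field_sub_one_ne_zero_complex (F := F)
  obtain ⟨ε, hε1, hε⟩ := cusp_central_sign hc
  obtain ⟨hS1, hS2⟩ := cusp_torus_sums C hodd hcard hcomm hc hε1 hε
  have hcfχ := isClassFunction_of_irr hχ
  have hirr' := isIrr_tw d₀ hχ
  -- the norm of the restriction is two
  have hN : classInner (resSL ψ) (resSL ψ) = 2 := by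
    rw [hsum, Cfsg.Agent.Lib.Helper3.classInner_add_left,
      Cfsg.Agent.Lib.Helper3.classInner_add_right, Cfsg.Agent.Lib.Helper3.classInner_add_right,
      Cfsg.Agent.Lib.Helper3.classInner_irr hχ hχ, Cfsg.Agent.Lib.Helper3.classInner_irr hχ hirr',
      Cfsg.Agent.Lib.Helper3.classInner_irr hirr' hχ,
      Cfsg.Agent.Lib.Helper3.classInner_irr hirr' hirr', if_pos rfl, if_pos rfl, if_neg hne,
      if_neg (fun h => hne h.symm)]
    norm_num
  rw [hN] at hS1
  -- on `C` the restriction is twice `χ`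
  have hC2 : ∀ c : C, resSL ψ (c : Matrix.SpecialLinearGroup (Fin 2) F) =
      2 * χ (c : Matrix.SpecialLinearGroup (Fin 2) F) := by
    intro c
    rw [hsum, Pi.add_apply]
    have : tw d₀ χ (c : Matrix.SpecialLinearGroup (Fin 2) F) =
        χ (c : Matrix.SpecialLinearGroup (Fin 2) F) := by
      by_cases h1 : (c : Matrix.SpecialLinearGroup (Fin 2) F) = 1
      · rw [h1]; exact tw_apply_one d₀ χ
      by_cases hm1 : (c : Matrix.SpecialLinearGroup (Fin 2) F) = negOneSL F
      · rw [hm1]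
        exact tw_apply_of_diag d₀ χ _ rfl rfl
      · exact tw_apply_of_tr hodd d₀ hcfχ _
          (isEllTr_of_mem C hodd hcard c c.2 h1 hm1).sq_ne_four
    rw [this]; ring
  have hχ1 : 2 * χ 1 = (Fintype.card F : ℂ) - 1 := by
    have := hC2 1
    rw [Subgroup.coe_one, resSL_one hc] at this
    exact this.symm
  have hχ10 : χ 1 ≠ 0 := by
    intro h
    rw [h, mul_zero] at hχ1
    exact hq1 hχ1.symm
  -- the central sign of `χ`
  obtain ⟨c', -, hc'⟩ := irr_central_scalar hχ (negOneSL_mem_center (F := F))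
  have hc'ε : c' = ε := by
    have e1 := hC2 ⟨negOneSL F, hm⟩
    simp only at e1
    have e2 := hε 1
    rw [mul_one, resSL_one hc] at e2
    have e3 := hc' 1
    rw [mul_one] at e3
    rw [e2, e3] at e1
    have : (2 * χ 1) * (c' - ε) = 0 := by linear_combination -e1 - ε * hχ1
    have := (mul_eq_zero.mp this).resolve_left (mul_ne_zero two_ne_zero hχ10)
    linear_combination this
  rw [hc'ε] at hc'
  obtain ⟨f, hf⟩ : ∃ f : C → ℂ,
      f = fun c : C => χ (c : Matrix.SpecialLinearGroup (Fin 2) F) := ⟨_, rfl⟩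
  have hfc : IsCharacter C f := by
    rw [hf]
    exact Cfsg.Agent.Lib.Helper3.IsCharacter.restrict
      (Cfsg.Agent.Lib.Helper3.IsIrrCharacter.isCharacter hχ) C
  have hcardC : (Fintype.card C : ℂ) = (Fintype.card F : ℂ) + 1 := by
    rw [← Nat.card_eq_fintype_card, hcard]; push_cast; ring
  have hcardC0 : (Fintype.card C : ℂ) ≠ 0 := Nat.cast_ne_zero.mpr Fintype.card_ne_zero
  obtain ⟨z, hz⟩ : ∃ z : C, z = ⟨negOneSL F, hm⟩ := ⟨_, rfl⟩
  have hz1 : z ≠ 1 := by
    intro h
    rw [hz] at h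
    exact negOneSL_ne_one h2 (congrArg Subtype.val h)
  have hzz : z * z = 1 := by
    rw [hz]
    apply Subtype.ext
    exact negOneSL_mul_self
  have hfz : ∀ a, f (z * a) = ε * f a := by
    intro a
    rw [hf, hz]
    exact hc' a
  have hinv : ∀ a, f a⁻¹ = f a := by
    intro a
    rw [hf]
    exact torus_apply_inv C hodd hcard hcfχ a
  have hf1 : f 1 = χ 1 := by rw [hf]; rfl
  have hfzv : f z = ε * χ 1 := by
    have := hfz 1
    rwa [mul_one, hf1] at this
  have hεε : ε * conj ε = 1 := by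
    rcases hε1 with h | h <;> rw [h] <;> simp
  have hconj1 : conj (χ 1) = χ 1 :=
    Cfsg.Agent.Lib.Helper3.IsCharacter.conj_one (Cfsg.Agent.Lib.Helper3.IsIrrCharacter.isCharacter hχ)
  have hdeg : 2 * f 1 = (Fintype.card C : ℂ) - 2 := by rw [hf1, hχ1, hcardC]; ring
  have hSf : ∑ c ∈ Finset.univ.filter (fun c : C =>
      (c : Matrix.SpecialLinearGroup (Fin 2) F) ≠ 1 ∧
        (c : Matrix.SpecialLinearGroup (Fin 2) F) ≠ negOneSL F), f c * conj (f c) =
      (Fintype.card F : ℂ) - 1 := by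
    have h4 : ∀ c ∈ Finset.univ.filter (fun c : C =>
        (c : Matrix.SpecialLinearGroup (Fin 2) F) ≠ 1 ∧
          (c : Matrix.SpecialLinearGroup (Fin 2) F) ≠ negOneSL F),
        resSL ψ (c : Matrix.SpecialLinearGroup (Fin 2) F) *
          conj (resSL ψ (c : Matrix.SpecialLinearGroup (Fin 2) F)) = 4 * (f c * conj (f c)) := by
      intro c _
      rw [hC2 c, hf, map_mul, map_ofNat]
      ring
    rw [Finset.sum_congr rfl h4, ← Finset.mul_sum] at hS1
    linear_combination (1 / 4 : ℂ) * hS1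
  have hnorm : classInner f f = f 1 := by
    unfold classInner
    rw [Nat.card_eq_fintype_card, inv_mul_eq_iff_eq_mul₀ hcardC0,
      sum_torus_split C hodd hm (fun c => f c * conj (f c)), ← hz, hSf, hf1, hfzv, hcardC,
      map_mul, hconj1]
    linear_combination (χ 1) ^ 2 * hεε + (χ 1 - 1) * hχ1
  obtain ⟨φ₀, hz₀, hval, hreal⟩ := restrict_one hfc z hz1 hzz ε hε1 hfz hinv hdeg hnorm
  have hsumS : ∑ c ∈ Finset.univ.filter (fun c : C =>
      (c : Matrix.SpecialLinearGroup (Fin 2) F) ≠ 1 ∧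
        (c : Matrix.SpecialLinearGroup (Fin 2) F) ≠ negOneSL F), f c = 1 + ε := by
    have h4 : ∀ c ∈ Finset.univ.filter (fun c : C =>
        (c : Matrix.SpecialLinearGroup (Fin 2) F) ≠ 1 ∧
          (c : Matrix.SpecialLinearGroup (Fin 2) F) ≠ negOneSL F),
        resSL ψ (c : Matrix.SpecialLinearGroup (Fin 2) F) = 2 * f c := by
      intro c _
      rw [hC2 c, hf]
    rw [Finset.sum_congr rfl h4, ← Finset.mul_sum] at hS2
    linear_combination (1 / 2 : ℂ) * hS2
  have hvalS : ∀ c ∈ Finset.univ.filter (fun c : C =>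
      (c : Matrix.SpecialLinearGroup (Fin 2) F) ≠ 1 ∧
        (c : Matrix.SpecialLinearGroup (Fin 2) F) ≠ negOneSL F),
      f c = -((φ₀ : C → ℂ) c) := by
    intro c hcm
    rw [Finset.mem_filter] at hcm
    apply hval c
    · intro h; exact hcm.2.1 (by rw [h]; rfl)
    · intro h; exact hcm.2.2 (by rw [h, hz])
  rw [Finset.sum_congr rfl hvalS, Finset.sum_neg_distrib,
    sum_irr_noncentral C hodd hm φ₀, ← hz, hz₀] at hsumS
  have hnt : (φ₀ : C → ℂ) ≠ (fun _ => (1 : ℂ)) := by
    intro h1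
    rw [if_pos h1] at hsumS
    apply hcardC0
    linear_combination -hsumS
  refine ⟨irrHom φ₀, ?_, ?_, ?_⟩
  · intro h
    apply hnt
    funext c
    rw [← irrHom_apply, h]
    simp
  · rw [← irrHom_conjIrr, hreal]
  · intro c hc1 hcm1
    have h6 := hval c (by intro h; exact hc1 (by rw [h]; rfl))
      (by intro h; exact hcm1 (by rw [h, hz]))
    rw [hf] at h6
    simp only at h6
    rw [h6, irrHom_apply]

end Torus

end Cfsg.Agent.Lib.Helper38
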