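import Cfsg.Agent.Lib.Helper38.SL2Stable

set_option autoImplicit false
set_option linter.unusedSimpArgs false
set_option linter.unusedSectionVars false

/-!
The irreducible characters of `SL₂(F)`, `|F|` odd, which are not stable under `GL₂(F)`: there are
at most four of them.
-/

namespace Cfsg.Agent.Lib.Helper38

open Matrix Cfsg Cfsg.Agent.Lib.Helper25
open scoped ComplexConjugate

variable {F : Type*} [Field F] [Fintype F] [DecidableEq F]

/-- the twist of a function on `SL₂` by `diag(1, d)`. -/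
def tw (d : Fˣ) (f : Matrix.SpecialLinearGroup (Fin 2) F → ℂ) :
    Matrix.SpecialLinearGroup (Fin 2) F → ℂ := fun g => f (twistSL d⁻¹ g)

theorem tw_apply (d : Fˣ) (f : Matrix.SpecialLinearGroup (Fin 2) F → ℂ)
    (g : Matrix.SpecialLinearGroup (Fin 2) F) : tw d f g = f (twistSL d⁻¹ g) := rfl

theorem DiagConj.eq_tw {d : Fˣ} {ξ ξ' : Matrix.SpecialLinearGroup (Fin 2) F → ℂ}
    (h : DiagConj d ξ ξ') : ξ' = tw d ξ := by
  funext g
  have := h.apply_twist (twistSL d⁻¹ g)
  rw [twistSL_mul, mul_inv_cancel, twistSL_one] at this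
  exact this

theorem isIrr_tw (d : Fˣ) {ξ : Matrix.SpecialLinearGroup (Fin 2) F → ℂ}
    (hξ : IsIrrCharacter (Matrix.SpecialLinearGroup (Fin 2) F) ξ) :
    IsIrrCharacter (Matrix.SpecialLinearGroup (Fin 2) F) (tw d ξ) :=
  Cfsg.Agent.Lib.Helper79.isIrrCharacter_comp_surjective hξ (twistEquiv d⁻¹).toMonoidHom
    (twistEquiv d⁻¹).surjective

theorem classInner_tw (d : Fˣ) (f g : Matrix.SpecialLinearGroup (Fin 2) F → ℂ) :
    classInner (tw d f) (tw d g) = classInner f g :=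
  classInner_comp_equiv (twistEquiv d⁻¹) f g

theorem tw_tw (d : Fˣ) {f : Matrix.SpecialLinearGroup (Fin 2) F → ℂ}
    (hf : IsClassFunction (Matrix.SpecialLinearGroup (Fin 2) F) f) : tw d (tw d f) = f := by
  funext g
  unfold tw
  rw [twistSL_mul, ← pow_two, IsClassFunction.twist_sq hf]

theorem tw_sub (d : Fˣ) (f g : Matrix.SpecialLinearGroup (Fin 2) F → ℂ) :
    tw d (f - g) = tw d f - tw d g := rfl

theorem tw_apply_of_tr (hodd : Odd (Fintype.card F)) (d : Fˣ)
    {f : Matrix.SpecialLinearGroup (Fin 2) F → ℂ}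
    (hf : IsClassFunction (Matrix.SpecialLinearGroup (Fin 2) F) f)
    (g : Matrix.SpecialLinearGroup (Fin 2) F) (ht : (g.1 0 0 + g.1 1 1) ^ 2 ≠ 4) :
    tw d f g = f g := by
  unfold tw
  exact (Cfsg.Agent.Lib.Helper3.IsClassFunction.eq_of_isConj hf
    (isConj_twistSL hodd d⁻¹ g ht)).symm

theorem tw_apply_of_diag (d : Fˣ) (f : Matrix.SpecialLinearGroup (Fin 2) F → ℂ)
    (g : Matrix.SpecialLinearGroup (Fin 2) F) (h01 : g.1 0 1 = 0) (h10 : g.1 1 0 = 0) :
    tw d f g = f g := by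
  unfold tw
  congr 1
  apply sl2_ext <;> simp [h01, h10]

theorem DiagConj.not_isSquare {d : Fˣ} {ξ ξ' : Matrix.SpecialLinearGroup (Fin 2) F → ℂ}
    (h : DiagConj d ξ ξ') (hne : ξ ≠ ξ')
    (hcf : IsClassFunction (Matrix.SpecialLinearGroup (Fin 2) F) ξ') : ¬ IsSquare (d : F) := by
  rintro ⟨r, hr⟩
  have hr0 : r ≠ 0 := by
    intro h0
    rw [h0, mul_zero] at hr
    exact d.ne_zero hr
  have hd : d = (Units.mk0 r hr0) ^ 2 := by
    apply Units.ext
    rw [Units.val_pow_eq_pow_val, Units.val_mk0, hr, pow_two]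
  apply hne
  funext g
  have := h.apply_twist g
  rw [hd, IsClassFunction.twist_sq hcf] at this
  exact this.symm

/-- the partner of an unstable character is its twist by any fixed non-square. -/
theorem DiagConj.eq_tw_nonsquare {d : Fˣ} {ξ ξ' : Matrix.SpecialLinearGroup (Fin 2) F → ℂ}
    (h : DiagConj d ξ ξ') (hne : ξ ≠ ξ')
    (hcf : IsClassFunction (Matrix.SpecialLinearGroup (Fin 2) F) ξ)
    (hcf' : IsClassFunction (Matrix.SpecialLinearGroup (Fin 2) F) ξ')
    (d₀ : Fˣ) (hd₀ : ¬ IsSquare (d₀ : F)) : ξ' = tw d₀ ξ := by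
  obtain ⟨s, hs⟩ := exists_sq_of_nonsquare d d₀ (h.not_isSquare hne hcf') hd₀
  funext g
  rw [h.eq_tw]
  unfold tw
  have e : d⁻¹ = (s⁻¹) ^ 2 * d₀⁻¹ := by
    rw [hs, mul_inv, inv_pow, mul_comm]
  rw [e, ← twistSL_mul, IsClassFunction.twist_sq hcf]

/-- a class function which is anti-invariant under the twist by a non-square `d₀`, supported on
the non-central elements with `tr² = 4` and vanishing at the two standard elements vanishes. -/
theorem eq_zero_of_antisymm (hodd : Odd (Fintype.card F)) (d₀ : Fˣ) (hd₀ : ¬ IsSquare (d₀ : F))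
    (f : Matrix.SpecialLinearGroup (Fin 2) F → ℂ)
    (hcf : IsClassFunction (Matrix.SpecialLinearGroup (Fin 2) F) f)
    (hanti : ∀ g, f (twistSL d₀⁻¹ g) = - f g)
    (hss : ∀ g : Matrix.SpecialLinearGroup (Fin 2) F, (g.1 0 0 + g.1 1 1) ^ 2 ≠ 4 → f g = 0)
    (hcen : ∀ g : Matrix.SpecialLinearGroup (Fin 2) F, g.1 0 1 = 0 → g.1 1 0 = 0 → f g = 0)
    (hp : f (mk2 1 1 0 1 (by ring)) = 0) (hm : f (mk2 (-1) 1 0 (-1) (by ring)) = 0) :
    ∀ g, f g = 0 := by
  have h2 := two_ne_zero_of_odd_card hodd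
  -- the standard elements
  have hstd : ∀ (ε : F) (hε : ε * ε - 1 * 0 = 1), f (mk2 ε 1 0 ε hε) = 0 := by
    intro ε hε
    have h1 : (ε - 1) * (ε + 1) = 0 := by linear_combination hε
    rcases mul_eq_zero.mp h1 with h | h
    · have : ε = 1 := by linear_combination h
      subst this
      exact hp
    · have : ε = -1 := by linear_combination h
      subst this
      exact hm
  have hsq : ∀ (ε : F) (s : Fˣ) (hε : ε * ε - ((s : F) ^ 2) * 0 = 1),
      f (mk2 ε ((s : F) ^ 2) 0 ε hε) = 0 := by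
    intro ε s hε
    have hε' : ε * ε - 1 * 0 = 1 := by linear_combination hε
    rw [← hstd ε hε', ← IsClassFunction.twist_sq hcf s⁻¹ (mk2 ε 1 0 ε hε')]
    congr 1
    apply sl2_ext <;> simp
  have hall : ∀ (ε y : F) (hy : y ≠ 0) (hε : ε * ε - y * 0 = 1), f (mk2 ε y 0 ε hε) = 0 := by
    intro ε y hy hε
    by_cases hsqy : IsSquare y
    · obtain ⟨r, hr⟩ := hsqy
      have hr0 : r ≠ 0 := by
        intro h0
        rw [h0, mul_zero] at hr
        exact hy hr
      have := hsq ε (Units.mk0 r hr0) (by linear_combination hε)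
      rw [← this]
      congr 1
      apply sl2_ext <;> simp [hr, pow_two]
    · obtain ⟨s, hs⟩ := exists_sq_of_nonsquare (Units.mk0 y hy) d₀ hsqy hd₀
      have hs' : y = (d₀ : F) * (s : F) ^ 2 := by
        have := congrArg (fun u : Fˣ => (u : F)) hs
        simpa using this
      have h0 := hsq ε s (by linear_combination hε)
      have h1 := hanti (mk2 ε ((s : F) ^ 2) 0 ε (by linear_combination hε))
      rw [h0, neg_zero] at h1
      rw [← h1]
      congr 1
      apply sl2_ext <;> simp [hs', mul_comm]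
  intro g
  by_cases ht : (g.1 0 0 + g.1 1 1) ^ 2 = 4
  swap
  · exact hss g ht
  by_cases hc : g.1 0 1 = 0 ∧ g.1 1 0 = 0
  · exact hcen g hc.1 hc.2
  obtain ⟨n, h10, heq, h01⟩ := exists_conj_upper h2 g ht hc
  have hfg : f g = f (n⁻¹ * g * n) := by
    have := hcf g n⁻¹
    rw [inv_inv] at this
    exact this.symm
  rw [hfg]
  have hk := sl2_det (n⁻¹ * g * n)
  rw [h10, mul_zero, sub_zero, ← heq] at hk
  have := hall ((n⁻¹ * g * n).1 0 0) ((n⁻¹ * g * n).1 0 1) h01 (by linear_combination hk)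
  rw [← this]
  congr 1
  apply sl2_ext
  · simp
  · simp
  · simp [h10]
  · simp [heq]


theorem isClassFunction_of_irr {ξ : Matrix.SpecialLinearGroup (Fin 2) F → ℂ}
    (hξ : IsIrrCharacter (Matrix.SpecialLinearGroup (Fin 2) F) ξ) :
    IsClassFunction (Matrix.SpecialLinearGroup (Fin 2) F) ξ :=
  Cfsg.Agent.Lib.Helper3.IsCharacter.isClassFunction
    (Cfsg.Agent.Lib.Helper79.isCharacter_of_isIrrCharacter hξ)

theorem tw_injective (d : Fˣ) {a b : Matrix.SpecialLinearGroup (Fin 2) F → ℂ}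
    (ha : IsClassFunction (Matrix.SpecialLinearGroup (Fin 2) F) a)
    (hb : IsClassFunction (Matrix.SpecialLinearGroup (Fin 2) F) b) (h : tw d a = tw d b) :
    a = b := by
  rw [← tw_tw d ha, ← tw_tw d hb, h]

/-- Gram matrix of the differences `a - tw a`: off-diagonal. -/
theorem classInner_delta_ne (d : Fˣ) {a b : Matrix.SpecialLinearGroup (Fin 2) F → ℂ}
    (ha : IsIrrCharacter (Matrix.SpecialLinearGroup (Fin 2) F) a)
    (hb : IsIrrCharacter (Matrix.SpecialLinearGroup (Fin 2) F) b)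
    (h1 : a ≠ b) (h2 : a ≠ tw d b) : classInner (a - tw d a) (b - tw d b) = 0 := by
  classical
  have hca := isClassFunction_of_irr ha
  have hcb := isClassFunction_of_irr hb
  have h3 : tw d a ≠ b := by
    intro h
    apply h2
    rw [← h, tw_tw d hca]
  have h4 : tw d a ≠ tw d b := fun h => h1 (tw_injective d hca hcb h)
  rw [classInner_sub_left, classInner_sub_right, classInner_sub_right,
    Cfsg.Agent.Lib.Helper3.classInner_irr ha hb,
    Cfsg.Agent.Lib.Helper3.classInner_irr ha (isIrr_tw d hb),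
    Cfsg.Agent.Lib.Helper3.classInner_irr (isIrr_tw d ha) hb,
    Cfsg.Agent.Lib.Helper3.classInner_irr (isIrr_tw d ha) (isIrr_tw d hb),
    if_neg h1, if_neg h2, if_neg h3, if_neg h4]
  ring

/-- Gram matrix of the differences `a - tw a`: diagonal. -/
theorem classInner_delta_self (d : Fˣ) {a : Matrix.SpecialLinearGroup (Fin 2) F → ℂ}
    (ha : IsIrrCharacter (Matrix.SpecialLinearGroup (Fin 2) F) a)
    (h1 : tw d a ≠ a) : classInner (a - tw d a) (a - tw d a) = 2 := by
  classical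
  rw [classInner_sub_left, classInner_sub_right, classInner_sub_right,
    Cfsg.Agent.Lib.Helper3.classInner_irr ha ha,
    Cfsg.Agent.Lib.Helper3.classInner_irr ha (isIrr_tw d ha),
    Cfsg.Agent.Lib.Helper3.classInner_irr (isIrr_tw d ha) ha,
    Cfsg.Agent.Lib.Helper3.classInner_irr (isIrr_tw d ha) (isIrr_tw d ha),
    if_pos rfl, if_pos rfl, if_neg h1, if_neg (fun h => h1 h.symm)]
  ring

/-- three irreducible characters in distinct twist-orbits of size two cannot exist. -/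
theorem no_three_unstable (hodd : Odd (Fintype.card F)) (d₀ : Fˣ) (hd₀ : ¬ IsSquare (d₀ : F))
    (ξ : Fin 3 → Matrix.SpecialLinearGroup (Fin 2) F → ℂ)
    (hirr : ∀ i, IsIrrCharacter (Matrix.SpecialLinearGroup (Fin 2) F) (ξ i))
    (hun : ∀ i, tw d₀ (ξ i) ≠ ξ i)
    (hne : ∀ i j, i ≠ j → ξ i ≠ ξ j ∧ ξ i ≠ tw d₀ (ξ j)) : False := by
  classical
  have hcf : ∀ i, IsClassFunction (Matrix.SpecialLinearGroup (Fin 2) F) (ξ i) :=
    fun i => isClassFunction_of_irr (hirr i)
  have hcf' : ∀ i, IsClassFunction (Matrix.SpecialLinearGroup (Fin 2) F) (tw d₀ (ξ i)) :=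
    fun i => isClassFunction_of_irr (isIrr_tw d₀ (hirr i))
  obtain ⟨up, hup⟩ : ∃ up : Matrix.SpecialLinearGroup (Fin 2) F, up = mk2 1 1 0 1 (by ring) :=
    ⟨_, rfl⟩
  obtain ⟨um, hum⟩ : ∃ um : Matrix.SpecialLinearGroup (Fin 2) F,
    um = mk2 (-1) 1 0 (-1) (by ring) := ⟨_, rfl⟩
  -- the vectors of values
  have hdep : ¬ LinearIndependent ℂ
      (fun i : Fin 3 => ![(ξ i - tw d₀ (ξ i)) up, (ξ i - tw d₀ (ξ i)) um]) := by
    intro hli
    have := hli.fintype_card_le_finrank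
    simp at this
  rw [Fintype.not_linearIndependent_iff] at hdep
  obtain ⟨c, hc, i₀, hi₀⟩ := hdep
  have hc0 := congrFun hc 0
  have hc1 := congrFun hc 1
  simp only [Finset.sum_apply, Pi.smul_apply, Matrix.cons_val_zero, Matrix.cons_val_one,
    smul_eq_mul, Pi.zero_apply] at hc0 hc1
  -- the combination
  obtain ⟨f, hf⟩ : ∃ f : Matrix.SpecialLinearGroup (Fin 2) F → ℂ,
      f = ∑ i, c i • (ξ i - tw d₀ (ξ i)) := ⟨_, rfl⟩
  have hfx : ∀ x, f x = ∑ i, c i * (ξ i x - tw d₀ (ξ i) x) := by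
    intro x
    rw [hf]
    simp only [Finset.sum_apply, Pi.smul_apply, Pi.sub_apply, smul_eq_mul]
  have hzero : ∀ x, f x = 0 := by
    apply eq_zero_of_antisymm hodd d₀ hd₀ f
    · intro x h
      rw [hfx, hfx]
      apply Finset.sum_congr rfl
      intro i _
      rw [hcf i, hcf' i]
    · intro x
      rw [hfx, hfx, ← Finset.sum_neg_distrib]
      apply Finset.sum_congr rfl
      intro i _
      have e1 : tw d₀ (ξ i) (twistSL d₀⁻¹ x) = tw d₀ (tw d₀ (ξ i)) x := rfl
      have e2 : ξ i (twistSL d₀⁻¹ x) = tw d₀ (ξ i) x := rfl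
      rw [e1, e2, tw_tw d₀ (hcf i)]
      ring
    · intro x hx
      rw [hfx]
      apply Finset.sum_eq_zero
      intro i _
      rw [tw_apply_of_tr hodd d₀ (hcf i) x hx]
      ring
    · intro x h01 h10
      rw [hfx]
      apply Finset.sum_eq_zero
      intro i _
      rw [tw_apply_of_diag d₀ (ξ i) x h01 h10]
      ring
    · rw [← hup, hfx]
      simpa only [Pi.sub_apply] using hc0
    · rw [← hum, hfx]
      simpa only [Pi.sub_apply] using hc1
  have hf0 : f = 0 := funext hzero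
  -- inner products
  have hin : classInner f (ξ i₀ - tw d₀ (ξ i₀)) = 2 * c i₀ := by
    rw [hf, classInner_sum_left]
    have : ∀ i ∈ Finset.univ, classInner (c i • (ξ i - tw d₀ (ξ i))) (ξ i₀ - tw d₀ (ξ i₀)) =
        if i = i₀ then 2 * c i₀ else 0 := by
      intro i _
      rw [classInner_smul_left]
      split_ifs with h
      · subst h
        rw [classInner_delta_self d₀ (hirr i) (hun i)]
        ring
      · rw [classInner_delta_ne d₀ (hirr i) (hirr i₀) (hne i i₀ h).1 (hne i i₀ h).2, mul_zero]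
    rw [Finset.sum_congr rfl this, Finset.sum_ite_eq' Finset.univ i₀, if_pos (Finset.mem_univ _)]
  rw [hf0, classInner_zero_left] at hin
  apply hi₀
  have : (2 : ℂ) * c i₀ = 0 := hin.symm
  rcases mul_eq_zero.mp this with h | h
  · exact absurd h two_ne_zero
  · exact h


theorem ne_tw_symm (d : Fˣ) {a b : Matrix.SpecialLinearGroup (Fin 2) F → ℂ}
    (hb : IsClassFunction (Matrix.SpecialLinearGroup (Fin 2) F) b)
    (h : b ≠ a ∧ b ≠ tw d a) : a ≠ b ∧ a ≠ tw d b := by
  refine ⟨fun e => h.1 e.symm, fun e => h.2 ?_⟩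
  rw [e, tw_tw d hb]

/-- at most four irreducible characters of `SL₂(F)` are moved by the twist. -/
theorem card_unstable_le (hodd : Odd (Fintype.card F)) (d₀ : Fˣ) (hd₀ : ¬ IsSquare (d₀ : F))
    [Fintype (IrrCharacter (Matrix.SpecialLinearGroup (Fin 2) F))] :
    (Finset.univ.filter (fun χ : IrrCharacter (Matrix.SpecialLinearGroup (Fin 2) F) =>
      tw d₀ (χ : Matrix.SpecialLinearGroup (Fin 2) F → ℂ) ≠
        (χ : Matrix.SpecialLinearGroup (Fin 2) F → ℂ))).card ≤ 4 := by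
  classical
  by_contra hcon
  push Not at hcon
  obtain ⟨U, hU⟩ : ∃ U : Finset (IrrCharacter (Matrix.SpecialLinearGroup (Fin 2) F)),
      U = Finset.univ.filter (fun χ : IrrCharacter (Matrix.SpecialLinearGroup (Fin 2) F) =>
      tw d₀ (χ : Matrix.SpecialLinearGroup (Fin 2) F → ℂ) ≠
        (χ : Matrix.SpecialLinearGroup (Fin 2) F → ℂ)) := ⟨_, rfl⟩
  rw [← hU] at hcon
  have hmemU : ∀ χ, χ ∈ U → tw d₀ (χ : Matrix.SpecialLinearGroup (Fin 2) F → ℂ) ≠
      (χ : Matrix.SpecialLinearGroup (Fin 2) F → ℂ) := by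
    intro χ h
    rw [hU, Finset.mem_filter] at h
    exact h.2
  obtain ⟨twI, htwI⟩ : ∃ twI : IrrCharacter (Matrix.SpecialLinearGroup (Fin 2) F) →
      IrrCharacter (Matrix.SpecialLinearGroup (Fin 2) F),
      ∀ χ, ((twI χ : IrrCharacter (Matrix.SpecialLinearGroup (Fin 2) F)) :
        Matrix.SpecialLinearGroup (Fin 2) F → ℂ) = tw d₀ χ.1 :=
    ⟨fun χ => ⟨tw d₀ χ.1, isIrr_tw d₀ χ.2⟩, fun χ => rfl⟩
  obtain ⟨χ₁, h₁⟩ : U.Nonempty := Finset.card_pos.mp (by omega)
  have hU₁ : 3 ≤ ((U.erase χ₁).erase (twI χ₁)).card := by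
    have a := Finset.pred_card_le_card_erase (s := U) (a := χ₁)
    have b := Finset.pred_card_le_card_erase (s := U.erase χ₁) (a := twI χ₁)
    omega
  obtain ⟨χ₂, h₂⟩ : ((U.erase χ₁).erase (twI χ₁)).Nonempty := Finset.card_pos.mp (by omega)
  have hU₂ : 1 ≤ ((((U.erase χ₁).erase (twI χ₁)).erase χ₂).erase (twI χ₂)).card := by
    have a := Finset.pred_card_le_card_erase (s := (U.erase χ₁).erase (twI χ₁)) (a := χ₂)
    have b := Finset.pred_card_le_card_erase (s := ((U.erase χ₁).erase (twI χ₁)).erase χ₂)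
      (a := twI χ₂)
    omega
  obtain ⟨χ₃, h₃⟩ : ((((U.erase χ₁).erase (twI χ₁)).erase χ₂).erase (twI χ₂)).Nonempty :=
    Finset.card_pos.mp (by omega)
  simp only [Finset.mem_erase] at h₂ h₃
  obtain ⟨h21', h21, h2U⟩ := h₂
  obtain ⟨h32', h32, h31', h31, h3U⟩ := h₃
  -- pass to functions
  have f21 : (χ₂ : Matrix.SpecialLinearGroup (Fin 2) F → ℂ) ≠ χ₁.1 ∧
      (χ₂ : Matrix.SpecialLinearGroup (Fin 2) F → ℂ) ≠ tw d₀ χ₁.1 :=
    ⟨fun e => h21 (Subtype.ext e), fun e => h21' (Subtype.ext (e.trans (htwI χ₁).symm))⟩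
  have f31 : (χ₃ : Matrix.SpecialLinearGroup (Fin 2) F → ℂ) ≠ χ₁.1 ∧
      (χ₃ : Matrix.SpecialLinearGroup (Fin 2) F → ℂ) ≠ tw d₀ χ₁.1 :=
    ⟨fun e => h31 (Subtype.ext e), fun e => h31' (Subtype.ext (e.trans (htwI χ₁).symm))⟩
  have f32 : (χ₃ : Matrix.SpecialLinearGroup (Fin 2) F → ℂ) ≠ χ₂.1 ∧
      (χ₃ : Matrix.SpecialLinearGroup (Fin 2) F → ℂ) ≠ tw d₀ χ₂.1 :=
    ⟨fun e => h32 (Subtype.ext e), fun e => h32' (Subtype.ext (e.trans (htwI χ₂).symm))⟩
  have c1 := isClassFunction_of_irr χ₁.2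
  have c2 := isClassFunction_of_irr χ₂.2
  have c3 := isClassFunction_of_irr χ₃.2
  apply no_three_unstable hodd d₀ hd₀ ![χ₁.1, χ₂.1, χ₃.1]
  · intro i
    fin_cases i
    · exact χ₁.2
    · exact χ₂.2
    · exact χ₃.2
  · intro i
    fin_cases i
    · exact hmemU χ₁ h₁
    · exact hmemU χ₂ h2U
    · exact hmemU χ₃ h3U
  · intro i j hij
    fin_cases i <;> fin_cases j
    · exact absurd rfl hij
    · exact ne_tw_symm d₀ c2 f21
    · exact ne_tw_symm d₀ c3 f31
    · exact f21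
    · exact absurd rfl hij
    · exact ne_tw_symm d₀ c3 f32
    · exact f31
    · exact f32
    · exact absurd rfl hij

end Cfsg.Agent.Lib.Helper38
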