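import Cfsg.Agent.Lib.Helper38.SL2HalfValues

set_option autoImplicit false
set_option linter.unusedSimpArgs false
set_option linter.unusedSectionVars false

/-!
Zeros of the irreducible characters of `SL₂(F)`, `|F|` odd.
-/

namespace Cfsg.Agent.Lib.Helper38

open Matrix Cfsg Cfsg.Agent.Lib.Helper25
open scoped ComplexConjugate

variable {F : Type*} [Field F] [Fintype F] [DecidableEq F]

/-- an element of `SL₂` with an eigenvector is conjugate to an upper triangular element. -/
theorem upper_of_eigenvector (g : Matrix.SpecialLinearGroup (Fin 2) F) (c : F) (v : Fin 2 → F)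
    (hv : v ≠ 0) (h : g.1.mulVec v = c • v) :
    ∃ n : Matrix.SpecialLinearGroup (Fin 2) F, (n⁻¹ * g * n).1 1 0 = 0 := by
  have h0 := congrFun h 0
  have h1 := congrFun h 1
  simp only [Matrix.mulVec, dotProduct, Fin.sum_univ_two, Pi.smul_apply, smul_eq_mul] at h0 h1
  by_cases ha : v 0 = 0
  · have hb : v 1 ≠ 0 := by
      intro hb
      apply hv
      funext i
      fin_cases i
      · exact ha
      · exact hb
    refine ⟨mk2 0 (-(v 1)⁻¹) (v 1) 0 (by field_simp; ring), ?_⟩
    rw [sl2_conj_10]
    simp only [mk2_00, mk2_10]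
    rw [ha] at h0
    have : g.1 0 1 * v 1 = 0 := by linear_combination h0
    rcases mul_eq_zero.mp this with h2 | h2
    · rw [h2]; ring
    · exact absurd h2 hb
  · refine ⟨mk2 (v 0) 0 (v 1) (v 0)⁻¹ (by field_simp; ring), ?_⟩
    rw [sl2_conj_10]
    simp only [mk2_00, mk2_10]
    linear_combination (v 0) * h1 - (v 1) * h0

/-- the converse: an upper triangular conjugate gives an eigenvector. -/
theorem eigenvector_of_upper (g n : Matrix.SpecialLinearGroup (Fin 2) F)
    (h : (n⁻¹ * g * n).1 1 0 = 0) :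
    ∃ (c : F) (v : Fin 2 → F), v ≠ 0 ∧ g.1.mulVec v = c • v := by
  have hx := sl2_det n
  refine ⟨(n⁻¹ * g * n).1 0 0, fun i => n.1 i 0, ?_, ?_⟩
  · intro h0
    have e0 := congrFun h0 0
    have e1 := congrFun h0 1
    simp only [Pi.zero_apply] at e0 e1
    rw [e0, e1] at hx
    simp at hx
  · have hmul : g * n = n * (n⁻¹ * g * n) := by group
    funext i
    have e : (g * n).1 i 0 = (n * (n⁻¹ * g * n)).1 i 0 := by rw [← hmul]
    rw [sl2_mul_apply g n, sl2_mul_apply n (n⁻¹ * g * n), h, mul_zero, add_zero] at e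
    simp only [Matrix.mulVec, dotProduct, Fin.sum_univ_two, Pi.smul_apply, smul_eq_mul]
    rw [e, mul_comm]


theorem negOneSL_mul_apply (M : Matrix.SpecialLinearGroup (Fin 2) F) (i j : Fin 2) :
    (negOneSL F * M).1 i j = - M.1 i j := by
  rw [sl2_mul_apply]
  fin_cases i <;> simp [negOneSL]

/-- the corner case `|F| = 3`: the irreducible restriction of a cuspidal character vanishes at the
elements without eigenvectors. -/
theorem q3_corner (hq : Fintype.card F = 3) (ψ : GL (Fin 2) F → ℂ) (hc : IsCuspidalGL ψ)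
    (hirr : IsIrrCharacter (Matrix.SpecialLinearGroup (Fin 2) F) (resSL ψ))
    (g₀ : Matrix.SpecialLinearGroup (Fin 2) F)
    (hg₀ : ∀ (c : F) (v : Fin 2 → F), v ≠ 0 → g₀.1.mulVec v ≠ c • v) : resSL ψ g₀ = 0 := by
  classical
  have hodd : Odd (Fintype.card F) := by rw [hq]; decide
  have h2 := two_ne_zero_of_odd_card hodd
  have hqC : (Fintype.card F : ℂ) = 3 := by rw [hq]; norm_num
  obtain ⟨χ, hχ⟩ : ∃ χ : Matrix.SpecialLinearGroup (Fin 2) F → ℂ, χ = resSL ψ := ⟨_, rfl⟩
  rw [← hχ] at hirr ⊢
  have hcf := isClassFunction_of_irr hirr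
  obtain ⟨R, hR⟩ : ∃ R : Matrix.SpecialLinearGroup (Fin 2) F → ℂ,
      R = indFun (borelSL F) (psFun (1 : MulChar F ℂ)) := ⟨_, rfl⟩
  obtain ⟨c, hcc, hcχ⟩ := irr_central_scalar hirr (negOneSL_mem_center (F := F))
  have hN0 : (Nat.card (Matrix.SpecialLinearGroup (Fin 2) F) : ℂ) ≠ 0 := by
    exact_mod_cast Nat.card_pos.ne'
  have E1 : ∑ g, R g = (Nat.card (Matrix.SpecialLinearGroup (Fin 2) F) : ℂ) := by
    have h := classInner_ps_SL_one (F := F)
    rw [classInner_def, ← hR] at h
    simp only [map_one, mul_one] at h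
    rw [inv_mul_eq_iff_eq_mul₀ hN0, mul_one] at h
    exact h
  have E3 : ∑ g, χ g * conj (χ g) = (Nat.card (Matrix.SpecialLinearGroup (Fin 2) F) : ℂ) := by
    have h := Cfsg.Agent.Lib.Helper3.classInner_irr hirr hirr
    rw [if_pos rfl, classInner_def, inv_mul_eq_iff_eq_mul₀ hN0, mul_one] at h
    exact h
  -- squares of nonzero elements
  have hsq1 : ∀ a : F, a ≠ 0 → a ^ 2 = 1 := by
    intro a ha
    have := FiniteField.pow_card_sub_one_eq_one a ha
    rw [hq] at this
    exact this
  -- values at the upper unitriangular elements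
  have hχu : ∀ y : F, y ≠ 0 → χ (mk2 1 y 0 1 (by ring)) = -1 := by
    intro y hy
    rw [hχ]
    unfold resSL
    exact cusp_unip hc _ rfl rfl rfl (by rw [toGL_apply]; exact hy)
  have hpt : ∀ g : Matrix.SpecialLinearGroup (Fin 2) F, χ g * conj (χ g) - R g =
      if (∀ (c : F) (v : Fin 2 → F), v ≠ 0 → g.1.mulVec v ≠ c • v) then
        ((Complex.normSq (χ g) : ℝ) : ℂ) else 0 := by
    intro g
    split_ifs with hE
    · rw [hR, ps_SL_elliptic 1 g hE, sub_zero, Complex.mul_conj]
    · push Not at hE
      obtain ⟨e, v, hv, hev⟩ := hE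
      obtain ⟨n, hn⟩ := upper_of_eigenvector g e v hv hev
      have hk := sl2_det (n⁻¹ * g * n)
      rw [hn, mul_zero, sub_zero] at hk
      have hk00 : (n⁻¹ * g * n).1 0 0 ^ 2 = 1 := hsq1 _ (left_ne_zero_of_mul_eq_one hk)
      have hk11 : (n⁻¹ * g * n).1 1 1 = (n⁻¹ * g * n).1 0 0 := by
        have h0 := left_ne_zero_of_mul_eq_one hk
        apply mul_left_cancel₀ h0
        rw [hk, ← pow_two, hk00]
      have htr : (g.1 0 0 + g.1 1 1) ^ 2 = 4 := by
        rw [← sl2_conj_trace g n, hk11]
        linear_combination 4 * hk00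
      by_cases hdiag : g.1 0 1 = 0 ∧ g.1 1 0 = 0
      · -- central
        have heq := diag_eq_of_upper g hdiag.2 htr
        have hgd := sl2_det g
        rw [hdiag.1, zero_mul, sub_zero, ← heq] at hgd
        have hRg : R g = 4 := by
          rw [hR, ps_SL_central 1 g hdiag.1 hdiag.2 heq,
            mulChar_one_apply_ne_zero (left_ne_zero_of_mul_eq_one hgd), hqC]
          norm_num
        have h1 : (g.1 0 0 - 1) * (g.1 0 0 + 1) = 0 := by linear_combination hgd
        have hχ1 : χ 1 = 2 := by
          rw [hχ]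
          unfold resSL
          rw [map_one, cusp_one hc, hqC]
          norm_num
        rcases mul_eq_zero.mp h1 with h | h
        · have hg1 : g = 1 := by
            apply sl2_ext
            · rw [sl2_one_00]; linear_combination h
            · rw [sl2_one_01]; exact hdiag.1
            · rw [sl2_one_10]; exact hdiag.2
            · rw [sl2_one_11, ← heq]; linear_combination h
          rw [hRg, hg1, hχ1, map_ofNat]
          norm_num
        · have hg1 : g = negOneSL F * 1 := by
            apply sl2_ext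
            · rw [negOneSL_mul_apply, sl2_one_00]; linear_combination h
            · rw [negOneSL_mul_apply, sl2_one_01, neg_zero]; exact hdiag.1
            · rw [negOneSL_mul_apply, sl2_one_10, neg_zero]; exact hdiag.2
            · rw [negOneSL_mul_apply, sl2_one_11, ← heq]; linear_combination h
          rw [hRg, hg1, hcχ, hχ1, map_mul]
          have : (starRingEnd ℂ) (2 : ℂ) = 2 := map_ofNat _ 2
          rw [this]
          linear_combination 4 * hcc
      · -- non-central with `tr² = 4`
        have hRg : R g = 1 := by rw [hR]; exact ps_SL_one_apply_of_tr h2 g htr hdiag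
        obtain ⟨m, h10, heq, h01⟩ := exists_conj_upper h2 g htr hdiag
        have hχg : χ g = χ (m⁻¹ * g * m) := by
          have := hcf g m⁻¹
          rw [inv_inv] at this
          exact this.symm
        obtain ⟨k, hkdef⟩ : ∃ k : Matrix.SpecialLinearGroup (Fin 2) F, k = m⁻¹ * g * m :=
          ⟨_, rfl⟩
        rw [← hkdef] at h10 heq h01 hχg
        have hkd := sl2_det k
        rw [h10, mul_zero, sub_zero, ← heq] at hkd
        have h1 : (k.1 0 0 - 1) * (k.1 0 0 + 1) = 0 := by
          linear_combination hkd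
        rw [hRg, hχg]
        rcases mul_eq_zero.mp h1 with h | h
        · have e : k = mk2 1 (k.1 0 1) 0 1 (by ring) := by
            apply sl2_ext
            · rw [mk2_00]; linear_combination h
            · rw [mk2_01]
            · rw [mk2_10]; exact h10
            · rw [mk2_11, ← heq]; linear_combination h
          rw [e, hχu _ h01]
          simp
        · have e : k = negOneSL F * mk2 1 (-k.1 0 1) 0 1 (by ring) := by
            apply sl2_ext
            · rw [negOneSL_mul_apply, mk2_00]; linear_combination h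
            · rw [negOneSL_mul_apply, mk2_01, neg_neg]
            · rw [negOneSL_mul_apply, mk2_10, neg_zero]; exact h10
            · rw [negOneSL_mul_apply, mk2_11, ← heq]; linear_combination h
          rw [e, hcχ, hχu _ (neg_ne_zero.mpr h01), map_mul]
          simp only [map_neg, map_one]
          linear_combination hcc
  -- conclusion
  have hsum : ∑ g : Matrix.SpecialLinearGroup (Fin 2) F,
      (if (∀ (c : F) (v : Fin 2 → F), v ≠ 0 → g.1.mulVec v ≠ c • v) then
        ((Complex.normSq (χ g) : ℝ) : ℂ) else 0) = 0 := by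
    rw [← Finset.sum_congr rfl (fun g _ => hpt g), Finset.sum_sub_distrib, E3, E1, sub_self]
  have hsumR : ∑ g : Matrix.SpecialLinearGroup (Fin 2) F,
      (if (∀ (c : F) (v : Fin 2 → F), v ≠ 0 → g.1.mulVec v ≠ c • v) then
        Complex.normSq (χ g) else 0) = 0 := by
    have : ((∑ g : Matrix.SpecialLinearGroup (Fin 2) F,
      (if (∀ (c : F) (v : Fin 2 → F), v ≠ 0 → g.1.mulVec v ≠ c • v) then
        Complex.normSq (χ g) else 0) : ℝ) : ℂ) = 0 := by
      rw [Complex.ofReal_sum, ← hsum]
      apply Finset.sum_congr rfl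
      intro g _
      split_ifs <;> simp
    exact_mod_cast this
  rw [Finset.sum_eq_zero_iff_of_nonneg] at hsumR
  · have := hsumR g₀ (Finset.mem_univ _)
    rw [if_pos hg₀] at this
    exact Complex.normSq_eq_zero.mp this
  · intro g _
    split_ifs
    · exact Complex.normSq_nonneg _
    · exact le_refl _


theorem tr_sq_ne_four_of_elliptic (h2 : (2 : F) ≠ 0) (g : Matrix.SpecialLinearGroup (Fin 2) F)
    (hg : ∀ (c : F) (v : Fin 2 → F), v ≠ 0 → g.1.mulVec v ≠ c • v) :
    (g.1 0 0 + g.1 1 1) ^ 2 ≠ 4 := by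
  intro htr
  by_cases hdiag : g.1 0 1 = 0 ∧ g.1 1 0 = 0
  · apply hg (g.1 0 0) ![1, 0]
    · intro h
      have := congrFun h 0
      simp at this
    · funext i
      fin_cases i
      · simp [Matrix.mulVec, dotProduct, Fin.sum_univ_two]
      · simp [Matrix.mulVec, dotProduct, Fin.sum_univ_two, hdiag.2]
  · obtain ⟨n, h10, -, -⟩ := exists_conj_upper h2 g htr hdiag
    obtain ⟨c, v, hv, hcv⟩ := eigenvector_of_upper g n h10
    exact hg c v hv hcv

/-- zeros of the irreducible characters of `SL₂(F)`, `|F| = 2k+1`. -/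
theorem sl2_zeros {k : ℕ} (hk : Fintype.card F = 2 * k + 1)
    (χ : Matrix.SpecialLinearGroup (Fin 2) F → ℂ)
    (hχ : IsIrrCharacter (Matrix.SpecialLinearGroup (Fin 2) F) χ)
    (g : Matrix.SpecialLinearGroup (Fin 2) F) :
    ((χ 1 = ((2 * k : ℕ) : ℂ) ∨ χ 1 = ((k : ℕ) : ℂ)) →
      g.1 0 1 = 0 → g.1 1 0 = 0 → g.1 0 0 ^ 2 ≠ 1 → χ g = 0) ∧
    ((χ 1 = ((2 * k + 2 : ℕ) : ℂ) ∨ χ 1 = ((k + 1 : ℕ) : ℂ)) →
      (∀ (c : F) (v : Fin 2 → F), v ≠ 0 → g.1.mulVec v ≠ c • v) → χ g = 0) := by
  classical
  have hodd : Odd (Fintype.card F) := ⟨k, hk⟩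
  have h2 := two_ne_zero_of_odd_card hodd
  have hcard := Fintype.one_lt_card (α := F)
  have hk0 : 1 ≤ k := by omega
  have hqC : (Fintype.card F : ℂ) = 2 * (k : ℂ) + 1 := by rw [hk]; push_cast; ring
  have hcf := isClassFunction_of_irr hχ
  constructor
  · intro hdeg h01 h10 hne
    have hgd := sl2_det g
    rw [h01, zero_mul, sub_zero] at hgd
    have hg00 : g.1 0 0 ≠ 0 := left_ne_zero_of_mul_eq_one hgd
    by_cases hk1 : k = 1
    · exfalso
      apply hne
      have := FiniteField.pow_card_sub_one_eq_one (g.1 0 0) hg00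
      rw [hk, hk1] at this
      exact this
    · have hk2 : 2 ≤ k := by omega
      have hne' : g.1 0 0 ≠ g.1 1 1 := by
        intro h
        apply hne
        rw [pow_two]
        rw [← h] at hgd
        exact hgd
      rcases hdeg with hdeg | hdeg
      · obtain ⟨ψ, hc, rfl⟩ := irr_SL2_deg_q_sub_one (by omega) χ hχ (by
          rw [hdeg, hqC]; push_cast; ring)
        unfold resSL
        exact cusp_diag hc _ h01 h10 hne'
      · obtain ⟨d₀, hd₀⟩ := exists_nonsquare_unit hodd
        obtain ⟨ψ, hc, -, hsum⟩ := (half_degree_types hk hk2 d₀ hd₀ χ hχ).2 hdeg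
        have e := congrFun hsum g
        rw [Pi.add_apply, tw_apply_of_diag d₀ χ g h01 h10] at e
        have e0 : resSL ψ g = 0 := by
          unfold resSL
          exact cusp_diag hc _ h01 h10 hne'
        rw [e0] at e
        have : (2 : ℂ) * χ g = 0 := by linear_combination -e
        rcases mul_eq_zero.mp this with h | h
        · exact absurd h two_ne_zero
        · exact h
  · intro hdeg hg
    have htr := tr_sq_ne_four_of_elliptic h2 g hg
    rcases hdeg with hdeg | hdeg
    · obtain ⟨α, -, rfl⟩ := irr_SL2_deg_q_add_one χ hχ (by rw [hdeg, hqC]; push_cast; ring)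
      exact ps_SL_elliptic α g hg
    · rcases irr_SL2_odd_types hk χ hχ with ⟨-, h1⟩ | ⟨-, h1⟩ | ⟨α, -, -, h1⟩ |
        ⟨α, ξ', d, -, -, hirr', hne, hsum, hd, h1⟩ | ⟨ψ, hc, hres, h1⟩ |
        ⟨ψ, ξ', d, -, -, -, -, -, h1⟩
      · have := Nat.cast_injective (R := ℂ) (hdeg.symm.trans h1); omega
      · have := Nat.cast_injective (R := ℂ) (hdeg.symm.trans h1); omega
      · have := Nat.cast_injective (R := ℂ) (hdeg.symm.trans h1); omega
      · have e := congrFun hsum g
        rw [ps_SL_elliptic α g hg, Pi.add_apply, hd.eq_tw, tw_apply_of_tr hodd d hcf g htr] at e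
        have : (2 : ℂ) * χ g = 0 := by linear_combination -e
        rcases mul_eq_zero.mp this with h | h
        · exact absurd h two_ne_zero
        · exact h
      · have hk1 := Nat.cast_injective (R := ℂ) (hdeg.symm.trans h1)
        have hq3 : Fintype.card F = 3 := by omega
        rw [hres] at hχ ⊢
        exact q3_corner hq3 ψ hc hχ g hg
      · have := Nat.cast_injective (R := ℂ) (hdeg.symm.trans h1); omega

end Cfsg.Agent.Lib.Helper38
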