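import Mathlib

set_option autoImplicit false

/-! Sylow 3-subgroups of symmetric groups contain 3-cycles on every invariant set of size ≥ 3. -/

namespace Cfsg.Agent.Lib.Helper38.SylThree

open Equiv Equiv.Perm Subgroup
open scoped Pointwise

variable {α : Type*} [Fintype α] [DecidableEq α]

/-- conjugates of 3-cycles are 3-cycles -/
theorem isThreeCycle_conj (g c : Perm α) (hc : c.IsThreeCycle) : (g * c * g⁻¹).IsThreeCycle := by
  rw [← card_support_eq_three_iff, card_support_conj]
  exact hc.card_support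

theorem mem_support_conj (g c : Perm α) (x : α) :
    x ∈ (g * c * g⁻¹).support ↔ g⁻¹ x ∈ c.support := by
  rw [Perm.mem_support, Perm.mem_support]
  simp only [Perm.coe_mul, Function.comp_apply]
  constructor
  · intro h h'
    apply h
    rw [h']
    simp
  · intro h h'
    apply h
    have := congrArg (g⁻¹ : Perm α) h'
    simpa using this

/-- the setwise stabilizer of a finset -/
def setStab (V : Finset α) : Subgroup (Perm α) where
  carrier := {g | ∀ x, g x ∈ V ↔ x ∈ V}
  mul_mem' := by
    intro a b ha hb x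
    rw [Perm.mul_apply, ha, hb]
  one_mem' := by intro x; simp
  inv_mem' := by
    intro a ha x
    have := ha (a⁻¹ x)
    rw [show a (a⁻¹ x) = x by simp] at this
    exact this.symm

theorem mem_setStab_of_forall (V : Finset α) (g : Perm α) (h : ∀ x ∈ V, g x ∈ V) : g ∈ setStab V := by
  intro x
  constructor
  · intro hx
    by_contra hxV
    -- g maps V into V injectively hence onto V
    have hsurj : Finset.image g V = V := by
      apply Finset.eq_of_subset_of_card_le
      · intro y hy
        obtain ⟨z, hz, rfl⟩ := Finset.mem_image.mp hy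
        exact h z hz
      · rw [Finset.card_image_of_injective _ g.injective]
    rw [← hsurj] at hx
    obtain ⟨z, hz, hzx⟩ := Finset.mem_image.mp hx
    have := g.injective hzx
    rw [this] at hz
    exact hxV hz
  · exact h x

/-- **Lemma A.** A Sylow 3-subgroup of `Perm α` leaving invariant a set `V` with at least three
points contains a 3-cycle supported in `V`. -/
theorem exists_threeCycle_in_sylow (P : Sylow 3 (Perm α)) (V : Finset α)
    (hinv : ∀ g ∈ P, ∀ x ∈ V, g x ∈ V) (h3 : 3 ≤ V.card) :
    ∃ d ∈ P, d.IsThreeCycle ∧ d.support ⊆ V := by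
  classical
  -- three distinct points of V
  obtain ⟨T, hTV, hT3⟩ := Finset.exists_subset_card_eq h3
  obtain ⟨a, b, c, hab, hac, hbc, rfl⟩ := Finset.card_eq_three.mp hT3
  have haV : a ∈ V := hTV (by simp)
  have hbV : b ∈ V := hTV (by simp)
  have hcV : c ∈ V := hTV (by simp)
  set d0 : Perm α := swap a b * swap a c with hd0
  have hd0c : d0.IsThreeCycle := isThreeCycle_swap_mul_swap_same hab hac hbc
  have hd0supp : d0.support ⊆ V := by
    intro x hx
    have := (support_mul_le _ _) hx
    simp only [Finset.sup_eq_union, Finset.mem_union, support_swap hab, support_swap hac,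
      Finset.mem_insert, Finset.mem_singleton] at this
    rcases this with (rfl | rfl) | (rfl | rfl) <;> assumption
  have hd0M : d0 ∈ setStab V := by
    apply mem_setStab_of_forall
    intro x hx
    by_cases hxs : x ∈ d0.support
    · exact hd0supp (Perm.apply_mem_support.mpr hxs)
    · rw [Perm.notMem_support.mp hxs]; exact hx
  have hPM : (P : Subgroup (Perm α)) ≤ setStab V := fun g hg => mem_setStab_of_forall V g (hinv g hg)
  -- P as a Sylow subgroup of M
  let P' : Sylow 3 (setStab V) := P.subtype hPM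
  -- the 3-group generated by d0 in M
  let D : Subgroup (setStab V) := Subgroup.zpowers ⟨d0, hd0M⟩
  have hD : IsPGroup 3 D := by
    apply IsPGroup.of_card (n := 1)
    rw [Nat.card_zpowers, pow_one]
    have : orderOf (⟨d0, hd0M⟩ : setStab V) = orderOf d0 := Subgroup.orderOf_mk d0 hd0M
    rw [this, hd0c.orderOf]
  obtain ⟨Q, hQ⟩ := hD.exists_le_sylow
  obtain ⟨m, hm⟩ := MulAction.exists_smul_eq (setStab V) Q P'
  have hdQ : (⟨d0, hd0M⟩ : setStab V) ∈ Q := hQ (Subgroup.mem_zpowers _)
  have hmd : m * ⟨d0, hd0M⟩ * m⁻¹ ∈ P' := by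
    rw [← hm]
    show m * ⟨d0, hd0M⟩ * m⁻¹ ∈ MulAut.conj m • (Q : Subgroup (setStab V))
    rw [Subgroup.mem_pointwise_smul_iff_inv_smul_mem]
    have : (MulAut.conj m)⁻¹ • (m * ⟨d0, hd0M⟩ * m⁻¹) = (⟨d0, hd0M⟩ : setStab V) := by
      rw [MulAut.smul_def, ← map_inv, MulAut.conj_apply]
      group
    rw [this]
    exact hdQ
  have hmd' : (m : Perm α) * d0 * (m : Perm α)⁻¹ ∈ P := by
    have h1 : m * ⟨d0, hd0M⟩ * m⁻¹ ∈ (P : Subgroup (Perm α)).subgroupOf (setStab V) := by
      have h0 : m * ⟨d0, hd0M⟩ * m⁻¹ ∈ ((P.subtype hPM : Sylow 3 (setStab V)) : Subgroup (setStab V)) := hmd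
      rwa [Sylow.coe_subtype] at h0
    rw [Subgroup.mem_subgroupOf] at h1
    have h2 : ((m * ⟨d0, hd0M⟩ * m⁻¹ : setStab V) : Perm α) = (m : Perm α) * d0 * (m : Perm α)⁻¹ := by
      simp
    rw [h2] at h1
    exact h1
  refine ⟨(m : Perm α) * d0 * (m : Perm α)⁻¹, hmd', isThreeCycle_conj _ _ hd0c, ?_⟩
  intro x hx
  rw [mem_support_conj] at hx
  have h1 := hd0supp hx
  have h2 := (m.2 ((m : Perm α)⁻¹ x))
  rw [show (m : Perm α) ((m : Perm α)⁻¹ x) = x by simp] at h2
  exact h2.mpr h1

end Cfsg.Agent.Lib.Helper38.SylThree
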