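import Mathlib
import Cfsg.Agent.Lib.Helper61.Miller2

set_option autoImplicit false

/-! Sylow `p`-subgroups act transitively on invariant sets of `p`-power size on which the ambient
group is transitive; maximal subgroups of a subgroup. -/

namespace Cfsg.Agent.Lib.Helper38.SylTwo

open Equiv Equiv.Perm
open Cfsg.Agent.Lib.Helper61.Miller (IsSyl)

variable {α : Type*} [Fintype α] [DecidableEq α]

/-- `M` is a maximal proper subgroup of `G`. -/
def IsMaxIn {Γ : Type*} [Group Γ] (G M : Subgroup Γ) : Prop :=
  M < G ∧ ∀ K : Subgroup Γ, M < K → K ≤ G → K = G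

theorem IsMaxIn.eq_of_le {Γ : Type*} [Group Γ] {G M K : Subgroup Γ} (hM : IsMaxIn G M)
    (hMK : M ≤ K) (hKG : K < G) : K = M := by
  by_contra hne
  have hlt : M < K := lt_of_le_of_ne hMK (Ne.symm hne)
  have := hM.2 K hlt hKG.le
  exact (ne_of_lt hKG) this

theorem isCoatom_iff_isMaxIn_map {Γ : Type*} [Group Γ] (G : Subgroup Γ) (K : Subgroup ↥G) :
    IsCoatom K ↔ IsMaxIn G (K.map G.subtype) := by
  constructor
  · intro hK
    refine ⟨lt_of_le_of_ne (Subgroup.map_subtype_le K) ?_, ?_⟩
    · intro h
      apply hK.1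
      rw [eq_top_iff]
      intro x _
      have hx : (x : Γ) ∈ K.map G.subtype := by rw [h]; exact x.2
      obtain ⟨y, hy, hyx⟩ := hx
      have : y = x := Subtype.ext hyx
      rwa [← this]
    · intro L hKL hLG
      have h1 : K < L.subgroupOf G := by
        have e : K = (K.map G.subtype).subgroupOf G := by
          ext x
          rw [Subgroup.mem_subgroupOf]
          constructor
          · intro hx; exact ⟨x, hx, rfl⟩
          · rintro ⟨y, hy, hyx⟩
            have : y = x := Subtype.ext hyx
            rwa [← this]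
        rw [e]
        refine lt_of_le_of_ne (Subgroup.subgroupOf_mono G hKL.le) ?_
        intro h
        have h2 := congrArg (Subgroup.map G.subtype) h
        rw [Subgroup.subgroupOf_map_subtype, Subgroup.subgroupOf_map_subtype,
          inf_of_le_left (Subgroup.map_subtype_le K), inf_of_le_left hLG] at h2
        exact (ne_of_lt hKL) h2
      have h3 := hK.2 _ h1
      rw [Subgroup.subgroupOf_eq_top] at h3
      exact le_antisymm hLG h3
  · intro hK
    refine ⟨?_, ?_⟩
    · intro h
      apply (ne_of_lt hK.1)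
      rw [h, ← MonoidHom.range_eq_map, Subgroup.range_subtype]
    · intro L hKL
      have h1 : K.map G.subtype < L.map G.subtype := by
        rw [Subgroup.map_subtype_lt_map_subtype]
        exact hKL
      have h2 := hK.2 _ h1 (Subgroup.map_subtype_le L)
      rw [eq_top_iff]
      intro x _
      have hx : (x : Γ) ∈ L.map G.subtype := by rw [h2]; exact x.2
      obtain ⟨y, hy, hyx⟩ := hx
      have : y = x := Subtype.ext hyx
      rwa [← this]

theorem isCoatom_iff_isMaxIn_top {Γ : Type*} [Group Γ] (M : Subgroup Γ) :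
    IsCoatom M ↔ IsMaxIn ⊤ M := by
  constructor
  · intro hM
    exact ⟨lt_top_iff_ne_top.mpr hM.1, fun K hK _ => hM.2 K hK⟩
  · intro hM
    exact ⟨ne_of_lt hM.1, fun K hK => hM.2 K hK le_top⟩

omit [DecidableEq α] in
/-- **Lemma T.** A Sylow `p`-subgroup of a group `H` which is transitive on an invariant set of
`p`-power size is itself transitive on this set. -/
theorem syl_transitive {p : ℕ} [Fact p.Prime] {H R : Subgroup (Perm α)} (hR : IsSyl p H R)
    (S : Finset α) (k : ℕ) (hS : S.card = p ^ k)
    (hinv : ∀ h ∈ H, ∀ x ∈ S, h x ∈ S)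
    (htr : ∀ x ∈ S, ∀ y ∈ S, ∃ h ∈ H, h x = y) :
    ∀ x ∈ S, ∀ y ∈ S, ∃ r ∈ R, r x = y := by
  classical
  have hp : p.Prime := Fact.out
  intro x hx
  set m := (Nat.card H).factorization p with hm
  -- orbit of x under H is S
  have horbH : MulAction.orbit ↥H x = (S : Set α) := by
    ext y
    constructor
    · rintro ⟨h, rfl⟩
      exact hinv h.1 h.2 x hx
    · intro hy
      obtain ⟨h, hh, hxy⟩ := htr x hx y hy
      exact ⟨⟨h, hh⟩, hxy⟩
  have h1 : (MulAction.stabilizer ↥H x).index = p ^ k := by
    rw [MulAction.index_stabilizer, horbH, Set.ncard_coe_finset, hS]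
  have h2 : p ^ k * Nat.card (MulAction.stabilizer ↥H x) = Nat.card H := by
    rw [← h1]; exact Subgroup.index_mul_card _
  have h3 : (MulAction.stabilizer ↥R x).index * Nat.card (MulAction.stabilizer ↥R x) = p ^ m := by
    rw [Subgroup.index_mul_card, hR.2]
  -- stabilizer in R embeds in the stabilizer in H
  have h4 : Nat.card (MulAction.stabilizer ↥R x) ∣ Nat.card (MulAction.stabilizer ↥H x) := by
    let f : MulAction.stabilizer ↥R x →* MulAction.stabilizer ↥H x :=
      { toFun := fun r => ⟨⟨(r : ↥R).1, hR.1 (r : ↥R).2⟩, by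
          have := r.2
          rw [MulAction.mem_stabilizer_iff] at this ⊢
          exact this⟩
        map_one' := rfl
        map_mul' := fun a b => rfl }
    apply Subgroup.card_dvd_of_injective f
    intro a b hab
    have h5 := congrArg (fun t : MulAction.stabilizer ↥H x => ((t : ↥H) : Perm α)) hab
    exact Subtype.ext (Subtype.ext h5)
  obtain ⟨j, hj, hjc⟩ := (Nat.dvd_prime_pow hp).mp (Dvd.intro_left _ h3)
  obtain ⟨i, hi, hic⟩ := (Nat.dvd_prime_pow hp).mp (Dvd.intro _ h3)
  have hij : i + j = m := by
    rw [hic, hjc, ← pow_add] at h3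
    exact Nat.pow_right_injective hp.two_le h3
  have hkj : k + j ≤ m := by
    have hdvd : p ^ (k + j) ∣ Nat.card H := by
      rw [← h2, pow_add]
      exact Nat.mul_dvd_mul_left _ (hjc ▸ h4)
    exact (hp.pow_dvd_iff_le_factorization (Nat.card_pos.ne')).mp hdvd
  have hki : k ≤ i := by omega
  -- the R-orbit of x is all of S
  have horbR : MulAction.orbit ↥R x = (S : Set α) := by
    apply Set.eq_of_subset_of_ncard_le
    · rintro y ⟨r, rfl⟩
      exact hinv r.1 (hR.1 r.2) x hx
    · rw [Set.ncard_coe_finset, hS, ← MulAction.index_stabilizer, hic]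
      exact Nat.pow_le_pow_right hp.pos hki
    · exact Set.toFinite _
  intro y hy
  have : y ∈ MulAction.orbit ↥R x := by rw [horbR]; exact hy
  obtain ⟨r, hr⟩ := this
  exact ⟨r.1, r.2, hr⟩

end Cfsg.Agent.Lib.Helper38.SylTwo
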