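import Mathlib
import Cfsg.Agent.Lib.Helper38.SylTwoA
import Cfsg.Agent.Lib.Helper38.SylThreeA

set_option autoImplicit false
set_option linter.unusedSectionVars false

/-! Basic tools: stabilisers of finsets as maximal subgroups of `S_n` and `A_n`, coatomicity. -/

namespace Cfsg.Agent.Lib.Helper38.SylTwo

open Equiv Equiv.Perm
open scoped Pointwise
open Cfsg.Agent.Lib.Helper61.Miller (IsSyl)
open Cfsg.Agent.Lib.Helper38.SylThree (setStab mem_setStab_of_forall)

variable {α : Type*} [Fintype α] [DecidableEq α]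

omit [Fintype α] [DecidableEq α] in
theorem mem_setStab_iff (s : Finset α) (g : Perm α) : g ∈ setStab s ↔ ∀ x, g x ∈ s ↔ x ∈ s :=
  Iff.rfl

theorem setStab_eq_stabilizer (s : Finset α) :
    setStab s = MulAction.stabilizer (Perm α) ((s : Finset α) : Set α) := by
  ext g
  rw [MulAction.mem_stabilizer_set, mem_setStab_iff]
  simp only [Finset.mem_coe, Perm.smul_def]

/-- The coatom property of set stabilisers in the symmetric group. -/
theorem hCS_top (s : Finset α) (hs : s.Nonempty) (hsc : sᶜ.Nonempty)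
    (hcard : Fintype.card α ≠ 2 * s.card) : IsMaxIn (⊤ : Subgroup (Perm α)) (⊤ ⊓ setStab s) := by
  rw [top_inf_eq, ← isCoatom_iff_isMaxIn_top, setStab_eq_stabilizer]
  apply Equiv.Perm.isCoatom_stabilizer
  · exact hs
  · obtain ⟨x, hx⟩ := hsc
    exact ⟨x, by simpa using hx⟩
  · rw [Nat.card_eq_fintype_card, Set.ncard_coe_finset]
    exact hcard

/-- The coatom property of set stabilisers in the alternating group. -/
theorem hCS_alt (s : Finset α) (hs : s.Nonempty) (hsc : sᶜ.Nonempty)
    (hcard : Fintype.card α ≠ 2 * s.card) :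
    IsMaxIn (alternatingGroup α) (alternatingGroup α ⊓ setStab s) := by
  have h1 : IsCoatom (MulAction.stabilizer (alternatingGroup α) ((s : Finset α) : Set α)) := by
    apply alternatingGroup.isCoatom_stabilizer
    · exact hs
    · obtain ⟨x, hx⟩ := hsc
      exact ⟨x, by simpa using hx⟩
    · rw [Nat.card_eq_fintype_card, Set.ncard_coe_finset]
      exact hcard
  rw [isCoatom_iff_isMaxIn_map] at h1
  convert h1 using 1
  ext g
  rw [Subgroup.mem_inf, Subgroup.mem_map]
  constructor
  · rintro ⟨hgA, hgs⟩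
    refine ⟨⟨g, hgA⟩, ?_, rfl⟩
    rw [MulAction.mem_stabilizer_set]
    intro b
    exact hgs b
  · rintro ⟨y, hy, rfl⟩
    refine ⟨y.2, ?_⟩
    rw [MulAction.mem_stabilizer_set] at hy
    intro b
    exact hy b

/-- a subgroup containing the alternating group is the alternating group or everything -/
theorem eq_alt_or_top {G : Subgroup (Perm α)} (hA : alternatingGroup α ≤ G) :
    G = alternatingGroup α ∨ G = ⊤ := by
  by_cases h : G ≤ alternatingGroup α
  · left; exact le_antisymm h hA
  · right
    rw [SetLike.not_le_iff_exists] at h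
    obtain ⟨σ, hσG, hσ⟩ := h
    rw [eq_top_iff]
    intro τ _
    by_cases hτ : τ ∈ alternatingGroup α
    · exact hA hτ
    · have h1 : τ * σ⁻¹ ∈ alternatingGroup α := by
        rw [Perm.mem_alternatingGroup] at hσ hτ ⊢
        rw [Perm.sign_mul, Perm.sign_inv]
        rcases Int.units_eq_one_or (Perm.sign σ) with h | h
        · exact absurd h hσ
        · rcases Int.units_eq_one_or (Perm.sign τ) with h' | h'
          · exact absurd h' hτ
          · rw [h, h']; decide
      have h2 := G.mul_mem (hA h1) hσG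
      simpa using h2

/-- every proper subgroup of `G` lies in a maximal subgroup of `G` -/
theorem exists_isMaxIn_ge {Γ : Type*} [Group Γ] [Finite Γ] {G H : Subgroup Γ} (hHG : H < G) :
    ∃ K, IsMaxIn G K ∧ H ≤ K := by
  have hne : H.subgroupOf G ≠ ⊤ := by
    intro h
    rw [Subgroup.subgroupOf_eq_top] at h
    exact (not_le_of_gt hHG) h
  rcases eq_top_or_exists_le_coatom (H.subgroupOf G) with h | ⟨K, hK, hHK⟩
  · exact absurd h hne
  · refine ⟨K.map G.subtype, (isCoatom_iff_isMaxIn_map G K).mp hK, ?_⟩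
    intro x hx
    exact ⟨⟨x, hHG.le hx⟩, hHK (by rw [Subgroup.mem_subgroupOf]; exact hx), rfl⟩

/-- a Sylow subgroup of `G` is a Sylow subgroup of every intermediate group -/
theorem IsSyl.of_le {Γ : Type*} [Group Γ] [Finite Γ] {p : ℕ} [Fact p.Prime] {G H R : Subgroup Γ}
    (hR : IsSyl p G R) (hRH : R ≤ H) (hHG : H ≤ G) : IsSyl p H R := by
  have hp : p.Prime := Fact.out
  refine ⟨hRH, ?_⟩
  rw [hR.2]
  congr 1
  apply le_antisymm
  · apply (hp.pow_dvd_iff_le_factorization (Nat.card_pos.ne')).mp
    rw [← hR.2]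
    exact Subgroup.card_dvd_of_le hRH
  · apply (hp.pow_dvd_iff_le_factorization (Nat.card_pos.ne')).mp
    exact dvd_trans (Nat.ordProj_dvd _ _) (Subgroup.card_dvd_of_le hHG)

theorem swap_mul_swap_mem_alt {a b c d : α} (hab : a ≠ b) (hcd : c ≠ d) :
    swap a b * swap c d ∈ alternatingGroup α := by
  rw [Perm.mem_alternatingGroup, Perm.sign_mul, Perm.sign_swap hab, Perm.sign_swap hcd]
  decide

/-- the 3-cycle `a ↦ c ↦ b ↦ a` -/
theorem threeCycle_mem_alt {a b c : α} (hab : a ≠ b) (hac : a ≠ c) (hbc : b ≠ c) :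
    swap a b * swap a c ∈ alternatingGroup α :=
  (isThreeCycle_swap_mul_swap_same hab hac hbc).mem_alternatingGroup

end Cfsg.Agent.Lib.Helper38.SylTwo
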