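import Mathlib
import Cfsg.Agent.Lib.Helper38.SylTwoC
import Cfsg.Agent.Lib.Helper35.AltAutJordan

set_option autoImplicit false
set_option linter.unusedSectionVars false

/-! A subgroup containing all 3-cycles supported on either side of a partition `Δ, Δᶜ` and one
element mixing the two sides contains the alternating group. -/

namespace Cfsg.Agent.Lib.Helper38.SylTwo

open Equiv Equiv.Perm
open Cfsg.Agent.Lib.Helper38.SylThree (setStab mem_setStab_of_forall isThreeCycle_conj)

variable {α : Type*} [Fintype α] [DecidableEq α]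

/-- the 3-cycle `x ↦ y ↦ w ↦ x` -/
theorem cyc3_apply {x y w : α} (hxy : x ≠ y) (hyw : y ≠ w) :
    (swap x w * swap x y) x = y := by
  rw [Perm.mul_apply, swap_apply_left, swap_apply_of_ne_of_ne hxy.symm hyw]

theorem cyc3_support {x y w : α} (hxy : x ≠ y) (hxw : x ≠ w) :
    (swap x w * swap x y).support ⊆ {x, y, w} := by
  intro t ht
  have := (support_mul_le _ _) ht
  simp only [Finset.sup_eq_union, Finset.mem_union, support_swap hxw, support_swap hxy,
    Finset.mem_insert, Finset.mem_singleton] at this ⊢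
  tauto

theorem exists_third (T : Finset α) (h3 : 3 ≤ T.card) (x y : α) : ∃ w ∈ T, w ≠ x ∧ w ≠ y := by
  by_contra hcon
  push Not at hcon
  have : T ⊆ {x, y} := by
    intro w hw
    by_cases hwx : w = x
    · simp [hwx]
    · have := hcon w hw hwx
      simp [this]
  have h1 := Finset.card_le_card this
  have h2 : ({x, y} : Finset α).card ≤ 2 := Finset.card_le_two
  omega

theorem alt_le_of_threeCycles (M : Subgroup (Perm α)) (Δ : Finset α) (h3 : 3 ≤ Δ.card)
    (h3' : 3 ≤ Δᶜ.card)
    (hΔ : ∀ c : Perm α, c.IsThreeCycle → (c.support ⊆ Δ ∨ c.support ⊆ Δᶜ) → c ∈ M)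
    (g : Perm α) (hg : g ∈ M) (u v : α) (hu : u ∈ Δ) (hv : v ∈ Δ) (huv : u ≠ v)
    (hgu : g u ∈ Δ) (hgv : g v ∉ Δ) :
    alternatingGroup α ≤ M := by
  classical
  set S : Set (Perm α) := {c | c.IsThreeCycle ∧ c ∈ M} with hS
  have hSM : Subgroup.closure S ≤ M := by
    rw [Subgroup.closure_le]
    intro c hc
    exact hc.2
  -- connectivity inside a set all of whose 3-cycles lie in M
  have conn : ∀ T : Finset α, 3 ≤ T.card →
      (∀ c : Perm α, c.IsThreeCycle → c.support ⊆ T → c ∈ M) →
      ∀ x ∈ T, ∀ y ∈ T, ∃ k : ↥(Subgroup.closure S), k • x = y := by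
    intro T hT hTM x hx y hy
    by_cases hxy : x = y
    · exact ⟨1, by rw [one_smul]; exact hxy⟩
    · obtain ⟨w, hw, hwx, hwy⟩ := exists_third T hT x y
      have hc3 : (swap x w * swap x y).IsThreeCycle :=
        isThreeCycle_swap_mul_swap_same (Ne.symm hwx) hxy hwy
      have hcM : swap x w * swap x y ∈ M := by
        apply hTM _ hc3
        intro t ht
        have := cyc3_support hxy (Ne.symm hwx) ht
        simp only [Finset.mem_insert, Finset.mem_singleton] at this
        rcases this with rfl | rfl | rfl <;> assumption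
      refine ⟨⟨swap x w * swap x y, Subgroup.subset_closure ⟨hc3, hcM⟩⟩, ?_⟩
      show (swap x w * swap x y) x = y
      exact cyc3_apply hxy (Ne.symm hwy)
  have conn1 := conn Δ h3 (fun c hc hs => hΔ c hc (Or.inl hs))
  have conn2 := conn Δᶜ h3' (fun c hc hs => hΔ c hc (Or.inr hs))
  -- the link
  obtain ⟨w, hw, hwu, hwv⟩ := exists_third Δ h3 u v
  have hc0 : (swap u w * swap u v).IsThreeCycle :=
    isThreeCycle_swap_mul_swap_same (Ne.symm hwu) huv hwv
  have hc0M : swap u w * swap u v ∈ M := by
    apply hΔ _ hc0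
    left
    intro t ht
    have := cyc3_support huv (Ne.symm hwu) ht
    simp only [Finset.mem_insert, Finset.mem_singleton] at this
    rcases this with rfl | rfl | rfl <;> assumption
  have hc1 : (g * (swap u w * swap u v) * g⁻¹).IsThreeCycle := isThreeCycle_conj _ _ hc0
  have hc1M : g * (swap u w * swap u v) * g⁻¹ ∈ M := M.mul_mem (M.mul_mem hg hc0M) (M.inv_mem hg)
  have link : ∃ k : ↥(Subgroup.closure S), k • (g u) = g v := by
    refine ⟨⟨_, Subgroup.subset_closure ⟨hc1, hc1M⟩⟩, ?_⟩
    show (g * (swap u w * swap u v) * g⁻¹) (g u) = g v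
    have h1 : (g⁻¹ : Perm α) (g u) = u := by simp
    simp only [Perm.mul_apply, h1]
    have := cyc3_apply huv (Ne.symm hwv)
    rw [Perm.mul_apply] at this
    rw [this]
  -- everything is in the orbit of `g u`
  have hall : ∀ x, ∃ k : ↥(Subgroup.closure S), k • (g u) = x := by
    intro x
    by_cases hx : x ∈ Δ
    · exact conn1 _ hgu _ hx
    · obtain ⟨k1, hk1⟩ := link
      obtain ⟨k2, hk2⟩ := conn2 (g v) (by simpa using hgv) x (by simpa using hx)
      exact ⟨k2 * k1, by rw [mul_smul, hk1, hk2]⟩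
  have htr : MulAction.IsPretransitive ↥(Subgroup.closure S) α := by
    constructor
    intro x y
    obtain ⟨k1, hk1⟩ := hall x
    obtain ⟨k2, hk2⟩ := hall y
    exact ⟨k2 * k1⁻¹, by rw [mul_smul, ← hk1, inv_smul_smul, hk2]⟩
  have hne : S.Nonempty := ⟨_, hc0, hc0M⟩
  exact le_trans
    (Cfsg.Agent.Lib.Helper35.alternatingGroup_le_of_closure_threeCycles S (fun c hc => hc.1) hne htr)
    hSM

end Cfsg.Agent.Lib.Helper38.SylTwo
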