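import Mathlib
import Cfsg.Agent.Lib.Helper38.SylTwoC

set_option autoImplicit false
set_option linter.unusedSectionVars false

/-! Orbits as finsets, centralisers of involutions, stabilisers of a partition into two halves. -/

namespace Cfsg.Agent.Lib.Helper38.SylTwo

open Equiv Equiv.Perm
open Cfsg.Agent.Lib.Helper38.SylThree (setStab mem_setStab_of_forall)

variable {α : Type*} [Fintype α] [DecidableEq α]

/-- the centraliser of a permutation -/
def cent (z : Perm α) : Subgroup (Perm α) where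
  carrier := {g | g * z = z * g}
  mul_mem' := by
    intro a b ha hb
    show a * b * z = z * (a * b)
    have ha' : a * z = z * a := ha
    have hb' : b * z = z * b := hb
    rw [mul_assoc, hb', ← mul_assoc, ha', mul_assoc]
  one_mem' := by show (1 : Perm α) * z = z * 1; simp
  inv_mem' := by
    intro a ha
    show a⁻¹ * z = z * a⁻¹
    have ha' : a * z = z * a := ha
    calc a⁻¹ * z = a⁻¹ * (z * a) * a⁻¹ := by group
      _ = a⁻¹ * (a * z) * a⁻¹ := by rw [ha']
      _ = z * a⁻¹ := by group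

theorem mem_cent (z g : Perm α) : g ∈ cent z ↔ g * z = z * g := Iff.rfl

/-- the stabiliser of the partition `{Δ, Δᶜ}` -/
def pairStab (Δ : Finset α) : Subgroup (Perm α) where
  carrier := {g | (∀ y, g y ∈ Δ ↔ y ∈ Δ) ∨ (∀ y, g y ∈ Δ ↔ y ∉ Δ)}
  mul_mem' := by
    intro a b ha hb
    rcases ha with ha | ha <;> rcases hb with hb | hb
    · left; intro y; rw [Perm.mul_apply, ha, hb]
    · right; intro y; rw [Perm.mul_apply, ha, hb]
    · right; intro y; rw [Perm.mul_apply, ha, hb]
    · left; intro y; rw [Perm.mul_apply, ha, hb, not_not]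
  one_mem' := by left; intro y; simp
  inv_mem' := by
    intro a ha
    rcases ha with ha | ha
    · left
      intro y
      have := ha (a⁻¹ y)
      rw [show a (a⁻¹ y) = y by simp] at this
      exact this.symm
    · right
      intro y
      have := ha (a⁻¹ y)
      rw [show a (a⁻¹ y) = y by simp] at this
      tauto

theorem setStab_le_pairStab (Δ : Finset α) : setStab Δ ≤ pairStab Δ := fun _ hg => Or.inl hg

/-- the orbit of a point as a finset -/
noncomputable def orb (R : Subgroup (Perm α)) (x : α) : Finset α := by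
  classical
  exact Finset.univ.filter (fun y => ∃ r ∈ R, r x = y)

theorem mem_orb {R : Subgroup (Perm α)} {x y : α} : y ∈ orb R x ↔ ∃ r ∈ R, r x = y := by
  classical
  simp [orb]

theorem self_mem_orb (R : Subgroup (Perm α)) (x : α) : x ∈ orb R x :=
  mem_orb.mpr ⟨1, R.one_mem, rfl⟩

theorem orb_inv (R : Subgroup (Perm α)) (x : α) : ∀ r ∈ R, ∀ y ∈ orb R x, r y ∈ orb R x := by
  intro r hr y hy
  obtain ⟨s, hs, rfl⟩ := mem_orb.mp hy
  exact mem_orb.mpr ⟨r * s, R.mul_mem hr hs, rfl⟩

theorem orb_disjoint {R : Subgroup (Perm α)} {x y : α} (h : y ∉ orb R x) :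
    Disjoint (orb R x) (orb R y) := by
  rw [Finset.disjoint_left]
  intro w hw1 hw2
  apply h
  obtain ⟨r, hr, rfl⟩ := mem_orb.mp hw1
  obtain ⟨s, hs, hsy⟩ := mem_orb.mp hw2
  refine mem_orb.mpr ⟨s⁻¹ * r, R.mul_mem (R.inv_mem hs) hr, ?_⟩
  rw [Perm.mul_apply, ← hsy]
  simp

theorem coe_orb (R : Subgroup (Perm α)) (x : α) :
    ((orb R x : Finset α) : Set α) = MulAction.orbit ↥R x := by
  ext y
  rw [Finset.mem_coe, mem_orb]
  constructor
  · rintro ⟨r, hr, rfl⟩
    exact ⟨⟨r, hr⟩, rfl⟩
  · rintro ⟨r, rfl⟩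
    exact ⟨r.1, r.2, rfl⟩

/-- orbits of a `2`-group have `2`-power size -/
theorem card_orb_pow (R : Subgroup (Perm α)) (hR : IsPGroup 2 R) (x : α) :
    ∃ k, (orb R x).card = 2 ^ k := by
  have h1 : (orb R x).card = (MulAction.stabilizer ↥R x).index := by
    rw [MulAction.index_stabilizer, ← coe_orb, Set.ncard_coe_finset]
  obtain ⟨m, hm⟩ := IsPGroup.iff_card.mp hR
  have h2 : (MulAction.stabilizer ↥R x).index ∣ 2 ^ m := by
    rw [← hm]; exact Subgroup.index_dvd_card _
  obtain ⟨k, -, hk⟩ := (Nat.dvd_prime_pow Nat.prime_two).mp h2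
  exact ⟨k, by rw [h1, hk]⟩

/-- a fixed point forms an orbit of size one -/
theorem orb_eq_singleton_of_fixed {R : Subgroup (Perm α)} {x y : α} (hy : y ∈ orb R x)
    (hfix : ∀ r ∈ R, r y = y) : orb R x = {y} := by
  obtain ⟨r, hr, rfl⟩ := mem_orb.mp hy
  have hx : r x = x := by
    have := hfix r⁻¹ (R.inv_mem hr)
    simp at this
    exact this.symm
  ext w
  rw [mem_orb, Finset.mem_singleton]
  constructor
  · rintro ⟨s, hs, rfl⟩
    have h1 := hfix (s * r⁻¹) (R.mul_mem hs (R.inv_mem hr))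
    rw [Perm.mul_apply] at h1
    simp at h1
    exact h1
  · intro hw
    exact ⟨r, hr, hw.symm⟩

/-- A transitive `2`-group on at least two points preserves a partition into two halves. -/
theorem exists_half_partition (R : Subgroup (Perm α)) (hR : IsPGroup 2 R)
    (htr : ∀ x y : α, ∃ r ∈ R, r x = y) (h2 : 2 ≤ Fintype.card α) :
    ∃ Δ : Finset α, Fintype.card α = 2 * Δ.card ∧ R ≤ pairStab Δ := by
  classical
  have : Fact (Nat.Prime 2) := ⟨Nat.prime_two⟩
  have hne : Nonempty α := by
    rw [← Fintype.card_pos_iff]; omega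
  obtain ⟨x0⟩ := hne
  obtain ⟨y0, hy0⟩ : ∃ y0 : α, y0 ≠ x0 := by
    by_contra hcon
    push Not at hcon
    have : Fintype.card α ≤ 1 := by
      rw [Fintype.card_le_one_iff]
      intro a b; rw [hcon a, hcon b]
    omega
  obtain ⟨m, hm⟩ := IsPGroup.iff_card.mp hR
  set St := MulAction.stabilizer ↥R x0 with hSt
  have hSt_dvd : Nat.card St ∣ 2 ^ m := by rw [← hm]; exact Subgroup.card_subgroup_dvd_card _
  obtain ⟨j, hjm, hj⟩ := (Nat.dvd_prime_pow Nat.prime_two).mp hSt_dvd
  have hjlt : j < m := by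
    rcases Nat.lt_or_ge j m with h | h
    · exact h
    · exfalso
      have hjm' : j = m := le_antisymm hjm h
      have htop : St = ⊤ := by
        apply Subgroup.eq_top_of_card_eq
        rw [hj, hm, hjm']
      obtain ⟨r, hr, hrx⟩ := htr x0 y0
      have : (⟨r, hr⟩ : ↥R) ∈ St := by rw [htop]; trivial
      rw [hSt, MulAction.mem_stabilizer_iff] at this
      apply hy0
      rw [← hrx]
      exact this
  obtain ⟨K, hKcard, hStK⟩ := Sylow.exists_subgroup_card_pow_prime_le 2
    (show 2 ^ (m - 1) ∣ Nat.card ↥R by rw [hm]; exact pow_dvd_pow 2 (Nat.sub_le m 1)) St hj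
    (by omega)
  have hKidx : K.index = 2 := by
    have h1 := Subgroup.index_mul_card K
    rw [hKcard, hm] at h1
    have h3 : (2 : ℕ) ^ m = 2 * 2 ^ (m - 1) := by
      rw [← pow_succ']; congr 1; omega
    rw [h3] at h1
    exact Nat.eq_of_mul_eq_mul_right (by positivity) h1
  set Δ : Finset α := Finset.univ.filter (fun y => ∃ k : ↥R, k ∈ K ∧ (k : Perm α) x0 = y) with hΔ
  have memΔ : ∀ s : ↥R, ((s : Perm α) x0 ∈ Δ ↔ s ∈ K) := by
    intro s
    rw [hΔ, Finset.mem_filter]
    constructor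
    · rintro ⟨-, k, hk, hks⟩
      have h1 : s⁻¹ * k ∈ St := by
        rw [hSt, MulAction.mem_stabilizer_iff]
        show ((s⁻¹ * k : ↥R) : Perm α) x0 = x0
        rw [Subgroup.coe_mul, Perm.mul_apply, hks]
        simp
      have h2 := hStK h1
      have h3 : s = k * (s⁻¹ * k)⁻¹ := by group
      rw [h3]
      exact K.mul_mem hk (K.inv_mem h2)
    · intro hs
      exact ⟨Finset.mem_univ _, s, hs, rfl⟩
  have key : ∀ r : ↥R, ∀ y, ((r : Perm α) y ∈ Δ ↔ (y ∈ Δ ↔ r ∈ K)) := by
    intro r y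
    obtain ⟨s, hs, rfl⟩ := htr x0 y
    have h1 : (r : Perm α) (s x0) = ((r * ⟨s, hs⟩ : ↥R) : Perm α) x0 := rfl
    rw [h1, memΔ, Subgroup.mul_mem_iff_of_index_two hKidx]
    have h2 := memΔ ⟨s, hs⟩
    simp only at h2
    rw [h2]
    tauto
  have hR_le : R ≤ pairStab Δ := by
    intro r hr
    by_cases hrK : (⟨r, hr⟩ : ↥R) ∈ K
    · left
      intro y
      have := key ⟨r, hr⟩ y
      simp only at this
      rw [this]; tauto
    · right
      intro y
      have := key ⟨r, hr⟩ y
      simp only at this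
      rw [this]; tauto
  refine ⟨Δ, ?_, hR_le⟩
  -- cardinality: an element outside K swaps the two halves
  obtain ⟨r0, hr0⟩ : ∃ r0 : ↥R, r0 ∉ K := by
    by_contra hcon
    push Not at hcon
    have : K = ⊤ := by rw [eq_top_iff]; intro r _; exact hcon r
    rw [this, Subgroup.index_top] at hKidx
    omega
  have hswap : ∀ y, ((r0 : Perm α) y ∈ Δ ↔ y ∉ Δ) := by
    intro y
    rw [key r0 y]; tauto
  have hcompl : Δᶜ = Δ.map (r0 : Perm α).toEmbedding := by
    ext w
    rw [Finset.mem_compl, Finset.mem_map]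
    constructor
    · intro hw
      refine ⟨(r0 : Perm α)⁻¹ w, ?_, by simp⟩
      by_contra hcon
      have := (hswap ((r0 : Perm α)⁻¹ w)).mpr hcon
      simp at this
      exact hw this
    · rintro ⟨y, hy, rfl⟩ hcon
      exact ((hswap y).mp hcon) hy
  have h1 : Δᶜ.card = Δ.card := by rw [hcompl, Finset.card_map]
  have h2 := Finset.card_add_card_compl Δ
  omega

end Cfsg.Agent.Lib.Helper38.SylTwo
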