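import Mathlib
import Cfsg.Agent.Lib.Helper38.SylTwoE
import Cfsg.Agent.Lib.Helper38.SylTwoD

set_option autoImplicit false
set_option linter.unusedSectionVars false

/-! Orbits of a Sylow `2`-subgroup of `S_n` or `A_n` have pairwise distinct sizes; counting by
orbits. -/

namespace Cfsg.Agent.Lib.Helper38.SelfNorm

open Equiv Equiv.Perm
open Cfsg.Agent.Lib.Helper61.Miller (IsSyl)
open Cfsg.Agent.Lib.Helper38.SylThree (setStab mem_setStab_of_forall)
open Cfsg.Agent.Lib.Helper38.SylTwo

variable {α : Type*} [Fintype α] [DecidableEq α]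

/-- the stabiliser of a finset in a group containing the alternating group is transitive on it -/
theorem stab_transitive (G : Subgroup (Perm α)) (hA : alternatingGroup α ≤ G)
    (hG : G = ⊤ ∨ 4 ≤ Fintype.card α) (Δ : Finset α) :
    ∀ u ∈ Δ, ∀ v ∈ Δ, ∃ h ∈ G ⊓ setStab Δ, h u = v := by
  classical
  intro u hu v hv
  by_cases huv : u = v
  · exact ⟨1, Subgroup.one_mem _, by simp [huv]⟩
  rcases hG with hG | hG
  · refine ⟨swap u v, ⟨by rw [hG]; trivial, ?_⟩, swap_apply_left u v⟩
    apply mem_setStab_of_forall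
    intro x hx
    by_cases hxu : x = u
    · rw [hxu, swap_apply_left]; exact hv
    · by_cases hxv : x = v
      · rw [hxv, swap_apply_right]; exact hu
      · rw [swap_apply_of_ne_of_ne hxu hxv]; exact hx
  · by_cases h3 : 3 ≤ Δ.card
    · obtain ⟨w, hw, hwu, hwv⟩ := exists_third Δ h3 u v
      refine ⟨swap u w * swap u v, ⟨hA (threeCycle_mem_alt (Ne.symm hwu) huv hwv), ?_⟩,
        cyc3_apply huv (Ne.symm hwv)⟩
      apply mem_setStab_of_forall
      intro x hx
      rw [Perm.mul_apply]
      by_cases hxu : x = u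
      · rw [hxu, swap_apply_left, swap_apply_of_ne_of_ne (Ne.symm huv) (Ne.symm hwv)]; exact hv
      · by_cases hxv : x = v
        · rw [hxv, swap_apply_right, swap_apply_left]; exact hw
        · rw [swap_apply_of_ne_of_ne hxu hxv]
          by_cases hxw : x = w
          · rw [hxw, swap_apply_right]; exact hu
          · rw [swap_apply_of_ne_of_ne hxu hxw]; exact hx
    · -- Δ = {u, v}; pick two points outside
      have hΔ : Δ = {u, v} := by
        symm
        apply Finset.eq_of_subset_of_card_le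
        · intro x hx
          simp only [Finset.mem_insert, Finset.mem_singleton] at hx
          rcases hx with rfl | rfl <;> assumption
        · rw [Finset.card_pair huv]; omega
      have hc : 2 ≤ Δᶜ.card := by
        rw [Finset.card_compl, hΔ, Finset.card_pair huv]; omega
      obtain ⟨a, ha, b, hb, hab⟩ := Finset.one_lt_card.mp hc
      rw [Finset.mem_compl, hΔ] at ha hb
      simp only [Finset.mem_insert, Finset.mem_singleton, not_or] at ha hb
      refine ⟨swap u v * swap a b, ⟨hA (swap_mul_swap_mem_alt huv hab), ?_⟩, ?_⟩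
      · apply mem_setStab_of_forall
        intro x hx
        rw [hΔ] at hx ⊢
        simp only [Finset.mem_insert, Finset.mem_singleton] at hx ⊢
        rw [Perm.mul_apply]
        rcases hx with rfl | rfl
        · rw [swap_apply_of_ne_of_ne (Ne.symm ha.1) (Ne.symm hb.1), swap_apply_left]; right; rfl
        · rw [swap_apply_of_ne_of_ne (Ne.symm ha.2) (Ne.symm hb.2), swap_apply_right]; left; rfl
      · rw [Perm.mul_apply, swap_apply_of_ne_of_ne (Ne.symm ha.1) (Ne.symm hb.1), swap_apply_left]

/-- membership in an orbit is symmetric-transitive: equal orbits -/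
theorem orb_eq_of_mem {R : Subgroup (Perm α)} {x y : α} (hy : y ∈ orb R x) : orb R y = orb R x := by
  obtain ⟨r, hr, rfl⟩ := mem_orb.mp hy
  ext w
  rw [mem_orb, mem_orb]
  constructor
  · rintro ⟨s, hs, rfl⟩
    exact ⟨s * r, R.mul_mem hs hr, rfl⟩
  · rintro ⟨s, hs, rfl⟩
    refine ⟨s * r⁻¹, R.mul_mem hs (R.inv_mem hr), ?_⟩
    simp

/-- **Distinct orbit sizes.** Two orbits of a Sylow `2`-subgroup of `S_n` or `A_n` of the same
size coincide. -/
theorem orb_distinct (G : Subgroup (Perm α)) (hA : alternatingGroup α ≤ G)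
    (hG : G = ⊤ ∨ 4 ≤ Fintype.card α) (S : Subgroup (Perm α)) (hS : IsSyl 2 G S) (x y : α)
    (hcard : (orb S x).card = (orb S y).card) : y ∈ orb S x := by
  classical
  have : Fact (Nat.Prime 2) := ⟨Nat.prime_two⟩
  by_contra hy
  obtain ⟨k, hk⟩ := card_orb_pow S hS.isPGroup x
  set Δ : Finset α := orb S x ∪ orb S y with hΔ
  have hΔcard : Δ.card = 2 ^ (k + 1) := by
    rw [hΔ, Finset.card_union_of_disjoint (orb_disjoint hy), ← hcard, hk]; ring
  have hinvS : ∀ r ∈ S, ∀ w ∈ Δ, r w ∈ Δ := by
    intro r hr w hw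
    rw [hΔ, Finset.mem_union] at hw ⊢
    rcases hw with hw | hw
    · exact Or.inl (orb_inv S x r hr w hw)
    · exact Or.inr (orb_inv S y r hr w hw)
  have hSH : S ≤ G ⊓ setStab Δ := fun r hr =>
    ⟨hS.1 hr, mem_setStab_of_forall Δ r (hinvS r hr)⟩
  have hS' : IsSyl 2 (G ⊓ setStab Δ) S := IsSyl.of_le hS hSH inf_le_left
  have hinv : ∀ h ∈ G ⊓ setStab Δ, ∀ w ∈ Δ, h w ∈ Δ := fun h hh w hw => (hh.2 w).mpr hw
  have htr := stab_transitive G hA hG Δ
  obtain ⟨r, hr, hrxy⟩ := syl_transitive hS' Δ (k + 1) hΔcard hinv htr x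
    (by rw [hΔ, Finset.mem_union]; exact Or.inl (self_mem_orb S x)) y
    (by rw [hΔ, Finset.mem_union]; exact Or.inr (self_mem_orb S y))
  exact hy (mem_orb.mpr ⟨r, hr, hrxy⟩)

/-- counting by orbits: a common divisor of all orbit sizes divides the degree -/
theorem dvd_card_of_orb (R : Subgroup (Perm α)) (d : ℕ) (h : ∀ x, d ∣ (orb R x).card) :
    d ∣ Fintype.card α := by
  classical
  rw [← Finset.card_univ, Finset.card_eq_sum_card_image (fun x => orb R x) Finset.univ]
  apply Finset.dvd_sum
  intro O hO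
  obtain ⟨x, -, rfl⟩ := Finset.mem_image.mp hO
  have : Finset.univ.filter (fun y => orb R y = orb R x) = orb R x := by
    ext y
    simp only [Finset.mem_filter, Finset.mem_univ, true_and]
    constructor
    · intro hy
      rw [← hy]; exact self_mem_orb R y
    · exact orb_eq_of_mem
  rw [this]
  exact h x

/-- a `2`-group has an orbit whose size divides all orbit sizes, hence the degree -/
theorem exists_min_orb [Nonempty α] (R : Subgroup (Perm α)) (hR : IsPGroup 2 R) :
    ∃ x, (∀ y, (orb R x).card ∣ (orb R y).card) ∧ (orb R x).card ∣ Fintype.card α := by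
  classical
  obtain ⟨x, -, hx⟩ := Finset.exists_min_image (Finset.univ : Finset α) (fun y => (orb R y).card)
    Finset.univ_nonempty
  have h1 : ∀ y, (orb R x).card ∣ (orb R y).card := by
    intro y
    obtain ⟨a, ha⟩ := card_orb_pow R hR x
    obtain ⟨b, hb⟩ := card_orb_pow R hR y
    have hle := hx y (Finset.mem_univ y)
    rw [ha, hb] at hle ⊢
    exact pow_dvd_pow 2 ((Nat.pow_le_pow_iff_right (by norm_num)).mp hle)
  exact ⟨x, h1, dvd_card_of_orb R _ h1⟩

/-- an element normalising `R` maps orbits to orbits -/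
theorem orb_conj (R : Subgroup (Perm α)) (g : Perm α)
    (hg : g ∈ Subgroup.normalizer (R : Set (Perm α))) (x : α) :
    orb R (g x) = (orb R x).image g := by
  ext w
  rw [mem_orb, Finset.mem_image]
  constructor
  · rintro ⟨r, hr, rfl⟩
    refine ⟨(g⁻¹ * r * g) x, mem_orb.mpr ⟨g⁻¹ * r * g, ?_, rfl⟩, by simp⟩
    have := (Subgroup.mem_normalizer_iff.mp (Subgroup.inv_mem _ hg) r).mp hr
    simpa using this
  · rintro ⟨y, hy, rfl⟩
    obtain ⟨r, hr, rfl⟩ := mem_orb.mp hy
    refine ⟨g * r * g⁻¹, (Subgroup.mem_normalizer_iff.mp hg r).mp hr, by simp⟩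

theorem card_orb_conj (R : Subgroup (Perm α)) (g : Perm α)
    (hg : g ∈ Subgroup.normalizer (R : Set (Perm α))) (x : α) :
    (orb R (g x)).card = (orb R x).card := by
  rw [orb_conj R g hg x, Finset.card_image_of_injective _ g.injective]

end Cfsg.Agent.Lib.Helper38.SelfNorm
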