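import Mathlib
import Cfsg.Agent.Lib.Helper38.SelfNormA

set_option autoImplicit false
set_option linter.unusedSectionVars false

/-! Restriction to a point stabiliser: an element of odd prime order normalising a Sylow
`2`-subgroup of `S_n` or `A_n` fixes a point of the smallest orbit, and the point stabiliser is a
Sylow `2`-subgroup of the corresponding group on the remaining points. -/

namespace Cfsg.Agent.Lib.Helper38.SelfNorm

open Equiv Equiv.Perm
open Cfsg.Agent.Lib.Helper61.Miller (IsSyl)
open Cfsg.Agent.Lib.Helper38.SylTwo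

variable {α : Type*} [Fintype α] [DecidableEq α]

/-- the embedding of the symmetric group on the complement of a point -/
noncomputable def ι (x : α) : Perm {y : α // y ≠ x} →* Perm α := Perm.ofSubtype

omit [Fintype α] in
theorem ι_injective (x : α) : Function.Injective (ι x) := Perm.ofSubtype_injective

omit [Fintype α] in
theorem ι_apply_self (x : α) (σ : Perm {y : α // y ≠ x}) : ι x σ x = x :=
  Perm.ofSubtype_apply_of_not_mem σ (by simp)

omit [Fintype α] in
/-- a permutation fixing `x` comes from the complement -/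
theorem exists_ι_eq (x : α) (g : Perm α) (hg : g x = x) : ∃ σ, ι x σ = g := by
  have h1 : ∀ y, g y ≠ x ↔ y ≠ x := by
    intro y
    rw [not_iff_not]
    constructor
    · intro h; apply g.injective; rw [h, hg]
    · intro h; rw [h, hg]
  refine ⟨g.subtypePerm h1, ?_⟩
  apply Perm.ofSubtype_subtypePerm
  intro y hy hyx
  exact hy (hyx ▸ hg)

/-- orbit-stabiliser for the pulled back subgroup -/
theorem card_comap_mul_orb (S : Subgroup (Perm α)) (x : α) :
    Nat.card (S.comap (ι x)) * (orb S x).card = Nat.card S := by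
  have h1 : (orb S x).card = (MulAction.stabilizer ↥S x).index := by
    rw [MulAction.index_stabilizer, ← coe_orb, Set.ncard_coe_finset]
  have h2 : Nat.card (S.comap (ι x)) = Nat.card (MulAction.stabilizer ↥S x) := by
    let φ : S.comap (ι x) → MulAction.stabilizer ↥S x := fun σ =>
      ⟨⟨ι x σ.1, σ.2⟩, by
        rw [MulAction.mem_stabilizer_iff]
        exact ι_apply_self x σ.1⟩
    apply Nat.card_congr (Equiv.ofBijective φ ⟨?_, ?_⟩)
    · intro a b hab
      have := congrArg (fun t : MulAction.stabilizer ↥S x => ((t : ↥S) : Perm α)) hab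
      exact Subtype.ext (ι_injective x this)
    · intro t
      have ht : ((t : ↥S) : Perm α) x = x := MulAction.mem_stabilizer_iff.mp t.2
      obtain ⟨σ, hσ⟩ := exists_ι_eq x ((t : ↥S) : Perm α) ht
      refine ⟨⟨σ, by rw [Subgroup.mem_comap, hσ]; exact (t : ↥S).2⟩, ?_⟩
      exact Subtype.ext (Subtype.ext hσ)
  rw [h2, h1, mul_comm, Subgroup.index_mul_card]

theorem comap_alt (x : α) :
    (alternatingGroup α).comap (ι x) = alternatingGroup {y : α // y ≠ x} := by
  ext σ
  rw [Subgroup.mem_comap, Perm.mem_alternatingGroup, Perm.mem_alternatingGroup]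
  have : Perm.sign (ι x σ) = Perm.sign σ := Perm.sign_ofSubtype σ
  rw [this]

theorem card_compl_point (x : α) : Fintype.card {y : α // y ≠ x} = Fintype.card α - 1 := by
  rw [Fintype.card_subtype_compl, Fintype.card_subtype_eq]

theorem fact_top (n : ℕ) (hn : 1 ≤ n) :
    (n.factorial).factorization 2 = ((n - 1).factorial).factorization 2 + n.factorization 2 := by
  obtain ⟨m, rfl⟩ : ∃ m, n = m + 1 := ⟨n - 1, by omega⟩
  rw [Nat.factorial_succ, Nat.factorization_mul (by omega) (Nat.factorial_ne_zero m),
    Finsupp.add_apply, Nat.add_sub_cancel, add_comm]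

theorem fact_alt (n : ℕ) (hn : 3 ≤ n) :
    (n.factorial / 2).factorization 2 =
      ((n - 1).factorial / 2).factorization 2 + n.factorization 2 := by
  obtain ⟨m, rfl⟩ : ∃ m, n = m + 1 := ⟨n - 1, by omega⟩
  have h2 : 2 ∣ m.factorial := Nat.dvd_factorial (by norm_num) (by omega)
  have hne : m.factorial / 2 ≠ 0 := by
    obtain ⟨c, hc⟩ := h2
    have := Nat.factorial_pos m
    rw [hc, Nat.mul_div_cancel_left _ (by norm_num : 0 < 2)]
    omega
  rw [Nat.factorial_succ, Nat.mul_div_assoc _ h2, Nat.factorization_mul (by omega) hne,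
    Finsupp.add_apply, Nat.add_sub_cancel, add_comm]

theorem fact_two (n : ℕ) (hn : 2 ≤ n) :
    (n.factorial).factorization 2 = (n.factorial / 2).factorization 2 + 1 := by
  have h2 : 2 ∣ n.factorial := Nat.dvd_factorial (by norm_num) hn
  obtain ⟨c, hc⟩ := h2
  have hpos := Nat.factorial_pos n
  have hc0 : c ≠ 0 := by rintro rfl; omega
  rw [hc, Nat.mul_div_cancel_left _ (by norm_num : 0 < 2), Nat.factorization_mul (by norm_num) hc0,
    Finsupp.add_apply, Nat.prime_two.factorization_self, add_comm]

theorem card_top_perm : Nat.card (⊤ : Subgroup (Perm α)) = (Fintype.card α).factorial := by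
  rw [Subgroup.card_top, Nat.card_perm, Nat.card_eq_fintype_card]

theorem card_alt [Nontrivial α] :
    Nat.card (alternatingGroup α) = (Fintype.card α).factorial / 2 := by
  rw [nat_card_alternatingGroup, Nat.card_eq_fintype_card]

/-- the `2`-adic valuation of the order drops by that of the degree -/
theorem val_comap (G : Subgroup (Perm α))
    (hG : G = ⊤ ∨ (G = alternatingGroup α ∧ 4 ≤ Fintype.card α)) (x : α) :
    (Nat.card G).factorization 2 =
      (Nat.card (G.comap (ι x))).factorization 2 + (Fintype.card α).factorization 2 := by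
  have hpos : 1 ≤ Fintype.card α := Fintype.card_pos_iff.mpr ⟨x⟩
  rcases hG with rfl | ⟨rfl, h4⟩
  · rw [Subgroup.comap_top, card_top_perm, card_top_perm, card_compl_point]
    exact fact_top _ hpos
  · have : Nontrivial α := Fintype.one_lt_card_iff_nontrivial.mp (by omega)
    have : Nontrivial {y : α // y ≠ x} :=
      Fintype.one_lt_card_iff_nontrivial.mp (by rw [card_compl_point]; omega)
    rw [comap_alt, card_alt, card_alt, card_compl_point]
    exact fact_alt _ (by omega)

/-- **The inductive step.** -/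
theorem step (G : Subgroup (Perm α))
    (hG : G = ⊤ ∨ (G = alternatingGroup α ∧ 4 ≤ Fintype.card α))
    (S : Subgroup (Perm α)) (hS : IsSyl 2 G S) (g : Perm α)
    (hg : g ∈ Subgroup.normalizer (S : Set (Perm α))) (p : ℕ) (hp : p.Prime) (hp2 : p ≠ 2)
    (hord : orderOf g = p) [Nonempty α] :
    ∃ x, g x = x ∧ (∀ y ∈ orb S x, g y ∈ orb S x) ∧
      (orb S x).card = 2 ^ (Fintype.card α).factorization 2 ∧
      IsSyl 2 (G.comap (ι x)) (S.comap (ι x)) := by
  classical
  have : Fact (Nat.Prime 2) := ⟨Nat.prime_two⟩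
  have : Fact p.Prime := ⟨hp⟩
  have hA : alternatingGroup α ≤ G := by
    rcases hG with h | h
    · rw [h]; exact le_top
    · rw [h.1]
  have hG' : G = ⊤ ∨ 4 ≤ Fintype.card α := by
    rcases hG with h | h
    · exact Or.inl h
    · exact Or.inr h.2
  obtain ⟨x0, hmin, hdvd⟩ := exists_min_orb S hS.isPGroup
  have hgx0 : g x0 ∈ orb S x0 :=
    orb_distinct G hA hG' S hS x0 (g x0) (card_orb_conj S g hg x0).symm
  have hginv : g⁻¹ x0 ∈ orb S x0 :=
    orb_distinct G hA hG' S hS x0 (g⁻¹ x0)
      (card_orb_conj S g⁻¹ (Subgroup.inv_mem _ hg) x0).symm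
  have hinv : ∀ h ∈ Subgroup.normalizer (S : Set (Perm α)), h x0 ∈ orb S x0 →
      ∀ y ∈ orb S x0, h y ∈ orb S x0 := by
    intro h hh hx y hy
    have : h y ∈ orb S (h x0) := by
      rw [orb_conj S h hh x0]; exact Finset.mem_image_of_mem _ hy
    rwa [orb_eq_of_mem hx] at this
  have hiff : ∀ y, g y ∈ orb S x0 ↔ y ∈ orb S x0 := by
    intro y
    constructor
    · intro h
      have := hinv g⁻¹ (Subgroup.inv_mem _ hg) hginv (g y) h
      simpa using this
    · exact hinv g hg hgx0 y
  obtain ⟨b0, hb0⟩ := card_orb_pow S hS.isPGroup x0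
  -- a fixed point of `g` on the orbit
  obtain ⟨x, hx, hgx⟩ : ∃ x ∈ orb S x0, g x = x := by
    have hnd : ¬ p ∣ Fintype.card {y : α // y ∈ orb S x0} := by
      rw [Fintype.card_coe, hb0]
      intro hdv
      exact hp2 ((Nat.prime_dvd_prime_iff_eq hp Nat.prime_two).mp (hp.dvd_of_dvd_pow hdv))
    have hpow : (g.subtypePerm hiff) ^ p ^ 1 = 1 := by
      rw [pow_one, Perm.subtypePerm_pow]
      ext y
      have : g ^ p = 1 := by rw [← hord]; exact pow_orderOf_eq_one g
      simp [this]
    obtain ⟨a, ha⟩ := Perm.exists_fixed_point_of_prime hnd hpow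
    refine ⟨a.1, a.2, ?_⟩
    have := congrArg Subtype.val ha
    simpa using this
  have horb : orb S x = orb S x0 := orb_eq_of_mem hx
  refine ⟨x, hgx, ?_, ?_⟩
  · rw [horb]; exact fun y hy => (hiff y).mpr hy
  -- the Sylow computation
  have hcm := card_comap_mul_orb S x
  have hval := val_comap G hG x
  have hSc : Nat.card S = 2 ^ (Nat.card G).factorization 2 := hS.2
  rw [horb, hb0] at hcm
  have hb1 : b0 ≤ (Fintype.card α).factorization 2 := by
    apply (Nat.prime_two.pow_dvd_iff_le_factorization Fintype.card_ne_zero).mp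
    rw [← hb0]; exact hdvd
  obtain ⟨c, -, hcc⟩ := (Nat.dvd_prime_pow Nat.prime_two).mp (Dvd.intro _ (hcm.trans hSc))
  have hcb : c + b0 = (Nat.card G).factorization 2 := by
    rw [hcc, hSc, ← pow_add] at hcm
    exact Nat.pow_right_injective (le_refl 2) hcm
  have hle : S.comap (ι x) ≤ G.comap (ι x) := Subgroup.comap_mono hS.1
  have hc1 : c ≤ (Nat.card (G.comap (ι x))).factorization 2 := by
    apply (Nat.prime_two.pow_dvd_iff_le_factorization (Nat.card_pos.ne')).mp
    rw [← hcc]; exact Subgroup.card_dvd_of_le hle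
  refine ⟨?_, hle, ?_⟩
  · rw [horb, hb0]; congr 1; omega
  · rw [hcc]; congr 1; omega

end Cfsg.Agent.Lib.Helper38.SelfNorm
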