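import Mathlib
import Cfsg.Agent.Lib.Helper38.SelfNormB

set_option autoImplicit false
set_option linter.unusedSectionVars false

/-! No element of odd prime order normalises a Sylow `2`-subgroup of `S_n` (any `n`) or of `A_n`
(`n ≥ 6`). -/

namespace Cfsg.Agent.Lib.Helper38.SelfNorm

open Equiv Equiv.Perm
open Cfsg.Agent.Lib.Helper61.Miller (IsSyl)
open Cfsg.Agent.Lib.Helper38.SylTwo

universe u

/-- transfer of the normalising element to the complement of a fixed point -/
theorem restrict_elt {α : Type u} [Fintype α] [DecidableEq α] (S : Subgroup (Perm α)) (g : Perm α)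
    (hg : g ∈ Subgroup.normalizer (S : Set (Perm α))) (x : α) (hgx : g x = x) :
    ∃ g' : Perm {y : α // y ≠ x}, orderOf g' = orderOf g ∧
      g' ∈ Subgroup.normalizer ((S.comap (ι x) : Subgroup _) : Set (Perm {y : α // y ≠ x})) := by
  obtain ⟨g', hg'⟩ := exists_ι_eq x g hgx
  refine ⟨g', ?_, ?_⟩
  · rw [← hg']; exact (orderOf_injective (ι x) (ι_injective x) g').symm
  · rw [Subgroup.mem_normalizer_iff]
    intro σ
    rw [Subgroup.mem_comap, Subgroup.mem_comap, map_mul, map_mul, map_inv, hg']
    exact Subgroup.mem_normalizer_iff.mp hg _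

/-- **Sylow `2`-subgroups of symmetric groups** are normalised by no element of odd prime
order. -/
theorem sym_case : ∀ (n : ℕ) (α : Type u) [Fintype α] [DecidableEq α], Fintype.card α = n →
    ∀ (S : Subgroup (Perm α)), IsSyl 2 ⊤ S → ∀ g ∈ Subgroup.normalizer (S : Set (Perm α)),
    ∀ p : ℕ, p.Prime → p ≠ 2 → orderOf g = p → False := by
  intro n
  induction n with
  | zero =>
    intro α _ _ hcard S hS g hg p hp hp2 hord
    have : IsEmpty α := Fintype.card_eq_zero_iff.mp hcard
    have : g = 1 := Subsingleton.elim _ _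
    rw [this, orderOf_one] at hord
    exact hp.one_lt.ne hord
  | succ n ih =>
    intro α _ _ hcard S hS g hg p hp hp2 hord
    have : Nonempty α := Fintype.card_pos_iff.mp (by omega)
    obtain ⟨x, hgx, -, -, hS'⟩ := step ⊤ (Or.inl rfl) S hS g hg p hp hp2 hord
    rw [Subgroup.comap_top] at hS'
    obtain ⟨g', ho, hn⟩ := restrict_elt S g hg x hgx
    exact ih {y : α // y ≠ x} (by rw [card_compl_point, hcard]; rfl) _ hS' g' hn p hp hp2
      (ho.trans hord)

theorem mem_normalizer_sup {Γ : Type*} [Group Γ] {A B : Subgroup Γ} {g : Γ}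
    (hA : g ∈ Subgroup.normalizer (A : Set Γ)) (hB : g ∈ Subgroup.normalizer (B : Set Γ)) :
    g ∈ Subgroup.normalizer ((A ⊔ B : Subgroup Γ) : Set Γ) := by
  have key : ∀ k : Γ, k ∈ Subgroup.normalizer (A : Set Γ) → k ∈ Subgroup.normalizer (B : Set Γ) →
      ∀ h ∈ A ⊔ B, k * h * k⁻¹ ∈ A ⊔ B := by
    intro k hkA hkB h hh
    have : A ⊔ B ≤ (A ⊔ B).comap (MulAut.conj k).toMonoidHom := by
      apply sup_le
      · intro a ha
        rw [Subgroup.mem_comap]
        exact Subgroup.mem_sup_left ((Subgroup.mem_normalizer_iff.mp hkA a).mp ha)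
      · intro a ha
        rw [Subgroup.mem_comap]
        exact Subgroup.mem_sup_right ((Subgroup.mem_normalizer_iff.mp hkB a).mp ha)
    exact this hh
  rw [Subgroup.mem_normalizer_iff]
  intro h
  constructor
  · exact key g hA hB h
  · intro hh
    have := key g⁻¹ (Subgroup.inv_mem _ hA) (Subgroup.inv_mem _ hB) _ hh
    simpa [mul_assoc] using this

theorem factorization_six : (6 : ℕ).factorization 2 = 1 := by
  rw [show (6 : ℕ) = 2 * 3 by norm_num, Nat.factorization_mul (by norm_num) (by norm_num),
    Finsupp.add_apply, Nat.prime_two.factorization_self,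
    Nat.factorization_eq_zero_of_not_dvd (by norm_num)]

/-- the base case of the alternating induction, reduced to the symmetric group -/
theorem alt_six (α : Type u) [Fintype α] [DecidableEq α] (hcard : Fintype.card α = 6)
    (S : Subgroup (Perm α)) (hS : IsSyl 2 (alternatingGroup α) S) (g : Perm α)
    (hg : g ∈ Subgroup.normalizer (S : Set (Perm α))) (p : ℕ) (hp : p.Prime) (hp2 : p ≠ 2)
    (hord : orderOf g = p) : False := by
  classical
  have : Fact (Nat.Prime 2) := ⟨Nat.prime_two⟩
  have : Nonempty α := Fintype.card_pos_iff.mp (by omega)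
  have : Nontrivial α := Fintype.one_lt_card_iff_nontrivial.mp (by omega)
  obtain ⟨x, hgx, hginv, hoc, -⟩ :=
    step (alternatingGroup α) (Or.inr ⟨rfl, by omega⟩) S hS g hg p hp hp2 hord
  rw [hcard, factorization_six, pow_one] at hoc
  obtain ⟨x', hx'x, hO⟩ : ∃ x', x' ≠ x ∧ orb S x = {x, x'} := by
    obtain ⟨a, b, hab, hO⟩ := Finset.card_eq_two.mp hoc
    have hx := self_mem_orb S x
    rw [hO] at hx
    simp only [Finset.mem_insert, Finset.mem_singleton] at hx
    rcases hx with rfl | rfl
    · exact ⟨b, Ne.symm hab, hO⟩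
    · exact ⟨a, hab, by rw [hO, Finset.pair_comm]⟩
  set t : Perm α := swap x x' with ht
  have hcomm : ∀ h : Perm α, (∀ y ∈ orb S x, h y ∈ orb S x) → h * t = t * h := by
    intro h hh
    have h1 := hh x (self_mem_orb S x)
    have h2 := hh x' (by rw [hO]; simp)
    rw [hO] at h1 h2
    simp only [Finset.mem_insert, Finset.mem_singleton] at h1 h2
    have hne : h x ≠ h x' := fun e => hx'x (h.injective e).symm
    have key : h * t * h⁻¹ = t := by
      rw [ht, ← Equiv.swap_apply_apply]
      rcases h1 with h1 | h1 <;> rcases h2 with h2 | h2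
      · exact absurd (h1.trans h2.symm) hne
      · rw [h1, h2]
      · rw [h1, h2, swap_comm]
      · exact absurd (h1.trans h2.symm) hne
    calc h * t = h * t * h⁻¹ * h := by group
      _ = t * h := by rw [key]
  have htS : ∀ s ∈ S, s * t = t * s := fun s hs => hcomm s (orb_inv S x s hs)
  have htg : g * t = t * g := hcomm g hginv
  have htc : t ∈ Subgroup.centralizer (S : Set (Perm α)) := by
    rw [Subgroup.mem_centralizer_iff]
    intro s hs
    exact htS s hs
  have htn : t ∈ Subgroup.normalizer (S : Set (Perm α)) :=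
    Subgroup.centralizer_le_normalizer (S : Set (Perm α)) htc
  have htnot : t ∉ S := by
    intro h
    have := hS.1 h
    rw [Perm.mem_alternatingGroup, ht, Perm.sign_swap (Ne.symm hx'x)] at this
    exact absurd this (by decide)
  have hzp : IsPGroup 2 (Subgroup.zpowers t) := by
    apply IsPGroup.of_card (n := 1)
    rw [Nat.card_zpowers, Equiv.Perm.IsSwap.orderOf ⟨x, x', Ne.symm hx'x, ht⟩, pow_one]
  have hT2 : IsPGroup 2 (S ⊔ Subgroup.zpowers t : Subgroup (Perm α)) := by
    rw [sup_comm]
    exact IsPGroup.to_sup_of_normal_right' hzp hS.isPGroup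
      (by rw [Subgroup.zpowers_le]; exact htn)
  obtain ⟨j, hj⟩ := IsPGroup.iff_card.mp hT2
  have hST : S ≤ S ⊔ Subgroup.zpowers t := le_sup_left
  have hlt : Nat.card S < Nat.card (S ⊔ Subgroup.zpowers t : Subgroup (Perm α)) := by
    apply lt_of_le_of_ne (Subgroup.card_le_of_le hST)
    intro heq
    have := Subgroup.eq_of_le_of_card_ge hST heq.ge
    apply htnot
    rw [this]
    exact Subgroup.mem_sup_right (Subgroup.mem_zpowers t)
  have hv := fact_two (Fintype.card α) (by omega)
  have hcA : Nat.card (alternatingGroup α) = (Fintype.card α).factorial / 2 := card_alt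
  have hcT : Nat.card (⊤ : Subgroup (Perm α)) = (Fintype.card α).factorial := card_top_perm
  have hSc : Nat.card S = 2 ^ (Nat.card (alternatingGroup α)).factorization 2 := hS.2
  have hj1 : j ≤ (Nat.card (⊤ : Subgroup (Perm α))).factorization 2 := by
    apply (Nat.prime_two.pow_dvd_iff_le_factorization (Nat.card_pos.ne')).mp
    rw [← hj]
    exact Subgroup.card_dvd_of_le le_top
  have hj2 : (Nat.card (alternatingGroup α)).factorization 2 < j := by
    rw [hSc, hj] at hlt
    exact (Nat.pow_lt_pow_iff_right (by norm_num)).mp hlt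
  have hT : IsSyl 2 ⊤ (S ⊔ Subgroup.zpowers t : Subgroup (Perm α)) := by
    refine ⟨le_top, ?_⟩
    rw [hj]
    congr 1
    rw [hcT] at hj1 ⊢
    rw [hcA] at hj2
    omega
  have hgz : g ∈ Subgroup.normalizer ((Subgroup.zpowers t : Subgroup (Perm α)) : Set (Perm α)) := by
    apply Subgroup.centralizer_le_normalizer ((Subgroup.zpowers t : Subgroup (Perm α)) : Set (Perm α))
    rw [Subgroup.mem_centralizer_iff]
    intro h hh
    obtain ⟨k, rfl⟩ := Subgroup.mem_zpowers_iff.mp hh
    exact ((Commute.zpow_left (show Commute t g from htg.symm) k)).eq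
  exact sym_case 6 α hcard _ hT g (mem_normalizer_sup hg hgz) p hp hp2 hord

/-- **Sylow `2`-subgroups of alternating groups of degree at least six** are normalised by no
element of odd prime order of the symmetric group. -/
theorem alt_case : ∀ (n : ℕ), 6 ≤ n → ∀ (α : Type u) [Fintype α] [DecidableEq α],
    Fintype.card α = n → ∀ (S : Subgroup (Perm α)), IsSyl 2 (alternatingGroup α) S →
    ∀ g ∈ Subgroup.normalizer (S : Set (Perm α)),
    ∀ p : ℕ, p.Prime → p ≠ 2 → orderOf g = p → False := by
  intro n hn
  induction n, hn using Nat.le_induction with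
  | base =>
    intro α _ _ hcard S hS g hg p hp hp2 hord
    exact alt_six α hcard S hS g hg p hp hp2 hord
  | succ n hn ih =>
    intro α _ _ hcard S hS g hg p hp hp2 hord
    have : Nonempty α := Fintype.card_pos_iff.mp (by omega)
    obtain ⟨x, hgx, -, -, hS'⟩ :=
      step (alternatingGroup α) (Or.inr ⟨rfl, by omega⟩) S hS g hg p hp hp2 hord
    rw [comap_alt] at hS'
    obtain ⟨g', ho, hn'⟩ := restrict_elt S g hg x hgx
    exact ih {y : α // y ≠ x} (by rw [card_compl_point, hcard]; rfl) _ hS' g' hn' p hp hp2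
      (ho.trans hord)

end Cfsg.Agent.Lib.Helper38.SelfNorm
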