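import Mathlib
import Cfsg.Agent.Lib.Helper38.SelfNormC
import Cfsg.Agent.Lib.Helper71.Pronormal

set_option autoImplicit false
set_option linter.unusedSectionVars false

/-! Sylow `2`-subgroups of `S_n` and of `A_n` (`n ≥ 6`) are self-normalising; simple
pronormality criteria. -/

namespace Cfsg.Agent.Lib.Helper38.SelfNorm

open Equiv Equiv.Perm
open Cfsg.Agent.Lib.Helper61.Miller (IsSyl)
open Cfsg.Agent.Lib.Helper71.Pro

/-- an element normalising a Sylow `2`-subgroup lies in it, as soon as no element of odd prime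
order normalises it -/
theorem mem_sylow_of_normalizer {X : Type*} [Group X] [Finite X] (P : Sylow 2 X)
    (h : ∀ b ∈ Subgroup.normalizer ((P : Subgroup X) : Set X), ∀ p : ℕ, p.Prime → p ≠ 2 →
      orderOf b = p → False)
    (a : X) (ha : a ∈ Subgroup.normalizer ((P : Subgroup X) : Set X)) : a ∈ (P : Subgroup X) := by
  have ho : orderOf a ≠ 0 := (orderOf_pos a).ne'
  by_cases hodd : ∃ p : ℕ, p.Prime ∧ p ≠ 2 ∧ p ∣ orderOf a
  · obtain ⟨p, hp, hp2, hpd⟩ := hodd
    exact (h (a ^ (orderOf a / p)) (Subgroup.pow_mem _ ha _) p hp hp2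
      (orderOf_pow_orderOf_div ho hpd)).elim
  · push Not at hodd
    have hk : orderOf a = 2 ^ (orderOf a).primeFactorsList.length := by
      apply Nat.eq_prime_pow_of_unique_prime_dvd ho
      intro d hd hda
      by_contra hd2
      exact hodd d hd hd2 hda
    have hz : IsPGroup 2 (Subgroup.zpowers a) :=
      IsPGroup.of_card (n := (orderOf a).primeFactorsList.length) (by rw [Nat.card_zpowers, ← hk])
    have hi := hz.inf_normalizer_sylow P
    have ha' : a ∈ Subgroup.zpowers a ⊓ Subgroup.normalizer (P : Set X) :=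
      ⟨Subgroup.mem_zpowers a, ha⟩
    rw [hi] at ha'
    exact ha'.2

/-- **Sylow `2`-subgroups of alternating groups of degree at least six are self-normalising.** -/
theorem alt_sylow_normalizer (n : ℕ) (hn : 6 ≤ n) (P : Sylow 2 (alternatingGroup (Fin n))) :
    Subgroup.normalizer
      ((P : Subgroup (alternatingGroup (Fin n))) : Set (alternatingGroup (Fin n))) = P := by
  have : Fact (Nat.Prime 2) := ⟨Nat.prime_two⟩
  apply le_antisymm _ Subgroup.le_normalizer
  intro a ha
  apply mem_sylow_of_normalizer P _ a ha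
  intro b hb p hp hp2 hord
  have hS : IsSyl 2 (alternatingGroup (Fin n))
      ((P : Subgroup _).map (alternatingGroup (Fin n)).subtype) :=
    ⟨Subgroup.map_subtype_le _, by
      rw [Subgroup.card_map_of_injective (Subgroup.subtype_injective _)]
      exact P.card_eq_multiplicity⟩
  have hb' : (b : Perm (Fin n)) ∈ Subgroup.normalizer
      (((P : Subgroup _).map (alternatingGroup (Fin n)).subtype : Subgroup (Perm (Fin n))) :
        Set (Perm (Fin n))) :=
    Subgroup.le_normalizer_map _ (Subgroup.mem_map_of_mem _ hb)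
  exact alt_case n hn (Fin n) (Fintype.card_fin n) _ hS (b : Perm (Fin n)) hb' p hp hp2
    (by rw [Subgroup.orderOf_coe]; exact hord)

/-- **Sylow `2`-subgroups of symmetric groups are self-normalising.** -/
theorem sym_sylow_normalizer (n : ℕ) (P : Sylow 2 (Perm (Fin n))) :
    Subgroup.normalizer ((P : Subgroup (Perm (Fin n))) : Set (Perm (Fin n))) = P := by
  have : Fact (Nat.Prime 2) := ⟨Nat.prime_two⟩
  apply le_antisymm _ Subgroup.le_normalizer
  intro a ha
  apply mem_sylow_of_normalizer P _ a ha
  intro b hb p hp hp2 hord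
  have hS : IsSyl 2 ⊤ (P : Subgroup (Perm (Fin n))) :=
    ⟨le_top, by rw [Subgroup.card_top]; exact P.card_eq_multiplicity⟩
  exact sym_case n (Fin n) (Fintype.card_fin n) _ hS b hb p hp hp2 hord

/-- a subgroup of odd index contains a Sylow `2`-subgroup -/
theorem exists_sylow_le_of_odd_index {X : Type*} [Group X] [Finite X] (H : Subgroup X)
    (hH : Odd H.index) : ∃ P : Sylow 2 X, (P : Subgroup X) ≤ H := by
  have : Fact (Nat.Prime 2) := ⟨Nat.prime_two⟩
  obtain ⟨Q⟩ : Nonempty (Sylow 2 ↥H) := inferInstance
  have hcard : Nat.card ((Q : Subgroup ↥H).map H.subtype) = 2 ^ (Nat.card X).factorization 2 := by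
    rw [Subgroup.card_map_of_injective H.subtype_injective, Q.card_eq_multiplicity]
    congr 1
    have hi : H.index ≠ 0 := Subgroup.index_ne_zero_of_finite
    have h0 : H.index.factorization 2 = 0 :=
      Nat.factorization_eq_zero_of_not_dvd (fun h2 =>
        (Nat.not_even_iff_odd.mpr hH) (even_iff_two_dvd.mpr h2))
    rw [← H.index_mul_card, Nat.factorization_mul hi Nat.card_pos.ne', Finsupp.add_apply, h0,
      zero_add]
  exact ⟨Sylow.ofCard _ hcard, by rw [Sylow.coe_ofCard]; exact Subgroup.map_subtype_le _⟩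

/-- a subgroup with no proper overgroup other than the whole group is pronormal -/
theorem isPronormal_of_max {X : Type*} [Group X] [Finite X] (H : Subgroup X)
    (hmax : ∀ L : Subgroup X, H ≤ L → L = H ∨ L = ⊤) : Cfsg.IsPronormal H := by
  rw [isPronormal_iff]
  intro g
  have hmaxL := hmax (H ⊔ H.map (MulEquiv.toMonoidHom (MulAut.conj g))) le_sup_left
  rcases hmaxL with hL | hL
  · have hle : H.map (MulEquiv.toMonoidHom (MulAut.conj g)) ≤ H := by
      have : H.map (MulEquiv.toMonoidHom (MulAut.conj g)) ≤
          H ⊔ H.map (MulEquiv.toMonoidHom (MulAut.conj g)) := le_sup_right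
      rw [hL] at this
      exact this
    have heq : H.map (MulEquiv.toMonoidHom (MulAut.conj g)) = H :=
      Subgroup.eq_of_le_of_card_ge hle (le_of_eq (card_cj H g).symm)
    exact R_of_mem_normalizer ((cj_eq_iff_mem_normalizer H g).mp heq)
  · refine ⟨g, ?_, rfl⟩
    rw [hL]
    exact Subgroup.mem_top g

/-- a subgroup of index one or a prime is pronormal -/
theorem isPronormal_of_index {X : Type*} [Group X] [Finite X] (H : Subgroup X)
    (hq : H.index = 1 ∨ H.index.Prime) : Cfsg.IsPronormal H := by
  apply isPronormal_of_max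
  intro L hHL
  have hdvd := Subgroup.index_dvd_of_le hHL
  have hcases : L.index = 1 ∨ L.index = H.index := by
    rcases hq with h1 | hp
    · rw [h1] at hdvd
      exact Or.inl (Nat.dvd_one.mp hdvd)
    · exact (Nat.dvd_prime hp).mp hdvd
  rcases hcases with h | h
  · exact Or.inr (Subgroup.index_eq_one.mp h)
  · left
    symm
    apply Subgroup.eq_of_le_of_card_ge hHL
    have h1 := L.index_mul_card
    have h2 := H.index_mul_card
    rw [h, ← h2] at h1
    have hi : H.index ≠ 0 := Subgroup.index_ne_zero_of_finite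
    exact (Nat.eq_of_mul_eq_mul_left (Nat.pos_of_ne_zero hi) h1).le

/-- a `2`-subgroup of odd index is pronormal -/
theorem isPronormal_of_two_group {X : Type*} [Group X] [Finite X] (H : Subgroup X)
    (h2 : IsPGroup 2 H) (hH : Odd H.index) : Cfsg.IsPronormal H := by
  have : Fact (Nat.Prime 2) := ⟨Nat.prime_two⟩
  rw [isPronormal_iff]
  intro g
  have hidx : ¬ 2 ∣ H.relIndex (H ⊔ H.map (MulEquiv.toMonoidHom (MulAut.conj g))) := by
    intro hd
    have := dvd_trans hd (Subgroup.relIndex_dvd_index_of_le (le_sup_left :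
      H ≤ H ⊔ H.map (MulEquiv.toMonoidHom (MulAut.conj g))))
    exact (Nat.not_even_iff_odd.mpr hH) (even_iff_two_dvd.mpr this)
  exact exists_cj_eq_of_sylow le_sup_left h2 hidx le_sup_right

/-- odd-index subgroups of `A_5` are pronormal -/
theorem alt_five_pronormal (H : Subgroup (alternatingGroup (Fin 5))) (hH : Odd H.index) :
    Cfsg.IsPronormal H := by
  have hcard : Nat.card (alternatingGroup (Fin 5)) = 60 := by
    rw [nat_card_alternatingGroup, Nat.card_eq_fintype_card, Fintype.card_fin]
    rfl
  have hmul := H.index_mul_card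
  rw [hcard] at hmul
  have hd : H.index ∣ 15 := by
    have h1 : H.index ∣ 2 ^ 2 * 15 := ⟨Nat.card H, by omega⟩
    have hco : Nat.Coprime H.index (2 ^ 2) :=
      Nat.Coprime.pow_right 2 (Nat.coprime_two_right.mpr hH)
    exact hco.dvd_of_dvd_mul_left h1
  have hmem : H.index ∈ Nat.divisors 15 := Nat.mem_divisors.mpr ⟨hd, by norm_num⟩
  rw [show Nat.divisors 15 = {1, 3, 5, 15} by decide] at hmem
  simp only [Finset.mem_insert, Finset.mem_singleton] at hmem
  rcases hmem with h | h | h | h
  · exact isPronormal_of_index H (Or.inl h)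
  · exact isPronormal_of_index H (Or.inr (by rw [h]; norm_num))
  · exact isPronormal_of_index H (Or.inr (by rw [h]; norm_num))
  · apply isPronormal_of_two_group H _ hH
    apply IsPGroup.of_card (n := 2)
    rw [h] at hmul
    omega

end Cfsg.Agent.Lib.Helper38.SelfNorm
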