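import Mathlib

set_option autoImplicit false

/-! General group-theoretic tools for "solubilizer" computations. -/

namespace Cfsg.Agent.Lib.Helper38

section general
open scoped commutatorElement
variable {G : Type*} [Group G]

/-- A nontrivial solvable subgroup has a nontrivial abelian subgroup normalised by it. -/
theorem exists_abelian_normal_of_isSolvable (K : Subgroup G) [hK : Group.IsSolvable K]
    (hne : K ≠ ⊥) :
    ∃ A : Subgroup G, A ≤ K ∧ A ≠ ⊥ ∧ (∀ a ∈ A, ∀ b ∈ A, a * b = b * a) ∧
      (∀ h ∈ K, ∀ a ∈ A, h * a * h⁻¹ ∈ A) := by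
  classical
  have hex : ∃ n, derivedSeries K n = ⊥ := hK.solvable
  have h0 : derivedSeries K 0 ≠ ⊥ := by
    rw [derivedSeries_zero]
    intro h
    apply hne
    rw [eq_bot_iff]
    intro k hk
    have h1 : (⟨k, hk⟩ : K) ∈ (⊤ : Subgroup K) := Subgroup.mem_top _
    rw [h, Subgroup.mem_bot] at h1
    rw [Subgroup.mem_bot]
    exact congrArg Subtype.val h1
  have hpos : Nat.find hex ≠ 0 := by
    intro h
    have h1 := Nat.find_spec hex
    rw [h] at h1
    exact h0 h1
  obtain ⟨k, hk⟩ := Nat.exists_eq_succ_of_ne_zero hpos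
  have hD : derivedSeries K k ≠ ⊥ := Nat.find_min hex (by omega)
  have hDD : ⁅derivedSeries K k, derivedSeries K k⁆ = ⊥ := by
    have h1 := Nat.find_spec hex
    rw [hk, Nat.succ_eq_add_one, derivedSeries_succ] at h1
    exact h1
  have hnormal : (derivedSeries K k).Normal := derivedSeries_normal K k
  refine ⟨(derivedSeries K k).map K.subtype, ?_, ?_, ?_, ?_⟩
  · rintro _ ⟨a, _, rfl⟩
    exact a.2
  · intro h
    apply hD
    rw [eq_bot_iff]
    intro a ha
    have h1 : K.subtype a ∈ (derivedSeries K k).map K.subtype := ⟨a, ha, rfl⟩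
    rw [h, Subgroup.mem_bot] at h1
    rw [Subgroup.mem_bot]
    exact Subtype.ext h1
  · rintro _ ⟨a, ha, rfl⟩ _ ⟨b, hb, rfl⟩
    have h1 : ⁅a, b⁆ ∈ ⁅derivedSeries K k, derivedSeries K k⁆ :=
      Subgroup.commutator_mem_commutator ha hb
    rw [hDD, Subgroup.mem_bot, commutatorElement_eq_one_iff_mul_comm] at h1
    have := congrArg Subtype.val h1
    simpa using this
  · rintro h hh _ ⟨a, ha, rfl⟩
    refine ⟨⟨h, hh⟩ * a * ⟨h, hh⟩⁻¹, hnormal.conj_mem a ha _, ?_⟩
    simp

/-- transport of solvability of two-generated subgroups along an isomorphism. -/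
theorem isSolvable_closure_pair_iff {G' : Type*} [Group G'] (e : G ≃* G') (x y : G) :
    Group.IsSolvable (Subgroup.closure ({e x, e y} : Set G')) ↔
      Group.IsSolvable (Subgroup.closure ({x, y} : Set G)) := by
  have hmap : Subgroup.closure ({e x, e y} : Set G') =
      (Subgroup.closure ({x, y} : Set G)).map e.toMonoidHom := by
    rw [MonoidHom.map_closure]
    congr 1
    simp [Set.image_pair]
  rw [hmap]
  have f := Subgroup.equivMapOfInjective (Subgroup.closure ({x, y} : Set G)) e.toMonoidHom
    e.injective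
  constructor
  · intro h
    exact Group.isSolvable_of_surjective (f := f.symm.toMonoidHom) f.symm.surjective
  · intro h
    exact Group.isSolvable_of_surjective (f := f.toMonoidHom) f.surjective

/-- the solubilizer cardinality is invariant under isomorphisms. -/
theorem card_sol_congr {G' : Type*} [Group G'] (e : G ≃* G') (x : G) :
    Nat.card {y' : G' // Group.IsSolvable (Subgroup.closure ({e x, y'} : Set G'))} =
      Nat.card {y : G // Group.IsSolvable (Subgroup.closure ({x, y} : Set G))} := by
  symm
  apply Nat.card_congr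
  exact e.toEquiv.subtypeEquiv (fun y => (isSolvable_closure_pair_iff e x y).symm)

/-- the subgroup of elements centralising or inverting `x`. -/
def invNormalizer (x : G) : Subgroup G where
  carrier := {g | g * x * g⁻¹ = x ∨ g * x * g⁻¹ = x⁻¹}
  one_mem' := by left; simp
  mul_mem' := by
    intro g h hg hh
    have e : g * h * x * (g * h)⁻¹ = g * (h * x * h⁻¹) * g⁻¹ := by group
    rcases hh with hh | hh
    · rcases hg with hg | hg
      · left; rw [e, hh, hg]
      · right; rw [e, hh, hg]
    · have e2 : g * x⁻¹ * g⁻¹ = (g * x * g⁻¹)⁻¹ := by group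
      rcases hg with hg | hg
      · right; rw [e, hh, e2, hg]
      · left; rw [e, hh, e2, hg, inv_inv]
  inv_mem' := by
    intro g hg
    rcases hg with hg | hg
    · left
      calc g⁻¹ * x * g⁻¹⁻¹ = g⁻¹ * (g * x * g⁻¹) * g := by rw [hg, inv_inv]
        _ = x := by group
    · right
      have h1 : x = g⁻¹ * x⁻¹ * g := by rw [← hg]; group
      calc g⁻¹ * x * g⁻¹⁻¹ = (g⁻¹ * x⁻¹ * g)⁻¹ := by group
        _ = x⁻¹ := by rw [← h1]

theorem mem_invNormalizer (x g : G) :
    g ∈ invNormalizer x ↔ g * x * g⁻¹ = x ∨ g * x * g⁻¹ = x⁻¹ := Iff.rfl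

/-- the sign homomorphism of `invNormalizer x`. -/
noncomputable def invSign (x : G) (hx : x ≠ x⁻¹) : invNormalizer x →* ℤˣ where
  toFun g := by
    classical
    exact if g.1 * x * g.1⁻¹ = x then 1 else -1
  map_one' := by simp
  map_mul' := by
    classical
    intro g h
    have e : (g * h).1 * x * (g * h).1⁻¹ = g.1 * (h.1 * x * h.1⁻¹) * g.1⁻¹ := by
      simp only [Subgroup.coe_mul]; group
    have e2 : g.1 * x⁻¹ * g.1⁻¹ = (g.1 * x * g.1⁻¹)⁻¹ := by group
    rcases h.2 with hh | hh
    · rcases g.2 with hg | hg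
      · simp only [e, hh, hg, if_true, mul_one]
      · simp only [e, hh, hg, if_true, mul_one]
    · rcases g.2 with hg | hg
      · simp only [e, hh, e2, hg, if_true, hx.symm, if_false, one_mul]
      · simp only [e, hh, e2, hg, inv_inv, if_true, hx.symm, if_false]
        norm_num

theorem invSign_ker (x : G) (hx : x ≠ x⁻¹) (g : invNormalizer x) :
    g ∈ (invSign x hx).ker ↔ g.1 * x * g.1⁻¹ = x := by
  classical
  rw [MonoidHom.mem_ker]
  change (if g.1 * x * g.1⁻¹ = x then (1 : ℤˣ) else -1) = 1 ↔ _
  by_cases h : g.1 * x * g.1⁻¹ = x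
  · simp [h]
  · simp only [h, if_false, iff_false]
    decide

/-- `invNormalizer x` is solvable when the centraliser of `x` is commutative. -/
theorem isSolvable_invNormalizer (x : G) (hx : x ≠ x⁻¹)
    (hC : ∀ g h : G, g * x = x * g → h * x = x * h → g * h = h * g) :
    Group.IsSolvable (invNormalizer x) := by
  have hker : ∀ a b : (invSign x hx).ker, a * b = b * a := by
    intro a b
    have ha := (invSign_ker x hx a.1).mp a.2
    have hb := (invSign_ker x hx b.1).mp b.2
    have ha' : a.1.1 * x = x * a.1.1 := by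
      calc a.1.1 * x = (a.1.1 * x * a.1.1⁻¹) * a.1.1 := by group
        _ = x * a.1.1 := by rw [ha]
    have hb' : b.1.1 * x = x * b.1.1 := by
      calc b.1.1 * x = (b.1.1 * x * b.1.1⁻¹) * b.1.1 := by group
        _ = x * b.1.1 := by rw [hb]
    apply Subtype.ext
    apply Subtype.ext
    exact hC _ _ ha' hb'
  have : Group.IsSolvable (invSign x hx).ker := Group.isSolvable_of_comm hker
  exact Group.isSolvable_of_ker_le_range (invSign x hx).ker.subtype (invSign x hx) (by simp)

/-- if `x, y` both lie in a solvable subgroup, they generate a solvable subgroup. -/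
theorem isSolvable_closure_pair_of_le (S : Subgroup G) [Group.IsSolvable S] (x y : G)
    (hx : x ∈ S) (hy : y ∈ S) : Group.IsSolvable (Subgroup.closure ({x, y} : Set G)) := by
  have hle : Subgroup.closure ({x, y} : Set G) ≤ S := by
    rw [Subgroup.closure_le]
    intro z hz
    rcases hz with rfl | rfl
    · exact hx
    · exact hy
  exact Group.isSolvable_of_isSolvable_injective (f := Subgroup.inclusion hle)
    (Subgroup.inclusion_injective hle)

/-- the order of `invNormalizer x` when an inverting element exists. -/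
theorem card_invNormalizer [Finite G] (x : G) (hx : x ≠ x⁻¹) (y₀ : G) (hy₀ : y₀ * x * y₀⁻¹ = x⁻¹) :
    Nat.card (invNormalizer x) = 2 * Nat.card (Subgroup.centralizer ({x} : Set G)) := by
  classical
  have hsurj : Function.Surjective (invSign x hx) := by
    intro u
    rcases Int.units_eq_one_or u with rfl | rfl
    · exact ⟨1, map_one _⟩
    · refine ⟨⟨y₀, Or.inr hy₀⟩, ?_⟩
      change (if y₀ * x * y₀⁻¹ = x then (1 : ℤˣ) else -1) = -1
      rw [hy₀, if_neg hx.symm]
  have h1 : Nat.card (invNormalizer x) =
      Nat.card ((invNormalizer x) ⧸ (invSign x hx).ker) * Nat.card (invSign x hx).ker :=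
    Subgroup.card_eq_card_quotient_mul_card_subgroup _
  have h2 : Nat.card ((invNormalizer x) ⧸ (invSign x hx).ker) = 2 := by
    rw [Nat.card_congr (QuotientGroup.quotientKerEquivOfSurjective _ hsurj).toEquiv]
    simp
  have h3 : Nat.card (invSign x hx).ker = Nat.card (Subgroup.centralizer ({x} : Set G)) := by
    apply Nat.card_congr
    refine ⟨fun a => ⟨a.1.1, ?_⟩, fun c => ⟨⟨c.1, ?_⟩, ?_⟩, ?_, ?_⟩
    · have ha := (invSign_ker x hx a.1).mp a.2
      rw [Subgroup.mem_centralizer_singleton_iff]
      calc a.1.1 * x = (a.1.1 * x * a.1.1⁻¹) * a.1.1 := by group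
        _ = x * a.1.1 := by rw [ha]
    · left
      have hc := Subgroup.mem_centralizer_singleton_iff.mp c.2
      calc c.1 * x * c.1⁻¹ = x * c.1 * c.1⁻¹ := by rw [hc]
        _ = x := by group
    · rw [invSign_ker]
      have hc := Subgroup.mem_centralizer_singleton_iff.mp c.2
      calc c.1 * x * c.1⁻¹ = x * c.1 * c.1⁻¹ := by rw [hc]
        _ = x := by group
    · intro a; rfl
    · intro c; rfl
  rw [h1, h2, h3]

end general

end Cfsg.Agent.Lib.Helper38
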