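import Mathlib

set_option autoImplicit false

/-! More general group-theoretic tools for "solubilizer" computations. -/

namespace Cfsg.Agent.Lib.Helper38

section general
open scoped commutatorElement
variable {G : Type*} [Group G]

/-- A solvable subgroup not contained in `Z` has a subgroup normalised by it, not contained in `Z`,
all of whose commutators lie in `Z`. -/
theorem exists_normal_comm_mod (K : Subgroup G) [hK : Group.IsSolvable K] (Z : Subgroup G)
    (hKZ : ¬ K ≤ Z) :
    ∃ A : Subgroup G, A ≤ K ∧ ¬ A ≤ Z ∧ (∀ a ∈ A, ∀ b ∈ A, ⁅a, b⁆ ∈ Z) ∧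
      (∀ h ∈ K, ∀ a ∈ A, h * a * h⁻¹ ∈ A) := by
  classical
  have hex : ∃ n, (derivedSeries K n).map K.subtype ≤ Z := by
    obtain ⟨n, hn⟩ := hK.solvable
    exact ⟨n, by rw [hn, Subgroup.map_bot]; exact bot_le⟩
  have h0 : ¬ (derivedSeries K 0).map K.subtype ≤ Z := by
    rw [derivedSeries_zero]
    intro h
    apply hKZ
    intro k hk
    exact h ⟨⟨k, hk⟩, Subgroup.mem_top _, rfl⟩
  have hpos : Nat.find hex ≠ 0 := by
    intro h
    have h1 := Nat.find_spec hex
    rw [h] at h1
    exact h0 h1
  obtain ⟨k, hk⟩ := Nat.exists_eq_succ_of_ne_zero hpos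
  have hD : ¬ (derivedSeries K k).map K.subtype ≤ Z := Nat.find_min hex (by omega)
  have hDD : (derivedSeries K (k + 1)).map K.subtype ≤ Z := by
    have h1 := Nat.find_spec hex
    rw [hk] at h1
    exact h1
  have hnormal : (derivedSeries K k).Normal := derivedSeries_normal K k
  refine ⟨(derivedSeries K k).map K.subtype, ?_, hD, ?_, ?_⟩
  · rintro _ ⟨a, _, rfl⟩
    exact a.2
  · rintro _ ⟨a, ha, rfl⟩ _ ⟨b, hb, rfl⟩
    apply hDD
    refine ⟨⁅a, b⁆, ?_, ?_⟩
    · rw [derivedSeries_succ]
      exact Subgroup.commutator_mem_commutator ha hb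
    · simp [commutatorElement_def]
  · rintro h hh _ ⟨a, ha, rfl⟩
    refine ⟨⟨h, hh⟩ * a * ⟨h, hh⟩⁻¹, hnormal.conj_mem a ha _, ?_⟩
    simp

/-- a cyclic extension of a solvable group: if `x` lies in a solvable subgroup `N` and `y`
normalises `N`, then `x, y` generate a solvable subgroup. -/
theorem isSolvable_closure_pair_of_normalizer (N : Subgroup G) [hN : Group.IsSolvable N] (x y : G)
    (hx : x ∈ N) (hy : y ∈ Subgroup.normalizer (N : Set G)) :
    Group.IsSolvable (Subgroup.closure ({x, y} : Set G)) := by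
  classical
  set K := Subgroup.closure ({x, y} : Set G) with hKdef
  have hKM : K ≤ (Subgroup.normalizer (N : Set G)) := by
    rw [hKdef, Subgroup.closure_le]
    intro z hz
    rcases hz with rfl | rfl
    · exact Subgroup.le_normalizer hx
    · exact hy
  let N' : Subgroup (Subgroup.normalizer (N : Set G)) := N.subgroupOf (Subgroup.normalizer (N : Set G))
  have hN' : N'.Normal := Subgroup.normal_in_normalizer
  let π : (Subgroup.normalizer (N : Set G)) →* (Subgroup.normalizer (N : Set G)) ⧸ N' := QuotientGroup.mk' N'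
  let φ : K →* (Subgroup.normalizer (N : Set G)) ⧸ N' := π.comp (Subgroup.inclusion hKM)
  let t : (Subgroup.normalizer (N : Set G)) ⧸ N' := π ⟨y, hy⟩
  have hφ : ∀ k : K, φ k ∈ Subgroup.zpowers t := by
    rintro ⟨k, hk⟩
    induction hk using Subgroup.closure_induction with
    | mem z hz =>
      rcases hz with rfl | rfl
      · have : φ ⟨z, Subgroup.subset_closure (by simp)⟩ = 1 := by
          change π ⟨z, _⟩ = 1
          rw [QuotientGroup.mk'_apply, QuotientGroup.eq_one_iff, Subgroup.mem_subgroupOf]
          exact hx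
        rw [this]
        exact one_mem _
      · exact Subgroup.mem_zpowers _
    | one => exact one_mem _
    | mul a b ha hb iha ihb =>
      have : (⟨a * b, Subgroup.mul_mem _ ha hb⟩ : K) = ⟨a, ha⟩ * ⟨b, hb⟩ := rfl
      rw [this, map_mul]
      exact Subgroup.mul_mem _ iha ihb
    | inv a ha iha =>
      have : (⟨a⁻¹, Subgroup.inv_mem _ ha⟩ : K) = (⟨a, ha⟩ : K)⁻¹ := rfl
      rw [this, map_inv]
      exact Subgroup.inv_mem _ iha
  let g : K →* Subgroup.zpowers t := φ.codRestrict (Subgroup.zpowers t) hφ
  have hcomm : ∀ a b : Subgroup.zpowers t, a * b = b * a := by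
    rintro ⟨a, ha⟩ ⟨b, hb⟩
    obtain ⟨i, rfl⟩ := Subgroup.mem_zpowers_iff.mp ha
    obtain ⟨j, rfl⟩ := Subgroup.mem_zpowers_iff.mp hb
    apply Subtype.ext
    exact zpow_mul_comm t i j
  have hsolZ : Group.IsSolvable (Subgroup.zpowers t) := Group.isSolvable_of_comm hcomm
  have hsolN : Group.IsSolvable (N.subgroupOf K) := by
    let f0 : N.subgroupOf K →* N :=
      (K.subtype.comp (N.subgroupOf K).subtype).codRestrict N
        (fun k => Subgroup.mem_subgroupOf.mp k.2)
    have hinj : Function.Injective f0 := by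
      intro a b hab
      have := congrArg Subtype.val hab
      apply Subtype.ext
      apply Subtype.ext
      exact this
    exact Group.isSolvable_of_isSolvable_injective hinj
  refine Group.isSolvable_of_ker_le_range (N.subgroupOf K).subtype g ?_
  intro k hk
  rw [MonoidHom.mem_ker] at hk
  have h1 : φ k = 1 := congrArg Subtype.val hk
  change π (Subgroup.inclusion hKM k) = 1 at h1
  rw [QuotientGroup.mk'_apply, QuotientGroup.eq_one_iff, Subgroup.mem_subgroupOf] at h1
  rw [Subgroup.range_subtype, Subgroup.mem_subgroupOf]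
  exact h1

/-- a subgroup of a finite group mapped into itself by conjugation with `y` is normalised by
`y`. -/
theorem mem_normalizer_of_conj_le [Finite G] (N : Subgroup G) (y : G)
    (h : ∀ n ∈ N, y * n * y⁻¹ ∈ N) : y ∈ Subgroup.normalizer (N : Set G) :=
  Subgroup.mem_normalizer_fintype h

end general

end Cfsg.Agent.Lib.Helper38
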