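import Mathlib

set_option autoImplicit false

/-! Solubilizers and quotients by abelian normal subgroups. -/

namespace Cfsg.Agent.Lib.Helper38

section general
variable {G : Type*} [Group G]

/-- solvability of a two-generated subgroup can be tested modulo an abelian normal subgroup. -/
theorem isSolvable_closure_pair_mk_iff (N : Subgroup G) [N.Normal]
    (hN : ∀ a ∈ N, ∀ b ∈ N, a * b = b * a) (x y : G) :
    Group.IsSolvable (Subgroup.closure
      ({(QuotientGroup.mk x : G ⧸ N), (QuotientGroup.mk y : G ⧸ N)} : Set (G ⧸ N))) ↔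
      Group.IsSolvable (Subgroup.closure ({x, y} : Set G)) := by
  have hmap : Subgroup.closure
      ({(QuotientGroup.mk x : G ⧸ N), (QuotientGroup.mk y : G ⧸ N)} : Set (G ⧸ N)) =
      (Subgroup.closure ({x, y} : Set G)).map (QuotientGroup.mk' N) := by
    rw [MonoidHom.map_closure]
    congr 1
    simp [Set.image_pair]
  rw [hmap]
  set K := Subgroup.closure ({x, y} : Set G) with hK
  constructor
  · intro h
    have hsolN : Group.IsSolvable (N.subgroupOf K) := by
      apply Group.isSolvable_of_comm
      intro a b
      apply Subtype.ext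
      apply Subtype.ext
      exact hN _ (Subgroup.mem_subgroupOf.mp a.2) _ (Subgroup.mem_subgroupOf.mp b.2)
    refine Group.isSolvable_of_ker_le_range (N.subgroupOf K).subtype
      ((QuotientGroup.mk' N).subgroupMap K) ?_
    intro k hk
    rw [MonoidHom.mem_ker] at hk
    have h1 : (QuotientGroup.mk' N) k.1 = 1 := congrArg Subtype.val hk
    rw [QuotientGroup.mk'_apply, QuotientGroup.eq_one_iff] at h1
    rw [Subgroup.range_subtype, Subgroup.mem_subgroupOf]
    exact h1
  · intro h
    exact Group.isSolvable_of_surjective
      (MonoidHom.subgroupMap_surjective (QuotientGroup.mk' N) K)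

/-- the solubilizer of `x` is the full preimage of the solubilizer of its image. -/
theorem card_sol_mk [Finite G] (N : Subgroup G) [N.Normal]
    (hN : ∀ a ∈ N, ∀ b ∈ N, a * b = b * a) (x : G) :
    Nat.card {y : G // Group.IsSolvable (Subgroup.closure ({x, y} : Set G))} =
      Nat.card N * Nat.card {y' : G ⧸ N // Group.IsSolvable (Subgroup.closure
        ({(QuotientGroup.mk x : G ⧸ N), y'} : Set (G ⧸ N)))} := by
  set t : Set (G ⧸ N) := {y' | Group.IsSolvable (Subgroup.closure
        ({(QuotientGroup.mk x : G ⧸ N), y'} : Set (G ⧸ N)))} with ht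
  have h1 := Nat.card_congr (QuotientGroup.preimageMkEquivSubgroupProdSet N t)
  rw [Nat.card_prod] at h1
  have h2 : Nat.card {y : G // Group.IsSolvable (Subgroup.closure ({x, y} : Set G))} =
      Nat.card (QuotientGroup.mk ⁻¹' t : Set G) := by
    apply Nat.card_congr
    apply Equiv.subtypeEquivRight
    intro y
    rw [Set.mem_preimage, ht, Set.mem_ofPred_eq, isSolvable_closure_pair_mk_iff N hN]
  rw [h2, h1]
  rfl

end general

end Cfsg.Agent.Lib.Helper38
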