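import Mathlib
import Cfsg.Agent.Lib.Helper38.SL2
import Cfsg.Agent.Lib.Helper38.SolGen

set_option autoImplicit false
set_option linter.unusedSectionVars false
set_option linter.unusedVariables false
set_option linter.unusedSimpArgs false

/-! Matrix lemmas for `SL₂(F)` in characteristic three. -/

namespace Cfsg.Agent.Lib.Helper38.Sol3

open Matrix Cfsg.Agent.Lib.Helper38

variable {F : Type*} [Field F] [CharP F 3]

local notation "SL" => Matrix.SpecialLinearGroup (Fin 2) F

theorem three0 : (3 : F) = 0 := CharP.cast_eq_zero F 3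

theorem two_ne : (2 : F) ≠ 0 := by
  intro h
  have h3 := three0 (F := F)
  have : (1 : F) = 0 := by linear_combination h3 - h
  exact one_ne_zero this

theorem inv00 (x : SL) : (x⁻¹).1 0 0 = x.1 1 1 := by
  rw [Matrix.SpecialLinearGroup.coe_inv, Matrix.adjugate_fin_two]; rfl
theorem inv01 (x : SL) : (x⁻¹).1 0 1 = -x.1 0 1 := by
  rw [Matrix.SpecialLinearGroup.coe_inv, Matrix.adjugate_fin_two]; rfl
theorem inv10 (x : SL) : (x⁻¹).1 1 0 = -x.1 1 0 := by
  rw [Matrix.SpecialLinearGroup.coe_inv, Matrix.adjugate_fin_two]; rfl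
theorem inv11 (x : SL) : (x⁻¹).1 1 1 = x.1 0 0 := by
  rw [Matrix.SpecialLinearGroup.coe_inv, Matrix.adjugate_fin_two]; rfl

theorem neg_apply (x : SL) (i j : Fin 2) : (-x).1 i j = -x.1 i j := by
  rw [Matrix.SpecialLinearGroup.coe_neg, Matrix.neg_apply]

theorem eq_iff (g h : SL) :
    g = h ↔ g.1 0 0 = h.1 0 0 ∧ g.1 0 1 = h.1 0 1 ∧ g.1 1 0 = h.1 1 0 ∧ g.1 1 1 = h.1 1 1 := by
  constructor
  · intro e; subst e; exact ⟨rfl, rfl, rfl, rfl⟩
  · rintro ⟨h0, h1, h2, h3⟩
    exact sl2_ext g h h0 h1 h2 h3

/-- the trace. -/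
def trc (g : SL) : F := g.1 0 0 + g.1 1 1

theorem trc_conj (h a : SL) : trc (h * a * h⁻¹) = trc a := by
  unfold trc
  simp only [sl2_mul_apply, inv00, inv01, inv10, inv11]
  have hd := sl2_det h
  grind

theorem trc_inv (a : SL) : trc a⁻¹ = trc a := by
  unfold trc
  rw [inv00, inv11, add_comm]

theorem trc_neg (a : SL) : trc (-a) = -trc a := by
  unfold trc
  rw [neg_apply, neg_apply]; ring

theorem trc_mul_comm (a b : SL) : trc (a * b) = trc (b * a) := by
  unfold trc
  simp only [sl2_mul_apply]
  ring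

theorem neg_one_apply00 : (-1 : SL).1 0 0 = -1 := by rw [neg_apply, sl2_one_00]
theorem neg_one_apply01 : (-1 : SL).1 0 1 = 0 := by rw [neg_apply, sl2_one_01, neg_zero]
theorem neg_one_apply10 : (-1 : SL).1 1 0 = 0 := by rw [neg_apply, sl2_one_10, neg_zero]
theorem neg_one_apply11 : (-1 : SL).1 1 1 = -1 := by rw [neg_apply, sl2_one_11]

theorem neg_one_ne_one : (-1 : SL) ≠ 1 := by
  intro h
  have h0 := ((eq_iff _ _).mp h).1
  rw [neg_one_apply00, sl2_one_00] at h0
  have h3 := three0 (F := F)
  have : (1 : F) = 0 := by linear_combination h3 + h0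
  exact one_ne_zero this

/-- a traceless element has inverse equal to its negative. -/
theorem inv_eq_neg_of_trc (a : SL) (h : trc a = 0) : a⁻¹ = -a := by
  unfold trc at h
  rw [eq_iff]
  simp only [inv00, inv01, inv10, inv11, neg_apply]
  refine ⟨?_, trivial, trivial, ?_⟩
  · linear_combination h
  · linear_combination h

theorem mul_self_of_trc (a : SL) (h : trc a = 0) : a * a = -1 := by
  unfold trc at h
  have hd := sl2_det a
  rw [eq_iff]
  simp only [sl2_mul_apply, neg_one_apply00, neg_one_apply01, neg_one_apply10, neg_one_apply11]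
  grind

/-- an element of the same trace commuting with a semisimple `x` is `x` or `x⁻¹`. -/
theorem eq_or_eq_inv_of_commute (x m : SL) (hx : trc x ^ 2 ≠ 1) (hc : m * x = x * m)
    (ht : trc m = trc x) : m = x ∨ m = x⁻¹ := by
  rw [eq_iff] at hc
  simp only [sl2_mul_apply] at hc
  unfold trc at hx ht
  have hdm := sl2_det m
  have hdx := sl2_det x
  rw [eq_iff, eq_iff]
  simp only [inv00, inv01, inv10, inv11]
  grind

/-- an element inverting a semisimple element has trace zero. -/
theorem trc_of_inverts (x y : SL) (hx : trc x ^ 2 ≠ 1) (h : y * x * y⁻¹ = x⁻¹) : trc y = 0 := by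
  have h' : y * x = x⁻¹ * y := by rw [← h]; group
  rw [eq_iff] at h'
  simp only [sl2_mul_apply, inv00, inv01, inv10, inv11] at h'
  unfold trc at hx ⊢
  have hdy := sl2_det y
  have hdx := sl2_det x
  grind

/-- the centraliser of a semisimple element is commutative. -/
theorem commute_of_commute (x g h : SL) (hx : trc x ^ 2 ≠ 1) (hg : g * x = x * g)
    (hh : h * x = x * h) : g * h = h * g := by
  rw [eq_iff] at hg hh ⊢
  simp only [sl2_mul_apply] at hg hh ⊢
  unfold trc at hx
  have hdx := sl2_det x
  grind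

theorem ne_inv_of_trc (a : SL) (h : trc a ^ 2 ≠ 1) : a ≠ a⁻¹ := by
  intro e
  apply h
  rw [eq_iff] at e
  simp only [inv00, inv01, inv10, inv11] at e
  have hd := sl2_det a
  unfold trc
  grind

theorem isSolvable_invNormalizer_of_trc (a : SL) (ha : trc a ^ 2 ≠ 1) :
    Group.IsSolvable (invNormalizer a) :=
  isSolvable_invNormalizer a (ne_inv_of_trc a ha)
    (fun g h hg hh => commute_of_commute a g h ha hg hh)

/-- if `x` commutes with `a` (both semisimple) and `y` normalises `{a, a⁻¹}` then `y` normalises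
`{x, x⁻¹}`. -/
theorem mem_invNormalizer_of_commute (x a y : SL) (hx : trc x ^ 2 ≠ 1) (ha : trc a ^ 2 ≠ 1)
    (hxa : x * a = a * x) (hy : y ∈ invNormalizer a) : y ∈ invNormalizer x := by
  set z := y * x * y⁻¹ with hz
  have hza : z * a = a * z := by
    rcases hy with hy | hy
    · have : z * (y * a * y⁻¹) = (y * a * y⁻¹) * z := by
        rw [hz]
        calc y * x * y⁻¹ * (y * a * y⁻¹) = y * (x * a) * y⁻¹ := by group
          _ = y * (a * x) * y⁻¹ := by rw [hxa]
          _ = y * a * y⁻¹ * (y * x * y⁻¹) := by group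
      rwa [hy] at this
    · have : z * (y * a * y⁻¹) = (y * a * y⁻¹) * z := by
        rw [hz]
        calc y * x * y⁻¹ * (y * a * y⁻¹) = y * (x * a) * y⁻¹ := by group
          _ = y * (a * x) * y⁻¹ := by rw [hxa]
          _ = y * a * y⁻¹ * (y * x * y⁻¹) := by group
      rw [hy] at this
      calc z * a = a * (a⁻¹ * z) * a := by group
        _ = a * (z * a⁻¹) * a := by rw [this]
        _ = a * z := by group
  have hzx : z * x = x * z := commute_of_commute a z x ha hza hxa
  exact eq_or_eq_inv_of_commute x z hx hzx (trc_conj y x)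

/-- the action on column vectors. -/
def act (g : SL) (v : F × F) : F × F :=
  (g.1 0 0 * v.1 + g.1 0 1 * v.2, g.1 1 0 * v.1 + g.1 1 1 * v.2)

theorem act_mul (g h : SL) (v : F × F) : act (g * h) v = act g (act h v) := by
  unfold act
  simp only [sl2_mul_apply]
  ext
  · simp only; ring
  · simp only; ring

theorem act_one (v : F × F) : act (1 : SL) v = v := by
  unfold act
  rw [sl2_one_00, sl2_one_01, sl2_one_10, sl2_one_11]
  ext <;> simp

theorem act_smul (g : SL) (μ : F) (v : F × F) : act g (μ • v) = μ • act g v := by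
  unfold act
  ext
  · simp only [Prod.smul_fst, Prod.smul_snd, smul_eq_mul]; ring
  · simp only [Prod.smul_fst, Prod.smul_snd, smul_eq_mul]; ring

theorem act_neg (g : SL) (v : F × F) : act (-g) v = (-1 : F) • act g v := by
  unfold act
  ext
  · simp only [neg_apply, Prod.smul_fst, smul_eq_mul]; ring
  · simp only [neg_apply, Prod.smul_snd, smul_eq_mul]; ring

theorem act_ne_zero (g : SL) (v : F × F) (hv : v ≠ 0) : act g v ≠ 0 := by
  intro h
  apply hv
  have : act g⁻¹ (act g v) = v := by rw [← act_mul, inv_mul_cancel, act_one]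
  rw [← this, h]
  unfold act
  ext <;> simp

theorem parallel_of_det_zero (u w : F × F) (hu : u ≠ 0) (hδ : u.1 * w.2 - u.2 * w.1 = 0) :
    ∃ ν : F, w = ν • u := by
  by_cases hu1 : u.1 = 0
  · have hu2 : u.2 ≠ 0 := by
      intro h
      apply hu
      ext
      · exact hu1
      · exact h
    refine ⟨w.2 / u.2, ?_⟩
    have hw1 : w.1 = 0 := by
      rw [hu1] at hδ
      have : u.2 * w.1 = 0 := by linear_combination -hδ
      exact (mul_eq_zero.mp this).resolve_left hu2
    ext
    · simp only [Prod.smul_fst, smul_eq_mul]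
      rw [hw1, hu1, mul_zero]
    · simp only [Prod.smul_snd, smul_eq_mul]
      field_simp
  · refine ⟨w.1 / u.1, ?_⟩
    ext
    · simp only [Prod.smul_fst, smul_eq_mul]
      field_simp
    · simp only [Prod.smul_snd, smul_eq_mul]
      field_simp
      linear_combination hδ

/-- `g` preserves the line spanned by `v`. -/
def FixesLine (g : SL) (v : F × F) : Prop := ∃ μ : F, act g v = μ • v

/-- an eigenvalue is a root of the characteristic polynomial. -/
theorem root_of_eigen (x : SL) (v : F × F) (hv : v ≠ 0) (μ : F) (h : act x v = μ • v) :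
    μ * μ - trc x * μ + 1 = 0 := by
  unfold act at h
  have a1 := congrArg Prod.fst h
  have a2 := congrArg Prod.snd h
  simp only [Prod.smul_fst, Prod.smul_snd, smul_eq_mul] at a1 a2
  have hd := sl2_det x
  unfold trc
  by_contra hne
  apply hv
  have e1 : (μ * μ - (x.1 0 0 + x.1 1 1) * μ + 1) * v.1 = 0 := by grind
  have e2 : (μ * μ - (x.1 0 0 + x.1 1 1) * μ + 1) * v.2 = 0 := by grind
  ext
  · exact (mul_eq_zero.mp e1).resolve_left hne
  · exact (mul_eq_zero.mp e2).resolve_left hne

/-- a root of the characteristic polynomial has an eigenvector. -/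
theorem exists_eigen (x : SL) (μ : F) (hμ : μ * μ - trc x * μ + 1 = 0) :
    ∃ v : F × F, v ≠ 0 ∧ act x v = μ • v := by
  unfold trc at hμ
  have hd := sl2_det x
  by_cases h1 : (x.1 0 1, μ - x.1 0 0) = (0 : F × F)
  · by_cases h3 : (μ - x.1 1 1, x.1 1 0) = (0 : F × F)
    · refine ⟨(1, 0), by simp, ?_⟩
      have e1 := congrArg Prod.snd h1
      have e3 := congrArg Prod.snd h3
      simp only [Prod.snd_zero] at e1 e3
      unfold act
      ext
      · simp only [Prod.smul_fst, smul_eq_mul, mul_one, mul_zero, add_zero]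
        linear_combination -e1
      · simp only [Prod.smul_snd, smul_eq_mul, mul_one, mul_zero, add_zero]
        exact e3
    · refine ⟨_, h3, ?_⟩
      unfold act
      ext
      · simp only [Prod.smul_fst, smul_eq_mul]
        grind
      · simp only [Prod.smul_snd, smul_eq_mul]
        grind
  · refine ⟨_, h1, ?_⟩
    unfold act
    ext
    · simp only [Prod.smul_fst, smul_eq_mul]
      grind
    · simp only [Prod.smul_snd, smul_eq_mul]
      grind

/-- the upper triangular subgroup. -/
def upperB (F : Type*) [Field F] : Subgroup (Matrix.SpecialLinearGroup (Fin 2) F) where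
  carrier := {g | g.1 1 0 = 0}
  one_mem' := by simp
  mul_mem' := by
    intro g h hg hh
    simp only [Set.mem_ofPred_eq] at hg hh ⊢
    rw [sl2_mul_apply, hg, hh]; ring
  inv_mem' := by
    intro g hg
    simp only [Set.mem_ofPred_eq] at hg ⊢
    rw [Matrix.SpecialLinearGroup.coe_inv, Matrix.adjugate_fin_two]
    simp [hg]

omit [CharP F 3] in
theorem mem_upperB (g : SL) : g ∈ upperB F ↔ g.1 1 0 = 0 := Iff.rfl

omit [CharP F 3] in
theorem upperB_00_ne (b : upperB F) : b.1.1 0 0 ≠ 0 := by
  intro h
  have hd := sl2_det b.1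
  rw [h, (mem_upperB b.1).mp b.2] at hd
  simp at hd

/-- the diagonal character of the upper triangular group. -/
def upperDiag (F : Type*) [Field F] : upperB F →* Fˣ where
  toFun b := Units.mk0 (b.1.1 0 0) (upperB_00_ne b)
  map_one' := Units.ext (by simp)
  map_mul' a b := Units.ext (by
    show (a.1 * b.1).1 0 0 = a.1.1 0 0 * b.1.1 0 0
    rw [sl2_mul_apply, (mem_upperB b.1).mp b.2, mul_zero, add_zero])

omit [CharP F 3] in
theorem isSolvable_upperB : Group.IsSolvable (upperB F) := by
  have hker : ∀ a b : (upperDiag F).ker, a * b = b * a := by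
    intro a b
    have ha := a.2
    have hb := b.2
    rw [MonoidHom.mem_ker] at ha hb
    have ha0 : a.1.1.1 0 0 = 1 := congrArg (fun u : Fˣ => (u : F)) ha
    have hb0 : b.1.1.1 0 0 = 1 := congrArg (fun u : Fˣ => (u : F)) hb
    have ha10 := (mem_upperB a.1.1).mp a.1.2
    have hb10 := (mem_upperB b.1.1).mp b.1.2
    have hda := sl2_det a.1.1
    have hdb := sl2_det b.1.1
    rw [ha0, ha10] at hda
    rw [hb0, hb10] at hdb
    have ha1 : a.1.1.1 1 1 = 1 := by linear_combination hda
    have hb1 : b.1.1.1 1 1 = 1 := by linear_combination hdb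
    apply Subtype.ext
    apply Subtype.ext
    apply sl2_ext
    · show (a.1.1 * b.1.1).1 0 0 = (b.1.1 * a.1.1).1 0 0
      rw [sl2_mul_apply, sl2_mul_apply, ha0, hb0, ha10, hb10]; ring
    · show (a.1.1 * b.1.1).1 0 1 = (b.1.1 * a.1.1).1 0 1
      rw [sl2_mul_apply, sl2_mul_apply, ha0, hb0, ha1, hb1]; ring
    · show (a.1.1 * b.1.1).1 1 0 = (b.1.1 * a.1.1).1 1 0
      rw [sl2_mul_apply, sl2_mul_apply, ha10, hb10]; ring
    · show (a.1.1 * b.1.1).1 1 1 = (b.1.1 * a.1.1).1 1 1
      rw [sl2_mul_apply, sl2_mul_apply, ha1, hb1, ha10, hb10]; ring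
  have : Group.IsSolvable (upperDiag F).ker := Group.isSolvable_of_comm hker
  exact Group.isSolvable_of_ker_le_range (upperDiag F).ker.subtype (upperDiag F) (by simp)

/-- a common eigenvector gives a solvable pair. -/
theorem isSolvable_of_common_line (x y : SL) (v : F × F) (hv : v ≠ 0) (hx : FixesLine x v)
    (hy : FixesLine y v) : Group.IsSolvable (Subgroup.closure ({x, y} : Set SL)) := by
  -- conjugate the line to the first coordinate axis
  obtain ⟨g, hg⟩ : ∃ g : SL, ∃ κ : F, act g v = κ • ((1 : F), (0 : F)) := by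
    by_cases h1 : v.1 = 0
    · have h2 : v.2 ≠ 0 := by
        intro h
        apply hv
        ext
        · exact h1
        · exact h
      refine ⟨mk2 0 1 (-1) 0 (by ring), v.2, ?_⟩
      unfold act
      ext
      · simp [h1]
      · simp [h1]
    · refine ⟨mk2 1 0 (-v.2 / v.1) 1 (by ring), v.1, ?_⟩
      unfold act
      ext
      · simp
      · simp only [mk2_10, mk2_11, Prod.smul_snd, smul_eq_mul, mul_zero]
        field_simp
        ring
  obtain ⟨κ, hκ⟩ := hg
  have hκ0 : κ ≠ 0 := by
    intro h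
    have := act_ne_zero g v hv
    rw [hκ, h, zero_smul] at this
    exact this rfl
  have key : ∀ z : SL, FixesLine z v → (g * z * g⁻¹) ∈ upperB F := by
    rintro z ⟨μ, hμ⟩
    rw [mem_upperB]
    have e1 : act (g * z * g⁻¹) (κ • ((1 : F), (0 : F))) = μ • (κ • ((1 : F), (0 : F))) := by
      rw [← hκ, ← act_mul]
      have : g * z * g⁻¹ * g = g * z := by group
      rw [this, act_mul, hμ, act_smul]
    rw [act_smul] at e1
    have e2 := congrArg Prod.snd e1
    unfold act at e2
    simp only [Prod.smul_snd, smul_eq_mul, mul_one, mul_zero, add_zero] at e2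
    exact (mul_eq_zero.mp e2).resolve_left hκ0
  rw [← isSolvable_closure_pair_iff (MulAut.conj g) x y]
  have : Group.IsSolvable (upperB F) := isSolvable_upperB
  apply isSolvable_closure_pair_of_le (upperB F)
  · rw [MulAut.conj_apply]; exact key x hx
  · rw [MulAut.conj_apply]; exact key y hy

end Cfsg.Agent.Lib.Helper38.Sol3
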