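import Mathlib
import Cfsg.Agent.Lib.Helper38.SolThreeMat
import Cfsg.Agent.Lib.Helper38.SolGenB

set_option autoImplicit false
set_option linter.unusedSectionVars false
set_option linter.unusedVariables false
set_option linter.unusedSimpArgs false

/-! The structure of solvable two-generated subgroups of `SL₂(F)`, characteristic three. -/

namespace Cfsg.Agent.Lib.Helper38.Sol3

open Matrix Cfsg.Agent.Lib.Helper38
open scoped commutatorElement

variable {F : Type*} [Field F] [CharP F 3]

local notation "SL" => Matrix.SpecialLinearGroup (Fin 2) F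

/-- a quaternion pair: traceless anticommuting elements. -/
def IsQPair (a b : SL) : Prop := trc a = 0 ∧ trc b = 0 ∧ a * b = -(b * a)

/-- the six elements of order four of the quaternion group. -/
def qT (a b : SL) : Set SL := {t | t = a ∨ t = -a ∨ t = b ∨ t = -b ∨ t = a * b ∨ t = -(a * b)}

/-- `h` permutes the six elements of order four. -/
def QNorm (a b h : SL) : Prop := ∀ t ∈ qT a b, h * t * h⁻¹ ∈ qT a b

theorem neg_one_mul_neg_one : (-1 : SL) * (-1) = 1 := by
  rw [neg_mul_neg, one_mul]

/-- the centre `{1, -1}`. -/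
def Zc (F : Type*) [Field F] : Subgroup (Matrix.SpecialLinearGroup (Fin 2) F) where
  carrier := {g | g = 1 ∨ g = -1}
  one_mem' := Or.inl rfl
  mul_mem' := by
    rintro g h (rfl | rfl) (rfl | rfl)
    · left; rw [one_mul]
    · right; rw [one_mul]
    · right; rw [mul_one]
    · left; rw [neg_mul_neg, one_mul]
  inv_mem' := by
    rintro g (rfl | rfl)
    · left; rw [inv_one]
    · right
      apply inv_eq_of_mul_eq_one_left
      rw [neg_mul_neg, one_mul]

omit [CharP F 3] in
theorem mem_Zc (g : SL) : g ∈ Zc F ↔ g = 1 ∨ g = -1 := Iff.rfl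

theorem trc_one : trc (1 : SL) = 2 := by
  unfold trc
  rw [sl2_one_00, sl2_one_11]; norm_num

theorem trc_ne_zero_of_mem_Zc (g : SL) (hg : g ∈ Zc F) : trc g ≠ 0 := by
  have h2 := two_ne (F := F)
  rcases hg with rfl | rfl
  · rw [trc_one]; exact h2
  · rw [trc_neg, trc_one]
    intro h
    apply h2
    linear_combination -h

theorem comm_both (a b c : SL) (hq : IsQPair a b) (h1 : c * a = a * c)
    (h2 : c * b = b * c) : c = 1 ∨ c = -1 := by
  obtain ⟨ha, hb, hab⟩ := hq
  unfold trc at ha hb
  have hda := sl2_det a
  have hdb := sl2_det b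
  have hdc := sl2_det c
  simp only [eq_iff, sl2_mul_apply, neg_apply] at h1 h2 hab
  have e1 : c.1 0 1 = 0 := by grind
  have e2 : c.1 1 0 = 0 := by grind
  have e3 : c.1 0 0 = c.1 1 1 := by grind
  have e4 : (c.1 0 0 - 1) * (c.1 0 0 + 1) = 0 := by grind
  rcases mul_eq_zero.mp e4 with h | h
  · left
    rw [eq_iff, sl2_one_00, sl2_one_01, sl2_one_10, sl2_one_11]
    grind
  · right
    rw [eq_iff, neg_one_apply00, neg_one_apply01, neg_one_apply10, neg_one_apply11]
    grind

theorem IsQPair.trc_mul {a b : SL} (hq : IsQPair a b) : trc (a * b) = 0 := by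
  obtain ⟨ha, hb, hab⟩ := hq
  have h1 : trc (a * b) = -trc (a * b) := by
    conv_lhs => rw [hab, trc_neg, trc_mul_comm]
  have h2 := two_ne (F := F)
  have : (2 : F) * trc (a * b) = 0 := by linear_combination h1
  exact (mul_eq_zero.mp this).resolve_left h2

theorem IsQPair.trc_of_mem {a b : SL} (hq : IsQPair a b) {t : SL} (ht : t ∈ qT a b) :
    trc t = 0 := by
  rcases ht with rfl | rfl | rfl | rfl | rfl | rfl
  · exact hq.1
  · rw [trc_neg, hq.1, neg_zero]
  · exact hq.2.1
  · rw [trc_neg, hq.2.1, neg_zero]
  · exact hq.trc_mul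
  · rw [trc_neg, hq.trc_mul, neg_zero]

/-- an element commuting or anticommuting with both members of a quaternion pair lies in the
quaternion group. -/
theorem q0 (a b c : SL) (hq : IsQPair a b) (h1 : c * a = a * c ∨ c * a = -(a * c))
    (h2 : c * b = b * c ∨ c * b = -(b * c)) : c = 1 ∨ c = -1 ∨ c ∈ qT a b := by
  have hq' := hq
  obtain ⟨ha, hb, hab⟩ := hq
  have hainv := inv_eq_neg_of_trc a ha
  have hbinv := inv_eq_neg_of_trc b hb
  have habinv := inv_eq_neg_of_trc (a * b) hq'.trc_mul
  have hab' : b * a = -(a * b) := by rw [hab, neg_neg]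
  rcases h1 with h1 | h1
  · rcases h2 with h2 | h2
    · rcases comm_both a b c hq' h1 h2 with h | h
      · left; exact h
      · right; left; exact h
    · -- c * a commutes with both
      have e1 : (c * a) * a = a * (c * a) := by rw [← mul_assoc a c a, ← h1]
      have e2 : (c * a) * b = b * (c * a) := by
        rw [mul_assoc, hab, mul_neg, ← mul_assoc, h2, neg_mul, neg_neg, mul_assoc]
      right; right
      rcases comm_both a b (c * a) hq' e1 e2 with h | h
      · have : c = a⁻¹ := eq_inv_of_mul_eq_one_left h
        rw [this, hainv]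
        right; left; rfl
      · have : c = (-1) * a⁻¹ := by rw [← h]; group
        rw [this, hainv, neg_mul_neg, one_mul]
        left; rfl
  · rcases h2 with h2 | h2
    · have e1 : (c * b) * a = a * (c * b) := by
        rw [mul_assoc, hab', mul_neg, ← mul_assoc, h1, neg_mul, neg_neg, mul_assoc]
      have e2 : (c * b) * b = b * (c * b) := by rw [← mul_assoc b c b, ← h2]
      right; right
      rcases comm_both a b (c * b) hq' e1 e2 with h | h
      · have : c = b⁻¹ := eq_inv_of_mul_eq_one_left h
        rw [this, hbinv]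
        right; right; right; left; rfl
      · have : c = (-1) * b⁻¹ := by rw [← h]; group
        rw [this, hbinv, neg_mul_neg, one_mul]
        right; right; left; rfl
    · have e1 : (c * (a * b)) * a = a * (c * (a * b)) := by
        calc (c * (a * b)) * a = c * a * (b * a) := by group
          _ = -(a * c) * -(a * b) := by rw [h1, hab']
          _ = a * (c * (a * b)) := by rw [neg_mul_neg]; group
      have e2 : (c * (a * b)) * b = b * (c * (a * b)) := by
        calc (c * (a * b)) * b = c * (a * b) * b := by group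
          _ = c * (-(b * a)) * b := by rw [hab]
          _ = -(c * b) * a * b := by rw [mul_neg, neg_mul, neg_mul, neg_mul]; group
          _ = b * c * a * b := by rw [h2, neg_neg]
          _ = b * (c * (a * b)) := by group
      right; right
      rcases comm_both a b (c * (a * b)) hq' e1 e2 with h | h
      · have : c = (a * b)⁻¹ := eq_inv_of_mul_eq_one_left h
        rw [this, habinv]
        right; right; right; right; right; rfl
      · have : c = (-1) * (a * b)⁻¹ := by rw [← h]; group
        rw [this, habinv, neg_mul_neg, one_mul]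
        right; right; right; right; left; rfl

/-- a noncentral element with `(trc a)² = 1` has a unique invariant line. -/
theorem unique_line (a : SL) (ht : trc a ^ 2 = 1) (hnc : a ∉ Zc F) (v w : F × F) (hv : v ≠ 0)
    (hav : FixesLine a v) (haw : FixesLine a w) : ∃ ν : F, w = ν • v := by
  apply parallel_of_det_zero v w hv
  by_contra hδ
  apply hnc
  obtain ⟨μ, hμ⟩ := hav
  obtain ⟨ν, hν⟩ := haw
  unfold act at hμ hν
  have a1 := congrArg Prod.fst hμ
  have a2 := congrArg Prod.snd hμ
  have b1 := congrArg Prod.fst hν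
  have b2 := congrArg Prod.snd hν
  simp only [Prod.smul_fst, Prod.smul_snd, smul_eq_mul] at a1 a2 b1 b2
  have hd := sl2_det a
  unfold trc at ht
  have hδ' : (v.1 * w.2 - v.2 * w.1) * (v.1 * w.2 - v.2 * w.1)⁻¹ = 1 := mul_inv_cancel₀ hδ
  generalize (v.1 * w.2 - v.2 * w.1)⁻¹ = δi at hδ'
  have e1 : a.1 0 1 = 0 := by grind
  have e2 : a.1 1 0 = 0 := by grind
  have e3 : a.1 0 0 = a.1 1 1 := by grind
  have e4 : (a.1 0 0 - 1) * (a.1 0 0 + 1) = 0 := by grind
  rw [mem_Zc]
  rcases mul_eq_zero.mp e4 with h | h
  · left
    rw [eq_iff, sl2_one_00, sl2_one_01, sl2_one_10, sl2_one_11]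
    grind
  · right
    rw [eq_iff, neg_one_apply00, neg_one_apply01, neg_one_apply10, neg_one_apply11]
    grind

theorem exists_line (a : SL) (ht : trc a ^ 2 = 1) : ∃ v : F × F, v ≠ 0 ∧ FixesLine a v := by
  have h3 := three0 (F := F)
  obtain ⟨v, hv0, hv⟩ := exists_eigen a (-trc a) (by linear_combination (2 : F) * ht + h3)
  exact ⟨v, hv0, _, hv⟩

theorem mul_eq_of_commutator_mem (c a : SL) (h : ⁅c, a⁆ ∈ Zc F) :
    c * a = a * c ∨ c * a = -(a * c) := by
  rw [commutatorElement_def] at h
  rcases h with h | h
  · left
    calc c * a = (c * a * c⁻¹ * a⁻¹) * (a * c) := by group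
      _ = a * c := by rw [h, one_mul]
  · right
    calc c * a = (c * a * c⁻¹ * a⁻¹) * (a * c) := by group
      _ = -(a * c) := by rw [h, neg_mul, one_mul]

/-- the structure of solvable two-generated subgroups of `SL₂(F)`, characteristic three. -/
theorem sol_cases (x y : SL) (hx : x ∉ Zc F)
    [hsol : Group.IsSolvable (Subgroup.closure ({x, y} : Set SL))] :
    (∃ v : F × F, v ≠ 0 ∧ FixesLine x v ∧ FixesLine y v) ∨
      (∃ a : SL, trc a ^ 2 ≠ 1 ∧ x ∈ invNormalizer a ∧ y ∈ invNormalizer a) ∨
      (∃ a b : SL, IsQPair a b ∧ QNorm a b x ∧ QNorm a b y) := by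
  classical
  set K := Subgroup.closure ({x, y} : Set SL) with hK
  have hxK : x ∈ K := Subgroup.subset_closure (by simp)
  have hyK : y ∈ K := Subgroup.subset_closure (by simp)
  have hKZ : ¬ K ≤ Zc F := fun h => hx (h hxK)
  obtain ⟨A, hAK, hAZ, hAcomm, hAnorm⟩ := exists_normal_comm_mod K (Zc F) hKZ
  by_cases hunip : ∃ a ∈ A, a ∉ Zc F ∧ trc a ^ 2 = 1
  · left
    obtain ⟨a, haA, haZ, hat⟩ := hunip
    obtain ⟨v, hv0, hv⟩ := exists_line a hat
    have step : ∀ c ∈ A, FixesLine c v := by
      intro c hc
      have hca := mul_eq_of_commutator_mem a c (hAcomm a haA c hc)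
      obtain ⟨μ, hμ⟩ := hv
      have hfix : FixesLine a (act c v) := by
        rcases hca with h | h
        · refine ⟨μ, ?_⟩
          rw [← act_mul, h, act_mul, hμ, act_smul]
        · refine ⟨-μ, ?_⟩
          have h' : a * c = -(c * a) := h
          rw [← act_mul, h', act_neg, act_mul, hμ, act_smul, smul_smul]
          congr 1
          ring
      exact unique_line a hat haZ v (act c v) hv0 ⟨μ, hμ⟩ hfix
    have key : ∀ h ∈ K, FixesLine h v := by
      intro h hh
      have hc : h⁻¹ * a * h ∈ A := by
        have := hAnorm h⁻¹ (K.inv_mem hh) a haA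
        rwa [inv_inv] at this
      obtain ⟨ν, hν⟩ := step _ hc
      have hfix : FixesLine a (act h v) := by
        refine ⟨ν, ?_⟩
        have e : a * h = h * (h⁻¹ * a * h) := by group
        rw [← act_mul, e, act_mul, hν, act_smul]
      exact unique_line a hat haZ v (act h v) hv0 hv hfix
    exact ⟨v, hv0, key x hxK, key y hyK⟩
  · right
    push Not at hunip
    by_cases hcomm : ∀ a ∈ A, ∀ b ∈ A, a * b = b * a
    · left
      obtain ⟨a, haA, haZ⟩ : ∃ a ∈ A, a ∉ Zc F := by
        by_contra h
        push Not at h
        exact hAZ h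
      have hat : trc a ^ 2 ≠ 1 := hunip a haA haZ
      have key : ∀ h ∈ K, h ∈ invNormalizer a := by
        intro h hh
        have hb : h * a * h⁻¹ ∈ A := hAnorm h hh a haA
        have hc : (h * a * h⁻¹) * a = a * (h * a * h⁻¹) := hcomm _ hb _ haA
        exact eq_or_eq_inv_of_commute a (h * a * h⁻¹) hat hc (trc_conj h a)
      exact ⟨a, hat, key x hxK, key y hyK⟩
    · right
      push Not at hcomm
      obtain ⟨a, haA, b, hbA, hab⟩ := hcomm
      have hab' : a * b = -(b * a) := by
        rcases mul_eq_of_commutator_mem a b (hAcomm a haA b hbA) with h | h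
        · exact absurd h hab
        · exact h
      have hba' : b * a = -(a * b) := by rw [hab', neg_neg]
      have h2 := two_ne (F := F)
      have hta : trc a = 0 := by
        have e : a = -(b * a * b⁻¹) := by
          have : b * a * b⁻¹ = -(a * b) * b⁻¹ := by rw [hba']
          rw [this, neg_mul, neg_neg]; group
        have h1 : trc a = -trc a := by
          conv_lhs => rw [e, trc_neg, trc_conj]
        have : (2 : F) * trc a = 0 := by linear_combination h1
        exact (mul_eq_zero.mp this).resolve_left h2
      have htb : trc b = 0 := by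
        have e : b = -(a * b * a⁻¹) := by
          have : a * b * a⁻¹ = -(b * a) * a⁻¹ := by rw [hab']
          rw [this, neg_mul, neg_neg]; group
        have h1 : trc b = -trc b := by
          conv_lhs => rw [e, trc_neg, trc_conj]
        have : (2 : F) * trc b = 0 := by linear_combination h1
        exact (mul_eq_zero.mp this).resolve_left h2
      have hq : IsQPair a b := ⟨hta, htb, hab'⟩
      have hnegA : (-1 : SL) ∈ A := by
        have h1 : ⁅a, b⁆ ∈ A := by
          rw [commutatorElement_def]
          exact A.mul_mem (A.mul_mem (A.mul_mem haA hbA) (A.inv_mem haA)) (A.inv_mem hbA)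
        have h3 : ⁅a, b⁆ = -1 := by
          rw [commutatorElement_def, hab']
          have : -(b * a) * a⁻¹ * b⁻¹ = -((b * a) * a⁻¹ * b⁻¹) := by
            rw [neg_mul, neg_mul]
          rw [this]
          congr 1
          group
        rwa [h3] at h1
      have hnegmem : ∀ t ∈ A, -t ∈ A := by
        intro t ht
        have : -t = (-1) * t := by rw [neg_mul, one_mul]
        rw [this]
        exact A.mul_mem hnegA ht
      have hTA : ∀ t ∈ qT a b, t ∈ A := by
        intro t ht
        rcases ht with rfl | rfl | rfl | rfl | rfl | rfl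
        · exact haA
        · exact hnegmem _ haA
        · exact hbA
        · exact hnegmem _ hbA
        · exact A.mul_mem haA hbA
        · exact hnegmem _ (A.mul_mem haA hbA)
      have key : ∀ h ∈ K, QNorm a b h := by
        intro h hh t ht
        have hc : h * t * h⁻¹ ∈ A := hAnorm h hh t (hTA t ht)
        have h1 := mul_eq_of_commutator_mem (h * t * h⁻¹) a (hAcomm _ hc a haA)
        have h2' := mul_eq_of_commutator_mem (h * t * h⁻¹) b (hAcomm _ hc b hbA)
        have htr : trc (h * t * h⁻¹) = 0 := by rw [trc_conj]; exact hq.trc_of_mem ht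
        rcases q0 a b (h * t * h⁻¹) hq h1 h2' with h | h | h
        · exfalso
          exact trc_ne_zero_of_mem_Zc _ (Or.inl h) htr
        · exfalso
          exact trc_ne_zero_of_mem_Zc _ (Or.inr h) htr
        · exact h
      exact ⟨a, b, hq, key x hxK, key y hyK⟩

end Cfsg.Agent.Lib.Helper38.Sol3
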