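import Mathlib
import Cfsg.Agent.Lib.Helper38.SolThreeStruct

set_option autoImplicit false
set_option linter.unusedSectionVars false
set_option linter.unusedVariables false
set_option linter.unusedSimpArgs false
set_option linter.unnecessarySimpa false

/-! Normalisers of quaternion subgroups of `SL₂(F)`, characteristic three. -/

namespace Cfsg.Agent.Lib.Helper38.Sol3

open Matrix Cfsg.Agent.Lib.Helper38

variable {F : Type*} [Field F] [CharP F 3]

local notation "SL" => Matrix.SpecialLinearGroup (Fin 2) F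

/-- the standard element of order four. -/
def W0 : SL := mk2 0 1 (-1) 0 (by ring)

theorem trc_W0 : trc (W0 : SL) = 0 := by
  unfold trc
  simp [W0]

/-- in a finite field where `-1` is not a square, every nonzero element is plus or minus a
square. -/
theorem exists_pm_sq [Fintype F] (hns : ∀ s : F, s * s ≠ -1) (c : F) (hc : c ≠ 0) :
    ∃ s : F, s * s = c ∨ s * s = -c := by
  classical
  have hneg : quadraticChar F (-1) = -1 := by
    rw [quadraticChar_neg_one_iff_not_isSquare]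
    rintro ⟨s, hs⟩
    exact hns s hs.symm
  rcases quadraticChar_dichotomy hc with h | h
  · obtain ⟨s, hs⟩ := (quadraticChar_one_iff_isSquare hc).mp h
    exact ⟨s, Or.inl hs.symm⟩
  · have hc' : -c ≠ 0 := neg_ne_zero.mpr hc
    have h1 : quadraticChar F (-c) = 1 := by
      have : -c = (-1) * c := by ring
      rw [this, map_mul, hneg, h]
      norm_num
    obtain ⟨s, hs⟩ := (quadraticChar_one_iff_isSquare hc').mp h1
    exact ⟨s, Or.inr hs.symm⟩

/-- traceless elements are conjugate to `W0`. -/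
theorem conj_to_W0 (hns : ∀ s : F, s * s ≠ -1)
    (hsq : ∀ c : F, c ≠ 0 → ∃ s : F, s * s = c ∨ s * s = -c) (a : SL) (ha : trc a = 0) :
    ∃ g : SL, g * a * g⁻¹ = W0 := by
  unfold trc at ha
  have hd := sl2_det a
  have h3 := three0 (F := F)
  have hβ : a.1 0 1 ≠ 0 := by
    intro h
    apply hns (a.1 0 0)
    grind
  suffices h : ∃ g : SL, g * a = W0 * g by
    obtain ⟨g, hg⟩ := h
    exact ⟨g, by rw [hg]; group⟩
  have hβi : a.1 0 1 * (a.1 0 1)⁻¹ = 1 := mul_inv_cancel₀ hβ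
  obtain ⟨s, hs⟩ := hsq (a.1 0 1) hβ
  generalize (a.1 0 1)⁻¹ = βi at hβi
  rcases hs with hs | hs
  · refine ⟨mk2 (s * βi) 0 (s * βi * a.1 0 0) s (by grind), ?_⟩
    rw [eq_iff]
    simp only [sl2_mul_apply, W0, mk2_00, mk2_01, mk2_10, mk2_11]
    refine ⟨?_, ?_, ?_, ?_⟩ <;> grind
  · refine ⟨mk2 (s * (1 + a.1 0 0) * βi) s (s * (1 + a.1 0 0) * βi * a.1 0 0 + s * a.1 1 0) s
      (by grind), ?_⟩
    rw [eq_iff]
    simp only [sl2_mul_apply, W0, mk2_00, mk2_01, mk2_10, mk2_11]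
    refine ⟨?_, ?_, ?_, ?_⟩ <;> grind

theorem conj_neg (g t : SL) : g * (-t) * g⁻¹ = -(g * t * g⁻¹) := by
  rw [mul_neg, neg_mul]

theorem IsQPair.conj {a b : SL} (hq : IsQPair a b) (g : SL) :
    IsQPair (g * a * g⁻¹) (g * b * g⁻¹) := by
  obtain ⟨ha, hb, hab⟩ := hq
  refine ⟨by rw [trc_conj]; exact ha, by rw [trc_conj]; exact hb, ?_⟩
  calc g * a * g⁻¹ * (g * b * g⁻¹) = g * (a * b) * g⁻¹ := by group
    _ = g * (-(b * a)) * g⁻¹ := by rw [hab]
    _ = -(g * (b * a) * g⁻¹) := conj_neg _ _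
    _ = -(g * b * g⁻¹ * (g * a * g⁻¹)) := by congr 1; group

theorem qT_conj (g a b t : SL) (ht : t ∈ qT a b) :
    g * t * g⁻¹ ∈ qT (g * a * g⁻¹) (g * b * g⁻¹) := by
  have e : g * (a * b) * g⁻¹ = g * a * g⁻¹ * (g * b * g⁻¹) := by group
  rcases ht with rfl | rfl | rfl | rfl | rfl | rfl
  · left; rfl
  · right; left; exact conj_neg _ _
  · right; right; left; rfl
  · right; right; right; left; exact conj_neg _ _
  · right; right; right; right; left; exact e
  · right; right; right; right; right; rw [conj_neg, e]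

theorem qT_conj' (g a b t' : SL) (ht : t' ∈ qT (g * a * g⁻¹) (g * b * g⁻¹)) :
    ∃ t ∈ qT a b, t' = g * t * g⁻¹ := by
  have e : g * (a * b) * g⁻¹ = g * a * g⁻¹ * (g * b * g⁻¹) := by group
  rcases ht with rfl | rfl | rfl | rfl | rfl | rfl
  · exact ⟨a, Or.inl rfl, rfl⟩
  · exact ⟨-a, Or.inr (Or.inl rfl), (conj_neg _ _).symm⟩
  · exact ⟨b, Or.inr (Or.inr (Or.inl rfl)), rfl⟩
  · exact ⟨-b, Or.inr (Or.inr (Or.inr (Or.inl rfl))), (conj_neg _ _).symm⟩
  · exact ⟨a * b, Or.inr (Or.inr (Or.inr (Or.inr (Or.inl rfl)))), e.symm⟩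
  · exact ⟨-(a * b), Or.inr (Or.inr (Or.inr (Or.inr (Or.inr rfl)))), by rw [conj_neg, e]⟩

theorem QNorm.conj {a b h : SL} (hn : QNorm a b h) (g : SL) :
    QNorm (g * a * g⁻¹) (g * b * g⁻¹) (g * h * g⁻¹) := by
  intro t' ht'
  obtain ⟨t, ht, rfl⟩ := qT_conj' g a b t' ht'
  have e : g * h * g⁻¹ * (g * t * g⁻¹) * (g * h * g⁻¹)⁻¹ = g * (h * t * h⁻¹) * g⁻¹ := by group
  rw [e]
  exact qT_conj g a b _ (hn t ht)

theorem QNorm.mul {a b h k : SL} (hh : QNorm a b h) (hk : QNorm a b k) : QNorm a b (h * k) := by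
  intro t ht
  have e : h * k * t * (h * k)⁻¹ = h * (k * t * k⁻¹) * h⁻¹ := by group
  rw [e]
  exact hh _ (hk t ht)

set_option maxHeartbeats 4000000 in
/-- the case analysis for an element permuting the quaternion elements. -/
theorem qclassW_aux (hns : ∀ s : F, s * s ≠ -1) (b h z₁ z₂ : SL) (hq : IsQPair W0 b)
    (hz₁ : z₁ ∈ qT W0 b) (hz₂ : z₂ ∈ qT W0 b) (e1 : h * W0 = z₁ * h) (e2 : h * b = z₂ * h) :
    ((h * W0 = W0 * h ∨ h * W0 = -(W0 * h)) ∧ (h * b = b * h ∨ h * b = -(b * h))) ∨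
      (trc h ^ 2 = 1 ∧ trc (h * W0) ^ 2 = 1 ∧ trc (h * b) ^ 2 = 1 ∧
        trc (h * (W0 * b)) ^ 2 = 1) := by
  obtain ⟨ha, hb, hab⟩ := hq
  have hdb := sl2_det b
  have hdh := sl2_det h
  have n1 := hns (trc h)
  have n2 := hns (trc (h * W0))
  have n3 := hns (trc (h * b))
  have n4 := hns (trc (h * (W0 * b)))
  rcases hz₁ with rfl | rfl | rfl | rfl | rfl | rfl <;>
    rcases hz₂ with rfl | rfl | rfl | rfl | rfl | rfl
  · right
    unfold trc at *
    simp only [eq_iff, sl2_mul_apply, neg_apply, W0, mk2_00, mk2_01, mk2_10, mk2_11] at *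
    refine ⟨?_, ?_, ?_, ?_⟩ <;> grind
  · right
    unfold trc at *
    simp only [eq_iff, sl2_mul_apply, neg_apply, W0, mk2_00, mk2_01, mk2_10, mk2_11] at *
    refine ⟨?_, ?_, ?_, ?_⟩ <;> grind
  · left
    exact ⟨Or.inl e1, Or.inl e2⟩
  · left
    exact ⟨Or.inl e1, Or.inr (by rw [e2, neg_mul])⟩
  · right
    unfold trc at *
    simp only [eq_iff, sl2_mul_apply, neg_apply, W0, mk2_00, mk2_01, mk2_10, mk2_11] at *
    refine ⟨?_, ?_, ?_, ?_⟩ <;> grind
  · right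
    unfold trc at *
    simp only [eq_iff, sl2_mul_apply, neg_apply, W0, mk2_00, mk2_01, mk2_10, mk2_11] at *
    refine ⟨?_, ?_, ?_, ?_⟩ <;> grind
  · right
    unfold trc at *
    simp only [eq_iff, sl2_mul_apply, neg_apply, W0, mk2_00, mk2_01, mk2_10, mk2_11] at *
    refine ⟨?_, ?_, ?_, ?_⟩ <;> grind
  · right
    unfold trc at *
    simp only [eq_iff, sl2_mul_apply, neg_apply, W0, mk2_00, mk2_01, mk2_10, mk2_11] at *
    refine ⟨?_, ?_, ?_, ?_⟩ <;> grind
  · left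
    exact ⟨Or.inr (by rw [e1, neg_mul]), Or.inl e2⟩
  · left
    exact ⟨Or.inr (by rw [e1, neg_mul]), Or.inr (by rw [e2, neg_mul])⟩
  · right
    unfold trc at *
    simp only [eq_iff, sl2_mul_apply, neg_apply, W0, mk2_00, mk2_01, mk2_10, mk2_11] at *
    refine ⟨?_, ?_, ?_, ?_⟩ <;> grind
  · right
    unfold trc at *
    simp only [eq_iff, sl2_mul_apply, neg_apply, W0, mk2_00, mk2_01, mk2_10, mk2_11] at *
    refine ⟨?_, ?_, ?_, ?_⟩ <;> grind
  · right
    unfold trc at *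
    simp only [eq_iff, sl2_mul_apply, neg_apply, W0, mk2_00, mk2_01, mk2_10, mk2_11] at *
    refine ⟨?_, ?_, ?_, ?_⟩ <;> grind
  · right
    unfold trc at *
    simp only [eq_iff, sl2_mul_apply, neg_apply, W0, mk2_00, mk2_01, mk2_10, mk2_11] at *
    refine ⟨?_, ?_, ?_, ?_⟩ <;> grind
  · right
    unfold trc at *
    simp only [eq_iff, sl2_mul_apply, neg_apply, W0, mk2_00, mk2_01, mk2_10, mk2_11] at *
    refine ⟨?_, ?_, ?_, ?_⟩ <;> grind
  · right
    unfold trc at *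
    simp only [eq_iff, sl2_mul_apply, neg_apply, W0, mk2_00, mk2_01, mk2_10, mk2_11] at *
    refine ⟨?_, ?_, ?_, ?_⟩ <;> grind
  · right
    unfold trc at *
    simp only [eq_iff, sl2_mul_apply, neg_apply, W0, mk2_00, mk2_01, mk2_10, mk2_11] at *
    refine ⟨?_, ?_, ?_, ?_⟩ <;> grind
  · right
    unfold trc at *
    simp only [eq_iff, sl2_mul_apply, neg_apply, W0, mk2_00, mk2_01, mk2_10, mk2_11] at *
    refine ⟨?_, ?_, ?_, ?_⟩ <;> grind
  · right
    unfold trc at *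
    simp only [eq_iff, sl2_mul_apply, neg_apply, W0, mk2_00, mk2_01, mk2_10, mk2_11] at *
    refine ⟨?_, ?_, ?_, ?_⟩ <;> grind
  · right
    unfold trc at *
    simp only [eq_iff, sl2_mul_apply, neg_apply, W0, mk2_00, mk2_01, mk2_10, mk2_11] at *
    refine ⟨?_, ?_, ?_, ?_⟩ <;> grind
  · right
    unfold trc at *
    simp only [eq_iff, sl2_mul_apply, neg_apply, W0, mk2_00, mk2_01, mk2_10, mk2_11] at *
    refine ⟨?_, ?_, ?_, ?_⟩ <;> grind
  · right
    unfold trc at *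
    simp only [eq_iff, sl2_mul_apply, neg_apply, W0, mk2_00, mk2_01, mk2_10, mk2_11] at *
    refine ⟨?_, ?_, ?_, ?_⟩ <;> grind
  · right
    unfold trc at *
    simp only [eq_iff, sl2_mul_apply, neg_apply, W0, mk2_00, mk2_01, mk2_10, mk2_11] at *
    refine ⟨?_, ?_, ?_, ?_⟩ <;> grind
  · right
    unfold trc at *
    simp only [eq_iff, sl2_mul_apply, neg_apply, W0, mk2_00, mk2_01, mk2_10, mk2_11] at *
    refine ⟨?_, ?_, ?_, ?_⟩ <;> grind
  · right
    unfold trc at *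
    simp only [eq_iff, sl2_mul_apply, neg_apply, W0, mk2_00, mk2_01, mk2_10, mk2_11] at *
    refine ⟨?_, ?_, ?_, ?_⟩ <;> grind
  · right
    unfold trc at *
    simp only [eq_iff, sl2_mul_apply, neg_apply, W0, mk2_00, mk2_01, mk2_10, mk2_11] at *
    refine ⟨?_, ?_, ?_, ?_⟩ <;> grind
  · right
    unfold trc at *
    simp only [eq_iff, sl2_mul_apply, neg_apply, W0, mk2_00, mk2_01, mk2_10, mk2_11] at *
    refine ⟨?_, ?_, ?_, ?_⟩ <;> grind
  · right
    unfold trc at *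
    simp only [eq_iff, sl2_mul_apply, neg_apply, W0, mk2_00, mk2_01, mk2_10, mk2_11] at *
    refine ⟨?_, ?_, ?_, ?_⟩ <;> grind
  · right
    unfold trc at *
    simp only [eq_iff, sl2_mul_apply, neg_apply, W0, mk2_00, mk2_01, mk2_10, mk2_11] at *
    refine ⟨?_, ?_, ?_, ?_⟩ <;> grind
  · right
    unfold trc at *
    simp only [eq_iff, sl2_mul_apply, neg_apply, W0, mk2_00, mk2_01, mk2_10, mk2_11] at *
    refine ⟨?_, ?_, ?_, ?_⟩ <;> grind
  · right
    unfold trc at *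
    simp only [eq_iff, sl2_mul_apply, neg_apply, W0, mk2_00, mk2_01, mk2_10, mk2_11] at *
    refine ⟨?_, ?_, ?_, ?_⟩ <;> grind
  · right
    unfold trc at *
    simp only [eq_iff, sl2_mul_apply, neg_apply, W0, mk2_00, mk2_01, mk2_10, mk2_11] at *
    refine ⟨?_, ?_, ?_, ?_⟩ <;> grind
  · right
    unfold trc at *
    simp only [eq_iff, sl2_mul_apply, neg_apply, W0, mk2_00, mk2_01, mk2_10, mk2_11] at *
    refine ⟨?_, ?_, ?_, ?_⟩ <;> grind
  · right
    unfold trc at *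
    simp only [eq_iff, sl2_mul_apply, neg_apply, W0, mk2_00, mk2_01, mk2_10, mk2_11] at *
    refine ⟨?_, ?_, ?_, ?_⟩ <;> grind
  · right
    unfold trc at *
    simp only [eq_iff, sl2_mul_apply, neg_apply, W0, mk2_00, mk2_01, mk2_10, mk2_11] at *
    refine ⟨?_, ?_, ?_, ?_⟩ <;> grind
  · right
    unfold trc at *
    simp only [eq_iff, sl2_mul_apply, neg_apply, W0, mk2_00, mk2_01, mk2_10, mk2_11] at *
    refine ⟨?_, ?_, ?_, ?_⟩ <;> grind

/-- classification of the elements permuting the quaternion elements (normalised form). -/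
theorem qclassW (hns : ∀ s : F, s * s ≠ -1) (b h : SL) (hq : IsQPair W0 b)
    (hn : QNorm W0 b h) :
    (h = 1 ∨ h = -1 ∨ h ∈ qT W0 b) ∨
      (trc h ^ 2 = 1 ∧ trc (h * W0) ^ 2 = 1 ∧ trc (h * b) ^ 2 = 1 ∧
        trc (h * (W0 * b)) ^ 2 = 1) := by
  have hz₁ : h * W0 * h⁻¹ ∈ qT W0 b := hn W0 (Or.inl rfl)
  have hz₂ : h * b * h⁻¹ ∈ qT W0 b := hn b (Or.inr (Or.inr (Or.inl rfl)))
  have e1 : h * W0 = (h * W0 * h⁻¹) * h := by group
  have e2 : h * b = (h * b * h⁻¹) * h := by group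
  rcases qclassW_aux hns b h _ _ hq hz₁ hz₂ e1 e2 with ⟨c1, c2⟩ | c
  · left
    exact q0 W0 b h hq c1 c2
  · right
    exact c

end Cfsg.Agent.Lib.Helper38.Sol3
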