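import Mathlib
import Cfsg.Agent.Lib.Helper38.SolThreeQuat

set_option autoImplicit false
set_option linter.unusedSectionVars false
set_option linter.unusedVariables false
set_option linter.unusedSimpArgs false
set_option linter.unnecessarySimpa false

/-! Necessary conditions for solvability of two-generated subgroups of `SL₂(F)`,
characteristic three. -/

namespace Cfsg.Agent.Lib.Helper38.Sol3

open Matrix Cfsg.Agent.Lib.Helper38

variable {F : Type*} [Field F] [CharP F 3]

local notation "SL" => Matrix.SpecialLinearGroup (Fin 2) F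

theorem trc_cube_of_qnorm (hns : ∀ s : F, s * s ≠ -1) (b h : SL) (hq : IsQPair W0 b)
    (hn : QNorm W0 b h) : trc h ^ 3 = trc h := by
  have h3 := three0 (F := F)
  rcases qclassW hns b h hq hn with (rfl | rfl | ht) | ⟨c, -, -, -⟩
  · rw [trc_one]; linear_combination (2 : F) * h3
  · rw [trc_neg, trc_one]; linear_combination (-2 : F) * h3
  · rw [hq.trc_of_mem ht]; ring
  · linear_combination trc h * c

/-- consequences of normalising a common quaternion subgroup. -/
theorem quat_facts (hns : ∀ s : F, s * s ≠ -1)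
    (hsq : ∀ c : F, c ≠ 0 → ∃ s : F, s * s = c ∨ s * s = -c) (x y a b : SL) (hq : IsQPair a b)
    (hx : QNorm a b x) (hy : QNorm a b y) :
    trc x ^ 3 = trc x ∧ trc y ^ 3 = trc y ∧ trc (y * x) ^ 3 = trc (y * x) ∧
      (trc x = 0 → (trc y = 0 ∨ y = 1 ∨ y = -1 ∨ (trc y ^ 2 = 1 ∧ trc (y * x) ^ 2 = 1))) := by
  obtain ⟨g, hg⟩ := conj_to_W0 hns hsq a hq.1
  have hq' : IsQPair W0 (g * b * g⁻¹) := by
    have := hq.conj g
    rwa [hg] at this
  have hconj : ∀ h, QNorm a b h → QNorm W0 (g * b * g⁻¹) (g * h * g⁻¹) := by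
    intro h hh
    have := hh.conj g
    rwa [hg] at this
  have hcube : ∀ h, QNorm a b h → trc h ^ 3 = trc h := by
    intro h hh
    have := trc_cube_of_qnorm hns _ _ hq' (hconj h hh)
    rwa [trc_conj] at this
  refine ⟨hcube x hx, hcube y hy, hcube _ (hy.mul hx), ?_⟩
  intro hx0
  have hx'0 : trc (g * x * g⁻¹) = 0 := by rw [trc_conj]; exact hx0
  have hy't : trc (g * y * g⁻¹) = trc y := trc_conj g y
  have hyx : trc (g * y * g⁻¹ * (g * x * g⁻¹)) = trc (y * x) := by
    have : g * y * g⁻¹ * (g * x * g⁻¹) = g * (y * x) * g⁻¹ := by group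
    rw [this, trc_conj]
  have hx'T : g * x * g⁻¹ ∈ qT W0 (g * b * g⁻¹) := by
    rcases qclassW hns _ _ hq' (hconj x hx) with (h | h | h) | ⟨c, -, -, -⟩
    · exfalso; exact trc_ne_zero_of_mem_Zc _ (Or.inl h) hx'0
    · exfalso; exact trc_ne_zero_of_mem_Zc _ (Or.inr h) hx'0
    · exact h
    · exfalso
      rw [hx'0] at c
      simp at c
  rcases qclassW hns _ _ hq' (hconj y hy) with (h | h | h) | ⟨c0, c1, c2, c3⟩
  · right; left
    have : y = g⁻¹ * (g * y * g⁻¹) * g := by group
    rw [this, h]; group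
  · right; right; left
    have : y = g⁻¹ * (g * y * g⁻¹) * g := by group
    rw [this, h, mul_neg, neg_mul, mul_one, inv_mul_cancel]
  · left
    rw [← hy't]
    exact hq'.trc_of_mem h
  · right; right; right
    refine ⟨by rw [← hy't]; exact c0, ?_⟩
    rw [← hyx]
    rcases hx'T with h | h | h | h | h | h <;> rw [h]
    · exact c1
    · rw [mul_neg, trc_neg, neg_sq]; exact c1
    · exact c2
    · rw [mul_neg, trc_neg, neg_sq]; exact c2
    · exact c3
    · rw [mul_neg, trc_neg, neg_sq]; exact c3

/-- a traceless element has no invariant line when `-1` is not a square. -/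
theorem no_line_of_trc (hns : ∀ s : F, s * s ≠ -1) (x : SL) (hx : trc x = 0) (v : F × F)
    (hv : v ≠ 0) : ¬ FixesLine x v := by
  rintro ⟨μ, hμ⟩
  have := root_of_eigen x v hv μ hμ
  rw [hx] at this
  apply hns μ
  linear_combination this

/-- the description of the solubilizer of a traceless element. -/
def SolT (x y : SL) : Prop :=
  trc y = 0 ∨ trc (y * x) = 0 ∨ y * x = x * y ∨ (trc y ^ 2 = 1 ∧ trc (y * x) ^ 2 = 1)

theorem solT_of_isSolvable (hns : ∀ s : F, s * s ≠ -1)
    (hsq : ∀ c : F, c ≠ 0 → ∃ s : F, s * s = c ∨ s * s = -c) (x y : SL) (hx : trc x = 0)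
    [hsol : Group.IsSolvable (Subgroup.closure ({x, y} : Set SL))] : SolT x y := by
  have hxZ : x ∉ Zc F := fun h => trc_ne_zero_of_mem_Zc x h hx
  have hxs : trc x ^ 2 ≠ 1 := by rw [hx]; simp
  rcases sol_cases x y hxZ with ⟨v, hv0, hxv, -⟩ | ⟨a, hat, hxa, hya⟩ | ⟨a, b, hq, hx', hy'⟩
  · exact absurd hxv (no_line_of_trc hns x hx v hv0)
  · rcases hxa with hxa | hxa
    · have hcomm : x * a = a * x := by
        calc x * a = (x * a * x⁻¹) * x := by group
          _ = a * x := by rw [hxa]
      rcases mem_invNormalizer_of_commute x a y hxs hat hcomm hya with h | h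
      · right; right; left
        calc y * x = (y * x * y⁻¹) * y := by group
          _ = x * y := by rw [h]
      · left
        exact trc_of_inverts x y hxs h
    · rcases hya with h | h
      · right; left
        apply trc_of_inverts a (y * x) hat
        calc (y * x) * a * (y * x)⁻¹ = y * (x * a * x⁻¹) * y⁻¹ := by group
          _ = y * a⁻¹ * y⁻¹ := by rw [hxa]
          _ = (y * a * y⁻¹)⁻¹ := by group
          _ = a⁻¹ := by rw [h]
      · left
        exact trc_of_inverts a y hat h
  · rcases (quat_facts hns hsq x y a b hq hx' hy').2.2.2 hx with h | h | h | h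
    · left; exact h
    · right; right; left
      rw [h, one_mul, mul_one]
    · right; right; left
      rw [h, neg_mul, mul_neg, one_mul, mul_one]
    · right; right; right
      exact h

/-- the standard unipotent element. -/
def U1 : SL := mk2 1 1 0 1 (by ring)

theorem U1_not_mem_Zc : (U1 : SL) ∉ Zc F := by
  rintro (h | h)
  · have := ((eq_iff _ _).mp h).2.1
    simp [U1] at this
  · have := ((eq_iff _ _).mp h).2.1
    rw [neg_one_apply01] at this
    simp [U1] at this

theorem trc_U1 : trc (U1 : SL) = 2 := by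
  unfold trc
  simp only [U1, mk2_00, mk2_11]
  norm_num

theorem solU_of_isSolvable (hns : ∀ s : F, s * s ≠ -1)
    (hsq : ∀ c : F, c ≠ 0 → ∃ s : F, s * s = c ∨ s * s = -c) (y : SL)
    [hsol : Group.IsSolvable (Subgroup.closure ({U1, y} : Set SL))] :
    y.1 1 0 = 0 ∨ (y.1 1 0 ^ 2 = 1 ∧ trc y ^ 3 = trc y) := by
  have h3 := three0 (F := F)
  rcases sol_cases U1 y U1_not_mem_Zc with
    ⟨v, hv0, ⟨μ, hμ⟩, ⟨ν, hν⟩⟩ | ⟨a, hat, hxa, hya⟩ | ⟨a, b, hq, hx', hy'⟩
  · left
    unfold act at hμ hν
    have a1 := congrArg Prod.fst hμ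
    have a2 := congrArg Prod.snd hμ
    have b2 := congrArg Prod.snd hν
    simp only [U1, mk2_00, mk2_01, mk2_10, mk2_11, Prod.smul_fst, Prod.smul_snd,
      smul_eq_mul] at a1 a2 b2
    have hv2 : v.2 = 0 := by
      by_contra hv2
      have hμ1 : μ = 1 := by
        have : (μ - 1) * v.2 = 0 := by linear_combination -a2
        exact sub_eq_zero.mp ((mul_eq_zero.mp this).resolve_right hv2)
      rw [hμ1] at a1
      apply hv2
      linear_combination a1
    have hv1 : v.1 ≠ 0 := by
      intro h
      apply hv0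
      ext
      · exact h
      · exact hv2
    rw [hv2] at b2
    have : y.1 1 0 * v.1 = 0 := by linear_combination b2
    exact (mul_eq_zero.mp this).resolve_right hv1
  · exfalso
    rcases hxa with h | h
    · apply hat
      have h' : U1 * a = a * U1 := by
        calc U1 * a = (U1 * a * U1⁻¹) * U1 := by group
          _ = a * U1 := by rw [h]
      rw [eq_iff] at h'
      simp only [sl2_mul_apply, U1, mk2_00, mk2_01, mk2_10, mk2_11] at h'
      have hd := sl2_det a
      unfold trc
      grind
    · have := trc_of_inverts a U1 hat h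
      rw [trc_U1] at this
      exact two_ne this
  · obtain ⟨-, c1, c2, -⟩ := quat_facts hns hsq U1 y a b hq hx' hy'
    have e : y.1 1 0 = trc (y * U1) - trc y := by
      unfold trc
      simp only [sl2_mul_apply, U1, mk2_00, mk2_01, mk2_10, mk2_11]
      ring
    have hc : y.1 1 0 ^ 3 = y.1 1 0 := by
      rw [e]
      linear_combination c2 - c1 +
        (-(trc (y * U1) ^ 2 * trc y) + trc (y * U1) * trc y ^ 2) * h3
    have : y.1 1 0 * (y.1 1 0 ^ 2 - 1) = 0 := by linear_combination hc
    rcases mul_eq_zero.mp this with h | h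
    · left; exact h
    · right
      exact ⟨by linear_combination h, c1⟩

/-- the diagonal element. -/
def dg (l : F) (hl : l ≠ 0) : SL := mk2 l 0 0 l⁻¹ (by rw [mul_inv_cancel₀ hl]; ring)

theorem trc_dg (l : F) (hl : l ≠ 0) : trc (dg l hl) = l + l⁻¹ := by
  unfold trc
  simp [dg]

theorem trc_dg_ne_zero (hns : ∀ s : F, s * s ≠ -1) (l : F) (hl : l ≠ 0) : trc (dg l hl) ≠ 0 := by
  rw [trc_dg]
  intro h
  apply hns l
  have hli : l * l⁻¹ = 1 := mul_inv_cancel₀ hl
  generalize l⁻¹ = li at h hli
  linear_combination l * h - hli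

theorem trc_dg_sq_ne_one (l : F) (hl : l ≠ 0) (hl2 : l * l ≠ 1) : trc (dg l hl) ^ 2 ≠ 1 := by
  rw [trc_dg]
  intro h
  apply hl2
  have h3 := three0 (F := F)
  have hli : l * l⁻¹ = 1 := mul_inv_cancel₀ hl
  generalize l⁻¹ = li at h hli
  have : (l * l - 1) ^ 2 = 0 := by grind
  exact sub_eq_zero.mp ((pow_eq_zero_iff two_ne_zero).mp this)

theorem dg_not_mem_Zc (l : F) (hl : l ≠ 0) (hl2 : l * l ≠ 1) : dg l hl ∉ Zc F := by
  rintro (h | h)
  · have := ((eq_iff _ _).mp h).1
    rw [sl2_one_00] at this
    simp only [dg, mk2_00] at this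
    apply hl2
    rw [this, mul_one]
  · have := ((eq_iff _ _).mp h).1
    rw [neg_one_apply00] at this
    simp only [dg, mk2_00] at this
    apply hl2
    rw [this]
    ring

theorem inv_sub_ne (l : F) (hl : l ≠ 0) (hl2 : l * l ≠ 1) : l⁻¹ - l ≠ 0 := by
  intro h
  apply hl2
  have : l⁻¹ = l := sub_eq_zero.mp h
  calc l * l = l * l⁻¹ := by rw [this]
    _ = 1 := mul_inv_cancel₀ hl

theorem solD_of_isSolvable (hns : ∀ s : F, s * s ≠ -1)
    (hsq : ∀ c : F, c ≠ 0 → ∃ s : F, s * s = c ∨ s * s = -c) (l : F) (hl : l ≠ 0)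
    (hl2 : l * l ≠ 1) (y : SL)
    [hsol : Group.IsSolvable (Subgroup.closure ({dg l hl, y} : Set SL))] :
    y.1 1 0 = 0 ∨ y.1 0 1 = 0 ∨ (y.1 0 0 = 0 ∧ y.1 1 1 = 0) := by
  have hll := inv_sub_ne l hl hl2
  rcases sol_cases (dg l hl) y (dg_not_mem_Zc l hl hl2) with
    ⟨v, hv0, ⟨μ, hμ⟩, ⟨ν, hν⟩⟩ | ⟨a, hat, hDa, hya⟩ | ⟨a, b, hq, hx', hy'⟩
  · unfold act at hμ hν
    have a1 := congrArg Prod.fst hμ
    have a2 := congrArg Prod.snd hμ
    have b1 := congrArg Prod.fst hν
    have b2 := congrArg Prod.snd hν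
    simp only [dg, mk2_00, mk2_01, mk2_10, mk2_11, Prod.smul_fst, Prod.smul_snd,
      smul_eq_mul] at a1 a2 b1 b2
    by_cases hv2 : v.2 = 0
    · left
      have hv1 : v.1 ≠ 0 := by
        intro h
        apply hv0
        ext
        · exact h
        · exact hv2
      rw [hv2] at b2
      have : y.1 1 0 * v.1 = 0 := by linear_combination b2
      exact (mul_eq_zero.mp this).resolve_right hv1
    · right; left
      have hμ2 : μ = l⁻¹ := by
        have : (l⁻¹ - μ) * v.2 = 0 := by linear_combination a2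
        exact (sub_eq_zero.mp ((mul_eq_zero.mp this).resolve_right hv2)).symm
      have hv1 : v.1 = 0 := by
        by_contra hv1
        have : (l - μ) * v.1 = 0 := by linear_combination a1
        have h3 : l = μ := sub_eq_zero.mp ((mul_eq_zero.mp this).resolve_right hv1)
        apply hll
        rw [← hμ2, ← h3, sub_self]
      rw [hv1] at b1
      have : y.1 0 1 * v.2 = 0 := by linear_combination b1
      exact (mul_eq_zero.mp this).resolve_right hv2
  · have hDcomm : dg l hl * a = a * dg l hl := by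
      rcases hDa with h | h
      · calc dg l hl * a = (dg l hl * a * (dg l hl)⁻¹) * dg l hl := by group
          _ = a * dg l hl := by rw [h]
      · exfalso
        exact trc_dg_ne_zero hns l hl (trc_of_inverts a (dg l hl) hat h)
    have hy := mem_invNormalizer_of_commute (dg l hl) a y (trc_dg_sq_ne_one l hl hl2) hat
      hDcomm hya
    rcases hy with h | h
    · right; left
      have h' : y * dg l hl = dg l hl * y := by
        calc y * dg l hl = (y * dg l hl * y⁻¹) * y := by group
          _ = dg l hl * y := by rw [h]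
      have e01 := ((eq_iff _ _).mp h').2.1
      rw [sl2_mul_apply, sl2_mul_apply] at e01
      simp only [dg, mk2_00, mk2_01, mk2_10, mk2_11] at e01
      have : y.1 0 1 * (l⁻¹ - l) = 0 := by linear_combination e01
      exact (mul_eq_zero.mp this).resolve_right hll
    · right; right
      have h' : y * dg l hl = (dg l hl)⁻¹ * y := by
        calc y * dg l hl = (y * dg l hl * y⁻¹) * y := by group
          _ = (dg l hl)⁻¹ * y := by rw [h]
      obtain ⟨e00, -, -, e11⟩ := (eq_iff _ _).mp h'
      rw [sl2_mul_apply, sl2_mul_apply] at e00 e11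
      simp only [dg, mk2_00, mk2_01, mk2_10, mk2_11, inv00, inv01, inv10, inv11] at e00 e11
      constructor
      · have : y.1 0 0 * (l⁻¹ - l) = 0 := by linear_combination -e00
        exact (mul_eq_zero.mp this).resolve_right hll
      · have : y.1 1 1 * (l⁻¹ - l) = 0 := by linear_combination e11
        exact (mul_eq_zero.mp this).resolve_right hll
  · exfalso
    have c := (quat_facts hns hsq (dg l hl) y a b hq hx' hy').1
    have : trc (dg l hl) * (trc (dg l hl) ^ 2 - 1) = 0 := by linear_combination c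
    rcases mul_eq_zero.mp this with h | h
    · exact trc_dg_ne_zero hns l hl h
    · exact trc_dg_sq_ne_one l hl hl2 (by linear_combination h)

/-- an element without invariant lines. -/
def IsElliptic (x : SL) : Prop := ∀ v : F × F, v ≠ 0 → ¬ FixesLine x v

theorem IsElliptic.trc_sq_ne_one {x : SL} (hx : IsElliptic x) : trc x ^ 2 ≠ 1 := by
  intro h
  obtain ⟨v, hv0, hv⟩ := exists_line x h
  exact hx v hv0 hv

theorem IsElliptic.not_mem_Zc {x : SL} (hx : IsElliptic x) : x ∉ Zc F := by
  rintro (h | h)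
  · apply hx (1, 0) (by simp)
    exact ⟨1, by rw [h, act_one, one_smul]⟩
  · apply hx (1, 0) (by simp)
    exact ⟨-1, by rw [h, act_neg, act_one]⟩

theorem solE_of_isSolvable (hns : ∀ s : F, s * s ≠ -1)
    (hsq : ∀ c : F, c ≠ 0 → ∃ s : F, s * s = c ∨ s * s = -c) (x : SL) (hx : IsElliptic x)
    (hx0 : trc x ≠ 0) (y : SL)
    [hsol : Group.IsSolvable (Subgroup.closure ({x, y} : Set SL))] : y ∈ invNormalizer x := by
  rcases sol_cases x y hx.not_mem_Zc with
    ⟨v, hv0, hxv, -⟩ | ⟨a, hat, hxa, hya⟩ | ⟨a, b, hq, hx', hy'⟩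
  · exact absurd hxv (hx v hv0)
  · have hcomm : x * a = a * x := by
      rcases hxa with h | h
      · calc x * a = (x * a * x⁻¹) * x := by group
          _ = a * x := by rw [h]
      · exfalso
        exact hx0 (trc_of_inverts a x hat h)
    exact mem_invNormalizer_of_commute x a y hx.trc_sq_ne_one hat hcomm hya
  · exfalso
    have c := (quat_facts hns hsq x y a b hq hx' hy').1
    have : trc x * (trc x ^ 2 - 1) = 0 := by linear_combination c
    rcases mul_eq_zero.mp this with h | h
    · exact hx0 h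
    · exact hx.trc_sq_ne_one (by linear_combination h)

end Cfsg.Agent.Lib.Helper38.Sol3
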