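import Mathlib
import Cfsg.Agent.Lib.Helper38.SolThreeCases

set_option autoImplicit false
set_option linter.unusedSectionVars false
set_option linter.unusedVariables false
set_option linter.unusedSimpArgs false
set_option linter.unnecessarySimpa false

/-! Sufficient conditions for solvability of two-generated subgroups of `SL₂(F)`,
characteristic three. -/

namespace Cfsg.Agent.Lib.Helper38.Sol3

open Matrix Cfsg.Agent.Lib.Helper38

variable {F : Type*} [Field F] [CharP F 3]

local notation "SL" => Matrix.SpecialLinearGroup (Fin 2) F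

/-- the quaternion group attached to a quaternion pair. -/
def N1 (a b : SL) : Subgroup SL := invNormalizer a ⊓ invNormalizer b

theorem isSolvable_N1 (a b : SL) (hq : IsQPair a b) : Group.IsSolvable (N1 a b) := by
  have hta : trc a ^ 2 ≠ 1 := by rw [hq.1]; simp
  have : Group.IsSolvable (invNormalizer a) := isSolvable_invNormalizer_of_trc a hta
  have hle : N1 a b ≤ invNormalizer a := inf_le_left
  exact Group.isSolvable_of_isSolvable_injective (f := Subgroup.inclusion hle)
    (Subgroup.inclusion_injective hle)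

theorem IsQPair.conj_right {a b : SL} (hq : IsQPair a b) : a * b * a⁻¹ = -b := by
  rw [hq.2.2, neg_mul]
  congr 1
  group

theorem IsQPair.conj_left {a b : SL} (hq : IsQPair a b) : b * a * b⁻¹ = -a := by
  have : b * a = -(a * b) := by rw [hq.2.2, neg_neg]
  rw [this, neg_mul]
  congr 1
  group

theorem left_mem_N1 (a b : SL) (hq : IsQPair a b) : a ∈ N1 a b := by
  constructor
  · left; group
  · right
    rw [hq.conj_right, inv_eq_neg_of_trc b hq.2.1]

theorem conj_mem_qT_of_mem_N1 (a b n p : SL) (hq : IsQPair a b) (hn : n ∈ N1 a b)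
    (hp : p ∈ qT a b) : n * p * n⁻¹ = p ∨ n * p * n⁻¹ = -p := by
  obtain ⟨hna, hnb⟩ := hn
  have hna' : n * a * n⁻¹ = a ∨ n * a * n⁻¹ = -a := by
    rcases hna with h | h
    · left; exact h
    · right; rw [h, inv_eq_neg_of_trc a hq.1]
  have hnb' : n * b * n⁻¹ = b ∨ n * b * n⁻¹ = -b := by
    rcases hnb with h | h
    · left; exact h
    · right; rw [h, inv_eq_neg_of_trc b hq.2.1]
  have hnab : n * (a * b) * n⁻¹ = a * b ∨ n * (a * b) * n⁻¹ = -(a * b) := by
    have e : n * (a * b) * n⁻¹ = (n * a * n⁻¹) * (n * b * n⁻¹) := by group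
    rw [e]
    rcases hna' with h1 | h1 <;> rcases hnb' with h2 | h2 <;> rw [h1, h2]
    · left; rfl
    · right; rw [mul_neg]
    · right; rw [neg_mul]
    · left; rw [neg_mul_neg]
  rcases hp with rfl | rfl | rfl | rfl | rfl | rfl
  · exact hna'
  · rw [conj_neg]
    rcases hna' with h | h
    · left; rw [h]
    · right; rw [h]
  · exact hnb'
  · rw [conj_neg]
    rcases hnb' with h | h
    · left; rw [h]
    · right; rw [h]
  · exact hnab
  · rw [conj_neg]
    rcases hnab with h | h
    · left; rw [h]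
    · right; rw [h]

/-- an element permuting the quaternion elements normalises the quaternion group. -/
theorem mem_normalizer_N1 [Finite F] (a b y p q : SL) (hq : IsQPair a b) (hp : p ∈ qT a b)
    (hq' : q ∈ qT a b) (e1 : a * y = y * p) (e2 : b * y = y * q) :
    y ∈ Subgroup.normalizer (N1 a b : Set SL) := by
  apply mem_normalizer_of_conj_le
  intro n hn
  have key : ∀ c p : SL, trc c = 0 → p ∈ qT a b → c * y = y * p →
      y * n * y⁻¹ ∈ invNormalizer c := by
    intro c p hc hp e
    have e' : y * p * y⁻¹ = c := by rw [← e]; group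
    have e3 : (y * n * y⁻¹) * c * (y * n * y⁻¹)⁻¹ = y * (n * p * n⁻¹) * y⁻¹ := by
      rw [← e']; group
    rw [mem_invNormalizer, e3]
    rcases conj_mem_qT_of_mem_N1 a b n p hq hn hp with h | h
    · left; rw [h, e']
    · right; rw [h, conj_neg, e', inv_eq_neg_of_trc c hc]
  exact ⟨key a p hq.1 hp e1, key b q hq.2.1 hq' e2⟩

/-- the standard second quaternion element. -/
def J0 : SL := mk2 1 1 1 (-1) (by linear_combination (-1 : F) * three0 (F := F))

theorem isQPair_W0_J0 : IsQPair (W0 : SL) J0 := by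
  refine ⟨trc_W0, ?_, ?_⟩
  · unfold trc; simp [J0]
  · rw [eq_iff]
    simp only [sl2_mul_apply, neg_apply, W0, J0, mk2_00, mk2_01, mk2_10, mk2_11]
    refine ⟨?_, ?_, ?_, ?_⟩ <;> ring

/-- `SL₂(𝔽₃)` is solvable. -/
theorem isSolvable_W0_U1 [Finite F] :
    Group.IsSolvable (Subgroup.closure ({W0, U1} : Set SL)) := by
  have h3 := three0 (F := F)
  have : Group.IsSolvable (N1 (W0 : SL) J0) := isSolvable_N1 _ _ isQPair_W0_J0
  apply isSolvable_closure_pair_of_normalizer (N1 (W0 : SL) J0) W0 U1
    (left_mem_N1 _ _ isQPair_W0_J0)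
  apply mem_normalizer_N1 W0 J0 U1 (W0 * J0) (-W0) isQPair_W0_J0
  · right; right; right; right; left; rfl
  · right; left; rfl
  · rw [eq_iff]
    simp only [sl2_mul_apply, neg_apply, W0, J0, U1, mk2_00, mk2_01, mk2_10, mk2_11]
    refine ⟨?_, ?_, ?_, ?_⟩ <;> grind
  · rw [eq_iff]
    simp only [sl2_mul_apply, neg_apply, W0, J0, U1, mk2_00, mk2_01, mk2_10, mk2_11]
    refine ⟨?_, ?_, ?_, ?_⟩ <;> grind

/-- upper unitriangular elements. -/
def Xs (s : F) : SL := mk2 1 s 0 1 (by ring)

theorem Xs_mem [Finite F] (k : F) (hk : k ^ 3 = k) :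
    Xs k ∈ Subgroup.closure ({W0, U1} : Set SL) := by
  have h3 := three0 (F := F)
  have hU : (U1 : SL) ∈ Subgroup.closure ({W0, U1} : Set SL) :=
    Subgroup.subset_closure (by simp)
  have : k * ((k - 1) * (k + 1)) = 0 := by linear_combination hk
  rcases mul_eq_zero.mp this with h | h
  · have : Xs k = 1 := by
      rw [eq_iff]
      simp only [Xs, mk2_00, mk2_01, mk2_10, mk2_11, sl2_one_00, sl2_one_01, sl2_one_10,
        sl2_one_11]
      exact ⟨trivial, h, trivial, trivial⟩
    rw [this]
    exact one_mem _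
  · rcases mul_eq_zero.mp h with h | h
    · have : Xs k = U1 := by
        rw [eq_iff]
        simp only [Xs, U1, mk2_00, mk2_01, mk2_10, mk2_11]
        exact ⟨trivial, by linear_combination h, trivial, trivial⟩
      rw [this]
      exact hU
    · have : Xs k = U1⁻¹ := by
        rw [eq_iff]
        simp only [Xs, U1, mk2_00, mk2_01, mk2_10, mk2_11, inv00, inv01, inv10, inv11]
        refine ⟨trivial, by linear_combination h, ?_, trivial⟩
        simp
      rw [this]
      exact inv_mem hU

theorem isSolvable_of_solU [Finite F] (y : SL)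
    (h : y.1 1 0 = 0 ∨ (y.1 1 0 ^ 2 = 1 ∧ trc y ^ 3 = trc y)) :
    Group.IsSolvable (Subgroup.closure ({U1, y} : Set SL)) := by
  have h3 := three0 (F := F)
  rcases h with h | ⟨hc, hτ⟩
  · have : Group.IsSolvable (upperB F) := isSolvable_upperB
    exact isSolvable_closure_pair_of_le (upperB F) U1 y (by rw [mem_upperB]; simp [U1]) h
  · have hd := sl2_det y
    rw [← isSolvable_closure_pair_iff (MulAut.conj (Xs (-(y.1 0 0 * y.1 1 0)))) U1 y]
    have : Group.IsSolvable (Subgroup.closure ({W0, U1} : Set SL)) := isSolvable_W0_U1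
    have hW : (W0 : SL) ∈ Subgroup.closure ({W0, U1} : Set SL) :=
      Subgroup.subset_closure (by simp)
    have hU : (U1 : SL) ∈ Subgroup.closure ({W0, U1} : Set SL) :=
      Subgroup.subset_closure (by simp)
    apply isSolvable_closure_pair_of_le (Subgroup.closure ({W0, U1} : Set SL))
    · rw [MulAut.conj_apply]
      have : Xs (-(y.1 0 0 * y.1 1 0)) * U1 * (Xs (-(y.1 0 0 * y.1 1 0)))⁻¹ = U1 := by
        rw [eq_iff]
        simp only [sl2_mul_apply, Xs, U1, mk2_00, mk2_01, mk2_10, mk2_11, inv00, inv01, inv10,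
          inv11]
        refine ⟨?_, ?_, ?_, ?_⟩ <;> ring
      rw [this]
      exact hU
    · rw [MulAut.conj_apply]
      have hc' : (y.1 1 0 - 1) * (y.1 1 0 + 1) = 0 := by linear_combination hc
      unfold trc at hτ
      rcases mul_eq_zero.mp hc' with h1 | h1
      · have hc1 : y.1 1 0 = 1 := by linear_combination h1
        have : Xs (-(y.1 0 0 * y.1 1 0)) * y * (Xs (-(y.1 0 0 * y.1 1 0)))⁻¹ =
            W0⁻¹ * Xs (y.1 0 0 + y.1 1 1) := by
          rw [eq_iff]
          simp only [sl2_mul_apply, Xs, W0, mk2_00, mk2_01, mk2_10, mk2_11, inv00, inv01, inv10,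
            inv11]
          refine ⟨?_, ?_, ?_, ?_⟩ <;> grind
        rw [this]
        exact mul_mem (inv_mem hW) (Xs_mem _ hτ)
      · have hc1 : y.1 1 0 = -1 := by linear_combination h1
        have : Xs (-(y.1 0 0 * y.1 1 0)) * y * (Xs (-(y.1 0 0 * y.1 1 0)))⁻¹ =
            W0 * Xs (-(y.1 0 0 + y.1 1 1)) := by
          rw [eq_iff]
          simp only [sl2_mul_apply, Xs, W0, mk2_00, mk2_01, mk2_10, mk2_11, inv00, inv01, inv10,
            inv11]
          refine ⟨?_, ?_, ?_, ?_⟩ <;> grind
        rw [this]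
        exact mul_mem hW (Xs_mem _ (by linear_combination -hτ))

theorem sq_add_sq_eq_zero (hns : ∀ s : F, s * s ≠ -1) (p q : F) (h : p * p + q * q = 0) :
    p = 0 ∧ q = 0 := by
  by_cases hq : q = 0
  · rw [hq] at h
    refine ⟨?_, hq⟩
    have : p * p = 0 := by linear_combination h
    exact mul_self_eq_zero.mp this
  · exfalso
    apply hns (p * q⁻¹)
    have hqi : q * q⁻¹ = 1 := mul_inv_cancel₀ hq
    generalize q⁻¹ = qi at hqi
    linear_combination qi * qi * h + (-q * qi - 1) * hqi

/-- two traceless elements invert their product. -/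
theorem mem_invNormalizer_mul_of_trc (x y : SL) (hx : trc x = 0) (hy : trc y = 0) :
    x ∈ invNormalizer (x * y) ∧ y ∈ invNormalizer (x * y) := by
  have hxi := inv_eq_neg_of_trc x hx
  have hyi := inv_eq_neg_of_trc y hy
  have hxx := mul_self_of_trc x hx
  have hyy := mul_self_of_trc y hy
  have hinv : (x * y)⁻¹ = y * x := by
    rw [_root_.mul_inv_rev, hxi, hyi, neg_mul_neg]
  constructor
  · right
    rw [hinv, hxi]
    calc x * (x * y) * -x = -((x * x) * y * x) := by rw [mul_neg]; congr 1; group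
      _ = y * x := by rw [hxx, neg_mul, neg_mul, one_mul, neg_neg]
  · right
    rw [hinv, hyi]
    calc y * (x * y) * -y = -(y * x * (y * y)) := by rw [mul_neg]; congr 1; group
      _ = y * x := by rw [hyy, mul_neg, mul_one, neg_neg]

theorem isSolvable_W0_of_trc (hns : ∀ s : F, s * s ≠ -1) (y : SL) (hy : trc y = 0) :
    Group.IsSolvable (Subgroup.closure ({W0, y} : Set SL)) := by
  by_cases ht : trc (W0 * y) ^ 2 = 1
  · -- then `y` commutes with `W0`
    have hW : trc (W0 : SL) ^ 2 ≠ 1 := by rw [trc_W0]; simp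
    have : Group.IsSolvable (invNormalizer (W0 : SL)) := isSolvable_invNormalizer_of_trc _ hW
    apply isSolvable_closure_pair_of_le (invNormalizer (W0 : SL)) W0 y
    · left; group
    · left
      have hd := sl2_det y
      unfold trc at hy ht
      simp only [sl2_mul_apply, W0, mk2_00, mk2_01, mk2_10, mk2_11] at ht
      have hsum : (y.1 0 1 + y.1 1 0) * (y.1 0 1 + y.1 1 0) + y.1 0 0 * y.1 0 0 = 0 := by
        grind
      obtain ⟨e1, e2⟩ := sq_add_sq_eq_zero hns _ _ hsum
      have hcomm : y * W0 = W0 * y := by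
        rw [eq_iff]
        simp only [sl2_mul_apply, W0, mk2_00, mk2_01, mk2_10, mk2_11]
        refine ⟨?_, ?_, ?_, ?_⟩ <;> grind
      rw [hcomm]; group
  · have : Group.IsSolvable (invNormalizer (W0 * y)) := isSolvable_invNormalizer_of_trc _ ht
    obtain ⟨h1, h2⟩ := mem_invNormalizer_mul_of_trc W0 y trc_W0 hy
    exact isSolvable_closure_pair_of_le (invNormalizer (W0 * y)) W0 y h1 h2

theorem isSolvable_of_solT [Finite F] (hns : ∀ s : F, s * s ≠ -1) (y : SL) (h : SolT W0 y) :
    Group.IsSolvable (Subgroup.closure ({W0, y} : Set SL)) := by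
  have h3 := three0 (F := F)
  rcases h with h | h | h | ⟨h0, h1⟩
  · exact isSolvable_W0_of_trc hns y h
  · have := isSolvable_W0_of_trc hns (y * W0) h
    apply isSolvable_closure_pair_of_le (Subgroup.closure ({W0, y * W0} : Set SL)) W0 y
    · exact Subgroup.subset_closure (by simp)
    · have e : y = (y * W0) * W0⁻¹ := by group
      rw [e]
      exact mul_mem (Subgroup.subset_closure (by simp))
        (inv_mem (Subgroup.subset_closure (by simp)))
  · have hW : trc (W0 : SL) ^ 2 ≠ 1 := by rw [trc_W0]; simp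
    have : Group.IsSolvable (invNormalizer (W0 : SL)) := isSolvable_invNormalizer_of_trc _ hW
    apply isSolvable_closure_pair_of_le (invNormalizer (W0 : SL)) W0 y
    · left; group
    · left
      rw [h]; group
  · -- the tetrahedral case
    have hd := sl2_det y
    unfold trc at h0 h1
    simp only [sl2_mul_apply, W0, mk2_00, mk2_01, mk2_10, mk2_11] at h1
    have hv : (y.1 0 0 - y.1 1 1 - (y.1 0 1 + y.1 1 0)) * -(y.1 0 0 - y.1 1 1 - (y.1 0 1 + y.1 1 0)) -
        (y.1 0 0 - y.1 1 1 + (y.1 0 1 + y.1 1 0)) * (y.1 0 0 - y.1 1 1 + (y.1 0 1 + y.1 1 0)) = 1 := by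
      grind
    set v : SL := mk2 (y.1 0 0 - y.1 1 1 - (y.1 0 1 + y.1 1 0))
      (y.1 0 0 - y.1 1 1 + (y.1 0 1 + y.1 1 0)) (y.1 0 0 - y.1 1 1 + (y.1 0 1 + y.1 1 0))
      (-(y.1 0 0 - y.1 1 1 - (y.1 0 1 + y.1 1 0))) hv with hvdef
    have hq : IsQPair W0 v := by
      refine ⟨trc_W0, ?_, ?_⟩
      · unfold trc; simp [hvdef]
      · rw [eq_iff]
        simp only [sl2_mul_apply, neg_apply, W0, hvdef, mk2_00, mk2_01, mk2_10, mk2_11]
        refine ⟨?_, ?_, ?_, ?_⟩ <;> ring
    have : Group.IsSolvable (N1 (W0 : SL) v) := isSolvable_N1 _ _ hq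
    apply isSolvable_closure_pair_of_normalizer (N1 (W0 : SL) v) W0 y (left_mem_N1 _ _ hq)
    have c0 : (y.1 0 0 + y.1 1 1 - 1) * (y.1 0 0 + y.1 1 1 + 1) = 0 := by linear_combination h0
    have c1 : (-y.1 0 1 + y.1 1 0 - 1) * (-y.1 0 1 + y.1 1 0 + 1) = 0 := by
      linear_combination h1
    rcases mul_eq_zero.mp c0 with t0 | t0 <;> rcases mul_eq_zero.mp c1 with t1 | t1
    · apply mem_normalizer_N1 W0 v y v (W0 * v) hq
      · right; right; left; rfl
      · right; right; right; right; left; rfl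
      · rw [eq_iff]
        simp only [sl2_mul_apply, neg_apply, W0, hvdef, mk2_00, mk2_01, mk2_10, mk2_11]
        refine ⟨?_, ?_, ?_, ?_⟩ <;> grind
      · rw [eq_iff]
        simp only [sl2_mul_apply, neg_apply, W0, hvdef, mk2_00, mk2_01, mk2_10, mk2_11]
        refine ⟨?_, ?_, ?_, ?_⟩ <;> grind
    · apply mem_normalizer_N1 W0 v y (-(W0 * v)) (-W0) hq
      · right; right; right; right; right; rfl
      · right; left; rfl
      · rw [eq_iff]
        simp only [sl2_mul_apply, neg_apply, W0, hvdef, mk2_00, mk2_01, mk2_10, mk2_11]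
        refine ⟨?_, ?_, ?_, ?_⟩ <;> grind
      · rw [eq_iff]
        simp only [sl2_mul_apply, neg_apply, W0, hvdef, mk2_00, mk2_01, mk2_10, mk2_11]
        refine ⟨?_, ?_, ?_, ?_⟩ <;> grind
    · apply mem_normalizer_N1 W0 v y (W0 * v) W0 hq
      · right; right; right; right; left; rfl
      · left; rfl
      · rw [eq_iff]
        simp only [sl2_mul_apply, neg_apply, W0, hvdef, mk2_00, mk2_01, mk2_10, mk2_11]
        refine ⟨?_, ?_, ?_, ?_⟩ <;> grind
      · rw [eq_iff]
        simp only [sl2_mul_apply, neg_apply, W0, hvdef, mk2_00, mk2_01, mk2_10, mk2_11]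
        refine ⟨?_, ?_, ?_, ?_⟩ <;> grind
    · apply mem_normalizer_N1 W0 v y (-v) (W0 * v) hq
      · right; right; right; left; rfl
      · right; right; right; right; left; rfl
      · rw [eq_iff]
        simp only [sl2_mul_apply, neg_apply, W0, hvdef, mk2_00, mk2_01, mk2_10, mk2_11]
        refine ⟨?_, ?_, ?_, ?_⟩ <;> grind
      · rw [eq_iff]
        simp only [sl2_mul_apply, neg_apply, W0, hvdef, mk2_00, mk2_01, mk2_10, mk2_11]
        refine ⟨?_, ?_, ?_, ?_⟩ <;> grind

theorem isSolvable_of_solD (l : F) (hl : l ≠ 0) (hl2 : l * l ≠ 1) (y : SL)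
    (h : y.1 1 0 = 0 ∨ y.1 0 1 = 0 ∨ (y.1 0 0 = 0 ∧ y.1 1 1 = 0)) :
    Group.IsSolvable (Subgroup.closure ({dg l hl, y} : Set SL)) := by
  rcases h with h | h | ⟨h0, h1⟩
  · have : Group.IsSolvable (upperB F) := isSolvable_upperB
    exact isSolvable_closure_pair_of_le (upperB F) (dg l hl) y
      (by rw [mem_upperB]; simp [dg]) h
  · rw [← isSolvable_closure_pair_iff (MulAut.conj (W0 : SL)) (dg l hl) y]
    have : Group.IsSolvable (upperB F) := isSolvable_upperB
    apply isSolvable_closure_pair_of_le (upperB F)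
    · rw [mem_upperB, MulAut.conj_apply, sl2_mul_apply, sl2_mul_apply, sl2_mul_apply]
      simp only [W0, dg, mk2_00, mk2_01, mk2_10, mk2_11, inv00, inv01, inv10, inv11]
      ring
    · rw [mem_upperB, MulAut.conj_apply, sl2_mul_apply, sl2_mul_apply, sl2_mul_apply]
      simp only [W0, dg, mk2_00, mk2_01, mk2_10, mk2_11, inv00, inv01, inv10, inv11]
      rw [h]
      ring
  · have : Group.IsSolvable (invNormalizer (dg l hl)) :=
      isSolvable_invNormalizer_of_trc _ (trc_dg_sq_ne_one l hl hl2)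
    apply isSolvable_closure_pair_of_le (invNormalizer (dg l hl)) (dg l hl) y
    · left; group
    · right
      have h' : y * dg l hl = (dg l hl)⁻¹ * y := by
        rw [eq_iff]
        simp only [sl2_mul_apply, dg, mk2_00, mk2_01, mk2_10, mk2_11, inv00, inv01, inv10, inv11]
        rw [h0, h1]
        refine ⟨?_, ?_, ?_, ?_⟩ <;> ring
      rw [h']; group

theorem isSolvable_of_solE (x : SL) (hx : trc x ^ 2 ≠ 1) (y : SL) (hy : y ∈ invNormalizer x) :
    Group.IsSolvable (Subgroup.closure ({x, y} : Set SL)) := by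
  have : Group.IsSolvable (invNormalizer x) := isSolvable_invNormalizer_of_trc _ hx
  apply isSolvable_closure_pair_of_le (invNormalizer x) x y _ hy
  left; group

end Cfsg.Agent.Lib.Helper38.Sol3
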