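import Mathlib
import Cfsg.Agent.Lib.Helper38.SolThreeConv

set_option autoImplicit false
set_option linter.unusedSectionVars false
set_option linter.unusedVariables false
set_option linter.unusedSimpArgs false
set_option linter.unnecessarySimpa false

/-! Counting the solubilizers in `SL₂(F)`, `F` finite of characteristic three. -/

namespace Cfsg.Agent.Lib.Helper38.Sol3

open Matrix Cfsg.Agent.Lib.Helper38

theorem ncard_range_inj {α β : Type*} [Finite α] (f : α → β) (hf : Function.Injective f) :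
    (Set.range f).ncard = Nat.card α := by
  rw [← Set.image_univ, Set.ncard_image_of_injective _ hf, Set.ncard_univ]

variable {F : Type*} [Field F] [CharP F 3] [Fintype F]

local notation "SL" => Matrix.SpecialLinearGroup (Fin 2) F

theorem card_units_F : Nat.card Fˣ = Fintype.card F - 1 := by
  rw [Nat.card_units, Nat.card_eq_fintype_card]

/-- the rational parametrisation of the norm-one conic. -/
noncomputable def conicPt (t : F) : Option F → F × F
  | none => (-1, 0)
  | some m => (1 + m * (-(2 * m + t) / (m * m + t * m + 1)), -(2 * m + t) / (m * m + t * m + 1))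

theorem card_conic (t : F) (ht : ∀ z : F, z * z + t * z + 1 ≠ 0) :
    Nat.card {p : F × F // p.1 * p.1 + t * p.1 * p.2 + p.2 * p.2 = 1} = Fintype.card F + 1 := by
  have h3 := three0 (F := F)
  have h2 := two_ne (F := F)
  have hinj : Function.Injective (conicPt t) := by
    intro u u' h
    cases u with
    | none =>
      cases u' with
      | none => rfl
      | some m' =>
        exfalso
        have e1 := congrArg Prod.fst h
        have e2 := congrArg Prod.snd h
        simp only [conicPt] at e1 e2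
        rw [← e2] at e1
        apply h2
        linear_combination -e1
    | some m =>
      cases u' with
      | none =>
        exfalso
        have e1 := congrArg Prod.fst h
        have e2 := congrArg Prod.snd h
        simp only [conicPt] at e1 e2
        rw [e2] at e1
        apply h2
        linear_combination e1
      | some m' =>
        have e1 := congrArg Prod.fst h
        have e2 := congrArg Prod.snd h
        simp only [conicPt] at e1 e2
        have hm := ht m
        have hm' := ht m'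
        have hβD : -(2 * m + t) / (m * m + t * m + 1) * (m * m + t * m + 1) = -(2 * m + t) :=
          div_mul_cancel₀ _ hm
        have hβD' : -(2 * m' + t) / (m' * m' + t * m' + 1) * (m' * m' + t * m' + 1) =
            -(2 * m' + t) := div_mul_cancel₀ _ hm'
        generalize -(2 * m + t) / (m * m + t * m + 1) = β at e1 e2 hβD
        generalize -(2 * m' + t) / (m' * m' + t * m' + 1) = β' at e1 e2 hβD'
        subst e2
        congr 1
        by_cases hβ : β = 0
        · rw [hβ] at hβD hβD'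
          have : (2 : F) * (m - m') = 0 := by linear_combination hβD - hβD'
          exact sub_eq_zero.mp ((mul_eq_zero.mp this).resolve_left h2)
        · have : (m - m') * β = 0 := by linear_combination e1
          exact sub_eq_zero.mp ((mul_eq_zero.mp this).resolve_right hβ)
  have hset : {p : F × F | p.1 * p.1 + t * p.1 * p.2 + p.2 * p.2 = 1} = Set.range (conicPt t) := by
    ext p
    constructor
    · intro hp
      rw [Set.mem_ofPred_eq] at hp
      by_cases hp2 : p.2 = 0
      · rw [hp2] at hp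
        have : (p.1 - 1) * (p.1 + 1) = 0 := by linear_combination hp
        rcases mul_eq_zero.mp this with h | h
        · refine ⟨some (-t / 2), ?_⟩
          have hp1 : p.1 = 1 := by linear_combination h
          have hnum : -(2 * (-t / 2) + t) = 0 := by
            field_simp
            ring
          ext
          · simp only [conicPt]
            rw [hnum, zero_div, mul_zero, add_zero, hp1]
          · simp only [conicPt]
            rw [hnum, zero_div, hp2]
        · refine ⟨none, ?_⟩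
          have hp1 : p.1 = -1 := by linear_combination h
          ext
          · simp [conicPt, hp1]
          · simp [conicPt, hp2]
      · refine ⟨some ((p.1 - 1) / p.2), ?_⟩
        have hm := ht ((p.1 - 1) / p.2)
        have hp2i : p.2 * p.2⁻¹ = 1 := mul_inv_cancel₀ hp2
        have hβD : -(2 * ((p.1 - 1) / p.2) + t) /
            ((p.1 - 1) / p.2 * ((p.1 - 1) / p.2) + t * ((p.1 - 1) / p.2) + 1) *
            ((p.1 - 1) / p.2 * ((p.1 - 1) / p.2) + t * ((p.1 - 1) / p.2) + 1) =
            -(2 * ((p.1 - 1) / p.2) + t) := div_mul_cancel₀ _ hm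
        have hβ : -(2 * ((p.1 - 1) / p.2) + t) /
            ((p.1 - 1) / p.2 * ((p.1 - 1) / p.2) + t * ((p.1 - 1) / p.2) + 1) = p.2 := by
          generalize -(2 * ((p.1 - 1) / p.2) + t) /
            ((p.1 - 1) / p.2 * ((p.1 - 1) / p.2) + t * ((p.1 - 1) / p.2) + 1) = β at hβD
          rw [div_eq_mul_inv] at hβD hm
          generalize p.2⁻¹ = i at hβD hm hp2i
          have key : (β - p.2) * ((p.1 - 1) * i * ((p.1 - 1) * i) + t * ((p.1 - 1) * i) + 1) = 0 := by
            grind
          exact sub_eq_zero.mp ((mul_eq_zero.mp key).resolve_right hm)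
        ext
        · simp only [conicPt]
          rw [hβ]
          field_simp
          ring
        · simp only [conicPt]
          exact hβ
    · rintro ⟨u, rfl⟩
      rw [Set.mem_ofPred_eq]
      cases u with
      | none => simp [conicPt]
      | some m =>
        simp only [conicPt]
        have hm := ht m
        have hβD : -(2 * m + t) / (m * m + t * m + 1) * (m * m + t * m + 1) = -(2 * m + t) :=
          div_mul_cancel₀ _ hm
        generalize -(2 * m + t) / (m * m + t * m + 1) = β at hβD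
        linear_combination β * hβD
  change Nat.card ↥{p : F × F | p.1 * p.1 + t * p.1 * p.2 + p.2 * p.2 = 1} = _
  rw [Nat.card_coe_set_eq, hset, ncard_range_inj _ hinj, Nat.card_eq_fintype_card,
    Fintype.card_option]

theorem IsElliptic.no_root {x : SL} (hx : IsElliptic x) (z : F) :
    z * z + trc x * z + 1 ≠ 0 := by
  intro h
  obtain ⟨v, hv0, hv⟩ := exists_eigen x (-z) (by linear_combination h)
  exact hx v hv0 ⟨-z, hv⟩

theorem IsElliptic.b_ne {x : SL} (hx : IsElliptic x) : x.1 0 1 ≠ 0 := by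
  intro h
  apply hx (0, 1) (by simp)
  refine ⟨x.1 1 1, ?_⟩
  unfold act
  ext <;> simp [h]

/-- the elements `α + β x` of norm one. -/
def cenMap (x : SL) (p : {p : F × F // p.1 * p.1 + trc x * p.1 * p.2 + p.2 * p.2 = 1}) : SL :=
  mk2 (p.1.1 + p.1.2 * x.1 0 0) (p.1.2 * x.1 0 1) (p.1.2 * x.1 1 0) (p.1.1 + p.1.2 * x.1 1 1)
    (by
      have h := p.2
      unfold trc at h
      linear_combination h + p.1.2 * p.1.2 * sl2_det x)

theorem card_centralizer_elliptic (x : SL) (hx : IsElliptic x) :
    Nat.card (Subgroup.centralizer ({x} : Set SL)) = Fintype.card F + 1 := by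
  have hb := hx.b_ne
  have hinj : Function.Injective (cenMap x) := by
    intro p p' h
    obtain ⟨e00, e01, -, -⟩ := (eq_iff _ _).mp h
    simp only [cenMap, mk2_00, mk2_01] at e00 e01
    have hβ : p.1.2 = p'.1.2 := mul_right_cancel₀ hb e01
    rw [hβ] at e00
    have hα : p.1.1 = p'.1.1 := add_right_cancel e00
    exact Subtype.ext (Prod.ext hα hβ)
  have hset : ((Subgroup.centralizer ({x} : Set SL) : Subgroup SL) : Set SL) =
      Set.range (cenMap x) := by
    ext m
    rw [SetLike.mem_coe, Subgroup.mem_centralizer_singleton_iff]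
    constructor
    · intro hm
      have hm' := (eq_iff _ _).mp hm
      simp only [sl2_mul_apply] at hm'
      have hd := sl2_det m
      have hdx := sl2_det x
      have hbi : x.1 0 1 * (x.1 0 1)⁻¹ = 1 := mul_inv_cancel₀ hb
      have hN : (m.1 0 0 - m.1 0 1 * (x.1 0 1)⁻¹ * x.1 0 0) *
          (m.1 0 0 - m.1 0 1 * (x.1 0 1)⁻¹ * x.1 0 0) +
          trc x * (m.1 0 0 - m.1 0 1 * (x.1 0 1)⁻¹ * x.1 0 0) * (m.1 0 1 * (x.1 0 1)⁻¹) +
          (m.1 0 1 * (x.1 0 1)⁻¹) * (m.1 0 1 * (x.1 0 1)⁻¹) = 1 := by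
        unfold trc
        generalize (x.1 0 1)⁻¹ = i at hbi
        grind
      refine ⟨⟨(m.1 0 0 - m.1 0 1 * (x.1 0 1)⁻¹ * x.1 0 0, m.1 0 1 * (x.1 0 1)⁻¹), hN⟩, ?_⟩
      rw [eq_iff]
      simp only [cenMap, mk2_00, mk2_01, mk2_10, mk2_11]
      generalize (x.1 0 1)⁻¹ = i at hbi
      refine ⟨?_, ?_, ?_, ?_⟩ <;> grind
    · rintro ⟨p, rfl⟩
      rw [eq_iff]
      simp only [sl2_mul_apply, cenMap, mk2_00, mk2_01, mk2_10, mk2_11]
      refine ⟨?_, ?_, ?_, ?_⟩ <;> ring
  change Nat.card ↥((Subgroup.centralizer ({x} : Set SL) : Subgroup SL) : Set SL) = _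
  rw [Nat.card_coe_set_eq, hset, ncard_range_inj _ hinj]
  exact card_conic (trc x) hx.no_root

/-- an element inverting a given elliptic element. -/
theorem exists_inverter (hsq : ∀ c : F, c ≠ 0 → ∃ s : F, s * s = c ∨ s * s = -c) (x : SL)
    (hx : IsElliptic x) : ∃ y₀ : SL, y₀ * x * y₀⁻¹ = x⁻¹ := by
  have h3 := three0 (F := F)
  have hb := hx.b_ne
  have hΔ : trc x ^ 2 - 1 ≠ 0 := by
    intro h
    exact hx.trc_sq_ne_one (by linear_combination h)
  obtain ⟨s, hs⟩ := hsq _ hΔ
  have hs0 : s ≠ 0 := by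
    rintro rfl
    rcases hs with h | h
    · apply hΔ; linear_combination -h
    · apply hΔ; linear_combination h
  have hsi : s * s⁻¹ = 1 := mul_inv_cancel₀ hs0
  have hbi : x.1 0 1 * (x.1 0 1)⁻¹ = 1 := mul_inv_cancel₀ hb
  have hd := sl2_det x
  unfold trc at hs
  suffices h : ∃ y₀ : SL, y₀ * x = x⁻¹ * y₀ by
    obtain ⟨y₀, hy₀⟩ := h
    exact ⟨y₀, by rw [hy₀]; group⟩
  generalize s⁻¹ = si at hsi
  generalize (x.1 0 1)⁻¹ = bi at hbi
  rcases hs with hs | hs
  · -- P = 0, Q = -1/s
    refine ⟨mk2 ((x.1 0 0 - x.1 1 1) * (-si)) (2 * x.1 0 1 * (-si))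
      (-(((x.1 0 0 - x.1 1 1) * (-si)) * (x.1 0 0 - x.1 1 1) + (2 * x.1 0 1 * (-si)) * x.1 1 0) * bi)
      (-((x.1 0 0 - x.1 1 1) * (-si))) (by grind), ?_⟩
    rw [eq_iff]
    simp only [sl2_mul_apply, mk2_00, mk2_01, mk2_10, mk2_11, inv00, inv01, inv10, inv11]
    refine ⟨?_, ?_, ?_, ?_⟩ <;> grind
  · -- P = 1, Q = 1/s
    refine ⟨mk2 (1 + (x.1 0 0 - x.1 1 1) * si) (2 * x.1 0 1 * si)
      (-((1 + (x.1 0 0 - x.1 1 1) * si) * (x.1 0 0 - x.1 1 1) + (2 * x.1 0 1 * si) * x.1 1 0) * bi)
      (-(1 + (x.1 0 0 - x.1 1 1) * si)) (by grind), ?_⟩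
    rw [eq_iff]
    simp only [sl2_mul_apply, mk2_00, mk2_01, mk2_10, mk2_11, inv00, inv01, inv10, inv11]
    refine ⟨?_, ?_, ?_, ?_⟩ <;> grind

theorem sol_elliptic_iff (hns : ∀ s : F, s * s ≠ -1)
    (hsq : ∀ c : F, c ≠ 0 → ∃ s : F, s * s = c ∨ s * s = -c) (x : SL) (hx : IsElliptic x)
    (hx0 : trc x ≠ 0) (y : SL) :
    Group.IsSolvable (Subgroup.closure ({x, y} : Set SL)) ↔ y ∈ invNormalizer x := by
  constructor
  · intro h
    exact solE_of_isSolvable hns hsq x hx hx0 y
  · intro h
    exact isSolvable_of_solE x hx.trc_sq_ne_one y h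

theorem card_sol_elliptic (hns : ∀ s : F, s * s ≠ -1)
    (hsq : ∀ c : F, c ≠ 0 → ∃ s : F, s * s = c ∨ s * s = -c) (x : SL) (hx : IsElliptic x)
    (hx0 : trc x ≠ 0) :
    Nat.card {y : SL // Group.IsSolvable (Subgroup.closure ({x, y} : Set SL))} =
      2 * (Fintype.card F + 1) := by
  obtain ⟨y₀, hy₀⟩ := exists_inverter hsq x hx
  have h1 := card_invNormalizer x (ne_inv_of_trc x hx.trc_sq_ne_one) y₀ hy₀
  rw [card_centralizer_elliptic x hx] at h1
  rw [← h1]
  apply Nat.card_congr
  exact Equiv.subtypeEquivRight (fun y => sol_elliptic_iff hns hsq x hx hx0 y)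

/-- upper triangular matrices. -/
def f0 (p : Fˣ × F) : SL :=
  mk2 (p.1 : F) p.2 0 ((p.1 : F))⁻¹ (by rw [mul_inv_cancel₀ p.1.ne_zero]; ring)

theorem f0_inj : Function.Injective (f0 (F := F)) := by
  intro p p' h
  obtain ⟨e00, e01, -, -⟩ := (eq_iff _ _).mp h
  simp only [f0, mk2_00, mk2_01] at e00 e01
  exact Prod.ext (Units.ext e00) e01

theorem mem_range_f0 (y : SL) : y ∈ Set.range (f0 (F := F)) ↔ y.1 1 0 = 0 := by
  constructor
  · rintro ⟨p, rfl⟩
    simp [f0]
  · intro h
    have hd := sl2_det y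
    rw [h, mul_zero, sub_zero] at hd
    have h0 : y.1 0 0 ≠ 0 := by
      intro h0
      rw [h0, zero_mul] at hd
      exact zero_ne_one hd
    refine ⟨(Units.mk0 _ h0, y.1 0 1), ?_⟩
    apply sl2_ext
    · simp [f0]
    · simp [f0]
    · simp [f0, h]
    · simp only [f0, mk2_11, Units.val_mk0]
      field_simp
      linear_combination -hd

/-- lower triangular, non-diagonal. -/
def g1 (p : Fˣ × Fˣ) : SL :=
  mk2 (p.1 : F) 0 (p.2 : F) ((p.1 : F))⁻¹ (by rw [mul_inv_cancel₀ p.1.ne_zero]; ring)

/-- antidiagonal. -/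
def g2 (c : Fˣ) : SL :=
  mk2 0 (-((c : F))⁻¹) (c : F) 0 (by
    have := inv_mul_cancel₀ c.ne_zero
    linear_combination this)

theorem g1_inj : Function.Injective (g1 (F := F)) := by
  intro p p' h
  obtain ⟨e00, -, e10, -⟩ := (eq_iff _ _).mp h
  simp only [g1, mk2_00, mk2_10] at e00 e10
  exact Prod.ext (Units.ext e00) (Units.ext e10)

theorem g2_inj : Function.Injective (g2 (F := F)) := by
  intro p p' h
  obtain ⟨-, -, e10, -⟩ := (eq_iff _ _).mp h
  simp only [g2, mk2_10] at e10
  exact Units.ext e10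

theorem mem_range_g1 (y : SL) :
    y ∈ Set.range (g1 (F := F)) ↔ y.1 1 0 ≠ 0 ∧ y.1 0 1 = 0 := by
  constructor
  · rintro ⟨p, rfl⟩
    simp only [g1, mk2_01, mk2_10]
    exact ⟨p.2.ne_zero, trivial⟩
  · rintro ⟨hc, h⟩
    have hd := sl2_det y
    rw [h, zero_mul, sub_zero] at hd
    have h0 : y.1 0 0 ≠ 0 := by
      intro h0
      rw [h0, zero_mul] at hd
      exact zero_ne_one hd
    refine ⟨(Units.mk0 _ h0, Units.mk0 _ hc), ?_⟩
    apply sl2_ext
    · simp [g1]
    · simp [g1, h]
    · simp [g1]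
    · simp only [g1, mk2_11, Units.val_mk0]
      field_simp
      linear_combination -hd

theorem mem_range_g2 (y : SL) :
    y ∈ Set.range (g2 (F := F)) ↔ y.1 0 0 = 0 ∧ y.1 1 1 = 0 := by
  constructor
  · rintro ⟨p, rfl⟩
    simp only [g2, mk2_00, mk2_11]
    exact ⟨trivial, trivial⟩
  · rintro ⟨h0, h1⟩
    have hd := sl2_det y
    rw [h0, h1, mul_zero, zero_sub] at hd
    have hc : y.1 1 0 ≠ 0 := by
      intro hc
      rw [hc, mul_zero, neg_zero] at hd
      exact zero_ne_one hd
    refine ⟨Units.mk0 _ hc, ?_⟩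
    apply sl2_ext
    · simp [g2, h0]
    · simp only [g2, mk2_01, Units.val_mk0]
      field_simp
      linear_combination hd
    · simp [g2]
    · simp [g2, h1]

theorem sol_dg_iff (hns : ∀ s : F, s * s ≠ -1)
    (hsq : ∀ c : F, c ≠ 0 → ∃ s : F, s * s = c ∨ s * s = -c) (l : F) (hl : l ≠ 0)
    (hl2 : l * l ≠ 1) (y : SL) :
    Group.IsSolvable (Subgroup.closure ({dg l hl, y} : Set SL)) ↔
      (y.1 1 0 = 0 ∨ y.1 0 1 = 0 ∨ (y.1 0 0 = 0 ∧ y.1 1 1 = 0)) := by
  constructor
  · intro h
    exact solD_of_isSolvable hns hsq l hl hl2 y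
  · intro h
    exact isSolvable_of_solD l hl hl2 y h

theorem card_sol_dg (hns : ∀ s : F, s * s ≠ -1)
    (hsq : ∀ c : F, c ≠ 0 → ∃ s : F, s * s = c ∨ s * s = -c) (l : F) (hl : l ≠ 0)
    (hl2 : l * l ≠ 1) :
    Nat.card {y : SL // Group.IsSolvable (Subgroup.closure ({dg l hl, y} : Set SL))} =
      2 * Fintype.card F * (Fintype.card F - 1) := by
  have hset : {y : SL | Group.IsSolvable (Subgroup.closure ({dg l hl, y} : Set SL))} =
      Set.range (f0 (F := F)) ∪ (Set.range (g1 (F := F)) ∪ Set.range (g2 (F := F))) := by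
    ext y
    rw [Set.mem_ofPred_eq, sol_dg_iff hns hsq l hl hl2, Set.mem_union, Set.mem_union, mem_range_f0,
      mem_range_g1, mem_range_g2]
    by_cases hc : y.1 1 0 = 0
    · simp [hc]
    · simp [hc]
  have hd12 : Disjoint (Set.range (g1 (F := F))) (Set.range (g2 (F := F))) := by
    rw [Set.disjoint_left]
    intro y h1 h2'
    rw [mem_range_g1] at h1
    rw [mem_range_g2] at h2'
    have hd := sl2_det y
    rw [h1.2, h2'.1] at hd
    simp at hd
  have hd0 : Disjoint (Set.range (f0 (F := F))) (Set.range (g1 (F := F)) ∪ Set.range (g2 (F := F))) := by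
    rw [Set.disjoint_left]
    intro y h0 h12
    rw [mem_range_f0] at h0
    rcases h12 with h | h
    · rw [mem_range_g1] at h; exact h.1 h0
    · rw [mem_range_g2] at h
      have hd := sl2_det y
      rw [h0, h.1] at hd
      simp at hd
  change Nat.card ↥{y : SL | Group.IsSolvable (Subgroup.closure ({dg l hl, y} : Set SL))} = _
  rw [Nat.card_coe_set_eq, hset, Set.ncard_union_eq hd0 (Set.toFinite _) (Set.toFinite _),
    Set.ncard_union_eq hd12 (Set.toFinite _) (Set.toFinite _), ncard_range_inj _ f0_inj,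
    ncard_range_inj _ g1_inj, ncard_range_inj _ g2_inj, Nat.card_prod, Nat.card_prod, card_units_F,
    Nat.card_eq_fintype_card]
  obtain ⟨n, hn⟩ : ∃ n, Fintype.card F = n + 1 := ⟨Fintype.card F - 1, by
    have : 0 < Fintype.card F := Fintype.card_pos
    omega⟩
  rw [hn, Nat.add_sub_cancel]
  ring

/-- the two signs. -/
def sg (e : Bool) : F := if e then 1 else -1

theorem sg_mul_self (e : Bool) : (sg e : F) * sg e = 1 := by
  cases e <;> simp [sg]

theorem one_ne_neg_one : (1 : F) ≠ -1 := by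
  intro h
  have h3 := three0 (F := F)
  have : (1 : F) = 0 := by linear_combination h3 - h
  exact one_ne_zero this

theorem sg_inj : Function.Injective (sg (F := F)) := by
  intro e e' h
  cases e <;> cases e' <;> simp [sg] at h ⊢
  · exact one_ne_neg_one h.symm
  · exact one_ne_neg_one h

theorem exists_sg (c : F) (hc : c ^ 2 = 1) : ∃ e : Bool, sg e = c := by
  have : (c - 1) * (c + 1) = 0 := by linear_combination hc
  rcases mul_eq_zero.mp this with h | h
  · exact ⟨true, by simp only [sg, if_true]; linear_combination -h⟩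
  · exact ⟨false, by simp only [sg, Bool.false_eq_true, if_false]; linear_combination -h⟩

/-- the three elements of the prime field. -/
def tau (k : Fin 3) : F := ![0, 1, -1] k

theorem tau_cube (k : Fin 3) : (tau k : F) ^ 3 = tau k := by
  fin_cases k <;> simp [tau]
  ring_nf

theorem tau_inj : Function.Injective (tau (F := F)) := by
  have h1 := one_ne_neg_one (F := F)
  intro k k' h
  fin_cases k <;> fin_cases k' <;> simp [tau] at h ⊢
  · exact h1 h
  · exact h1 h.symm

theorem exists_tau (c : F) (hc : c ^ 3 = c) : ∃ k : Fin 3, tau k = c := by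
  have : c * ((c - 1) * (c + 1)) = 0 := by linear_combination hc
  rcases mul_eq_zero.mp this with h | h
  · exact ⟨0, by simp [tau, h]⟩
  · rcases mul_eq_zero.mp h with h | h
    · exact ⟨1, by simp only [tau]; simp; linear_combination -h⟩
    · exact ⟨2, by simp only [tau]; simp; linear_combination -h⟩

/-- the elements outside the Borel subgroup generating a solvable subgroup with `U1`. -/
def gU (p : Bool × Fin 3 × F) : SL :=
  mk2 p.2.2 (sg p.1 * (p.2.2 * (tau p.2.1 - p.2.2) - 1)) (sg p.1) (tau p.2.1 - p.2.2) (by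
    have := sg_mul_self (F := F) p.1
    linear_combination (-(p.2.2 * (tau p.2.1 - p.2.2) - 1)) * this)

theorem gU_inj : Function.Injective (gU (F := F)) := by
  rintro ⟨e, k, a⟩ ⟨e', k', a'⟩ h
  obtain ⟨e00, -, e10, e11⟩ := (eq_iff _ _).mp h
  simp only [gU, mk2_00, mk2_10, mk2_11] at e00 e10 e11
  have he : e = e' := sg_inj e10
  have hk : k = k' := by
    apply tau_inj (F := F)
    linear_combination e11 + e00
  rw [he, hk, e00]

theorem mem_range_gU (y : SL) :
    y ∈ Set.range (gU (F := F)) ↔ y.1 1 0 ^ 2 = 1 ∧ trc y ^ 3 = trc y := by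
  constructor
  · rintro ⟨⟨e, k, a⟩, rfl⟩
    unfold trc
    simp only [gU, mk2_00, mk2_10, mk2_11]
    refine ⟨by rw [pow_two]; exact sg_mul_self e, ?_⟩
    have := tau_cube (F := F) k
    have e : a + (tau k - a) = tau k := by ring
    rw [e]
    exact this
  · rintro ⟨hc, hτ⟩
    obtain ⟨e, he⟩ := exists_sg _ hc
    obtain ⟨k, hk⟩ := exists_tau _ hτ
    unfold trc at hk
    have hd := sl2_det y
    refine ⟨(e, k, y.1 0 0), ?_⟩
    rw [eq_iff]
    simp only [gU, mk2_00, mk2_01, mk2_10, mk2_11]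
    rw [he, hk]
    refine ⟨?_, ?_, ?_, ?_⟩
    · trivial
    · linear_combination y.1 1 0 * hd + y.1 0 1 * hc
    · trivial
    · ring

theorem sol_U1_iff (hns : ∀ s : F, s * s ≠ -1)
    (hsq : ∀ c : F, c ≠ 0 → ∃ s : F, s * s = c ∨ s * s = -c) (y : SL) :
    Group.IsSolvable (Subgroup.closure ({U1, y} : Set SL)) ↔
      (y.1 1 0 = 0 ∨ (y.1 1 0 ^ 2 = 1 ∧ trc y ^ 3 = trc y)) := by
  constructor
  · intro h
    exact solU_of_isSolvable hns hsq y
  · intro h
    exact isSolvable_of_solU y h

theorem card_sol_U1 (hns : ∀ s : F, s * s ≠ -1)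
    (hsq : ∀ c : F, c ≠ 0 → ∃ s : F, s * s = c ∨ s * s = -c) :
    Nat.card {y : SL // Group.IsSolvable (Subgroup.closure ({U1, y} : Set SL))} =
      Fintype.card F * (Fintype.card F + 5) := by
  have hset : {y : SL | Group.IsSolvable (Subgroup.closure ({U1, y} : Set SL))} =
      Set.range (f0 (F := F)) ∪ Set.range (gU (F := F)) := by
    ext y
    rw [Set.mem_ofPred_eq, sol_U1_iff hns hsq, Set.mem_union, mem_range_f0, mem_range_gU]
  have hd0 : Disjoint (Set.range (f0 (F := F))) (Set.range (gU (F := F))) := by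
    rw [Set.disjoint_left]
    intro y h0 h1
    rw [mem_range_f0] at h0
    rw [mem_range_gU, h0] at h1
    simp at h1
  change Nat.card ↥{y : SL | Group.IsSolvable (Subgroup.closure ({U1, y} : Set SL))} = _
  rw [Nat.card_coe_set_eq, hset, Set.ncard_union_eq hd0 (Set.toFinite _) (Set.toFinite _),
    ncard_range_inj _ f0_inj, ncard_range_inj _ gU_inj, Nat.card_prod, Nat.card_prod,
    Nat.card_prod, card_units_F, Nat.card_eq_fintype_card, Nat.card_eq_fintype_card,
    Nat.card_eq_fintype_card, Fintype.card_bool, Fintype.card_fin]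
  obtain ⟨n, hn⟩ : ∃ n, Fintype.card F = n + 1 := ⟨Fintype.card F - 1, by
    have : 0 < Fintype.card F := Fintype.card_pos
    omega⟩
  rw [hn, Nat.add_sub_cancel]
  ring

/-- the norm-one circle. -/
abbrev C1 (F : Type*) [Field F] : Type _ := {p : F × F // p.1 * p.1 + p.2 * p.2 = 1}

/-- the norm-minus-one circle. -/
abbrev Cm (F : Type*) [Field F] : Type _ := {p : F × F // p.1 * p.1 + p.2 * p.2 = -1}

theorem card_C1 (hns : ∀ s : F, s * s ≠ -1) : Nat.card (C1 F) = Fintype.card F + 1 := by
  have h := card_conic (0 : F) (by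
    intro z hz
    apply hns z
    linear_combination hz)
  rw [← h]
  apply Nat.card_congr
  apply Equiv.subtypeEquivRight
  intro p
  simp

theorem card_Cm (hns : ∀ s : F, s * s ≠ -1) : Nat.card (Cm F) = Fintype.card F + 1 := by
  have h3 := three0 (F := F)
  rw [← card_C1 hns]
  apply Nat.card_congr
  refine ⟨fun q => ⟨(-q.1.1 - q.1.2, q.1.1 - q.1.2), ?_⟩,
    fun p => ⟨(p.1.1 - p.1.2, p.1.1 + p.1.2), ?_⟩, ?_, ?_⟩
  · have := q.2
    simp only
    grind
  · have := p.2
    simp only
    grind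
  · intro q
    apply Subtype.ext
    ext
    · simp only
      linear_combination (-q.1.1) * h3
    · simp only
      linear_combination (-q.1.2) * h3
  · intro p
    apply Subtype.ext
    ext
    · simp only
      linear_combination (-p.1.1) * h3
    · simp only
      linear_combination (-p.1.2) * h3

/-- symmetric matrices. -/
noncomputable def p1 (p : F × Fˣ) : SL :=
  mk2 (p.2 : F) p.1 p.1 ((1 + p.1 * p.1) / (p.2 : F)) (by
    rw [mul_div_cancel₀ _ p.2.ne_zero]; ring)

/-- traceless matrices. -/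
noncomputable def p2 (p : F × Fˣ) : SL :=
  mk2 p.1 (p.2 : F) (-(1 + p.1 * p.1) / (p.2 : F)) (-p.1) (by
    rw [mul_div_cancel₀ _ p.2.ne_zero]; ring)

/-- symmetric traceless matrices. -/
def p12 (p : Cm F) : SL :=
  mk2 p.1.1 p.1.2 p.1.2 (-p.1.1) (by linear_combination (-1 : F) * p.2)

/-- the centraliser of `W0`. -/
def p3 (p : C1 F) : SL :=
  mk2 p.1.1 p.1.2 (-p.1.2) p.1.1 (by linear_combination p.2)

/-- the four elements `±1, ±W0`. -/
def p34 (p : Bool × Bool) : SL :=
  mk2 (if p.2 then sg p.1 else 0) (if p.2 then 0 else sg p.1) (if p.2 then 0 else -sg p.1)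
    (if p.2 then sg p.1 else 0) (by
      have := sg_mul_self (F := F) p.1
      cases p.2 <;> simp <;> linear_combination this)

/-- the tetrahedral elements. -/
def p4 (p : Bool × Bool × C1 F) : SL :=
  mk2 (-(sg p.1 + p.2.2.1.1)) (-(p.2.2.1.2 - sg p.2.1)) (-(p.2.2.1.2 + sg p.2.1))
    (-(sg p.1 - p.2.2.1.1)) (by
      have h0 := sg_mul_self (F := F) p.1
      have h1 := sg_mul_self (F := F) p.2.1
      have h2 := p.2.2.2
      have h3 := three0 (F := F)
      grind)

theorem p1_inj : Function.Injective (p1 (F := F)) := by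
  intro p p' h
  obtain ⟨e00, e01, -, -⟩ := (eq_iff _ _).mp h
  simp only [p1, mk2_00, mk2_01] at e00 e01
  exact Prod.ext e01 (Units.ext e00)

theorem p2_inj : Function.Injective (p2 (F := F)) := by
  intro p p' h
  obtain ⟨e00, e01, -, -⟩ := (eq_iff _ _).mp h
  simp only [p2, mk2_00, mk2_01] at e00 e01
  exact Prod.ext e00 (Units.ext e01)

theorem p12_inj : Function.Injective (p12 (F := F)) := by
  intro p p' h
  obtain ⟨e00, e01, -, -⟩ := (eq_iff _ _).mp h
  simp only [p12, mk2_00, mk2_01] at e00 e01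
  exact Subtype.ext (Prod.ext e00 e01)

theorem p3_inj : Function.Injective (p3 (F := F)) := by
  intro p p' h
  obtain ⟨e00, e01, -, -⟩ := (eq_iff _ _).mp h
  simp only [p3, mk2_00, mk2_01] at e00 e01
  exact Subtype.ext (Prod.ext e00 e01)

theorem sg_ne_zero (e : Bool) : (sg e : F) ≠ 0 := by
  intro h
  have := sg_mul_self (F := F) e
  rw [h, mul_zero] at this
  exact zero_ne_one this

theorem p34_inj : Function.Injective (p34 (F := F)) := by
  rintro ⟨e, f⟩ ⟨e', f'⟩ h
  obtain ⟨e00, e01, -, -⟩ := (eq_iff _ _).mp h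
  simp only [p34, mk2_00, mk2_01] at e00 e01
  have h0 := sg_ne_zero (F := F) e
  have h0' := sg_ne_zero (F := F) e'
  cases f <;> cases f' <;> simp at e00 e01
  · rw [sg_inj e01]
  · exact absurd e01 h0
  · exact absurd e00 h0
  · rw [sg_inj e00]

theorem p4_inj : Function.Injective (p4 (F := F)) := by
  have h3 := three0 (F := F)
  rintro ⟨e0, e1, p⟩ ⟨e0', e1', p'⟩ h
  obtain ⟨e00, e01, e10, e11⟩ := (eq_iff _ _).mp h
  simp only [p4, mk2_00, mk2_01, mk2_10, mk2_11] at e00 e01 e10 e11
  have he0 : e0 = e0' := by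
    apply sg_inj (F := F)
    linear_combination e00 + e11 + (sg e0 - sg e0') * h3
  have he1 : e1 = e1' := by
    apply sg_inj (F := F)
    linear_combination e10 - e01 + (sg e1 - sg e1') * h3
  have hp1 : p.1.1 = p'.1.1 := by
    linear_combination e00 - e11 + (p.1.1 - p'.1.1) * h3
  have hp2 : p.1.2 = p'.1.2 := by
    linear_combination e10 + e01 + (p.1.2 - p'.1.2) * h3
  rw [he0, he1, Subtype.ext (Prod.ext hp1 hp2)]

theorem mem_range_p1 (hns : ∀ s : F, s * s ≠ -1) (y : SL) :
    y ∈ Set.range (p1 (F := F)) ↔ y.1 0 1 = y.1 1 0 := by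
  constructor
  · rintro ⟨p, rfl⟩
    simp [p1]
  · intro h
    have hd := sl2_det y
    have h0 : y.1 0 0 ≠ 0 := by
      intro h0
      apply hns (y.1 0 1)
      rw [h0, ← h] at hd
      linear_combination -hd
    refine ⟨(y.1 0 1, Units.mk0 _ h0), ?_⟩
    rw [eq_iff]
    simp only [p1, mk2_00, mk2_01, mk2_10, mk2_11, Units.val_mk0]
    refine ⟨trivial, trivial, h, ?_⟩
    field_simp
    rw [← h] at hd
    linear_combination -hd

theorem mem_range_p2 (hns : ∀ s : F, s * s ≠ -1) (y : SL) :
    y ∈ Set.range (p2 (F := F)) ↔ y.1 0 0 + y.1 1 1 = 0 := by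
  constructor
  · rintro ⟨p, rfl⟩
    simp [p2]
  · intro h
    have hd := sl2_det y
    have h11 : y.1 1 1 = -y.1 0 0 := by linear_combination h
    rw [h11] at hd
    have h0 : y.1 0 1 ≠ 0 := by
      intro h0
      apply hns (y.1 0 0)
      rw [h0] at hd
      linear_combination -hd
    refine ⟨(y.1 0 0, Units.mk0 _ h0), ?_⟩
    rw [eq_iff]
    simp only [p2, mk2_00, mk2_01, mk2_10, mk2_11, Units.val_mk0]
    refine ⟨trivial, trivial, ?_, h11.symm⟩
    field_simp
    linear_combination hd

theorem mem_range_p12 (y : SL) :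
    y ∈ Set.range (p12 (F := F)) ↔ y.1 0 1 = y.1 1 0 ∧ y.1 0 0 + y.1 1 1 = 0 := by
  constructor
  · rintro ⟨p, rfl⟩
    simp [p12]
  · rintro ⟨h, h'⟩
    have hd := sl2_det y
    have h11 : y.1 1 1 = -y.1 0 0 := by linear_combination h'
    refine ⟨⟨(y.1 0 0, y.1 0 1), ?_⟩, ?_⟩
    · simp only
      rw [h11, ← h] at hd
      linear_combination -hd
    · rw [eq_iff]
      simp only [p12, mk2_00, mk2_01, mk2_10, mk2_11]
      exact ⟨trivial, trivial, h, h11.symm⟩

theorem mem_range_p3 (y : SL) :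
    y ∈ Set.range (p3 (F := F)) ↔ y.1 0 0 = y.1 1 1 ∧ y.1 0 1 = -y.1 1 0 := by
  constructor
  · rintro ⟨p, rfl⟩
    simp [p3]
  · rintro ⟨h, h'⟩
    have hd := sl2_det y
    have h10 : y.1 1 0 = -y.1 0 1 := by linear_combination h'
    refine ⟨⟨(y.1 0 0, y.1 0 1), ?_⟩, ?_⟩
    · simp only
      rw [← h, h10] at hd
      linear_combination hd
    · rw [eq_iff]
      simp only [p3, mk2_00, mk2_01, mk2_10, mk2_11]
      exact ⟨trivial, trivial, h10.symm, h⟩

theorem mem_range_p34 (y : SL) :
    y ∈ Set.range (p34 (F := F)) ↔ (y.1 0 0 = y.1 1 1 ∧ y.1 0 1 = -y.1 1 0) ∧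
      (y.1 0 1 = y.1 1 0 ∨ y.1 0 0 + y.1 1 1 = 0) := by
  have h2 := two_ne (F := F)
  constructor
  · rintro ⟨⟨e, f⟩, rfl⟩
    cases f <;> simp [p34]
  · rintro ⟨⟨h, h'⟩, h''⟩
    have hd := sl2_det y
    rcases h'' with h'' | h''
    · have hb : y.1 0 1 = 0 := by
        have : (2 : F) * y.1 0 1 = 0 := by linear_combination h' + h''
        exact (mul_eq_zero.mp this).resolve_left h2
      have hc : y.1 1 0 = 0 := by rw [← h'', hb]
      have ha : y.1 0 0 ^ 2 = 1 := by
        rw [← h, hb, hc] at hd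
        linear_combination hd
      obtain ⟨e, he⟩ := exists_sg _ ha
      refine ⟨(e, true), ?_⟩
      rw [eq_iff]
      simp only [p34, mk2_00, mk2_01, mk2_10, mk2_11, if_true]
      exact ⟨he, hb.symm, hc.symm, by rw [he, h]⟩
    · have ha : y.1 0 0 = 0 := by
        have : (2 : F) * y.1 0 0 = 0 := by linear_combination h + h''
        exact (mul_eq_zero.mp this).resolve_left h2
      have hdd : y.1 1 1 = 0 := by rw [← h, ha]
      have hb : y.1 0 1 ^ 2 = 1 := by
        rw [ha, hdd] at hd
        have h10 : y.1 1 0 = -y.1 0 1 := by linear_combination h'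
        rw [h10] at hd
        linear_combination hd
      obtain ⟨e, he⟩ := exists_sg _ hb
      refine ⟨(e, false), ?_⟩
      rw [eq_iff]
      simp only [p34, mk2_00, mk2_01, mk2_10, mk2_11, Bool.false_eq_true, if_false]
      refine ⟨ha.symm, he, ?_, hdd.symm⟩
      rw [he]
      linear_combination -h'

theorem mem_range_p4 (y : SL) :
    y ∈ Set.range (p4 (F := F)) ↔ (y.1 0 0 + y.1 1 1) ^ 2 = 1 ∧ (y.1 1 0 - y.1 0 1) ^ 2 = 1 := by
  have h3 := three0 (F := F)
  constructor
  · rintro ⟨⟨e0, e1, p⟩, rfl⟩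
    simp only [p4, mk2_00, mk2_01, mk2_10, mk2_11]
    have h0 := sg_mul_self (F := F) e0
    have h1 := sg_mul_self (F := F) e1
    constructor
    · linear_combination h0 + (sg e0 ^ 2) * h3
    · linear_combination h1 + (sg e1 ^ 2) * h3
  · rintro ⟨h0, h1⟩
    have hd := sl2_det y
    obtain ⟨e0, he0⟩ := exists_sg _ h0
    obtain ⟨e1, he1⟩ := exists_sg _ h1
    refine ⟨(e0, e1, ⟨(y.1 0 0 - y.1 1 1, y.1 0 1 + y.1 1 0), ?_⟩), ?_⟩
    · simp only
      grind
    · rw [eq_iff]
      simp only [p4, mk2_00, mk2_01, mk2_10, mk2_11]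
      rw [he0, he1]
      refine ⟨?_, ?_, ?_, ?_⟩
      · linear_combination (-y.1 0 0) * h3
      · linear_combination (-y.1 0 1) * h3
      · linear_combination (-y.1 1 0) * h3
      · linear_combination (-y.1 1 1) * h3

theorem solT_W0_iff (y : SL) :
    SolT W0 y ↔ (y.1 0 0 + y.1 1 1 = 0 ∨ y.1 0 1 = y.1 1 0 ∨
      (y.1 0 0 = y.1 1 1 ∧ y.1 0 1 = -y.1 1 0) ∨
      ((y.1 0 0 + y.1 1 1) ^ 2 = 1 ∧ (y.1 1 0 - y.1 0 1) ^ 2 = 1)) := by
  unfold SolT trc
  rw [eq_iff]
  simp only [sl2_mul_apply, W0, mk2_00, mk2_01, mk2_10, mk2_11]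
  constructor
  · rintro (h | h | h | ⟨h0, h1⟩)
    · left; exact h
    · right; left; linear_combination -h
    · right; right; left
      exact ⟨by linear_combination h.2.1, by linear_combination -h.1⟩
    · right; right; right
      exact ⟨h0, by linear_combination h1⟩
  · rintro (h | h | h | ⟨h0, h1⟩)
    · left; exact h
    · right; left; linear_combination -h
    · right; right; left
      obtain ⟨ha, hb⟩ := h
      refine ⟨?_, ?_, ?_, ?_⟩ <;> grind
    · right; right; right
      exact ⟨h0, by linear_combination h1⟩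

theorem sol_W0_iff (hns : ∀ s : F, s * s ≠ -1)
    (hsq : ∀ c : F, c ≠ 0 → ∃ s : F, s * s = c ∨ s * s = -c) (y : SL) :
    Group.IsSolvable (Subgroup.closure ({W0, y} : Set SL)) ↔ SolT W0 y := by
  constructor
  · intro h
    exact solT_of_isSolvable hns hsq W0 y trc_W0
  · intro h
    exact isSolvable_of_solT hns y h

theorem card_sol_W0 (hns : ∀ s : F, s * s ≠ -1)
    (hsq : ∀ c : F, c ≠ 0 → ∃ s : F, s * s = c ∨ s * s = -c) :
    Nat.card {y : SL // Group.IsSolvable (Subgroup.closure ({W0, y} : Set SL))} =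
      2 * Fintype.card F * (Fintype.card F + 1) := by
  have h2 := two_ne (F := F)
  have hset : {y : SL | Group.IsSolvable (Subgroup.closure ({W0, y} : Set SL))} =
      ((Set.range (p1 (F := F)) ∪ Set.range (p2 (F := F))) ∪ Set.range (p3 (F := F))) ∪
        Set.range (p4 (F := F)) := by
    ext y
    rw [Set.mem_ofPred_eq, sol_W0_iff hns hsq, solT_W0_iff, Set.mem_union, Set.mem_union,
      Set.mem_union, mem_range_p1 hns, mem_range_p2 hns, mem_range_p3, mem_range_p4]
    tauto
  have hAB : Set.range (p1 (F := F)) ∩ Set.range (p2 (F := F)) = Set.range (p12 (F := F)) := by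
    ext y
    rw [Set.mem_inter_iff, mem_range_p1 hns, mem_range_p2 hns, mem_range_p12]
  have hABC : (Set.range (p1 (F := F)) ∪ Set.range (p2 (F := F))) ∩ Set.range (p3 (F := F)) =
      Set.range (p34 (F := F)) := by
    ext y
    rw [Set.mem_inter_iff, Set.mem_union, mem_range_p1 hns, mem_range_p2 hns, mem_range_p3,
      mem_range_p34]
    tauto
  have hD : Disjoint ((Set.range (p1 (F := F)) ∪ Set.range (p2 (F := F))) ∪
      Set.range (p3 (F := F))) (Set.range (p4 (F := F))) := by
    rw [Set.disjoint_left]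
    intro y hy h4
    rw [mem_range_p4] at h4
    obtain ⟨h40, h41⟩ := h4
    rw [Set.mem_union, Set.mem_union, mem_range_p1 hns, mem_range_p2 hns, mem_range_p3] at hy
    have h3 := three0 (F := F)
    have hd := sl2_det y
    rcases hy with (h | h) | ⟨h, h'⟩
    · rw [h] at h41
      simp at h41
    · rw [h] at h40
      simp at h40
    · -- a = d, b = -c: a² = 1, b² = 1, a² + b² = 1
      have e1 : y.1 0 0 ^ 2 = 1 := by
        rw [← h] at h40
        linear_combination h40 - y.1 0 0 ^ 2 * h3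
      have e2 : y.1 1 0 ^ 2 = 1 := by
        rw [h'] at h41
        linear_combination h41 - y.1 1 0 ^ 2 * h3
      rw [← h, h'] at hd
      have : (1 : F) = 0 := by linear_combination hd - e1 - e2
      exact one_ne_zero this
  have e1 := Set.ncard_union_add_ncard_inter (Set.range (p1 (F := F))) (Set.range (p2 (F := F)))
    (Set.toFinite _) (Set.toFinite _)
  have e2 := Set.ncard_union_add_ncard_inter
    (Set.range (p1 (F := F)) ∪ Set.range (p2 (F := F))) (Set.range (p3 (F := F)))
    (Set.toFinite _) (Set.toFinite _)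
  rw [hAB, ncard_range_inj _ p1_inj, ncard_range_inj _ p2_inj, ncard_range_inj _ p12_inj,
    card_Cm hns, Nat.card_prod, card_units_F, Nat.card_eq_fintype_card] at e1
  rw [hABC, ncard_range_inj _ p3_inj, ncard_range_inj _ p34_inj, card_C1 hns, Nat.card_prod,
    Nat.card_eq_fintype_card, Fintype.card_bool] at e2
  change Nat.card ↥{y : SL | Group.IsSolvable (Subgroup.closure ({W0, y} : Set SL))} = _
  rw [Nat.card_coe_set_eq, hset, Set.ncard_union_eq hD (Set.toFinite _) (Set.toFinite _),
    ncard_range_inj _ p4_inj, Nat.card_prod, Nat.card_prod, card_C1 hns, Nat.card_eq_fintype_card,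
    Fintype.card_bool]
  obtain ⟨n, hn⟩ : ∃ n, Fintype.card F = n + 1 := ⟨Fintype.card F - 1, by
    have : 0 < Fintype.card F := Fintype.card_pos
    omega⟩
  rw [hn, Nat.add_sub_cancel] at e1
  rw [hn] at e2 ⊢
  generalize ((Set.range (p1 (F := F)) ∪ Set.range (p2 (F := F))) ∪
    Set.range (p3 (F := F))).ncard = w at e2 ⊢
  generalize (Set.range (p1 (F := F)) ∪ Set.range (p2 (F := F))).ncard = u at e1 e2
  have e3 : (n + 1) * n = n * n + n := by ring
  have e4 : 2 * (n + 1) * (n + 1 + 1) = 2 * (n * n) + 6 * n + 4 := by ring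
  rw [e3] at e1
  rw [e4]
  generalize n * n = nn at e1 ⊢
  omega

end Cfsg.Agent.Lib.Helper38.Sol3
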