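import Mathlib
import Cfsg.Agent.Lib.Helper38.SolThreeCount
import Cfsg.Agent.Lib.Helper38.SolGenC

set_option autoImplicit false
set_option linter.unusedSectionVars false
set_option linter.unusedVariables false
set_option linter.unusedSimpArgs false
set_option linter.unnecessarySimpa false

/-! The solubilizer sizes in `PSL₂(F)`, `F` finite of characteristic three with `-1` a
non-square. -/

namespace Cfsg.Agent.Lib.Helper38.Sol3

open Matrix Cfsg.Agent.Lib.Helper38

variable {F : Type*} [Field F] [CharP F 3] [Fintype F]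

local notation "SL" => Matrix.SpecialLinearGroup (Fin 2) F

/-- transport of the count along a conjugation. -/
theorem card_sol_conj (x g x' : SL) (h : g * x * g⁻¹ = x') :
    Nat.card {y : SL // Group.IsSolvable (Subgroup.closure ({x, y} : Set SL))} =
      Nat.card {y : SL // Group.IsSolvable (Subgroup.closure ({x', y} : Set SL))} := by
  have h1 := card_sol_congr (MulAut.conj g) x
  rw [MulAut.conj_apply, h] at h1
  exact h1.symm

theorem closure_inv_pair {G : Type*} [Group G] (x y : G) :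
    Subgroup.closure ({x⁻¹, y} : Set G) = Subgroup.closure ({x, y} : Set G) := by
  apply le_antisymm
  · rw [Subgroup.closure_le]
    rintro z (rfl | rfl)
    · exact inv_mem (Subgroup.subset_closure (by simp))
    · exact Subgroup.subset_closure (by simp)
  · rw [Subgroup.closure_le]
    rintro z (rfl | rfl)
    · have : z = (z⁻¹)⁻¹ := (inv_inv z).symm
      rw [this]
      exact inv_mem (Subgroup.subset_closure (by simp))
    · exact Subgroup.subset_closure (by simp)

theorem card_sol_inv (x : SL) :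
    Nat.card {y : SL // Group.IsSolvable (Subgroup.closure ({x⁻¹, y} : Set SL))} =
      Nat.card {y : SL // Group.IsSolvable (Subgroup.closure ({x, y} : Set SL))} := by
  apply Nat.card_congr
  apply Equiv.subtypeEquivRight
  intro y
  rw [closure_inv_pair]

/-- split semisimple elements are conjugate to diagonal ones. -/
theorem conj_to_dg (x : SL) (l : F) (hl : l * l - trc x * l + 1 = 0) (hl2 : l * l ≠ 1) :
    ∃ (hl0 : l ≠ 0) (g : SL), g * x * g⁻¹ = dg l hl0 := by
  have hl0 : l ≠ 0 := by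
    intro h
    rw [h] at hl
    simp at hl
  refine ⟨hl0, ?_⟩
  have hli : l * l⁻¹ = 1 := mul_inv_cancel₀ hl0
  have hl' : l⁻¹ * l⁻¹ - trc x * l⁻¹ + 1 = 0 := by
    generalize l⁻¹ = li at hli
    linear_combination li * li * hl + (-(li * l) - 1 + trc x * li) * hli
  obtain ⟨v₁, hv₁0, hv₁⟩ := exists_eigen x l hl
  obtain ⟨v₂, hv₂0, hv₂⟩ := exists_eigen x l⁻¹ hl'
  have hδ : v₁.1 * v₂.2 - v₁.2 * v₂.1 ≠ 0 := by
    intro hδ
    obtain ⟨ν, hν⟩ := parallel_of_det_zero v₁ v₂ hv₁0 hδ
    have e1 : l⁻¹ • v₂ = l • v₂ := by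
      calc l⁻¹ • v₂ = act x v₂ := hv₂.symm
        _ = act x (ν • v₁) := by rw [hν]
        _ = ν • act x v₁ := act_smul _ _ _
        _ = ν • (l • v₁) := by rw [hv₁]
        _ = l • (ν • v₁) := by rw [smul_comm]
        _ = l • v₂ := by rw [hν]
    have e2 : (l⁻¹ - l) • v₂ = 0 := by rw [sub_smul, e1, sub_self]
    rcases smul_eq_zero.mp e2 with h | h
    · exact inv_sub_ne l hl0 hl2 h
    · exact hv₂0 h
  have hδi : (v₁.1 * v₂.2 - v₁.2 * v₂.1) * (v₁.1 * v₂.2 - v₁.2 * v₂.1)⁻¹ = 1 :=
    mul_inv_cancel₀ hδ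
  suffices h : ∃ k : SL, x * k = k * dg l hl0 by
    obtain ⟨k, hk⟩ := h
    refine ⟨k⁻¹, ?_⟩
    calc k⁻¹ * x * k⁻¹⁻¹ = k⁻¹ * (x * k) := by group
      _ = k⁻¹ * (k * dg l hl0) := by rw [hk]
      _ = dg l hl0 := by group
  unfold act at hv₁ hv₂
  have a1 := congrArg Prod.fst hv₁
  have a2 := congrArg Prod.snd hv₁
  have b1 := congrArg Prod.fst hv₂
  have b2 := congrArg Prod.snd hv₂
  simp only [Prod.smul_fst, Prod.smul_snd, smul_eq_mul] at a1 a2 b1 b2
  generalize (v₁.1 * v₂.2 - v₁.2 * v₂.1)⁻¹ = δi at hδi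
  refine ⟨mk2 v₁.1 (δi * v₂.1) v₁.2 (δi * v₂.2) (by linear_combination hδi), ?_⟩
  rw [eq_iff]
  simp only [sl2_mul_apply, dg, mk2_00, mk2_01, mk2_10, mk2_11]
  refine ⟨?_, ?_, ?_, ?_⟩
  · linear_combination a1
  · linear_combination δi * b1
  · linear_combination a2
  · linear_combination δi * b2

theorem dg_pow (l : F) (hl : l ≠ 0) (n : ℕ) : (dg l hl) ^ n = dg (l ^ n) (pow_ne_zero n hl) := by
  induction n with
  | zero =>
    apply sl2_ext <;> simp [dg]
  | succ n ih =>
    rw [pow_succ, ih]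
    apply sl2_ext
    · rw [sl2_mul_apply]; simp only [dg, mk2_00, mk2_01, mk2_10, mk2_11]; ring
    · rw [sl2_mul_apply]; simp only [dg, mk2_00, mk2_01, mk2_10, mk2_11]; ring
    · rw [sl2_mul_apply]; simp only [dg, mk2_00, mk2_01, mk2_10, mk2_11]; ring
    · rw [sl2_mul_apply]; simp only [dg, mk2_00, mk2_01, mk2_10, mk2_11]
      rw [pow_succ, mul_inv]; ring

theorem dg_pow_card_sub_one (l : F) (hl : l ≠ 0) :
    (dg l hl) ^ (Fintype.card F - 1) = 1 := by
  rw [dg_pow]
  have h := FiniteField.pow_card_sub_one_eq_one l hl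
  apply sl2_ext
  · simp only [dg, mk2_00]; rw [h, sl2_one_00]
  · simp only [dg, mk2_01]; rw [sl2_one_01]
  · simp only [dg, mk2_10]; rw [sl2_one_10]
  · simp only [dg, mk2_11]; rw [h, sl2_one_11, inv_one]

theorem pow_card_sub_one_of_root (x : SL) (l : F) (hl : l * l - trc x * l + 1 = 0)
    (hl2 : l * l ≠ 1) : x ^ (Fintype.card F - 1) = 1 := by
  obtain ⟨hl0, g, hg⟩ := conj_to_dg x l hl hl2
  have h := dg_pow_card_sub_one l hl0
  rw [← hg, conj_pow] at h
  calc x ^ (Fintype.card F - 1) = g⁻¹ * (g * x ^ (Fintype.card F - 1) * g⁻¹) * g := by group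
    _ = 1 := by rw [h]; group

theorem pow_card_add_one_of_elliptic (x : SL) (hx : IsElliptic x) :
    x ^ (Fintype.card F + 1) = 1 := by
  have hmem : x ∈ Subgroup.centralizer ({x} : Set SL) :=
    Subgroup.mem_centralizer_singleton_iff.mpr rfl
  have h := pow_card_eq_one' (G := Subgroup.centralizer ({x} : Set SL)) (x := ⟨x, hmem⟩)
  rw [card_centralizer_elliptic x hx] at h
  have := congrArg Subtype.val h
  simpa using this

theorem root_or_elliptic (x : SL) :
    (∃ l : F, l * l - trc x * l + 1 = 0) ∨ IsElliptic x := by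
  by_cases h : IsElliptic x
  · right; exact h
  · left
    unfold IsElliptic at h
    push Not at h
    obtain ⟨v, hv0, μ, hμ⟩ := h
    exact ⟨μ, root_of_eigen x v hv0 μ hμ⟩

/-- the cube of an element in terms of its trace. -/
theorem cube_eq (x : SL) : x * x * x = 1 → x ≠ 1 → trc x = 2 := by
  intro h hne
  have h3 := three0 (F := F)
  have hd := sl2_det x
  rw [eq_iff] at h
  simp only [sl2_mul_apply, sl2_one_00, sl2_one_01, sl2_one_10, sl2_one_11] at h
  obtain ⟨e00, e01, e10, e11⟩ := h
  unfold trc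
  -- Cayley–Hamilton form
  have c00 : ((x.1 0 0 + x.1 1 1) ^ 2 - 1) * x.1 0 0 - (x.1 0 0 + x.1 1 1) = 1 := by grind
  have c01 : ((x.1 0 0 + x.1 1 1) ^ 2 - 1) * x.1 0 1 = 0 := by grind
  have c10 : ((x.1 0 0 + x.1 1 1) ^ 2 - 1) * x.1 1 0 = 0 := by grind
  have c11 : ((x.1 0 0 + x.1 1 1) ^ 2 - 1) * x.1 1 1 - (x.1 0 0 + x.1 1 1) = 1 := by grind
  by_cases ht : (x.1 0 0 + x.1 1 1) ^ 2 - 1 = 0
  · rw [ht] at c00
    linear_combination -c00 - h3
  · exfalso
    apply hne
    have hb : x.1 0 1 = 0 := (mul_eq_zero.mp c01).resolve_left ht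
    have hc : x.1 1 0 = 0 := (mul_eq_zero.mp c10).resolve_left ht
    have had : x.1 0 0 = x.1 1 1 := by
      have : ((x.1 0 0 + x.1 1 1) ^ 2 - 1) * (x.1 0 0 - x.1 1 1) = 0 := by
        linear_combination c00 - c11
      exact sub_eq_zero.mp ((mul_eq_zero.mp this).resolve_left ht)
    rw [hb, hc, ← had] at hd
    have ha : x.1 0 0 = 1 := by
      rw [← had] at c00
      grind
    rw [eq_iff, sl2_one_00, sl2_one_01, sl2_one_10, sl2_one_11]
    exact ⟨ha, hb, hc, by rw [← had, ha]⟩

theorem cube_mem_Zc_of_trc (x : SL) (ht : trc x ^ 2 = 1) : x * x * x ∈ Zc F := by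
  have h3 := three0 (F := F)
  have hd := sl2_det x
  unfold trc at ht
  have c : (trc x - 1) * (trc x + 1) = 0 := by unfold trc; linear_combination ht
  rcases mul_eq_zero.mp c with h | h
  · right
    unfold trc at h
    rw [eq_iff]
    simp only [sl2_mul_apply, neg_one_apply00, neg_one_apply01, neg_one_apply10, neg_one_apply11]
    refine ⟨?_, ?_, ?_, ?_⟩ <;> grind
  · left
    unfold trc at h
    rw [eq_iff]
    simp only [sl2_mul_apply, sl2_one_00, sl2_one_01, sl2_one_10, sl2_one_11]
    refine ⟨?_, ?_, ?_, ?_⟩ <;> grind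

/-- elements with a fixed vector are conjugate to an upper unitriangular matrix. -/
theorem conj_to_Xs (x : SL) (ht : trc x = 2) : ∃ (g : SL) (β : F), g * x * g⁻¹ = Xs β := by
  have h3 := three0 (F := F)
  obtain ⟨v, hv0, hv⟩ := exists_eigen x 1 (by rw [ht]; ring)
  rw [one_smul] at hv
  unfold act at hv
  have a1 := congrArg Prod.fst hv
  have a2 := congrArg Prod.snd hv
  simp only at a1 a2
  have hd := sl2_det x
  unfold trc at ht
  suffices h : ∃ (k : SL) (β : F), x * k = k * Xs β by
    obtain ⟨k, β, hk⟩ := h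
    refine ⟨k⁻¹, β, ?_⟩
    calc k⁻¹ * x * k⁻¹⁻¹ = k⁻¹ * (x * k) := by group
      _ = k⁻¹ * (k * Xs β) := by rw [hk]
      _ = Xs β := by group
  by_cases h1 : v.1 = 0
  · have h2 : v.2 ≠ 0 := by
      intro h
      apply hv0
      ext
      · exact h1
      · exact h
    have h2i : v.2 * v.2⁻¹ = 1 := mul_inv_cancel₀ h2
    generalize v.2⁻¹ = i at h2i
    rw [h1] at a1 a2
    have hb : x.1 0 1 = 0 := by
      have : x.1 0 1 * v.2 = 0 := by linear_combination a1
      exact (mul_eq_zero.mp this).resolve_right h2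
    have hdd : x.1 1 1 = 1 := by
      have : (x.1 1 1 - 1) * v.2 = 0 := by linear_combination a2
      exact sub_eq_zero.mp ((mul_eq_zero.mp this).resolve_right h2)
    refine ⟨mk2 0 (-i) v.2 0 (by linear_combination h2i), -(x.1 1 0) * i * i, ?_⟩
    rw [eq_iff]
    simp only [sl2_mul_apply, Xs, mk2_00, mk2_01, mk2_10, mk2_11]
    refine ⟨?_, ?_, ?_, ?_⟩ <;> grind
  · have h1i : v.1 * v.1⁻¹ = 1 := mul_inv_cancel₀ h1
    generalize v.1⁻¹ = i at h1i
    refine ⟨mk2 v.1 0 v.2 i (by linear_combination h1i), x.1 0 1 * i * i, ?_⟩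
    rw [eq_iff]
    simp only [sl2_mul_apply, Xs, mk2_00, mk2_01, mk2_10, mk2_11]
    refine ⟨?_, ?_, ?_, ?_⟩ <;> grind

theorem card_sol_unipotent (hns : ∀ s : F, s * s ≠ -1)
    (hsq : ∀ c : F, c ≠ 0 → ∃ s : F, s * s = c ∨ s * s = -c) (x : SL) (ht : trc x = 2)
    (hne : x ≠ 1) :
    Nat.card {y : SL // Group.IsSolvable (Subgroup.closure ({x, y} : Set SL))} =
      Fintype.card F * (Fintype.card F + 5) := by
  obtain ⟨g, β, hg⟩ := conj_to_Xs x ht
  have hβ : β ≠ 0 := by
    rintro rfl
    apply hne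
    have h1 : (Xs 0 : SL) = 1 := by
      rw [eq_iff]
      simp [Xs]
    rw [h1] at hg
    calc x = g⁻¹ * (g * x * g⁻¹) * g := by group
      _ = 1 := by rw [hg]; group
  obtain ⟨s, hs⟩ := hsq β hβ
  have hs0 : s ≠ 0 := by
    rintro rfl
    rcases hs with h | h
    · apply hβ; linear_combination -h
    · apply hβ; linear_combination h
  have hsi : s⁻¹ * s = 1 := inv_mul_cancel₀ hs0
  rcases hs with hs | hs
  · have hk : mk2 s⁻¹ 0 0 s (by linear_combination hsi) * Xs β =
        U1 * mk2 s⁻¹ 0 0 s (by linear_combination hsi) := by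
      rw [eq_iff]
      simp only [sl2_mul_apply, Xs, U1, mk2_00, mk2_01, mk2_10, mk2_11]
      refine ⟨?_, ?_, ?_, ?_⟩
      · ring
      · rw [← hs]; linear_combination s * hsi
      · ring
      · ring
    have hk' : mk2 s⁻¹ 0 0 s (by linear_combination hsi) * Xs β *
        (mk2 s⁻¹ 0 0 s (by linear_combination hsi))⁻¹ = U1 := by
      rw [hk]; group
    rw [card_sol_conj x g _ hg, card_sol_conj _ _ _ hk']
    exact card_sol_U1 hns hsq
  · have hk : mk2 s⁻¹ 0 0 s (by linear_combination hsi) * Xs β =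
        U1⁻¹ * mk2 s⁻¹ 0 0 s (by linear_combination hsi) := by
      rw [eq_iff]
      simp only [sl2_mul_apply, Xs, U1, mk2_00, mk2_01, mk2_10, mk2_11, inv00, inv01, inv10,
        inv11]
      have hβ' : β = -(s * s) := by linear_combination hs
      refine ⟨?_, ?_, ?_, ?_⟩
      · ring
      · rw [hβ']; linear_combination (-s) * hsi
      · ring
      · ring
    have hk' : mk2 s⁻¹ 0 0 s (by linear_combination hsi) * Xs β *
        (mk2 s⁻¹ 0 0 s (by linear_combination hsi))⁻¹ = U1⁻¹ := by
      rw [hk]; group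
    rw [card_sol_conj x g _ hg, card_sol_conj _ _ _ hk', card_sol_inv]
    exact card_sol_U1 hns hsq

theorem card_sol_traceless (hns : ∀ s : F, s * s ≠ -1)
    (hsq : ∀ c : F, c ≠ 0 → ∃ s : F, s * s = c ∨ s * s = -c) (x : SL) (ht : trc x = 0) :
    Nat.card {y : SL // Group.IsSolvable (Subgroup.closure ({x, y} : Set SL))} =
      2 * Fintype.card F * (Fintype.card F + 1) := by
  obtain ⟨g, hg⟩ := conj_to_W0 hns hsq x ht
  rw [card_sol_conj x g _ hg]
  exact card_sol_W0 hns hsq

theorem center_eq_Zc : Subgroup.center SL = Zc F := by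
  ext A
  rw [Matrix.SpecialLinearGroup.mem_center_iff, mem_Zc]
  constructor
  · rintro ⟨r, hr, hA⟩
    rw [Fintype.card_fin] at hr
    have h00 : A.1 0 0 = r := by rw [← hA]; simp
    have h01 : A.1 0 1 = 0 := by rw [← hA]; simp
    have h10 : A.1 1 0 = 0 := by rw [← hA]; simp
    have h11 : A.1 1 1 = r := by rw [← hA]; simp
    have : (r - 1) * (r + 1) = 0 := by linear_combination hr
    rcases mul_eq_zero.mp this with h | h
    · left
      have hr1 : r = 1 := by linear_combination h
      rw [eq_iff, sl2_one_00, sl2_one_01, sl2_one_10, sl2_one_11, h00, h01, h10, h11, hr1]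
      exact ⟨rfl, rfl, rfl, rfl⟩
    · right
      have hr1 : r = -1 := by linear_combination h
      rw [eq_iff, neg_one_apply00, neg_one_apply01, neg_one_apply10, neg_one_apply11, h00, h01,
        h10, h11, hr1]
      exact ⟨rfl, rfl, rfl, rfl⟩
  · rintro (rfl | rfl)
    · exact ⟨1, by simp, by simp⟩
    · refine ⟨-1, by simp [Fintype.card_fin], ?_⟩
      ext i j
      fin_cases i <;> fin_cases j <;> simp

theorem card_center : Nat.card (Subgroup.center SL) = 2 := by
  rw [center_eq_Zc, Nat.card_eq_two_iff]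
  refine ⟨⟨1, Or.inl rfl⟩, ⟨-1, Or.inr rfl⟩, ?_, ?_⟩
  · intro h
    exact neg_one_ne_one (congrArg Subtype.val h).symm
  · ext z
    simp only [Set.mem_insert_iff, Set.mem_singleton_iff, Set.mem_univ, iff_true]
    rcases z.2 with h | h
    · left; exact Subtype.ext h
    · right; exact Subtype.ext h

local notation "PSL" => Matrix.ProjectiveSpecialLinearGroup (Fin 2) F

theorem card_sol_psl (x : SL) :
    Nat.card {y : SL // Group.IsSolvable (Subgroup.closure ({x, y} : Set SL))} =
      2 * Nat.card {y' : PSL // Group.IsSolvable (Subgroup.closure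
        ({(QuotientGroup.mk x : PSL), y'} : Set PSL))} := by
  have h := card_sol_mk (Subgroup.center SL)
    (fun a ha b hb => ((Subgroup.mem_center_iff.mp ha) b).symm) x
  rw [card_center] at h
  exact h

theorem mk_eq_one_iff (x : SL) : (QuotientGroup.mk x : PSL) = 1 ↔ x ∈ Zc F := by
  rw [QuotientGroup.eq_one_iff, center_eq_Zc]

theorem mk_pow_eq_one_iff (x : SL) (n : ℕ) : (QuotientGroup.mk x : PSL) ^ n = 1 ↔ x ^ n ∈ Zc F := by
  rw [← QuotientGroup.mk_pow, mk_eq_one_iff]

theorem sq_mem_Zc_not_mem (x : SL) (h2 : x * x ∈ Zc F) (hx : x ∉ Zc F) : trc x = 0 := by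
  have h2' := two_ne (F := F)
  have hd := sl2_det x
  by_contra ht
  apply hx
  unfold trc at ht
  have key : x.1 0 1 = 0 ∧ x.1 1 0 = 0 ∧ x.1 0 0 = x.1 1 1 := by
    rcases h2 with h | h
    · rw [eq_iff] at h
      simp only [sl2_mul_apply, sl2_one_00, sl2_one_01, sl2_one_10, sl2_one_11] at h
      obtain ⟨e00, e01, e10, e11⟩ := h
      have hb : x.1 0 1 * (x.1 0 0 + x.1 1 1) = 0 := by linear_combination e01
      have hc : x.1 1 0 * (x.1 0 0 + x.1 1 1) = 0 := by linear_combination e10
      have hb' := (mul_eq_zero.mp hb).resolve_right ht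
      have hc' := (mul_eq_zero.mp hc).resolve_right ht
      have had : (x.1 0 0 - x.1 1 1) * (x.1 0 0 + x.1 1 1) = 0 := by
        linear_combination e00 - e11
      exact ⟨hb', hc', sub_eq_zero.mp ((mul_eq_zero.mp had).resolve_right ht)⟩
    · rw [eq_iff] at h
      simp only [sl2_mul_apply, neg_one_apply00, neg_one_apply01, neg_one_apply10,
        neg_one_apply11] at h
      obtain ⟨e00, e01, e10, e11⟩ := h
      have hb : x.1 0 1 * (x.1 0 0 + x.1 1 1) = 0 := by linear_combination e01
      have hc : x.1 1 0 * (x.1 0 0 + x.1 1 1) = 0 := by linear_combination e10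
      have hb' := (mul_eq_zero.mp hb).resolve_right ht
      have hc' := (mul_eq_zero.mp hc).resolve_right ht
      have had : (x.1 0 0 - x.1 1 1) * (x.1 0 0 + x.1 1 1) = 0 := by
        linear_combination e00 - e11
      exact ⟨hb', hc', sub_eq_zero.mp ((mul_eq_zero.mp had).resolve_right ht)⟩
  obtain ⟨hb, hc, had⟩ := key
  rw [hb, ← had] at hd
  have : (x.1 0 0 - 1) * (x.1 0 0 + 1) = 0 := by linear_combination hd
  rcases mul_eq_zero.mp this with h | h
  · left
    rw [eq_iff, sl2_one_00, sl2_one_01, sl2_one_10, sl2_one_11]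
    exact ⟨by linear_combination h, hb, hc, by rw [← had]; linear_combination h⟩
  · right
    rw [eq_iff, neg_one_apply00, neg_one_apply01, neg_one_apply10, neg_one_apply11]
    exact ⟨by linear_combination h, hb, hc, by rw [← had]; linear_combination h⟩

/-- the solubilizer sizes in `PSL₂(F)`. -/
theorem sol_main_psl (hns : ∀ s : F, s * s ≠ -1) (x : PSL) :
    (orderOf x = 2 →
      Nat.card {y : PSL // Group.IsSolvable (Subgroup.closure ({x, y} : Set PSL))} =
        Fintype.card F * (Fintype.card F + 1)) ∧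
    (orderOf x = 3 →
      2 * Nat.card {y : PSL // Group.IsSolvable (Subgroup.closure ({x, y} : Set PSL))} =
        Fintype.card F * (Fintype.card F + 5)) ∧
    (x ≠ 1 → orderOf x ≠ 2 → orderOf x ∣ Fintype.card F - 1 →
      Nat.card {y : PSL // Group.IsSolvable (Subgroup.closure ({x, y} : Set PSL))} =
        Fintype.card F * (Fintype.card F - 1)) ∧
    (x ≠ 1 → orderOf x ≠ 2 → orderOf x ∣ Fintype.card F + 1 →
      Nat.card {y : PSL // Group.IsSolvable (Subgroup.closure ({x, y} : Set PSL))} =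
        Fintype.card F + 1) := by
  have hsq : ∀ c : F, c ≠ 0 → ∃ s : F, s * s = c ∨ s * s = -c := exists_pm_sq hns
  obtain ⟨x, rfl⟩ := QuotientGroup.mk_surjective x
  have hcard := card_sol_psl x
  -- arithmetic of `q`
  obtain ⟨n, -, hq⟩ := FiniteField.card F 3
  have hq3 : 3 ∣ Fintype.card F := by
    rw [hq]
    exact dvd_pow_self 3 n.ne_zero
  have hqodd : Odd (Fintype.card F) := by
    rw [hq]
    exact Odd.pow (by decide)
  have hqpos : 0 < Fintype.card F := Fintype.card_pos
  have hgcd2 : ∀ d : ℕ, d ∣ Fintype.card F - 1 → d ∣ Fintype.card F + 1 → d ∣ 2 := by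
    intro d h1 h2
    have := Nat.dvd_sub h2 h1
    have e : Fintype.card F + 1 - (Fintype.card F - 1) = 2 := by omega
    rwa [e] at this
  have hgcd3m : ∀ d : ℕ, d ∣ Fintype.card F - 1 → d ∣ 3 → d = 1 := by
    intro d h1 h2
    rcases (Nat.dvd_prime Nat.prime_three).mp h2 with h | h
    · exact h
    · exfalso
      rw [h] at h1
      omega
  have hgcd3p : ∀ d : ℕ, d ∣ Fintype.card F + 1 → d ∣ 3 → d = 1 := by
    intro d h1 h2
    rcases (Nat.dvd_prime Nat.prime_three).mp h2 with h | h
    · exact h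
    · exfalso
      rw [h] at h1
      omega
  have hdvd2 : ∀ z : PSL, z ≠ 1 → orderOf z ≠ 2 → ¬ orderOf z ∣ 2 := by
    intro z hz1 hz2 hd
    rcases (Nat.dvd_prime Nat.prime_two).mp hd with h | h
    · exact hz1 (orderOf_eq_one_iff.mp h)
    · exact hz2 h
  have hunip : ∀ z : SL, trc z ^ 2 = 1 → orderOf (QuotientGroup.mk z : PSL) ∣ 3 := by
    intro z hz
    apply orderOf_dvd_of_pow_eq_one
    rw [mk_pow_eq_one_iff]
    have : z ^ 3 = z * z * z := by rw [pow_succ, pow_two]
    rw [this]
    exact cube_mem_Zc_of_trc z hz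
  have hroot1 : ∀ l : F, l * l - trc x * l + 1 = 0 → l * l = 1 → trc x ^ 2 = 1 := by
    intro l hl hl2
    have h3 := three0 (F := F)
    have e : trc x * l = 2 := by linear_combination -hl + hl2
    calc trc x ^ 2 = (trc x * l) ^ 2 := by rw [mul_pow, pow_two l, hl2, mul_one]
      _ = 1 := by rw [e]; linear_combination h3
  refine ⟨?_, ?_, ?_, ?_⟩
  · intro ho
    have h2 : (QuotientGroup.mk x : PSL) ^ 2 = 1 := by
      have := pow_orderOf_eq_one (QuotientGroup.mk x : PSL)
      rwa [ho] at this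
    rw [mk_pow_eq_one_iff, pow_two] at h2
    have hx : x ∉ Zc F := by
      intro h
      rw [← mk_eq_one_iff] at h
      rw [h, orderOf_one] at ho
      omega
    have ht := sq_mem_Zc_not_mem x h2 hx
    rw [card_sol_traceless hns hsq x ht] at hcard
    have : 2 * (Fintype.card F * (Fintype.card F + 1)) = 2 * Nat.card {y' : PSL //
        Group.IsSolvable (Subgroup.closure ({(QuotientGroup.mk x : PSL), y'} : Set PSL))} := by
      rw [← hcard]; ring
    omega
  · intro ho
    have h3 : (QuotientGroup.mk x : PSL) ^ 3 = 1 := by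
      have := pow_orderOf_eq_one (QuotientGroup.mk x : PSL)
      rwa [ho] at this
    rw [mk_pow_eq_one_iff] at h3
    have hx : x ∉ Zc F := by
      intro h
      rw [← mk_eq_one_iff] at h
      rw [h, orderOf_one] at ho
      omega
    -- choose the lift with cube one
    obtain ⟨x', hx'mk, hx'3⟩ : ∃ x' : SL, (QuotientGroup.mk x' : PSL) = QuotientGroup.mk x ∧
        x' ^ 3 = 1 := by
      rcases h3 with h | h
      · exact ⟨x, rfl, h⟩
      · refine ⟨-x, ?_, ?_⟩
        · have e : -x = (-1) * x := by rw [neg_mul, one_mul]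
          rw [e, QuotientGroup.mk_mul]
          have : (QuotientGroup.mk (-1 : SL) : PSL) = 1 := by
            rw [mk_eq_one_iff]; exact Or.inr rfl
          rw [this, one_mul]
        · rw [Odd.neg_pow (by decide), h, neg_neg]
    have hx'ne : x' ≠ 1 := by
      rintro rfl
      apply hx
      rw [← mk_eq_one_iff, ← hx'mk]
      exact QuotientGroup.mk_one _
    have hx'3' : x' * x' * x' = 1 := by rw [← hx'3, pow_succ, pow_two]
    have ht := cube_eq x' hx'3' hx'ne
    have hcard' := card_sol_psl x'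
    rw [card_sol_unipotent hns hsq x' ht hx'ne, hx'mk] at hcard'
    exact hcard'.symm
  · intro hx1 ho2 hod
    have hx : x ∉ Zc F := by
      intro h
      exact hx1 ((mk_eq_one_iff x).mpr h)
    rcases root_or_elliptic x with ⟨l, hl⟩ | hell
    · by_cases hl2 : l * l = 1
      · exfalso
        have h1 := hgcd3m _ hod (hunip x (hroot1 l hl hl2))
        exact hx1 (orderOf_eq_one_iff.mp h1)
      · obtain ⟨hl0, g, hg⟩ := conj_to_dg x l hl hl2
        rw [card_sol_conj x g _ hg, card_sol_dg hns hsq l hl0 hl2] at hcard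
        have : 2 * (Fintype.card F * (Fintype.card F - 1)) = 2 * Nat.card {y' : PSL //
            Group.IsSolvable (Subgroup.closure
              ({(QuotientGroup.mk x : PSL), y'} : Set PSL))} := by
          rw [← hcard]; ring
        omega
    · exfalso
      have h1 : orderOf (QuotientGroup.mk x : PSL) ∣ Fintype.card F + 1 := by
        apply orderOf_dvd_of_pow_eq_one
        rw [mk_pow_eq_one_iff, pow_card_add_one_of_elliptic x hell]
        exact Or.inl rfl
      exact hdvd2 _ hx1 ho2 (hgcd2 _ hod h1)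
  · intro hx1 ho2 hod
    have hx : x ∉ Zc F := by
      intro h
      exact hx1 ((mk_eq_one_iff x).mpr h)
    rcases root_or_elliptic x with ⟨l, hl⟩ | hell
    · exfalso
      by_cases hl2 : l * l = 1
      · have h1 := hgcd3p _ hod (hunip x (hroot1 l hl hl2))
        exact hx1 (orderOf_eq_one_iff.mp h1)
      · have h1 : orderOf (QuotientGroup.mk x : PSL) ∣ Fintype.card F - 1 := by
          apply orderOf_dvd_of_pow_eq_one
          rw [mk_pow_eq_one_iff, pow_card_sub_one_of_root x l hl hl2]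
          exact Or.inl rfl
        exact hdvd2 _ hx1 ho2 (hgcd2 _ h1 hod)
    · have ht : trc x ≠ 0 := by
        intro ht
        apply hdvd2 _ hx1 ho2
        apply orderOf_dvd_of_pow_eq_one
        rw [mk_pow_eq_one_iff, pow_two, mul_self_of_trc x ht]
        exact Or.inr rfl
      rw [card_sol_elliptic hns hsq x hell ht] at hcard
      omega

end Cfsg.Agent.Lib.Helper38.Sol3
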