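import Mathlib
import Cfsg.Agent.Lib.Helper38.SL2
import Cfsg.Agent.Lib.Helper38.SolGen

set_option autoImplicit false
set_option linter.unusedSectionVars false
set_option linter.unusedVariables false

/-! Matrix lemmas for `SL₂(F)` in characteristic two, and the structure of solvable
two-generated subgroups. -/

namespace Cfsg.Agent.Lib.Helper38.Sol2

open Matrix Cfsg.Agent.Lib.Helper38

variable {F : Type*} [Field F] [CharP F 2]

local notation "SL" => Matrix.SpecialLinearGroup (Fin 2) F

theorem two0 : (2 : F) = 0 := CharP.cast_eq_zero F 2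

theorem neg_eq (a : F) : -a = a := by
  have h2 := two0 (F := F)
  linear_combination (-a) * h2

theorem inv00 (x : SL) : (x⁻¹).1 0 0 = x.1 1 1 := by
  rw [Matrix.SpecialLinearGroup.coe_inv, Matrix.adjugate_fin_two]; rfl
theorem inv01 (x : SL) : (x⁻¹).1 0 1 = x.1 0 1 := by
  rw [Matrix.SpecialLinearGroup.coe_inv, Matrix.adjugate_fin_two]
  exact neg_eq _
theorem inv10 (x : SL) : (x⁻¹).1 1 0 = x.1 1 0 := by
  rw [Matrix.SpecialLinearGroup.coe_inv, Matrix.adjugate_fin_two]
  exact neg_eq _
theorem inv11 (x : SL) : (x⁻¹).1 1 1 = x.1 0 0 := by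
  rw [Matrix.SpecialLinearGroup.coe_inv, Matrix.adjugate_fin_two]; rfl

/-- the determinant condition, characteristic two form. -/
theorem det2 (x : SL) : x.1 0 0 * x.1 1 1 + x.1 0 1 * x.1 1 0 = 1 := by
  have h := sl2_det x
  have h2 := two0 (F := F)
  linear_combination h + (x.1 0 1 * x.1 1 0) * h2

/-- the trace. -/
def trc (g : SL) : F := g.1 0 0 + g.1 1 1

theorem entries_of_eq {g h : SL} (e : g = h) :
    g.1 0 0 = h.1 0 0 ∧ g.1 0 1 = h.1 0 1 ∧ g.1 1 0 = h.1 1 0 ∧ g.1 1 1 = h.1 1 1 := by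
  subst e; exact ⟨rfl, rfl, rfl, rfl⟩

theorem trc_conj (h a : SL) : trc (h * a * h⁻¹) = trc a := by
  unfold trc
  simp only [sl2_mul_apply, inv00, inv01, inv10, inv11]
  have hd := det2 h
  have h2 := two0 (F := F)
  linear_combination (a.1 0 0 + a.1 1 1) * hd +
    (-(h.1 0 1 * h.1 1 0 * a.1 0 0) - h.1 0 1 * h.1 1 0 * a.1 1 1) * h2 +
    (h.1 0 0 * a.1 0 1 * h.1 1 0 + a.1 0 0 * h.1 0 1 * h.1 1 0 + h.1 0 1 * a.1 1 0 * h.1 1 1 +
      h.1 0 1 * a.1 1 1 * h.1 1 0) * h2

theorem trc_inv (a : SL) : trc a⁻¹ = trc a := by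
  unfold trc
  rw [inv00, inv11, add_comm]

theorem mul_self_of_trc (m : SL) (h : trc m = 0) : m * m = 1 := by
  unfold trc at h
  have hd := det2 m
  have h2 := two0 (F := F)
  have h11 : m.1 1 1 = m.1 0 0 := by linear_combination h - m.1 0 0 * h2
  apply sl2_ext
  · rw [sl2_mul_apply, sl2_one_00]; rw [h11] at hd; linear_combination hd
  · rw [sl2_mul_apply, sl2_one_01]; linear_combination m.1 0 1 * h
  · rw [sl2_mul_apply, sl2_one_10]; linear_combination m.1 1 0 * h
  · rw [sl2_mul_apply, sl2_one_11]; rw [h11] at hd ⊢; linear_combination hd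

theorem trc_of_mul_self (m : SL) (h : m * m = 1) (hne : m ≠ 1) : trc m = 0 := by
  by_contra ht
  unfold trc at ht
  obtain ⟨e00, e01, e10, e11⟩ := entries_of_eq h
  rw [sl2_mul_apply] at e00 e01 e10 e11
  rw [sl2_one_00] at e00
  rw [sl2_one_01] at e01
  rw [sl2_one_10] at e10
  rw [sl2_one_11] at e11
  have hb : m.1 0 1 = 0 := by
    have : m.1 0 1 * (m.1 0 0 + m.1 1 1) = 0 := by linear_combination e01
    rcases mul_eq_zero.mp this with h | h
    · exact h
    · exact absurd h ht
  have hc : m.1 1 0 = 0 := by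
    have : m.1 1 0 * (m.1 0 0 + m.1 1 1) = 0 := by linear_combination e10
    rcases mul_eq_zero.mp this with h | h
    · exact h
    · exact absurd h ht
  have h2 := two0 (F := F)
  have ha : m.1 0 0 = 1 := by
    rw [hb, hc] at e00
    have : (m.1 0 0 - 1) ^ 2 = 0 := by linear_combination e00 - m.1 0 0 * h2 + h2
    exact sub_eq_zero.mp ((pow_eq_zero_iff two_ne_zero).mp this)
  have hd : m.1 1 1 = 1 := by
    rw [hb, hc] at e11
    have : (m.1 1 1 - 1) ^ 2 = 0 := by linear_combination e11 - m.1 1 1 * h2 + h2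
    exact sub_eq_zero.mp ((pow_eq_zero_iff two_ne_zero).mp this)
  apply hne
  apply sl2_ext
  · rw [ha, sl2_one_00]
  · rw [hb, sl2_one_01]
  · rw [hc, sl2_one_10]
  · rw [hd, sl2_one_11]

theorem ne_inv_of_trc (a : SL) (h : trc a ≠ 0) : a ≠ a⁻¹ := by
  intro e
  apply h
  obtain ⟨e00, -, -, -⟩ := entries_of_eq e
  rw [inv00] at e00
  unfold trc
  rw [← e00]
  have h2 := two0 (F := F)
  linear_combination a.1 0 0 * h2

/-- (M1) an element commuting with `x` (of nonzero trace) and of the same trace is `x` or `x⁻¹`. -/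
theorem eq_or_eq_inv_of_commute (x m : SL) (hx : trc x ≠ 0) (hc : m * x = x * m)
    (ht : trc m = trc x) : m = x ∨ m = x⁻¹ := by
  obtain ⟨e00, e01, e10, e11⟩ := entries_of_eq hc
  rw [sl2_mul_apply, sl2_mul_apply] at e00 e01 e10 e11
  unfold trc at hx ht
  have h2 := two0 (F := F)
  have hq : m.1 0 1 = x.1 0 1 := by
    have : (m.1 0 1 - x.1 0 1) * (x.1 0 0 + x.1 1 1) = 0 := by
      linear_combination -e01 - x.1 0 1 * ht + (m.1 0 1 * x.1 1 1 + x.1 0 1 * m.1 1 1) * h2 +
        (-(x.1 0 1 * x.1 0 0) - x.1 0 1 * x.1 1 1 + x.1 0 1 * m.1 0 0 - x.1 0 1 * m.1 1 1) * h2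
    rcases mul_eq_zero.mp this with h | h
    · exact sub_eq_zero.mp h
    · exact absurd h hx
  have hr : m.1 1 0 = x.1 1 0 := by
    have : (m.1 1 0 - x.1 1 0) * (x.1 0 0 + x.1 1 1) = 0 := by
      linear_combination e10 - x.1 1 0 * ht + (m.1 1 0 * x.1 0 0 + x.1 1 0 * m.1 0 0) * h2 +
        (-(m.1 1 0 * x.1 0 0) + m.1 1 0 * x.1 1 1 - x.1 1 0 * x.1 0 0 - x.1 1 0 * x.1 1 1) * h2
    rcases mul_eq_zero.mp this with h | h
    · exact sub_eq_zero.mp h
    · exact absurd h hx
  have hdm := det2 m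
  have hdx := det2 x
  rw [hq, hr] at hdm
  have hprod : (m.1 0 0 - x.1 0 0) * (m.1 0 0 - x.1 1 1) = 0 := by
    linear_combination hdm - hdx - m.1 0 0 * ht +
      (-(m.1 0 0 * x.1 0 0) - m.1 0 0 * x.1 1 1 + m.1 0 0 ^ 2 + x.1 0 0 * x.1 1 1) * h2
  rcases mul_eq_zero.mp hprod with h | h
  · left
    have hp : m.1 0 0 = x.1 0 0 := sub_eq_zero.mp h
    apply sl2_ext
    · exact hp
    · exact hq
    · exact hr
    · linear_combination ht - hp
  · right
    have hp : m.1 0 0 = x.1 1 1 := sub_eq_zero.mp h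
    apply sl2_ext
    · rw [inv00]; exact hp
    · rw [inv01]; exact hq
    · rw [inv10]; exact hr
    · rw [inv11]; linear_combination ht - hp

/-- (M2) an element inverting `x` (of nonzero trace) has trace zero. -/
theorem trc_of_inverts (x y : SL) (hx : trc x ≠ 0) (h : y * x * y⁻¹ = x⁻¹) : trc y = 0 := by
  have h' : y * x = x⁻¹ * y := by rw [← h]; group
  obtain ⟨e00, e01, e10, e11⟩ := entries_of_eq h'
  rw [sl2_mul_apply, sl2_mul_apply] at e00 e01 e10 e11
  rw [inv00, inv01] at e00
  rw [inv10, inv11] at e11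
  unfold trc at hx ⊢
  have h2 := two0 (F := F)
  have : (y.1 0 0 + y.1 1 1) * (x.1 0 0 + x.1 1 1) = 0 := by
    linear_combination e00 - e11 + (x.1 1 1 * y.1 0 0 + y.1 1 1 * x.1 1 1) * h2 +
      (x.1 0 1 * y.1 1 0 - y.1 0 1 * x.1 1 0) * h2
  rcases mul_eq_zero.mp this with h | h
  · exact h
  · exact absurd h hx

/-- (M3) the centraliser of an element of nonzero trace is commutative. -/
theorem commute_of_commute (x g h : SL) (hx : trc x ≠ 0) (hg : g * x = x * g) (hh : h * x = x * h) :
    g * h = h * g := by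
  unfold trc at hx
  have h2 := two0 (F := F)
  set t := x.1 0 0 + x.1 1 1 with ht
  have key : ∀ m : SL, m * x = x * m →
      m.1 0 1 * t = x.1 0 1 * (m.1 0 0 + m.1 1 1) ∧ m.1 1 0 * t = x.1 1 0 * (m.1 0 0 + m.1 1 1) := by
    intro m hm
    obtain ⟨e00, e01, e10, e11⟩ := entries_of_eq hm
    rw [sl2_mul_apply, sl2_mul_apply] at e00 e01 e10 e11
    constructor
    · rw [ht]
      linear_combination -e01 + (m.1 0 1 * x.1 1 1 - x.1 0 1 * m.1 1 1) * h2
    · rw [ht]
      linear_combination e10 + (m.1 1 0 * x.1 1 1 - x.1 1 0 * m.1 1 1) * h2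
  obtain ⟨g1, g2⟩ := key g hg
  obtain ⟨k1, k2⟩ := key h hh
  have hq : ∀ m : SL, m.1 0 1 * t = x.1 0 1 * (m.1 0 0 + m.1 1 1) →
      m.1 0 1 = x.1 0 1 * ((m.1 0 0 + m.1 1 1) / t) := by
    intro m hm
    field_simp
    linear_combination hm
  have hr : ∀ m : SL, m.1 1 0 * t = x.1 1 0 * (m.1 0 0 + m.1 1 1) →
      m.1 1 0 = x.1 1 0 * ((m.1 0 0 + m.1 1 1) / t) := by
    intro m hm
    field_simp
    linear_combination hm
  have gq := hq g g1
  have gr := hr g g2
  have kq := hq h k1
  have kr := hr h k2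
  -- the second diagonal entry
  apply sl2_ext
  · rw [sl2_mul_apply, sl2_mul_apply, gq, kr, kq, gr]; ring
  · rw [sl2_mul_apply, sl2_mul_apply, gq, kq]
    field_simp
    linear_combination (x.1 0 1 * g.1 0 0 * h.1 1 1 - x.1 0 1 * h.1 0 0 * g.1 1 1) * h2
  · rw [sl2_mul_apply, sl2_mul_apply, gr, kr]
    field_simp
    linear_combination (x.1 1 0 * g.1 1 1 * h.1 0 0 - x.1 1 0 * h.1 1 1 * g.1 0 0) * h2
  · rw [sl2_mul_apply, sl2_mul_apply, gq, kr, kq, gr]; ring

/-- the action on column vectors. -/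
def act (g : SL) (v : F × F) : F × F :=
  (g.1 0 0 * v.1 + g.1 0 1 * v.2, g.1 1 0 * v.1 + g.1 1 1 * v.2)

theorem act_mul (g h : SL) (v : F × F) : act (g * h) v = act g (act h v) := by
  unfold act
  simp only [sl2_mul_apply]
  ext
  · simp only; ring
  · simp only; ring

theorem act_one (v : F × F) : act (1 : SL) v = v := by
  unfold act
  rw [sl2_one_00, sl2_one_01, sl2_one_10, sl2_one_11]
  ext <;> simp

theorem act_smul (g : SL) (μ : F) (v : F × F) : act g (μ • v) = μ • act g v := by
  unfold act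
  ext
  · simp only [Prod.smul_fst, Prod.smul_snd, smul_eq_mul]; ring
  · simp only [Prod.smul_fst, Prod.smul_snd, smul_eq_mul]; ring

/-- (M7) the fixed vectors of a nontrivial element form at most a line. -/
theorem fixed_line (m : SL) (hm : m ≠ 1) (u w : F × F) (hu : u ≠ 0) (h1 : act m u = u)
    (h2 : act m w = w) : ∃ ν : F, w = ν • u := by
  unfold act at h1 h2
  have a1 := congrArg Prod.fst h1
  have a2 := congrArg Prod.snd h1
  have b1 := congrArg Prod.fst h2
  have b2 := congrArg Prod.snd h2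
  simp only at a1 a2 b1 b2
  have hδ : u.1 * w.2 - u.2 * w.1 = 0 := by
    by_contra hδ
    apply hm
    have e00 : (m.1 0 0 - 1) * (u.1 * w.2 - u.2 * w.1) = 0 := by
      linear_combination w.2 * a1 - u.2 * b1
    have e01 : m.1 0 1 * (u.1 * w.2 - u.2 * w.1) = 0 := by
      linear_combination u.1 * b1 - w.1 * a1
    have e10 : m.1 1 0 * (u.1 * w.2 - u.2 * w.1) = 0 := by
      linear_combination w.2 * a2 - u.2 * b2
    have e11 : (m.1 1 1 - 1) * (u.1 * w.2 - u.2 * w.1) = 0 := by
      linear_combination u.1 * b2 - w.1 * a2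
    apply sl2_ext
    · rw [sl2_one_00]
      exact sub_eq_zero.mp ((mul_eq_zero.mp e00).resolve_right hδ)
    · rw [sl2_one_01]
      exact (mul_eq_zero.mp e01).resolve_right hδ
    · rw [sl2_one_10]
      exact (mul_eq_zero.mp e10).resolve_right hδ
    · rw [sl2_one_11]
      exact sub_eq_zero.mp ((mul_eq_zero.mp e11).resolve_right hδ)
  by_cases hu1 : u.1 = 0
  · have hu2 : u.2 ≠ 0 := by
      intro h
      apply hu
      ext
      · exact hu1
      · exact h
    refine ⟨w.2 / u.2, ?_⟩
    have hw1 : w.1 = 0 := by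
      rw [hu1] at hδ
      have : u.2 * w.1 = 0 := by linear_combination -hδ
      exact (mul_eq_zero.mp this).resolve_left hu2
    ext
    · simp only [Prod.smul_fst, smul_eq_mul]
      rw [hw1, hu1, mul_zero]
    · simp only [Prod.smul_snd, smul_eq_mul]
      field_simp
  · refine ⟨w.1 / u.1, ?_⟩
    ext
    · simp only [Prod.smul_fst, smul_eq_mul]
      field_simp
    · simp only [Prod.smul_snd, smul_eq_mul]
      field_simp
      linear_combination hδ

/-- (M8) a nontrivial element of trace zero fixes a nonzero vector. -/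
theorem exists_fixed (t : SL) (ht : trc t = 0) (hne : t ≠ 1) : ∃ v : F × F, v ≠ 0 ∧ act t v = v := by
  unfold trc at ht
  have h2 := two0 (F := F)
  have hd := det2 t
  have h11 : t.1 1 1 = t.1 0 0 := by linear_combination ht - t.1 0 0 * h2
  rw [h11] at hd
  by_cases h1 : (t.1 0 0 + 1, t.1 1 0) = (0 : F × F)
  · by_cases h3 : (t.1 0 1, t.1 0 0 + 1) = (0 : F × F)
    · exfalso
      apply hne
      have e1 := congrArg Prod.fst h1
      have e2 := congrArg Prod.snd h1
      have e3 := congrArg Prod.fst h3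
      simp only [Prod.fst_zero, Prod.snd_zero] at e1 e2 e3
      have e0 : t.1 0 0 = 1 := by linear_combination e1 - h2
      apply sl2_ext
      · rw [sl2_one_00, e0]
      · rw [sl2_one_01, e3]
      · rw [sl2_one_10, e2]
      · rw [sl2_one_11, h11, e0]
    · refine ⟨_, h3, ?_⟩
      unfold act
      ext
      · simp only
        linear_combination t.1 0 1 * h2 + (t.1 0 0 * t.1 0 1 - t.1 0 1) * h2
      · simp only
        rw [h11]
        linear_combination hd + (t.1 0 0) * h2 - h2 + (1 - t.1 0 0) * h2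
  · refine ⟨_, h1, ?_⟩
    unfold act
    ext
    · simp only
      linear_combination hd + (t.1 0 0) * h2 - h2 + (1 - t.1 0 0) * h2
    · simp only
      rw [h11]
      linear_combination t.1 1 0 * h2 + (-(t.1 1 0) + t.1 1 0 * t.1 0 0) * h2

/-- `g` preserves the line spanned by `v`. -/
def FixesLine (g : SL) (v : F × F) : Prop := ∃ μ : F, act g v = μ • v

/-- the structure of solvable two-generated subgroups of `SL₂(F)`, characteristic two. -/
theorem sol_cases (x y : SL) (hx : x ≠ 1)
    [hsol : Group.IsSolvable (Subgroup.closure ({x, y} : Set SL))] :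
    (∃ v : F × F, v ≠ 0 ∧ FixesLine x v ∧ FixesLine y v) ∨
      (∃ a : SL, trc a ≠ 0 ∧ x ∈ invNormalizer a ∧ y ∈ invNormalizer a) := by
  classical
  set K := Subgroup.closure ({x, y} : Set SL) with hK
  have hxK : x ∈ K := Subgroup.subset_closure (by simp)
  have hyK : y ∈ K := Subgroup.subset_closure (by simp)
  have hne : K ≠ ⊥ := by
    intro h
    rw [h, Subgroup.mem_bot] at hxK
    exact hx hxK
  obtain ⟨A, hAK, hAne, hAcomm, hAnorm⟩ := exists_abelian_normal_of_isSolvable K hne
  by_cases hinv : ∃ t ∈ A, t ≠ 1 ∧ trc t = 0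
  · left
    obtain ⟨t, htA, htne, htt⟩ := hinv
    obtain ⟨v, hv0, hv⟩ := exists_fixed t htt htne
    have key : ∀ h ∈ K, FixesLine h v := by
      intro h hh
      set t' := h * t * h⁻¹ with ht'
      have ht'A : t' ∈ A := hAnorm h hh t htA
      have ht'ne : t' ≠ 1 := by
        intro e
        apply htne
        have : t = h⁻¹ * t' * h := by rw [ht']; group
        rw [this, e]; group
      have ht't : trc t' = 0 := by rw [ht', trc_conj]; exact htt
      have hsq : t' * t' = 1 := mul_self_of_trc t' ht't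
      have hcomm : t * t' = t' * t := hAcomm t htA t' ht'A
      -- `t'` fixes `h v`
      have e1 : act t' (act h v) = act h v := by
        rw [← act_mul]
        have : t' * h = h * t := by rw [ht']; group
        rw [this, act_mul, hv]
      -- `t' v` is fixed by `t`
      have e2 : act t (act t' v) = act t' v := by
        rw [← act_mul, hcomm, act_mul, hv]
      obtain ⟨μ, hμ⟩ := fixed_line t htne v (act t' v) hv0 hv e2
      -- `μ = 1`
      have e3 : v = (μ * μ) • v := by
        calc v = act (t' * t') v := by rw [hsq, act_one]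
          _ = act t' (act t' v) := act_mul _ _ _
          _ = act t' (μ • v) := by rw [← hμ]
          _ = μ • act t' v := act_smul _ _ _
          _ = μ • (μ • v) := by rw [← hμ]
          _ = (μ * μ) • v := by rw [smul_smul]
      have hμ1 : μ = 1 := by
        have h2 := two0 (F := F)
        have hmm : μ * μ = 1 := by
          by_contra hmm
          apply hv0
          have e4 : (μ * μ - 1) • v = 0 := by
            rw [sub_smul, one_smul, ← e3, sub_self]
          rcases smul_eq_zero.mp e4 with h | h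
          · exact absurd (sub_eq_zero.mp h) hmm
          · exact h
        have : (μ - 1) ^ 2 = 0 := by linear_combination hmm - μ * h2 + h2
        exact sub_eq_zero.mp ((pow_eq_zero_iff two_ne_zero).mp this)
      have e5 : act t' v = v := by rw [hμ, hμ1, one_smul]
      obtain ⟨ν, hν⟩ := fixed_line t' ht'ne v (act h v) hv0 e5 e1
      exact ⟨ν, hν⟩
    exact ⟨v, hv0, key x hxK, key y hyK⟩
  · right
    push Not at hinv
    obtain ⟨a, haA, ha1⟩ : ∃ a ∈ A, a ≠ 1 := by
      by_contra h
      push Not at h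
      apply hAne
      rw [eq_bot_iff]
      intro a ha
      rw [Subgroup.mem_bot]
      exact h a ha
    have hat : trc a ≠ 0 := fun h => hinv a haA ha1 h
    have key : ∀ h ∈ K, h ∈ invNormalizer a := by
      intro h hh
      have hb : h * a * h⁻¹ ∈ A := hAnorm h hh a haA
      have hc : (h * a * h⁻¹) * a = a * (h * a * h⁻¹) := hAcomm _ hb _ haA
      exact eq_or_eq_inv_of_commute a (h * a * h⁻¹) hat hc (trc_conj h a)
    exact ⟨a, hat, key x hxK, key y hyK⟩

/-- `invNormalizer a` is solvable for `a` of nonzero trace. -/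
theorem isSolvable_invNormalizer_of_trc (a : SL) (ha : trc a ≠ 0) :
    Group.IsSolvable (invNormalizer a) :=
  isSolvable_invNormalizer a (ne_inv_of_trc a ha)
    (fun g h hg hh => commute_of_commute a g h ha hg hh)

/-- the upper triangular subgroup. -/
def upperB (F : Type*) [Field F] : Subgroup (Matrix.SpecialLinearGroup (Fin 2) F) where
  carrier := {g | g.1 1 0 = 0}
  one_mem' := by simp
  mul_mem' := by
    intro g h hg hh
    simp only [Set.mem_ofPred_eq] at hg hh ⊢
    rw [sl2_mul_apply, hg, hh]; ring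
  inv_mem' := by
    intro g hg
    simp only [Set.mem_ofPred_eq] at hg ⊢
    rw [Matrix.SpecialLinearGroup.coe_inv, Matrix.adjugate_fin_two]
    simp [hg]

omit [CharP F 2] in
theorem mem_upperB (g : SL) : g ∈ upperB F ↔ g.1 1 0 = 0 := Iff.rfl

omit [CharP F 2] in
theorem upperB_00_ne (b : upperB F) : b.1.1 0 0 ≠ 0 := by
  intro h
  have hd := sl2_det b.1
  rw [h, (mem_upperB b.1).mp b.2] at hd
  simp at hd

/-- the diagonal character of the upper triangular group. -/
def upperDiag (F : Type*) [Field F] : upperB F →* Fˣ where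
  toFun b := Units.mk0 (b.1.1 0 0) (upperB_00_ne b)
  map_one' := Units.ext (by simp)
  map_mul' a b := Units.ext (by
    show (a.1 * b.1).1 0 0 = a.1.1 0 0 * b.1.1 0 0
    rw [sl2_mul_apply, (mem_upperB b.1).mp b.2, mul_zero, add_zero])

omit [CharP F 2] in
theorem isSolvable_upperB : Group.IsSolvable (upperB F) := by
  have hker : ∀ a b : (upperDiag F).ker, a * b = b * a := by
    intro a b
    have ha := a.2
    have hb := b.2
    rw [MonoidHom.mem_ker] at ha hb
    have ha0 : a.1.1.1 0 0 = 1 := congrArg (fun u : Fˣ => (u : F)) ha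
    have hb0 : b.1.1.1 0 0 = 1 := congrArg (fun u : Fˣ => (u : F)) hb
    have ha10 := (mem_upperB a.1.1).mp a.1.2
    have hb10 := (mem_upperB b.1.1).mp b.1.2
    have hda := sl2_det a.1.1
    have hdb := sl2_det b.1.1
    rw [ha0, ha10] at hda
    rw [hb0, hb10] at hdb
    have ha1 : a.1.1.1 1 1 = 1 := by linear_combination hda
    have hb1 : b.1.1.1 1 1 = 1 := by linear_combination hdb
    apply Subtype.ext
    apply Subtype.ext
    apply sl2_ext
    · show (a.1.1 * b.1.1).1 0 0 = (b.1.1 * a.1.1).1 0 0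
      rw [sl2_mul_apply, sl2_mul_apply, ha0, hb0, ha10, hb10]; ring
    · show (a.1.1 * b.1.1).1 0 1 = (b.1.1 * a.1.1).1 0 1
      rw [sl2_mul_apply, sl2_mul_apply, ha0, hb0, ha1, hb1]; ring
    · show (a.1.1 * b.1.1).1 1 0 = (b.1.1 * a.1.1).1 1 0
      rw [sl2_mul_apply, sl2_mul_apply, ha10, hb10]; ring
    · show (a.1.1 * b.1.1).1 1 1 = (b.1.1 * a.1.1).1 1 1
      rw [sl2_mul_apply, sl2_mul_apply, ha1, hb1, ha10, hb10]; ring
  have : Group.IsSolvable (upperDiag F).ker := Group.isSolvable_of_comm hker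
  exact Group.isSolvable_of_ker_le_range (upperDiag F).ker.subtype (upperDiag F) (by simp)

end Cfsg.Agent.Lib.Helper38.Sol2
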