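import Mathlib
import Cfsg.Agent.Lib.Helper38.SolTwoMat

set_option autoImplicit false
set_option linter.unusedSectionVars false
set_option linter.unusedVariables false
set_option linter.unusedSimpArgs false

/-! Explicit description of the solubilizers in `SL₂(F)`, characteristic two. -/

namespace Cfsg.Agent.Lib.Helper38.Sol2

open Matrix Cfsg.Agent.Lib.Helper38

variable {F : Type*} [Field F] [CharP F 2]

local notation "SL" => Matrix.SpecialLinearGroup (Fin 2) F

theorem one_sub_eq : (1 : F) * 1 - 1 * 0 = 1 := by ring

/-- the standard involution. -/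
def U1 : SL := mk2 1 1 0 1 (by ring)

theorem U1_mul_self : (U1 : SL) * U1 = 1 := by
  have h2 := two0 (F := F)
  apply sl2_ext
  · rw [sl2_mul_apply, sl2_one_00]; simp [U1]
  · rw [sl2_mul_apply, sl2_one_01]; simp only [U1, mk2_00, mk2_01, mk2_11]; linear_combination h2
  · rw [sl2_mul_apply, sl2_one_10]; simp [U1]
  · rw [sl2_mul_apply, sl2_one_11]; simp [U1]

theorem U1_inv : (U1 : SL)⁻¹ = U1 := inv_eq_of_mul_eq_one_left U1_mul_self

theorem U1_ne_one : (U1 : SL) ≠ 1 := by
  intro h
  obtain ⟨-, e01, -, -⟩ := entries_of_eq h
  rw [sl2_one_01] at e01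
  simp [U1] at e01

/-- an element commuting with `U1` has trace zero. -/
theorem trc_of_commute_U1 (m : SL) (h : m * U1 = U1 * m) : trc m = 0 := by
  obtain ⟨e00, e01, e10, e11⟩ := entries_of_eq h
  rw [sl2_mul_apply, sl2_mul_apply] at e00 e01 e10 e11
  simp only [U1, mk2_00, mk2_01, mk2_10, mk2_11] at e00 e01 e10 e11
  unfold trc
  have h2 := two0 (F := F)
  linear_combination e01 + m.1 1 1 * h2

/-- `U1` inverts `y` iff `y₁₁ = y₀₀ + y₁₀`. -/
theorem U1_inverts_iff (y : SL) : U1 * y * U1⁻¹ = y⁻¹ ↔ y.1 1 1 = y.1 0 0 + y.1 1 0 := by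
  have h2 := two0 (F := F)
  constructor
  · intro h
    have h' : U1 * y = y⁻¹ * U1 := by rw [← h]; group
    obtain ⟨e00, e01, e10, e11⟩ := entries_of_eq h'
    rw [sl2_mul_apply, sl2_mul_apply] at e00 e01 e10 e11
    simp only [U1, mk2_00, mk2_01, mk2_10, mk2_11, inv00, inv01, inv10, inv11] at e00 e01 e10 e11
    linear_combination -e00
  · intro h
    have h' : U1 * y = y⁻¹ * U1 := by
      apply sl2_ext
      · rw [sl2_mul_apply, sl2_mul_apply]
        simp only [U1, mk2_00, mk2_01, mk2_10, mk2_11, inv00, inv01, inv10, inv11]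
        linear_combination -h
      · rw [sl2_mul_apply, sl2_mul_apply]
        simp only [U1, mk2_00, mk2_01, mk2_10, mk2_11, inv00, inv01, inv10, inv11]
        linear_combination 0 * h
      · rw [sl2_mul_apply, sl2_mul_apply]
        simp only [U1, mk2_00, mk2_01, mk2_10, mk2_11, inv00, inv01, inv10, inv11]
        linear_combination 0 * h
      · rw [sl2_mul_apply, sl2_mul_apply]
        simp only [U1, mk2_00, mk2_01, mk2_10, mk2_11, inv00, inv01, inv10, inv11]
        linear_combination h
    rw [h']; group

/-- (γ) if `x` (nonzero trace) commutes with `a` (nonzero trace) and `y` normalises `{a, a⁻¹}`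
then `y` normalises `{x, x⁻¹}`. -/
theorem mem_invNormalizer_of_commute (x a y : SL) (hx : trc x ≠ 0) (ha : trc a ≠ 0)
    (hxa : x * a = a * x) (hy : y ∈ invNormalizer a) : y ∈ invNormalizer x := by
  set z := y * x * y⁻¹ with hz
  have hza : z * a = a * z := by
    rcases hy with hy | hy
    · -- y a y⁻¹ = a
      have : z * (y * a * y⁻¹) = (y * a * y⁻¹) * z := by
        rw [hz]
        calc y * x * y⁻¹ * (y * a * y⁻¹) = y * (x * a) * y⁻¹ := by group
          _ = y * (a * x) * y⁻¹ := by rw [hxa]
          _ = y * a * y⁻¹ * (y * x * y⁻¹) := by group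
      rwa [hy] at this
    · have : z * (y * a * y⁻¹) = (y * a * y⁻¹) * z := by
        rw [hz]
        calc y * x * y⁻¹ * (y * a * y⁻¹) = y * (x * a) * y⁻¹ := by group
          _ = y * (a * x) * y⁻¹ := by rw [hxa]
          _ = y * a * y⁻¹ * (y * x * y⁻¹) := by group
      rw [hy] at this
      calc z * a = a * (a⁻¹ * z) * a := by group
        _ = a * (z * a⁻¹) * a := by rw [this]
        _ = a * z := by group
  have hzx : z * x = x * z := commute_of_commute a z x ha hza hxa
  exact eq_or_eq_inv_of_commute x z hx hzx (trc_conj y x)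

/-- key step for the involution case. -/
theorem U1_alpha (y a : SL) (ha : trc a ≠ 0) (hU : U1 * a * U1⁻¹ = a⁻¹) (hya : y * a = a * y) :
    y.1 0 0 = y.1 1 1 ∨ y.1 1 1 = y.1 0 0 + y.1 1 0 := by
  have h2 := two0 (F := F)
  by_cases hty : trc y = 0
  · left
    unfold trc at hty
    linear_combination hty - y.1 1 1 * h2
  · right
    rw [← U1_inverts_iff]
    set z := U1 * y * U1⁻¹ with hz
    -- z commutes with a⁻¹ hence with a
    have hza' : z * a⁻¹ = a⁻¹ * z := by
      rw [hz, ← hU]
      calc U1 * y * U1⁻¹ * (U1 * a * U1⁻¹) = U1 * (y * a) * U1⁻¹ := by group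
        _ = U1 * (a * y) * U1⁻¹ := by rw [hya]
        _ = U1 * a * U1⁻¹ * (U1 * y * U1⁻¹) := by group
    have hza : z * a = a * z := by
      calc z * a = a * (a⁻¹ * z) * a := by group
        _ = a * (z * a⁻¹) * a := by rw [hza']
        _ = a * z := by group
    have hzy : z * y = y * z := commute_of_commute a z y ha hza hya
    rcases eq_or_eq_inv_of_commute y z hty hzy (trc_conj U1 y) with h | h
    · exfalso
      apply hty
      apply trc_of_commute_U1
      have : U1 * y * U1⁻¹ = y := h
      calc y * U1 = (U1 * y * U1⁻¹) * U1 := by rw [this]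
        _ = U1 * y := by group
    · exact h

/-- the solubilizer of the standard involution. -/
theorem sol_U1_iff (y : SL) :
    Group.IsSolvable (Subgroup.closure ({U1, y} : Set SL)) ↔
      (y.1 1 0 = 0 ∨ y.1 0 0 = y.1 1 1 ∨ y.1 1 1 = y.1 0 0 + y.1 1 0) := by
  have h2 := two0 (F := F)
  constructor
  · intro hsol
    rcases sol_cases U1 y U1_ne_one with ⟨v, hv0, ⟨μ, hμ⟩, ⟨ν, hν⟩⟩ | ⟨a, ha, hUa, hya⟩
    · left
      unfold act at hμ hν
      have a1 := congrArg Prod.fst hμ
      have a2 := congrArg Prod.snd hμ
      have b2 := congrArg Prod.snd hν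
      simp only [U1, mk2_00, mk2_01, mk2_10, mk2_11, Prod.smul_fst, Prod.smul_snd,
        smul_eq_mul] at a1 a2 b2
      have hv2 : v.2 = 0 := by
        by_contra hv2
        have hμ1 : μ = 1 := by
          have : (μ - 1) * v.2 = 0 := by linear_combination -a2
          exact sub_eq_zero.mp ((mul_eq_zero.mp this).resolve_right hv2)
        rw [hμ1] at a1
        apply hv2
        linear_combination a1
      have hv1 : v.1 ≠ 0 := by
        intro h
        apply hv0
        ext
        · exact h
        · exact hv2
      rw [hv2] at b2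
      have : y.1 1 0 * v.1 = 0 := by linear_combination b2
      exact (mul_eq_zero.mp this).resolve_right hv1
    · right
      have hUinv : U1 * a * U1⁻¹ = a⁻¹ := by
        rcases hUa with h | h
        · exfalso
          apply ha
          apply trc_of_commute_U1
          calc a * U1 = (U1 * a * U1⁻¹) * U1 := by rw [h]
            _ = U1 * a := by group
        · exact h
      rcases hya with h | h
      · apply U1_alpha y a ha hUinv
        calc y * a = (y * a * y⁻¹) * y := by group
          _ = a * y := by rw [h]
      · -- w = U1 * y commutes with a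
        have hw : (U1 * y) * a = a * (U1 * y) := by
          have e1 : (U1 * y) * a * (U1 * y)⁻¹ = a := by
            calc (U1 * y) * a * (U1 * y)⁻¹ = U1 * (y * a * y⁻¹) * U1⁻¹ := by group
              _ = U1 * a⁻¹ * U1⁻¹ := by rw [h]
              _ = (U1 * a * U1⁻¹)⁻¹ := by group
              _ = a := by rw [hUinv, inv_inv]
          calc (U1 * y) * a = ((U1 * y) * a * (U1 * y)⁻¹) * (U1 * y) := by group
            _ = a * (U1 * y) := by rw [e1]
        rcases U1_alpha (U1 * y) a ha hUinv hw with h' | h'
        · right
          rw [sl2_mul_apply, sl2_mul_apply] at h'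
          simp only [U1, mk2_00, mk2_01, mk2_10, mk2_11] at h'
          linear_combination -h'
        · left
          rw [sl2_mul_apply, sl2_mul_apply, sl2_mul_apply] at h'
          simp only [U1, mk2_00, mk2_01, mk2_10, mk2_11] at h'
          linear_combination -h' - y.1 1 0 * h2
  · rintro (h | h | h)
    · have : Group.IsSolvable (upperB F) := isSolvable_upperB
      exact isSolvable_closure_pair_of_le (upperB F) U1 y (by rw [mem_upperB]; simp [U1]) h
    · by_cases hc : y.1 1 0 = 0
      · have : Group.IsSolvable (upperB F) := isSolvable_upperB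
        exact isSolvable_closure_pair_of_le (upperB F) U1 y (by rw [mem_upperB]; simp [U1]) hc
      · have hty : trc y = 0 := by
          unfold trc
          rw [h]
          linear_combination y.1 1 1 * h2
        have hyy : y * y = 1 := mul_self_of_trc y hty
        have hyinv : y⁻¹ = y := inv_eq_of_mul_eq_one_left hyy
        have hta : trc (U1 * y) ≠ 0 := by
          unfold trc
          rw [sl2_mul_apply, sl2_mul_apply]
          simp only [U1, mk2_00, mk2_01, mk2_10, mk2_11]
          intro h0
          apply hc
          linear_combination h0 - h - y.1 1 1 * h2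
        have : Group.IsSolvable (invNormalizer (U1 * y)) := isSolvable_invNormalizer_of_trc _ hta
        apply isSolvable_closure_pair_of_le (invNormalizer (U1 * y)) U1 y
        · right
          calc U1 * (U1 * y) * U1⁻¹ = (U1 * U1) * y * U1⁻¹ := by group
            _ = y⁻¹ * U1⁻¹ := by rw [U1_mul_self, one_mul, hyinv]
            _ = (U1 * y)⁻¹ := by group
        · right
          calc y * (U1 * y) * y⁻¹ = y * U1 * (y * y⁻¹) := by group
            _ = y⁻¹ * U1⁻¹ := by rw [mul_inv_cancel, mul_one, hyinv, U1_inv]
            _ = (U1 * y)⁻¹ := by group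
    · by_cases hc : y.1 1 0 = 0
      · have : Group.IsSolvable (upperB F) := isSolvable_upperB
        exact isSolvable_closure_pair_of_le (upperB F) U1 y (by rw [mem_upperB]; simp [U1]) hc
      · have hty : trc y ≠ 0 := by
          unfold trc
          rw [h]
          intro h0
          apply hc
          linear_combination h0 - y.1 0 0 * h2
        have : Group.IsSolvable (invNormalizer y) := isSolvable_invNormalizer_of_trc _ hty
        apply isSolvable_closure_pair_of_le (invNormalizer y) U1 y
        · right
          exact (U1_inverts_iff y).mpr h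
        · left
          group

/-- the diagonal element. -/
def dg (l : F) (hl : l ≠ 0) : SL := mk2 l 0 0 l⁻¹ (by rw [mul_inv_cancel₀ hl]; ring)

/-- the Weyl element. -/
def Wy : SL := mk2 0 1 1 0 (by linear_combination (-1 : F) * two0 (F := F))

theorem mul_self_ne_one {l : F} (hl1 : l ≠ 1) : l * l ≠ 1 := by
  intro h
  apply hl1
  have h2 := two0 (F := F)
  have : (l - 1) ^ 2 = 0 := by linear_combination h - l * h2 + h2
  exact sub_eq_zero.mp ((pow_eq_zero_iff two_ne_zero).mp this)

theorem inv_sub_ne {l : F} (hl : l ≠ 0) (hl1 : l ≠ 1) : l⁻¹ - l ≠ 0 := by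
  intro h
  apply mul_self_ne_one hl1
  have : l⁻¹ = l := sub_eq_zero.mp h
  calc l * l = l * l⁻¹ := by rw [this]
    _ = 1 := mul_inv_cancel₀ hl

theorem trc_dg {l : F} (hl : l ≠ 0) (hl1 : l ≠ 1) : trc (dg l hl) ≠ 0 := by
  unfold trc
  simp only [dg, mk2_00, mk2_11]
  intro h
  apply inv_sub_ne hl hl1
  have h2 := two0 (F := F)
  linear_combination h - l * h2

theorem dg_ne_one {l : F} (hl : l ≠ 0) (hl1 : l ≠ 1) : dg l hl ≠ 1 := by
  intro h
  obtain ⟨e00, -, -, -⟩ := entries_of_eq h
  rw [sl2_one_00] at e00
  simp only [dg, mk2_00] at e00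
  exact hl1 e00

/-- the solubilizer of a diagonal element. -/
theorem sol_dg_iff (l : F) (hl : l ≠ 0) (hl1 : l ≠ 1) (y : SL) :
    Group.IsSolvable (Subgroup.closure ({dg l hl, y} : Set SL)) ↔
      (y.1 1 0 = 0 ∨ y.1 0 1 = 0 ∨ (y.1 0 0 = 0 ∧ y.1 1 1 = 0)) := by
  have h2 := two0 (F := F)
  have hll := inv_sub_ne hl hl1
  constructor
  · intro hsol
    rcases sol_cases (dg l hl) y (dg_ne_one hl hl1) with
      ⟨v, hv0, ⟨μ, hμ⟩, ⟨ν, hν⟩⟩ | ⟨a, ha, hDa, hya⟩
    · unfold act at hμ hν
      have a1 := congrArg Prod.fst hμ
      have a2 := congrArg Prod.snd hμ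
      have b1 := congrArg Prod.fst hν
      have b2 := congrArg Prod.snd hν
      simp only [dg, mk2_00, mk2_01, mk2_10, mk2_11, Prod.smul_fst, Prod.smul_snd,
        smul_eq_mul] at a1 a2 b1 b2
      by_cases hv2 : v.2 = 0
      · left
        have hv1 : v.1 ≠ 0 := by
          intro h
          apply hv0
          ext
          · exact h
          · exact hv2
        rw [hv2] at b2
        have : y.1 1 0 * v.1 = 0 := by linear_combination b2
        exact (mul_eq_zero.mp this).resolve_right hv1
      · right; left
        have hμ2 : μ = l⁻¹ := by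
          have : (l⁻¹ - μ) * v.2 = 0 := by linear_combination a2
          exact (sub_eq_zero.mp ((mul_eq_zero.mp this).resolve_right hv2)).symm
        have hv1 : v.1 = 0 := by
          by_contra hv1
          have : (l - μ) * v.1 = 0 := by linear_combination a1
          have h3 : l = μ := sub_eq_zero.mp ((mul_eq_zero.mp this).resolve_right hv1)
          apply hll
          rw [← hμ2, ← h3, sub_self]
        rw [hv1] at b1
        have : y.1 0 1 * v.2 = 0 := by linear_combination b1
        exact (mul_eq_zero.mp this).resolve_right hv2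
    · have hDcomm : dg l hl * a = a * dg l hl := by
        rcases hDa with h | h
        · calc dg l hl * a = (dg l hl * a * (dg l hl)⁻¹) * dg l hl := by group
            _ = a * dg l hl := by rw [h]
        · exfalso
          exact trc_dg hl hl1 (trc_of_inverts a (dg l hl) ha h)
      have hy := mem_invNormalizer_of_commute (dg l hl) a y (trc_dg hl hl1) ha hDcomm hya
      rcases hy with h | h
      · right; left
        have h' : y * dg l hl = dg l hl * y := by
          calc y * dg l hl = (y * dg l hl * y⁻¹) * y := by group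
            _ = dg l hl * y := by rw [h]
        obtain ⟨-, e01, -, -⟩ := entries_of_eq h'
        rw [sl2_mul_apply, sl2_mul_apply] at e01
        simp only [dg, mk2_00, mk2_01, mk2_10, mk2_11] at e01
        have : y.1 0 1 * (l⁻¹ - l) = 0 := by linear_combination e01
        exact (mul_eq_zero.mp this).resolve_right hll
      · right; right
        have h' : y * dg l hl = (dg l hl)⁻¹ * y := by
          calc y * dg l hl = (y * dg l hl * y⁻¹) * y := by group
            _ = (dg l hl)⁻¹ * y := by rw [h]
        obtain ⟨e00, -, -, e11⟩ := entries_of_eq h'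
        rw [sl2_mul_apply, sl2_mul_apply] at e00 e11
        simp only [dg, mk2_00, mk2_01, mk2_10, mk2_11, inv00, inv01, inv10, inv11] at e00 e11
        constructor
        · have : y.1 0 0 * (l⁻¹ - l) = 0 := by linear_combination -e00
          exact (mul_eq_zero.mp this).resolve_right hll
        · have : y.1 1 1 * (l⁻¹ - l) = 0 := by linear_combination e11
          exact (mul_eq_zero.mp this).resolve_right hll
  · rintro (h | h | ⟨h0, h1⟩)
    · have : Group.IsSolvable (upperB F) := isSolvable_upperB
      exact isSolvable_closure_pair_of_le (upperB F) (dg l hl) y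
        (by rw [mem_upperB]; simp [dg]) h
    · rw [← isSolvable_closure_pair_iff (MulAut.conj (Wy : SL)) (dg l hl) y]
      have : Group.IsSolvable (upperB F) := isSolvable_upperB
      apply isSolvable_closure_pair_of_le (upperB F)
      · rw [mem_upperB, MulAut.conj_apply, sl2_mul_apply, sl2_mul_apply, sl2_mul_apply]
        simp only [Wy, dg, mk2_00, mk2_01, mk2_10, mk2_11, inv00, inv01, inv10, inv11]
        ring
      · rw [mem_upperB, MulAut.conj_apply, sl2_mul_apply, sl2_mul_apply, sl2_mul_apply]
        simp only [Wy, dg, mk2_00, mk2_01, mk2_10, mk2_11, inv00, inv01, inv10, inv11]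
        rw [h]
        ring
    · have : Group.IsSolvable (invNormalizer (dg l hl)) :=
        isSolvable_invNormalizer_of_trc _ (trc_dg hl hl1)
      apply isSolvable_closure_pair_of_le (invNormalizer (dg l hl)) (dg l hl) y
      · left; group
      · right
        have h' : y * dg l hl = (dg l hl)⁻¹ * y := by
          apply sl2_ext
          · rw [sl2_mul_apply, sl2_mul_apply]
            simp only [dg, mk2_00, mk2_01, mk2_10, mk2_11, inv00, inv01, inv10, inv11]
            rw [h0]; ring
          · rw [sl2_mul_apply, sl2_mul_apply]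
            simp only [dg, mk2_00, mk2_01, mk2_10, mk2_11, inv00, inv01, inv10, inv11]
            ring
          · rw [sl2_mul_apply, sl2_mul_apply]
            simp only [dg, mk2_00, mk2_01, mk2_10, mk2_11, inv00, inv01, inv10, inv11]
            ring
          · rw [sl2_mul_apply, sl2_mul_apply]
            simp only [dg, mk2_00, mk2_01, mk2_10, mk2_11, inv00, inv01, inv10, inv11]
            rw [h1]; ring
        rw [h']; group

/-- an element without invariant lines. -/
def IsElliptic (x : SL) : Prop := ∀ v : F × F, v ≠ 0 → ¬ FixesLine x v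

theorem IsElliptic.ne_one {x : SL} (hx : IsElliptic x) : x ≠ 1 := by
  intro h
  apply hx (1, 0) (by simp)
  exact ⟨1, by rw [h, act_one, one_smul]⟩

theorem IsElliptic.trc_ne {x : SL} (hx : IsElliptic x) : trc x ≠ 0 := by
  intro h
  obtain ⟨v, hv0, hv⟩ := exists_fixed x h hx.ne_one
  exact hx v hv0 ⟨1, by rw [hv, one_smul]⟩

/-- the solubilizer of an elliptic element. -/
theorem sol_elliptic_iff (x : SL) (hx : IsElliptic x) (y : SL) :
    Group.IsSolvable (Subgroup.closure ({x, y} : Set SL)) ↔ y ∈ invNormalizer x := by
  constructor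
  · intro hsol
    rcases sol_cases x y hx.ne_one with ⟨v, hv0, hxv, -⟩ | ⟨a, ha, hxa, hya⟩
    · exact absurd hxv (hx v hv0)
    · have hcomm : x * a = a * x := by
        rcases hxa with h | h
        · calc x * a = (x * a * x⁻¹) * x := by group
            _ = a * x := by rw [h]
        · exfalso
          exact hx.trc_ne (trc_of_inverts a x ha h)
      exact mem_invNormalizer_of_commute x a y hx.trc_ne ha hcomm hya
  · intro hy
    have : Group.IsSolvable (invNormalizer x) := isSolvable_invNormalizer_of_trc _ hx.trc_ne
    apply isSolvable_closure_pair_of_le (invNormalizer x) x y _ hy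
    left; group

end Cfsg.Agent.Lib.Helper38.Sol2
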