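import Mathlib
import Cfsg.Agent.Lib.Helper38.SolTwoCases

set_option autoImplicit false
set_option linter.unusedSectionVars false
set_option linter.unusedVariables false
set_option linter.unusedSimpArgs false

/-! Normal forms in `SL₂(F)`, `F` finite of characteristic two. -/

namespace Cfsg.Agent.Lib.Helper38.Sol2

open Matrix Cfsg.Agent.Lib.Helper38

variable {F : Type*} [Field F] [CharP F 2]

local notation "SL" => Matrix.SpecialLinearGroup (Fin 2) F

/-- square roots exist in a finite field of characteristic two. -/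
theorem exists_sqrt [Finite F] (c : F) : ∃ s : F, s * s = c := by
  have h := FiniteField.isSquare_of_char_two (ringChar.eq F 2) c
  obtain ⟨r, hr⟩ := h
  exact ⟨r, hr.symm⟩

theorem parallel_of_det_zero (u w : F × F) (hu : u ≠ 0) (hδ : u.1 * w.2 - u.2 * w.1 = 0) :
    ∃ ν : F, w = ν • u := by
  by_cases hu1 : u.1 = 0
  · have hu2 : u.2 ≠ 0 := by
      intro h
      apply hu
      ext
      · exact hu1
      · exact h
    refine ⟨w.2 / u.2, ?_⟩
    have hw1 : w.1 = 0 := by
      rw [hu1] at hδ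
      have : u.2 * w.1 = 0 := by linear_combination -hδ
      exact (mul_eq_zero.mp this).resolve_left hu2
    ext
    · simp only [Prod.smul_fst, smul_eq_mul]
      rw [hw1, hu1, mul_zero]
    · simp only [Prod.smul_snd, smul_eq_mul]
      field_simp
  · refine ⟨w.1 / u.1, ?_⟩
    ext
    · simp only [Prod.smul_fst, smul_eq_mul]
      field_simp
    · simp only [Prod.smul_snd, smul_eq_mul]
      field_simp
      linear_combination hδ

/-- an eigenvalue is a root of the characteristic polynomial. -/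
theorem root_of_eigen (x : SL) (v : F × F) (hv : v ≠ 0) (μ : F) (h : act x v = μ • v) :
    μ * μ + trc x * μ + 1 = 0 := by
  unfold act at h
  have a1 := congrArg Prod.fst h
  have a2 := congrArg Prod.snd h
  simp only [Prod.smul_fst, Prod.smul_snd, smul_eq_mul] at a1 a2
  have hd := det2 x
  have h2 := two0 (F := F)
  unfold trc
  -- (x00 - μ) v1 + x01 v2 = 0 ; x10 v1 + (x11 - μ) v2 = 0
  have e1 : (μ * μ + (x.1 0 0 + x.1 1 1) * μ + 1) * v.1 = 0 := by
    linear_combination (x.1 1 1 - μ) * a1 - x.1 0 1 * a2 + (-(v.1 * x.1 0 1 * x.1 1 0) + v.1 * μ * x.1 0 0 + v.1 * μ * x.1 1 1 + v.1) * h2 - v.1 * hd + (-v.1 + 2 * v.1 * x.1 0 1 * x.1 1 0) * h2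
  have e2 : (μ * μ + (x.1 0 0 + x.1 1 1) * μ + 1) * v.2 = 0 := by
    linear_combination (x.1 0 0 - μ) * a2 - x.1 1 0 * a1 + (-(v.2 * x.1 0 1 * x.1 1 0) + v.2 * μ * x.1 0 0 + v.2 * μ * x.1 1 1 + v.2) * h2 - v.2 * hd + (-v.2 + 2 * v.2 * x.1 1 0 * x.1 0 1) * h2
  by_contra hne
  apply hv
  ext
  · exact (mul_eq_zero.mp e1).resolve_left hne
  · exact (mul_eq_zero.mp e2).resolve_left hne

/-- a root of the characteristic polynomial has an eigenvector. -/
theorem exists_eigen (x : SL) (μ : F) (hμ : μ * μ + trc x * μ + 1 = 0) :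
    ∃ v : F × F, v ≠ 0 ∧ act x v = μ • v := by
  unfold trc at hμ
  have hd := det2 x
  have h2 := two0 (F := F)
  by_cases h1 : (x.1 0 1, μ + x.1 0 0) = (0 : F × F)
  · by_cases h3 : (μ + x.1 1 1, x.1 1 0) = (0 : F × F)
    · refine ⟨(1, 0), by simp, ?_⟩
      have e1 := congrArg Prod.snd h1
      have e3 := congrArg Prod.snd h3
      simp only [Prod.snd_zero] at e1 e3
      unfold act
      ext
      · simp only [Prod.smul_fst, smul_eq_mul, mul_one, mul_zero, add_zero]
        linear_combination -e1 + x.1 0 0 * h2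
      · simp only [Prod.smul_snd, smul_eq_mul, mul_one, mul_zero, add_zero]
        exact e3
    · refine ⟨_, h3, ?_⟩
      unfold act
      ext
      · simp only [Prod.smul_fst, smul_eq_mul]
        linear_combination -hμ + hd + (1 + x.1 0 0 * μ) * h2
      · simp only [Prod.smul_snd, smul_eq_mul]
        linear_combination (x.1 1 0 * x.1 1 1) * h2
  · refine ⟨_, h1, ?_⟩
    unfold act
    ext
    · simp only [Prod.smul_fst, smul_eq_mul]
      linear_combination (x.1 0 0 * x.1 0 1) * h2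
    · simp only [Prod.smul_snd, smul_eq_mul]
      linear_combination -hμ + hd + (1 + x.1 1 1 * μ) * h2

/-- involutions are conjugate to the standard one. -/
theorem conj_to_U1 [Finite F] (x : SL) (hx : x ≠ 1) (ht : trc x = 0) :
    ∃ g : SL, g * x * g⁻¹ = U1 := by
  unfold trc at ht
  have h2 := two0 (F := F)
  have hd := det2 x
  have h11 : x.1 1 1 = x.1 0 0 := by linear_combination ht - x.1 0 0 * h2
  rw [h11] at hd
  suffices h : ∃ k : SL, x * k = k * U1 by
    obtain ⟨k, hk⟩ := h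
    refine ⟨k⁻¹, ?_⟩
    calc k⁻¹ * x * k⁻¹⁻¹ = k⁻¹ * (x * k) := by group
      _ = k⁻¹ * (k * U1) := by rw [hk]
      _ = U1 := by group
  by_cases hb : x.1 0 1 = 0
  · have ha : x.1 0 0 = 1 := by
      rw [hb] at hd
      have : (x.1 0 0 - 1) ^ 2 = 0 := by linear_combination hd - x.1 0 0 * h2 + h2
      exact sub_eq_zero.mp ((pow_eq_zero_iff two_ne_zero).mp this)
    have hc : x.1 1 0 ≠ 0 := by
      intro hc
      apply hx
      apply sl2_ext
      · rw [sl2_one_00, ha]
      · rw [sl2_one_01, hb]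
      · rw [sl2_one_10, hc]
      · rw [sl2_one_11, h11, ha]
    obtain ⟨s, hs⟩ := exists_sqrt (x.1 1 0)⁻¹
    have hsc : s * s * x.1 1 0 = 1 := by rw [hs, inv_mul_cancel₀ hc]
    refine ⟨mk2 0 s (s * x.1 1 0) 0 (by linear_combination (-1 : F) * hsc + (-1 : F) * h2), ?_⟩
    apply sl2_ext
    · rw [sl2_mul_apply, sl2_mul_apply]
      simp only [U1, mk2_00, mk2_01, mk2_10, mk2_11]
      rw [hb]; ring
    · rw [sl2_mul_apply, sl2_mul_apply]
      simp only [U1, mk2_00, mk2_01, mk2_10, mk2_11]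
      rw [ha]; ring
    · rw [sl2_mul_apply, sl2_mul_apply]
      simp only [U1, mk2_00, mk2_01, mk2_10, mk2_11]
      rw [h11, ha]; ring
    · rw [sl2_mul_apply, sl2_mul_apply]
      simp only [U1, mk2_00, mk2_01, mk2_10, mk2_11]
      ring
  · obtain ⟨s, hs⟩ := exists_sqrt (x.1 0 1)⁻¹
    have hsb : s * s * x.1 0 1 = 1 := by rw [hs, inv_mul_cancel₀ hb]
    refine ⟨mk2 (s * x.1 0 1) 0 (s * (x.1 0 0 + 1)) s (by linear_combination hsb), ?_⟩
    apply sl2_ext
    · rw [sl2_mul_apply, sl2_mul_apply]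
      simp only [U1, mk2_00, mk2_01, mk2_10, mk2_11]
      linear_combination (s * x.1 0 0 * x.1 0 1) * h2
    · rw [sl2_mul_apply, sl2_mul_apply]
      simp only [U1, mk2_00, mk2_01, mk2_10, mk2_11]
      ring
    · rw [sl2_mul_apply, sl2_mul_apply]
      simp only [U1, mk2_00, mk2_01, mk2_10, mk2_11]
      rw [h11]
      linear_combination s * hd
    · rw [sl2_mul_apply, sl2_mul_apply]
      simp only [U1, mk2_00, mk2_01, mk2_10, mk2_11]
      rw [h11]
      linear_combination (-s) * h2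

/-- split semisimple elements are conjugate to diagonal ones. -/
theorem conj_to_dg [Finite F] (x : SL) (ht : trc x ≠ 0) (l : F)
    (hl : l * l + trc x * l + 1 = 0) :
    ∃ (hl0 : l ≠ 0) (g : SL), g * x * g⁻¹ = dg l hl0 := by
  have h2 := two0 (F := F)
  have hl0 : l ≠ 0 := by
    intro h
    rw [h] at hl
    simp at hl
  refine ⟨hl0, ?_⟩
  have hl' : (l + trc x) * (l + trc x) + trc x * (l + trc x) + 1 = 0 := by
    linear_combination hl + (trc x * trc x + l * trc x) * h2
  have hlinv : l + trc x = l⁻¹ := by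
    field_simp
    linear_combination hl - h2
  obtain ⟨v₁, hv₁0, hv₁⟩ := exists_eigen x l hl
  obtain ⟨v₂, hv₂0, hv₂⟩ := exists_eigen x (l + trc x) hl'
  have hδ : v₁.1 * v₂.2 - v₁.2 * v₂.1 ≠ 0 := by
    intro hδ
    obtain ⟨ν, hν⟩ := parallel_of_det_zero v₁ v₂ hv₁0 hδ
    have e1 : (l + trc x) • v₂ = l • v₂ := by
      calc (l + trc x) • v₂ = act x v₂ := hv₂.symm
        _ = act x (ν • v₁) := by rw [hν]
        _ = ν • act x v₁ := act_smul _ _ _
        _ = ν • (l • v₁) := by rw [hv₁]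
        _ = l • (ν • v₁) := by rw [smul_comm]
        _ = l • v₂ := by rw [hν]
    have e2 : trc x • v₂ = 0 := by
      have : (l + trc x) • v₂ - l • v₂ = 0 := by rw [e1, sub_self]
      rw [← sub_smul] at this
      simpa using this
    rcases smul_eq_zero.mp e2 with h | h
    · exact ht h
    · exact hv₂0 h
  obtain ⟨s, hs⟩ := exists_sqrt (v₁.1 * v₂.2 - v₁.2 * v₂.1)⁻¹
  have hsδ : s * s * (v₁.1 * v₂.2 - v₁.2 * v₂.1) = 1 := by rw [hs, inv_mul_cancel₀ hδ]
  suffices h : ∃ k : SL, x * k = k * dg l hl0 by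
    obtain ⟨k, hk⟩ := h
    refine ⟨k⁻¹, ?_⟩
    calc k⁻¹ * x * k⁻¹⁻¹ = k⁻¹ * (x * k) := by group
      _ = k⁻¹ * (k * dg l hl0) := by rw [hk]
      _ = dg l hl0 := by group
  unfold act at hv₁ hv₂
  have a1 := congrArg Prod.fst hv₁
  have a2 := congrArg Prod.snd hv₁
  have b1 := congrArg Prod.fst hv₂
  have b2 := congrArg Prod.snd hv₂
  simp only [Prod.smul_fst, Prod.smul_snd, smul_eq_mul] at a1 a2 b1 b2
  rw [hlinv] at b1 b2
  refine ⟨mk2 (s * v₁.1) (s * v₂.1) (s * v₁.2) (s * v₂.2) (by linear_combination hsδ), ?_⟩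
  apply sl2_ext
  · rw [sl2_mul_apply, sl2_mul_apply]
    simp only [dg, mk2_00, mk2_01, mk2_10, mk2_11]
    linear_combination s * a1
  · rw [sl2_mul_apply, sl2_mul_apply]
    simp only [dg, mk2_00, mk2_01, mk2_10, mk2_11]
    linear_combination s * b1
  · rw [sl2_mul_apply, sl2_mul_apply]
    simp only [dg, mk2_00, mk2_01, mk2_10, mk2_11]
    linear_combination s * a2
  · rw [sl2_mul_apply, sl2_mul_apply]
    simp only [dg, mk2_00, mk2_01, mk2_10, mk2_11]
    linear_combination s * b2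

theorem dg_pow (l : F) (hl : l ≠ 0) (n : ℕ) : (dg l hl) ^ n = dg (l ^ n) (pow_ne_zero n hl) := by
  induction n with
  | zero =>
    apply sl2_ext <;> simp [dg]
  | succ n ih =>
    rw [pow_succ, ih]
    apply sl2_ext
    · rw [sl2_mul_apply]; simp only [dg, mk2_00, mk2_01, mk2_10, mk2_11]; ring
    · rw [sl2_mul_apply]; simp only [dg, mk2_00, mk2_01, mk2_10, mk2_11]; ring
    · rw [sl2_mul_apply]; simp only [dg, mk2_00, mk2_01, mk2_10, mk2_11]; ring
    · rw [sl2_mul_apply]; simp only [dg, mk2_00, mk2_01, mk2_10, mk2_11]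
      rw [pow_succ, mul_inv]; ring

theorem dg_pow_card_sub_one [Fintype F] (l : F) (hl : l ≠ 0) :
    (dg l hl) ^ (Fintype.card F - 1) = 1 := by
  rw [dg_pow]
  have h := FiniteField.pow_card_sub_one_eq_one l hl
  apply sl2_ext
  · simp only [dg, mk2_00]; rw [h, sl2_one_00]
  · simp only [dg, mk2_01]; rw [sl2_one_01]
  · simp only [dg, mk2_10]; rw [sl2_one_10]
  · simp only [dg, mk2_11]; rw [h, sl2_one_11, inv_one]

end Cfsg.Agent.Lib.Helper38.Sol2
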