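import Mathlib
import Cfsg.Agent.Lib.Helper38.SolTwoForms

set_option autoImplicit false
set_option linter.unusedSectionVars false
set_option linter.unusedVariables false
set_option linter.unusedSimpArgs false

/-! Counting the solubilizers in `SL₂(F)`, `F` finite of characteristic two. -/

namespace Cfsg.Agent.Lib.Helper38.Sol2

open Matrix Cfsg.Agent.Lib.Helper38

theorem ncard_range_inj {α β : Type*} [Finite α] (f : α → β) (hf : Function.Injective f) :
    (Set.range f).ncard = Nat.card α := by
  rw [← Set.image_univ, Set.ncard_image_of_injective _ hf, Set.ncard_univ]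

variable {F : Type*} [Field F] [CharP F 2] [Fintype F]

local notation "SL" => Matrix.SpecialLinearGroup (Fin 2) F

theorem card_units_F : Nat.card Fˣ = Fintype.card F - 1 := by
  rw [Nat.card_units, Nat.card_eq_fintype_card]

/-- upper triangular matrices. -/
def f0 (p : Fˣ × F) : SL :=
  mk2 (p.1 : F) p.2 0 ((p.1 : F))⁻¹ (by rw [mul_inv_cancel₀ p.1.ne_zero]; ring)

/-- involutions outside the Borel subgroup. -/
def f1 (p : F × Fˣ) : SL :=
  mk2 p.1 ((p.1 * p.1 - 1) / (p.2 : F)) (p.2 : F) p.1
    (by rw [div_mul_cancel₀ _ p.2.ne_zero]; ring)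

/-- elements inverted by `U1` outside the Borel subgroup. -/
def f2 (p : F × Fˣ) : SL :=
  mk2 p.1 ((p.1 * (p.1 + (p.2 : F)) - 1) / (p.2 : F)) (p.2 : F) (p.1 + (p.2 : F))
    (by rw [div_mul_cancel₀ _ p.2.ne_zero]; ring)

theorem f0_inj : Function.Injective (f0 (F := F)) := by
  intro p p' h
  obtain ⟨e00, e01, -, -⟩ := entries_of_eq h
  simp only [f0, mk2_00, mk2_01] at e00 e01
  exact Prod.ext (Units.ext e00) e01

theorem f1_inj : Function.Injective (f1 (F := F)) := by
  intro p p' h
  obtain ⟨e00, -, e10, -⟩ := entries_of_eq h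
  simp only [f1, mk2_00, mk2_10] at e00 e10
  exact Prod.ext e00 (Units.ext e10)

theorem f2_inj : Function.Injective (f2 (F := F)) := by
  intro p p' h
  obtain ⟨e00, -, e10, -⟩ := entries_of_eq h
  simp only [f2, mk2_00, mk2_10] at e00 e10
  exact Prod.ext e00 (Units.ext e10)

theorem mem_range_f0 (y : SL) : y ∈ Set.range (f0 (F := F)) ↔ y.1 1 0 = 0 := by
  constructor
  · rintro ⟨p, rfl⟩
    simp [f0]
  · intro h
    have hd := sl2_det y
    rw [h, mul_zero, sub_zero] at hd
    have h0 : y.1 0 0 ≠ 0 := by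
      intro h0
      rw [h0, zero_mul] at hd
      exact zero_ne_one hd
    refine ⟨(Units.mk0 _ h0, y.1 0 1), ?_⟩
    apply sl2_ext
    · simp [f0]
    · simp [f0]
    · simp [f0, h]
    · simp only [f0, mk2_11, Units.val_mk0]
      field_simp
      linear_combination -hd

theorem mem_range_f1 (y : SL) :
    y ∈ Set.range (f1 (F := F)) ↔ y.1 1 0 ≠ 0 ∧ y.1 0 0 = y.1 1 1 := by
  constructor
  · rintro ⟨p, rfl⟩
    simp only [f1, mk2_00, mk2_10, mk2_11]
    exact ⟨p.2.ne_zero, trivial⟩
  · rintro ⟨hc, h⟩
    have hd := sl2_det y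
    refine ⟨(y.1 0 0, Units.mk0 _ hc), ?_⟩
    apply sl2_ext
    · simp [f1]
    · simp only [f1, mk2_01, Units.val_mk0]
      field_simp
      rw [← h] at hd
      linear_combination hd
    · simp [f1]
    · simp only [f1, mk2_11]
      exact h

theorem mem_range_f2 (y : SL) :
    y ∈ Set.range (f2 (F := F)) ↔ y.1 1 0 ≠ 0 ∧ y.1 1 1 = y.1 0 0 + y.1 1 0 := by
  constructor
  · rintro ⟨p, rfl⟩
    simp only [f2, mk2_00, mk2_10, mk2_11]
    exact ⟨p.2.ne_zero, trivial⟩
  · rintro ⟨hc, h⟩
    have hd := sl2_det y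
    refine ⟨(y.1 0 0, Units.mk0 _ hc), ?_⟩
    apply sl2_ext
    · simp [f2]
    · simp only [f2, mk2_01, Units.val_mk0]
      field_simp
      rw [h] at hd
      linear_combination hd
    · simp [f2]
    · simp only [f2, mk2_11, Units.val_mk0]
      exact h.symm

theorem card_sol_U1 :
    Nat.card {y : SL // Group.IsSolvable (Subgroup.closure ({U1, y} : Set SL))} =
      3 * Fintype.card F * (Fintype.card F - 1) := by
  have h2 := two0 (F := F)
  have hset : {y : SL | Group.IsSolvable (Subgroup.closure ({U1, y} : Set SL))} =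
      Set.range (f0 (F := F)) ∪ (Set.range (f1 (F := F)) ∪ Set.range (f2 (F := F))) := by
    ext y
    rw [Set.mem_ofPred_eq, sol_U1_iff, Set.mem_union, Set.mem_union, mem_range_f0, mem_range_f1,
      mem_range_f2]
    by_cases hc : y.1 1 0 = 0
    · simp [hc]
    · simp [hc]
  have hd12 : Disjoint (Set.range (f1 (F := F))) (Set.range (f2 (F := F))) := by
    rw [Set.disjoint_left]
    intro y h1 h2'
    rw [mem_range_f1] at h1
    rw [mem_range_f2] at h2'
    apply h1.1
    linear_combination (-1 : F) * h2'.2 + h1.2 - (y.1 0 0 - y.1 1 1) * h2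
  have hd0 : Disjoint (Set.range (f0 (F := F))) (Set.range (f1 (F := F)) ∪ Set.range (f2 (F := F))) := by
    rw [Set.disjoint_left]
    intro y h0 h12
    rw [mem_range_f0] at h0
    rcases h12 with h | h
    · rw [mem_range_f1] at h; exact h.1 h0
    · rw [mem_range_f2] at h; exact h.1 h0
  change Nat.card ↥{y : SL | Group.IsSolvable (Subgroup.closure ({U1, y} : Set SL))} = _
  rw [Nat.card_coe_set_eq, hset, Set.ncard_union_eq hd0 (Set.toFinite _) (Set.toFinite _),
    Set.ncard_union_eq hd12 (Set.toFinite _) (Set.toFinite _), ncard_range_inj _ f0_inj,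
    ncard_range_inj _ f1_inj, ncard_range_inj _ f2_inj, Nat.card_prod, Nat.card_prod, card_units_F,
    Nat.card_eq_fintype_card]
  ring

/-- lower triangular, non-diagonal. -/
def g1 (p : Fˣ × Fˣ) : SL :=
  mk2 (p.1 : F) 0 (p.2 : F) ((p.1 : F))⁻¹ (by rw [mul_inv_cancel₀ p.1.ne_zero]; ring)

/-- antidiagonal. -/
def g2 (c : Fˣ) : SL :=
  mk2 0 ((c : F))⁻¹ (c : F) 0
    (by rw [inv_mul_cancel₀ c.ne_zero]; linear_combination (-1 : F) * two0 (F := F))

theorem g1_inj : Function.Injective (g1 (F := F)) := by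
  intro p p' h
  obtain ⟨e00, -, e10, -⟩ := entries_of_eq h
  simp only [g1, mk2_00, mk2_10] at e00 e10
  exact Prod.ext (Units.ext e00) (Units.ext e10)

theorem g2_inj : Function.Injective (g2 (F := F)) := by
  intro p p' h
  obtain ⟨-, -, e10, -⟩ := entries_of_eq h
  simp only [g2, mk2_10] at e10
  exact Units.ext e10

theorem mem_range_g1 (y : SL) :
    y ∈ Set.range (g1 (F := F)) ↔ y.1 1 0 ≠ 0 ∧ y.1 0 1 = 0 := by
  constructor
  · rintro ⟨p, rfl⟩
    simp only [g1, mk2_01, mk2_10]
    exact ⟨p.2.ne_zero, trivial⟩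
  · rintro ⟨hc, h⟩
    have hd := sl2_det y
    rw [h, zero_mul, sub_zero] at hd
    have h0 : y.1 0 0 ≠ 0 := by
      intro h0
      rw [h0, zero_mul] at hd
      exact zero_ne_one hd
    refine ⟨(Units.mk0 _ h0, Units.mk0 _ hc), ?_⟩
    apply sl2_ext
    · simp [g1]
    · simp [g1, h]
    · simp [g1]
    · simp only [g1, mk2_11, Units.val_mk0]
      field_simp
      linear_combination -hd

theorem mem_range_g2 (y : SL) :
    y ∈ Set.range (g2 (F := F)) ↔ y.1 0 0 = 0 ∧ y.1 1 1 = 0 := by
  have h2 := two0 (F := F)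
  constructor
  · rintro ⟨p, rfl⟩
    simp only [g2, mk2_00, mk2_11]
    exact ⟨trivial, trivial⟩
  · rintro ⟨h0, h1⟩
    have hd := sl2_det y
    rw [h0, h1, mul_zero, zero_sub] at hd
    have hc : y.1 1 0 ≠ 0 := by
      intro hc
      rw [hc, mul_zero, neg_zero] at hd
      exact zero_ne_one hd
    refine ⟨Units.mk0 _ hc, ?_⟩
    apply sl2_ext
    · simp [g2, h0]
    · simp only [g2, mk2_01, Units.val_mk0]
      field_simp
      linear_combination -hd - h2 + (1 - y.1 0 1 * y.1 1 0) * h2
    · simp [g2]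
    · simp [g2, h1]

theorem card_sol_dg (l : F) (hl : l ≠ 0) (hl1 : l ≠ 1) :
    Nat.card {y : SL // Group.IsSolvable (Subgroup.closure ({dg l hl, y} : Set SL))} =
      2 * Fintype.card F * (Fintype.card F - 1) := by
  have h2 := two0 (F := F)
  have hset : {y : SL | Group.IsSolvable (Subgroup.closure ({dg l hl, y} : Set SL))} =
      Set.range (f0 (F := F)) ∪ (Set.range (g1 (F := F)) ∪ Set.range (g2 (F := F))) := by
    ext y
    rw [Set.mem_ofPred_eq, sol_dg_iff l hl hl1, Set.mem_union, Set.mem_union, mem_range_f0,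
      mem_range_g1, mem_range_g2]
    by_cases hc : y.1 1 0 = 0
    · simp [hc]
    · simp [hc]
  have hd12 : Disjoint (Set.range (g1 (F := F))) (Set.range (g2 (F := F))) := by
    rw [Set.disjoint_left]
    intro y h1 h2'
    rw [mem_range_g1] at h1
    rw [mem_range_g2] at h2'
    have hd := sl2_det y
    rw [h1.2, h2'.1] at hd
    simp at hd
  have hd0 : Disjoint (Set.range (f0 (F := F))) (Set.range (g1 (F := F)) ∪ Set.range (g2 (F := F))) := by
    rw [Set.disjoint_left]
    intro y h0 h12
    rw [mem_range_f0] at h0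
    rcases h12 with h | h
    · rw [mem_range_g1] at h; exact h.1 h0
    · rw [mem_range_g2] at h
      have hd := sl2_det y
      rw [h0, h.1] at hd
      simp at hd
  change Nat.card ↥{y : SL | Group.IsSolvable (Subgroup.closure ({dg l hl, y} : Set SL))} = _
  rw [Nat.card_coe_set_eq, hset, Set.ncard_union_eq hd0 (Set.toFinite _) (Set.toFinite _),
    Set.ncard_union_eq hd12 (Set.toFinite _) (Set.toFinite _), ncard_range_inj _ f0_inj,
    ncard_range_inj _ g1_inj, ncard_range_inj _ g2_inj, Nat.card_prod, Nat.card_prod, card_units_F,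
    Nat.card_eq_fintype_card]
  obtain ⟨n, hn⟩ : ∃ n, Fintype.card F = n + 1 := ⟨Fintype.card F - 1, by
    have : 0 < Fintype.card F := Fintype.card_pos
    omega⟩
  rw [hn, Nat.add_sub_cancel]
  ring

theorem IsElliptic.no_root {x : SL} (hx : IsElliptic x) (z : F) :
    z * z + trc x * z + 1 ≠ 0 := by
  intro h
  obtain ⟨v, hv0, hv⟩ := exists_eigen x z h
  exact hx v hv0 ⟨z, hv⟩

theorem IsElliptic.b_ne {x : SL} (hx : IsElliptic x) : x.1 0 1 ≠ 0 := by
  intro h
  apply hx (0, 1) (by simp)
  refine ⟨x.1 1 1, ?_⟩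
  unfold act
  ext <;> simp [h]

theorem IsElliptic.c_ne {x : SL} (hx : IsElliptic x) : x.1 1 0 ≠ 0 := by
  intro h
  apply hx (1, 0) (by simp)
  refine ⟨x.1 0 0, ?_⟩
  unfold act
  ext <;> simp [h]

/-- the rational parametrisation of the norm-one conic. -/
noncomputable def conicPt (t : F) : Option F → F × F
  | none => (1, 0)
  | some m => (1 + m * (t / (m * m + t * m + 1)), t / (m * m + t * m + 1))

theorem card_conic (t : F) (ht : ∀ z : F, z * z + t * z + 1 ≠ 0) :
    Nat.card {p : F × F // p.1 * p.1 + t * p.1 * p.2 + p.2 * p.2 = 1} = Fintype.card F + 1 := by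
  have h2 := two0 (F := F)
  have ht0 : t ≠ 0 := by
    intro h
    apply ht 1
    rw [h]
    linear_combination h2
  have hβ : ∀ m : F, t / (m * m + t * m + 1) ≠ 0 := fun m => div_ne_zero ht0 (ht m)
  have hinj : Function.Injective (conicPt t) := by
    intro u u' h
    cases u with
    | none =>
      cases u' with
      | none => rfl
      | some m' =>
        exfalso
        have := congrArg Prod.snd h
        simp only [conicPt] at this
        exact hβ m' this.symm
    | some m =>
      cases u' with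
      | none =>
        exfalso
        have := congrArg Prod.snd h
        simp only [conicPt] at this
        exact hβ m this
      | some m' =>
        have e1 := congrArg Prod.fst h
        have e2 := congrArg Prod.snd h
        simp only [conicPt] at e1 e2
        rw [← e2] at e1
        have : (m - m') * (t / (m * m + t * m + 1)) = 0 := by linear_combination e1
        rw [sub_eq_zero.mp ((mul_eq_zero.mp this).resolve_right (hβ m))]
  have hset : {p : F × F | p.1 * p.1 + t * p.1 * p.2 + p.2 * p.2 = 1} = Set.range (conicPt t) := by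
    ext p
    constructor
    · intro hp
      rw [Set.mem_ofPred_eq] at hp
      by_cases hp2 : p.2 = 0
      · refine ⟨none, ?_⟩
        rw [hp2] at hp
        have : (p.1 - 1) ^ 2 = 0 := by linear_combination hp - p.1 * h2 + h2
        have hp1 : p.1 = 1 := sub_eq_zero.mp ((pow_eq_zero_iff two_ne_zero).mp this)
        ext
        · simp [conicPt, hp1]
        · simp [conicPt, hp2]
      · refine ⟨some ((p.1 + 1) / p.2), ?_⟩
        have hden : (p.1 + 1) / p.2 * ((p.1 + 1) / p.2) + t * ((p.1 + 1) / p.2) + 1 = t / p.2 := by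
          field_simp
          linear_combination hp + (p.1 + 1) * h2
        have hβ' : t / ((p.1 + 1) / p.2 * ((p.1 + 1) / p.2) + t * ((p.1 + 1) / p.2) + 1) = p.2 := by
          rw [hden]
          field_simp
        ext
        · simp only [conicPt]
          rw [hβ']
          field_simp
          linear_combination h2
        · simp only [conicPt]
          exact hβ'
    · rintro ⟨u, rfl⟩
      rw [Set.mem_ofPred_eq]
      cases u with
      | none => simp [conicPt]
      | some m =>
        simp only [conicPt]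
        have hm := ht m
        have hβD : t / (m * m + t * m + 1) * (m * m + t * m + 1) = t := div_mul_cancel₀ _ hm
        generalize t / (m * m + t * m + 1) = β at hβD
        linear_combination β * hβD + (t * β + m * β) * h2
  change Nat.card ↥{p : F × F | p.1 * p.1 + t * p.1 * p.2 + p.2 * p.2 = 1} = _
  rw [Nat.card_coe_set_eq, hset, ncard_range_inj _ hinj, Nat.card_eq_fintype_card,
    Fintype.card_option]

theorem commute_entries (x m : SL) (hm : m * x = x * m) :
    m.1 0 1 * trc x = x.1 0 1 * trc m ∧ m.1 1 0 * trc x = x.1 1 0 * trc m := by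
  have h2 := two0 (F := F)
  obtain ⟨e00, e01, e10, e11⟩ := entries_of_eq hm
  rw [sl2_mul_apply, sl2_mul_apply] at e00 e01 e10 e11
  unfold trc
  constructor
  · linear_combination -e01 + (m.1 0 1 * x.1 1 1 - x.1 0 1 * m.1 1 1) * h2
  · linear_combination e10 + (m.1 1 0 * x.1 1 1 - x.1 1 0 * m.1 1 1) * h2

/-- the elements `α + β x` of norm one. -/
def cenMap (x : SL) (p : {p : F × F // p.1 * p.1 + trc x * p.1 * p.2 + p.2 * p.2 = 1}) : SL :=
  mk2 (p.1.1 + p.1.2 * x.1 0 0) (p.1.2 * x.1 0 1) (p.1.2 * x.1 1 0) (p.1.1 + p.1.2 * x.1 1 1)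
    (by
      have h := p.2
      unfold trc at h
      linear_combination h + p.1.2 * p.1.2 * sl2_det x)

theorem card_centralizer_elliptic (x : SL) (hx : IsElliptic x) :
    Nat.card (Subgroup.centralizer ({x} : Set SL)) = Fintype.card F + 1 := by
  have h2 := two0 (F := F)
  have hb := hx.b_ne
  have hc := hx.c_ne
  have ht := hx.trc_ne
  have hinj : Function.Injective (cenMap x) := by
    intro p p' h
    obtain ⟨e00, e01, -, -⟩ := entries_of_eq h
    simp only [cenMap, mk2_00, mk2_01] at e00 e01
    have hβ : p.1.2 = p'.1.2 := mul_right_cancel₀ hb e01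
    rw [hβ] at e00
    have hα : p.1.1 = p'.1.1 := add_right_cancel e00
    exact Subtype.ext (Prod.ext hα hβ)
  have hset : ((Subgroup.centralizer ({x} : Set SL) : Subgroup SL) : Set SL) =
      Set.range (cenMap x) := by
    ext m
    rw [SetLike.mem_coe, Subgroup.mem_centralizer_singleton_iff]
    constructor
    · intro hm
      obtain ⟨k1, k2⟩ := commute_entries x m hm
      have hd := det2 m
      have hdx := det2 x
      unfold trc at k1 k2 ht
      -- β = m01 / b, α = m00 + β a
      have hβb : m.1 0 1 / x.1 0 1 * x.1 0 1 = m.1 0 1 := div_mul_cancel₀ _ hb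
      have htm : m.1 0 0 + m.1 1 1 = m.1 0 1 / x.1 0 1 * (x.1 0 0 + x.1 1 1) := by
        field_simp
        linear_combination -k1
      have hm10 : m.1 1 0 = m.1 0 1 / x.1 0 1 * x.1 1 0 := by
        have : (m.1 1 0 - m.1 0 1 / x.1 0 1 * x.1 1 0) * (x.1 0 0 + x.1 1 1) = 0 := by
          rw [sub_mul, k2, htm]; ring
        exact sub_eq_zero.mp ((mul_eq_zero.mp this).resolve_right ht)
      generalize m.1 0 1 / x.1 0 1 = β at hβb htm hm10
      have hm11 : m.1 1 1 = m.1 0 0 + β * x.1 0 0 + β * x.1 1 1 := by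
        linear_combination htm - m.1 0 0 * h2
      have hN : (m.1 0 0 + β * x.1 0 0) * (m.1 0 0 + β * x.1 0 0) +
          trc x * (m.1 0 0 + β * x.1 0 0) * β + β * β = 1 := by
        unfold trc
        rw [hm11, hm10, ← hβb] at hd
        linear_combination hd - β * β * hdx + (β * β * x.1 0 1 * x.1 1 0 + β * β * x.1 0 0 * x.1 0 0 + m.1 0 0 * β * x.1 0 0) * h2 + (β ^ 2 * x.1 0 0 * x.1 1 1 - β ^ 2 * x.1 0 1 * x.1 1 0) * h2
      refine ⟨⟨(m.1 0 0 + β * x.1 0 0, β), hN⟩, ?_⟩
      apply sl2_ext
      · simp only [cenMap, mk2_00]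
        linear_combination (β * x.1 0 0) * h2
      · simp only [cenMap, mk2_01]
        exact hβb
      · simp only [cenMap, mk2_10]
        exact hm10.symm
      · simp only [cenMap, mk2_11]
        exact hm11.symm
    · rintro ⟨p, rfl⟩
      apply sl2_ext
      · rw [sl2_mul_apply, sl2_mul_apply]
        simp only [cenMap, mk2_00, mk2_01, mk2_10, mk2_11]
        ring
      · rw [sl2_mul_apply, sl2_mul_apply]
        simp only [cenMap, mk2_00, mk2_01, mk2_10, mk2_11]
        ring
      · rw [sl2_mul_apply, sl2_mul_apply]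
        simp only [cenMap, mk2_00, mk2_01, mk2_10, mk2_11]
        ring
      · rw [sl2_mul_apply, sl2_mul_apply]
        simp only [cenMap, mk2_00, mk2_01, mk2_10, mk2_11]
        ring
  change Nat.card ↥((Subgroup.centralizer ({x} : Set SL) : Subgroup SL) : Set SL) = _
  rw [Nat.card_coe_set_eq, hset, ncard_range_inj _ hinj]
  exact card_conic (trc x) hx.no_root

/-- an element inverting a given elliptic element. -/
theorem exists_inverter (x : SL) (hx : IsElliptic x) : ∃ y₀ : SL, y₀ * x * y₀⁻¹ = x⁻¹ := by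
  have h2 := two0 (F := F)
  have hb := hx.b_ne
  have hc := hx.c_ne
  obtain ⟨k, hk⟩ := exists_sqrt (x.1 0 1 * x.1 1 0)⁻¹
  have hk' : k * k * (x.1 0 1 * x.1 1 0) = 1 := by
    rw [hk, inv_mul_cancel₀ (mul_ne_zero hb hc)]
  refine ⟨mk2 0 (x.1 0 1 * k) (x.1 1 0 * k) 0 (by linear_combination (-1 : F) * hk' - h2), ?_⟩
  have h' : mk2 0 (x.1 0 1 * k) (x.1 1 0 * k) 0 (by linear_combination (-1 : F) * hk' - h2) * x =
      x⁻¹ * mk2 0 (x.1 0 1 * k) (x.1 1 0 * k) 0 (by linear_combination (-1 : F) * hk' - h2) := by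
    apply sl2_ext
    · rw [sl2_mul_apply, sl2_mul_apply]
      simp only [mk2_00, mk2_01, mk2_10, mk2_11, inv00, inv01, inv10, inv11]
      ring
    · rw [sl2_mul_apply, sl2_mul_apply]
      simp only [mk2_00, mk2_01, mk2_10, mk2_11, inv00, inv01, inv10, inv11]
      ring
    · rw [sl2_mul_apply, sl2_mul_apply]
      simp only [mk2_00, mk2_01, mk2_10, mk2_11, inv00, inv01, inv10, inv11]
      ring
    · rw [sl2_mul_apply, sl2_mul_apply]
      simp only [mk2_00, mk2_01, mk2_10, mk2_11, inv00, inv01, inv10, inv11]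
      ring
  rw [h']; group

theorem card_sol_elliptic (x : SL) (hx : IsElliptic x) :
    Nat.card {y : SL // Group.IsSolvable (Subgroup.closure ({x, y} : Set SL))} =
      2 * (Fintype.card F + 1) := by
  obtain ⟨y₀, hy₀⟩ := exists_inverter x hx
  have h1 := card_invNormalizer x (ne_inv_of_trc x hx.trc_ne) y₀ hy₀
  rw [card_centralizer_elliptic x hx] at h1
  rw [← h1]
  apply Nat.card_congr
  exact Equiv.subtypeEquivRight (fun y => sol_elliptic_iff x hx y)

theorem even_card : Even (Fintype.card F) := by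
  have h : ((Fintype.card F : ℕ) : F) = 0 := Nat.cast_card_eq_zero F
  rw [CharP.cast_eq_zero_iff F 2] at h
  exact even_iff_two_dvd.mpr h

/-- transport of the count along a conjugation. -/
theorem card_sol_conj (x g x' : SL) (h : g * x * g⁻¹ = x') :
    Nat.card {y : SL // Group.IsSolvable (Subgroup.closure ({x, y} : Set SL))} =
      Nat.card {y : SL // Group.IsSolvable (Subgroup.closure ({x', y} : Set SL))} := by
  have h1 := card_sol_congr (MulAut.conj g) x
  rw [MulAut.conj_apply, h] at h1
  exact h1.symm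

theorem root_or_elliptic (x : SL) :
    (∃ l : F, l * l + trc x * l + 1 = 0) ∨ IsElliptic x := by
  by_cases h : IsElliptic x
  · right; exact h
  · left
    unfold IsElliptic at h
    push Not at h
    obtain ⟨v, hv0, μ, hμ⟩ := h
    exact ⟨μ, root_of_eigen x v hv0 μ hμ⟩

theorem pow_card_add_one_of_elliptic (x : SL) (hx : IsElliptic x) :
    x ^ (Fintype.card F + 1) = 1 := by
  have hmem : x ∈ Subgroup.centralizer ({x} : Set SL) :=
    Subgroup.mem_centralizer_singleton_iff.mpr rfl
  have h := pow_card_eq_one' (G := Subgroup.centralizer ({x} : Set SL)) (x := ⟨x, hmem⟩)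
  rw [card_centralizer_elliptic x hx] at h
  have := congrArg Subtype.val h
  simpa using this

theorem pow_card_sub_one_of_root (x : SL) (ht : trc x ≠ 0) (l : F)
    (hl : l * l + trc x * l + 1 = 0) : x ^ (Fintype.card F - 1) = 1 := by
  obtain ⟨hl0, g, hg⟩ := conj_to_dg x ht l hl
  have h := dg_pow_card_sub_one l hl0
  rw [← hg, conj_pow] at h
  calc x ^ (Fintype.card F - 1) = g⁻¹ * (g * x ^ (Fintype.card F - 1) * g⁻¹) * g := by group
    _ = 1 := by rw [h]; group

/-- the solubilizer sizes in `SL₂(F)`, `F` finite of characteristic two. -/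
theorem sol_main (x : SL) :
    (orderOf x = 2 →
      Nat.card {y : SL // Group.IsSolvable (Subgroup.closure ({x, y} : Set SL))} =
        3 * Fintype.card F * (Fintype.card F - 1)) ∧
    (x ≠ 1 → orderOf x ∣ Fintype.card F - 1 →
      Nat.card {y : SL // Group.IsSolvable (Subgroup.closure ({x, y} : Set SL))} =
        2 * Fintype.card F * (Fintype.card F - 1)) ∧
    (x ≠ 1 → orderOf x ∣ Fintype.card F + 1 →
      Nat.card {y : SL // Group.IsSolvable (Subgroup.closure ({x, y} : Set SL))} =
        2 * (Fintype.card F + 1)) := by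
  obtain ⟨r, hr⟩ := even_card (F := F)
  have hqpos : 0 < Fintype.card F := Fintype.card_pos
  have hcop1 : Nat.Coprime (Fintype.card F - 1) 2 := by
    rw [Nat.coprime_two_right]
    exact ⟨r - 1, by omega⟩
  have hcop2 : Nat.Coprime (Fintype.card F + 1) 2 := by
    rw [Nat.coprime_two_right]
    exact ⟨r, by omega⟩
  have hcop3 : Nat.Coprime (Fintype.card F - 1) (Fintype.card F + 1) := by
    have h1 : Fintype.card F + 1 = (Fintype.card F - 1) + 2 := by omega
    rw [h1, Nat.coprime_self_add_right]
    exact hcop1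
  -- trace zero elements have order dividing two
  have htr0 : ∀ n : ℕ, Nat.Coprime n 2 → x ≠ 1 → orderOf x ∣ n → trc x ≠ 0 := by
    intro n hn hx1 hdvd ht
    have hxx : x ^ 2 = 1 := by rw [pow_two]; exact mul_self_of_trc x ht
    have h2 : orderOf x ∣ 2 := orderOf_dvd_of_pow_eq_one hxx
    have h1 : orderOf x ∣ 1 := by
      have := Nat.dvd_gcd hdvd h2
      rwa [hn] at this
    exact hx1 (orderOf_eq_one_iff.mp (Nat.dvd_one.mp h1))
  refine ⟨?_, ?_, ?_⟩
  · intro ho
    have hxx : x * x = 1 := by
      have := pow_orderOf_eq_one x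
      rwa [ho, pow_two] at this
    have hx1 : x ≠ 1 := by
      intro h
      rw [h, orderOf_one] at ho
      omega
    obtain ⟨g, hg⟩ := conj_to_U1 x hx1 (trc_of_mul_self x hxx hx1)
    rw [card_sol_conj x g U1 hg]
    exact card_sol_U1
  · intro hx1 hdvd
    have ht := htr0 _ hcop1 hx1 hdvd
    rcases root_or_elliptic x with ⟨l, hl⟩ | hell
    · obtain ⟨hl0, g, hg⟩ := conj_to_dg x ht l hl
      have hl1 : l ≠ 1 := by
        intro h
        apply hx1
        have hd1 : dg l hl0 = 1 := by
          apply sl2_ext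
          · simp [dg, h]
          · simp [dg]
          · simp [dg]
          · simp [dg, h]
        rw [hd1] at hg
        calc x = g⁻¹ * (g * x * g⁻¹) * g := by group
          _ = 1 := by rw [hg]; group
      rw [card_sol_conj x g _ hg]
      exact card_sol_dg l hl0 hl1
    · exfalso
      have h1 : orderOf x ∣ Fintype.card F + 1 :=
        orderOf_dvd_of_pow_eq_one (pow_card_add_one_of_elliptic x hell)
      have h2 : orderOf x ∣ 1 := by
        have := Nat.dvd_gcd hdvd h1
        rwa [hcop3] at this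
      exact hx1 (orderOf_eq_one_iff.mp (Nat.dvd_one.mp h2))
  · intro hx1 hdvd
    have ht := htr0 _ hcop2 hx1 hdvd
    rcases root_or_elliptic x with ⟨l, hl⟩ | hell
    · exfalso
      have h1 : orderOf x ∣ Fintype.card F - 1 :=
        orderOf_dvd_of_pow_eq_one (pow_card_sub_one_of_root x ht l hl)
      have h2 : orderOf x ∣ 1 := by
        have := Nat.dvd_gcd h1 hdvd
        rwa [hcop3] at this
      exact hx1 (orderOf_eq_one_iff.mp (Nat.dvd_one.mp h2))
    · exact card_sol_elliptic x hell

theorem center_eq_bot : Subgroup.center SL = ⊥ := by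
  rw [eq_bot_iff]
  intro A hA
  rw [Matrix.SpecialLinearGroup.mem_center_iff] at hA
  obtain ⟨r, hr, hA⟩ := hA
  rw [Fintype.card_fin] at hr
  have h2 := two0 (F := F)
  have hr1 : r = 1 := by
    have : (r - 1) ^ 2 = 0 := by linear_combination hr - r * h2 + h2
    exact sub_eq_zero.mp ((pow_eq_zero_iff two_ne_zero).mp this)
  rw [Subgroup.mem_bot]
  apply Subtype.ext
  rw [← hA, hr1]
  simp

/-- in characteristic two `PSL₂(F) ≃* SL₂(F)`. -/
noncomputable def pslEquiv :
    Matrix.ProjectiveSpecialLinearGroup (Fin 2) F ≃* Matrix.SpecialLinearGroup (Fin 2) F :=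
  (QuotientGroup.quotientMulEquivOfEq center_eq_bot).trans QuotientGroup.quotientBot

/-- the solubilizer sizes in `PSL₂(F)`, `F` finite of characteristic two. -/
theorem sol_main_psl (x : Matrix.ProjectiveSpecialLinearGroup (Fin 2) F) :
    (orderOf x = 2 →
      Nat.card {y : Matrix.ProjectiveSpecialLinearGroup (Fin 2) F //
        Group.IsSolvable (Subgroup.closure
          ({x, y} : Set (Matrix.ProjectiveSpecialLinearGroup (Fin 2) F)))} =
        3 * Fintype.card F * (Fintype.card F - 1)) ∧
    (x ≠ 1 → orderOf x ∣ Fintype.card F - 1 →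
      Nat.card {y : Matrix.ProjectiveSpecialLinearGroup (Fin 2) F //
        Group.IsSolvable (Subgroup.closure
          ({x, y} : Set (Matrix.ProjectiveSpecialLinearGroup (Fin 2) F)))} =
        2 * Fintype.card F * (Fintype.card F - 1)) ∧
    (x ≠ 1 → orderOf x ∣ Fintype.card F + 1 →
      Nat.card {y : Matrix.ProjectiveSpecialLinearGroup (Fin 2) F //
        Group.IsSolvable (Subgroup.closure
          ({x, y} : Set (Matrix.ProjectiveSpecialLinearGroup (Fin 2) F)))} =
        2 * (Fintype.card F + 1)) := by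
  set e := (pslEquiv (F := F)).symm with he
  obtain ⟨x', rfl⟩ := e.surjective x
  have hcard := card_sol_congr e x'
  have hord : orderOf (e x') = orderOf x' := MulEquiv.orderOf_eq e x'
  have hne : e x' ≠ 1 ↔ x' ≠ 1 := by
    rw [Ne, Ne, MulEquiv.map_eq_one_iff]
  obtain ⟨h1, h2, h3⟩ := sol_main x'
  rw [hcard, hord, hne]
  exact ⟨h1, h2, h3⟩

end Cfsg.Agent.Lib.Helper38.Sol2
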