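import Cfsg.Agent.Lib.Helper41.StnDefs

/-! # Stn hive (S2401), sub-hive BRU (helper38): Bruhat decomposition inside the presented group.
Shared definitions of the sub-hive. -/

set_option autoImplicit false

namespace Cfsg.Agent.Lib.Helper41.Stn

variable (K : Type*) [Field K] (n : ℕ)

/-- the subset `B N B` of the Steinberg group -/
def BNB : Set (St K n) :=
  {g | ∃ b ∈ BB K n, ∃ ν ∈ NN K n, ∃ b' ∈ BB K n, g = b * ν * b'}

/-- the subgroup generated by the positive root elements `x_kl(t)`, `k < l`, other than those of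
the root `(i, j)` -/
def Ua (i j : Fin n) : Subgroup (St K n) :=
  Subgroup.closure {g | ∃ (k l : Fin n) (t : K), k < l ∧ (k, l) ≠ (i, j) ∧ g = xx k l t}

end Cfsg.Agent.Lib.Helper41.Stn
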