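import Cfsg.Agent.Lib.Helper38.StnBruDefs
import Cfsg.Agent.Lib.Helper80.Stn_BASIC
import Cfsg.Agent.Lib.Helper25.Stn_WPAIR
import Cfsg.Agent.Lib.Helper95.Stn_WALL
import Cfsg.Agent.Lib.Helper95.Stn_WSYMM
import Cfsg.Agent.Lib.Helper95.Stn_WWW
import Cfsg.Agent.Lib.Helper13.Stn_WINV
import Cfsg.Agent.Lib.Helper97.Stn_WHHcore
import Cfsg.Agent.Lib.Helper39.StnBru_HX
import Cfsg.Agent.Lib.Helper53.StnBru_UA
import Cfsg.Agent.Lib.Helper85.StnBru_NXcore
import Cfsg.Agent.Lib.Helper85.StnBru_WUcore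
import Cfsg.Agent.Lib.Helper85.StnBru_R1core

/-! # Stn hive (S2401, owner helper41), sub-hive BRU (helper38): the Bruhat decomposition
`St = B N B` inside the presented group: CORE, STEP, LOW and the assembly `mem_BNB`.

Leaves used: BASIC (helper80), WPAIR (helper25), WALL / WSYMM / WWW (helper95), WINV (helper13),
WHH core (helper97), BRU-HX (helper39), BRU-UA (helper53), BRU-NX / BRU-WU / BRU-R1 cores (helper85).
The names of leaves owned by other seats are NOT declared here (prefixed local copies only). -/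

set_option autoImplicit false

namespace Cfsg.Agent.Lib.Helper41.Stn

open Matrix

variable {K : Type*} [Field K] {n : ℕ}

/-! ### local copies (prefixed) of the leaves NX, WU, R1, NH -/

theorem brumain_wall (hn : 3 ≤ n) : ∀ {i j : Fin n}, i ≠ j → ∀ {t : K}, t ≠ 0 → ∀ {k l : Fin n},
    k ≠ l → ∀ (u : K), ww i j t * xx k l u * (ww i j t)⁻¹ =
      xx (Equiv.swap i j k) (Equiv.swap i j l) (mu i j t k / mu i j t l * u) :=
  fun hij _ ht _ _ hkl u => ww_conj_xx hn hij ht hkl u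

theorem brumain_NN_conj_xx (hn : 3 ≤ n) {ν : St K n} (hν : ν ∈ NN K n) :
    ∃ (σ : Equiv.Perm (Fin n)) (m : Fin n → K), (∀ a, m a ≠ 0) ∧
      ∀ k l : Fin n, k ≠ l → ∀ u : K, ν * xx k l u * ν⁻¹ = xx (σ k) (σ l) (m k / m l * u) :=
  brunx85_core2 (brumain_wall hn) hν

theorem brumain_ww_conj_Ua (hn : 3 ≤ n) {i j : Fin n} (hij : (i : ℕ) + 1 = j) {s : K} (hs : s ≠ 0)
    {y : St K n} (hy : y ∈ Ua K n i j) : ww i j s * y * (ww i j s)⁻¹ ∈ Ua K n i j :=
  bruwu85_core (brumain_wall hn) hij hs hy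

theorem brumain_xx_eq_ww_lower (i j : Fin n) {t : K} (ht : t ≠ 0) :
    xx j i t = xx i j t⁻¹ * ww i j (-t⁻¹) * xx i j t⁻¹ :=
  brur185_lower xx_add xx_zero i j ht

theorem brumain_xx_eq_ww_upper (hn : 3 ≤ n) {i j : Fin n} (hij : i ≠ j) {u : K} (hu : u ≠ 0) :
    xx i j u = xx j i u⁻¹ * ww i j u * xx j i u⁻¹ :=
  brur185_upper xx_add xx_zero (fun hij _ ht => ww_symm hn hij ht) hij hu

theorem brumain_ww_conj_hh (hn : 3 ≤ n) {i j : Fin n} (hij : i ≠ j) {t : K} (ht : t ≠ 0)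
    {k l : Fin n} (hkl : k ≠ l) {u : K} (hu : u ≠ 0) :
    ww i j t * hh k l u * (ww i j t)⁻¹ =
      hh (Equiv.swap i j k) (Equiv.swap i j l) (mu i j t k / mu i j t l * u) *
        (hh (Equiv.swap i j k) (Equiv.swap i j l) (mu i j t k / mu i j t l))⁻¹ :=
  whh_core ww_inv (fun hij _ ht _ _ hkl _ hu => ww_conj_ww hn hij ht hkl hu) hij ht hkl hu

theorem brumain_ww_conj_HH (hn : 3 ≤ n) {i j : Fin n} (hij : i ≠ j) {t : K} (ht : t ≠ 0)
    {h : St K n} (hh' : h ∈ HH K n) : ww i j t * h * (ww i j t)⁻¹ ∈ HH K n := by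
  unfold HH at hh'
  induction hh' using Subgroup.closure_induction with
  | mem x hx =>
    obtain ⟨k, l, u, hkl, hu, rfl⟩ := hx
    rw [brumain_ww_conj_hh hn hij ht hkl hu]
    have hc : mu i j t k / mu i j t l ≠ 0 :=
      div_ne_zero (brunx85_mu_ne_zero i j ht k) (brunx85_mu_ne_zero i j ht l)
    have hτ : Equiv.swap i j k ≠ Equiv.swap i j l := fun h => hkl ((Equiv.swap i j).injective h)
    exact mul_mem (Subgroup.subset_closure ⟨_, _, _, hτ, mul_ne_zero hc hu, rfl⟩)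
      (inv_mem (Subgroup.subset_closure ⟨_, _, _, hτ, hc, rfl⟩))
  | one =>
    simp only [mul_one, mul_inv_cancel]
    exact one_mem _
  | mul a b _ _ ha hb =>
    have e : ww i j t * (a * b) * (ww i j t)⁻¹
        = (ww i j t * a * (ww i j t)⁻¹) * (ww i j t * b * (ww i j t)⁻¹) := by group
    rw [e]
    exact mul_mem ha hb
  | inv a _ ha =>
    have e : ww i j t * a⁻¹ * (ww i j t)⁻¹ = (ww i j t * a * (ww i j t)⁻¹)⁻¹ := by group
    rw [e]
    exact inv_mem ha

theorem brumain_NN_conj_HH' (hn : 3 ≤ n) {ν : St K n} (hν : ν ∈ NN K n) :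
    (∀ h ∈ HH K n, ν * h * ν⁻¹ ∈ HH K n) ∧ (∀ h ∈ HH K n, ν⁻¹ * h * ν ∈ HH K n) := by
  unfold NN at hν
  induction hν using Subgroup.closure_induction with
  | mem x hx =>
    obtain ⟨i, j, t, hij, ht, rfl⟩ := hx
    refine ⟨fun h hh' => brumain_ww_conj_HH hn hij ht hh', fun h hh' => ?_⟩
    have := brumain_ww_conj_HH hn hij (neg_ne_zero.mpr ht) hh'
    rw [← ww_inv, inv_inv] at this
    exact this
  | one =>
    refine ⟨fun h hh' => ?_, fun h hh' => ?_⟩ <;> simpa using hh'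
  | mul a b _ _ ha hb =>
    refine ⟨fun h hh' => ?_, fun h hh' => ?_⟩
    · have e : a * b * h * (a * b)⁻¹ = a * (b * h * b⁻¹) * a⁻¹ := by group
      rw [e]
      exact ha.1 _ (hb.1 _ hh')
    · have e : (a * b)⁻¹ * h * (a * b) = b⁻¹ * (a⁻¹ * h * a) * b := by group
      rw [e]
      exact hb.2 _ (ha.2 _ hh')
  | inv a _ ha =>
    refine ⟨fun h hh' => ?_, fun h hh' => ?_⟩
    · rw [inv_inv]; exact ha.2 _ hh'
    · rw [inv_inv]; exact ha.1 _ hh'

theorem brumain_NN_conj_HH (hn : 3 ≤ n) {ν h : St K n} (hν : ν ∈ NN K n) (hh' : h ∈ HH K n) :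
    ν * h * ν⁻¹ ∈ HH K n :=
  (brumain_NN_conj_HH' hn hν).1 h hh'

/-! ### BRU-CORE -/

theorem ww_xx_NN_mem (hn : 3 ≤ n) {i j : Fin n} (hij : (i : ℕ) + 1 = j) {s : K} (hs : s ≠ 0)
    (u : K) {ν : St K n} (hν : ν ∈ NN K n) : ww i j s * xx i j u * ν ∈ BNB K n := by
  have hij' : i ≠ j := by
    intro h; rw [h] at hij; omega
  have hlt : i < j := by
    rw [Fin.lt_def]; omega
  have hw : ww i j s ∈ NN K n := Subgroup.subset_closure ⟨i, j, s, hij', hs, rfl⟩
  obtain ⟨σ, m, hm, hσ⟩ := brumain_NN_conj_xx hn (inv_mem hν)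
  have hσ' : ∀ k l : Fin n, k ≠ l → ∀ v : K,
      ν⁻¹ * xx k l v * ν = xx (σ k) (σ l) (m k / m l * v) := by
    intro k l hkl v
    have := hσ k l hkl v
    rwa [inv_inv] at this
  have hσij : σ i ≠ σ j := fun h => hij' (σ.injective h)
  rcases lt_or_gt_of_ne hσij with h | h
  · refine ⟨1, one_mem _, ww i j s * ν, mul_mem hw hν, ν⁻¹ * xx i j u * ν, ?_, by group⟩
    rw [hσ' i j hij' u]
    exact (le_sup_left : UU K n ≤ BB K n) (Subgroup.subset_closure ⟨σ i, σ j, _, h, rfl⟩)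
  · by_cases hu : u = 0
    · rw [hu, xx_zero, mul_one]
      exact ⟨1, one_mem _, ww i j s * ν, mul_mem hw hν, 1, one_mem _, by simp⟩
    · rw [brumain_xx_eq_ww_upper hn hij' hu]
      have hwu : ww i j u ∈ NN K n := Subgroup.subset_closure ⟨i, j, u, hij', hu, rfl⟩
      have hpair := (ww_conj_xx_pair hn hij' hs u⁻¹).2
      refine ⟨ww i j s * xx j i u⁻¹ * (ww i j s)⁻¹, ?_, ww i j s * ww i j u * ν,
        mul_mem (mul_mem hw hwu) hν, ν⁻¹ * xx j i u⁻¹ * ν, ?_, by group⟩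
      · rw [hpair]
        exact (le_sup_left : UU K n ≤ BB K n) (Subgroup.subset_closure ⟨i, j, _, hlt, rfl⟩)
      · rw [hσ' j i hij'.symm]
        exact (le_sup_left : UU K n ≤ BB K n) (Subgroup.subset_closure ⟨σ j, σ i, _, h, rfl⟩)

/-! ### BRU-STEP -/

theorem BB_mul_BNB {b g : St K n} (hb : b ∈ BB K n) (hg : g ∈ BNB K n) : b * g ∈ BNB K n := by
  obtain ⟨b₁, hb₁, ν, hν, b₂, hb₂, rfl⟩ := hg
  exact ⟨b * b₁, mul_mem hb hb₁, ν, hν, b₂, hb₂, by simp only [mul_assoc]⟩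

theorem BNB_mul_BB {b g : St K n} (hg : g ∈ BNB K n) (hb : b ∈ BB K n) : g * b ∈ BNB K n := by
  obtain ⟨b₁, hb₁, ν, hν, b₂, hb₂, rfl⟩ := hg
  exact ⟨b₁, hb₁, ν, hν, b₂ * b, mul_mem hb₂ hb, by simp only [mul_assoc]⟩

theorem ww_mul_BNB (hn : 3 ≤ n) {i j : Fin n} (hij : (i : ℕ) + 1 = j) {s : K} (hs : s ≠ 0)
    {g : St K n} (hg : g ∈ BNB K n) : ww i j s * g ∈ BNB K n := by
  obtain ⟨b, hb, ν, hν, b', hb', rfl⟩ := hg
  obtain ⟨y, hy, h, hh', rfl⟩ := BB_eq hn hb
  obtain ⟨y', hy', u, rfl⟩ := UU_eq_Ua_mul hij hy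
  have h1 : ww i j s * y' * (ww i j s)⁻¹ ∈ BB K n :=
    (le_sup_left : UU K n ≤ BB K n) (Ua_le_UU i j (brumain_ww_conj_Ua hn hij hs hy'))
  have h2 : ww i j s * xx i j u * ν ∈ BNB K n := ww_xx_NN_mem hn hij hs u hν
  have h3 : ν⁻¹ * h * ν ∈ BB K n := by
    have := brumain_NN_conj_HH hn (inv_mem hν) hh'
    rw [inv_inv] at this
    exact (le_sup_right : HH K n ≤ BB K n) this
  have e : ww i j s * (y' * xx i j u * h * ν * b')
      = (ww i j s * y' * (ww i j s)⁻¹) * ((ww i j s * xx i j u * ν) * ((ν⁻¹ * h * ν) * b')) := by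
    group
  rw [e]
  exact BB_mul_BNB h1 (BNB_mul_BB h2 (mul_mem h3 hb'))

/-! ### BRU-LOW and the assembly -/

theorem brumain_xx_mem_UU {i j : Fin n} (hij : i < j) (t : K) : xx i j t ∈ UU K n :=
  Subgroup.subset_closure ⟨i, j, t, hij, rfl⟩

theorem brumain_one_mem : (1 : St K n) ∈ BNB K n :=
  ⟨1, Subgroup.one_mem _, 1, Subgroup.one_mem _, 1, Subgroup.one_mem _, by simp⟩

theorem brumain_lower_aux (hn : 3 ≤ n) (d : ℕ) :
    ∀ (k l : Fin n), (k : ℕ) = (l : ℕ) + d → 0 < d → ∀ (t : K) {g : St K n}, g ∈ BNB K n →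
      xx k l t * g ∈ BNB K n := by
  induction d using Nat.strong_induction_on with
  | _ d ih =>
    intro k l hkl hd t g hg
    by_cases h1 : d = 1
    · subst h1
      by_cases ht : t = 0
      · rw [ht, xx_zero, one_mul]; exact hg
      · have hlk : (l : ℕ) + 1 = k := hkl.symm
        have hlk' : l < k := by
          rw [Fin.lt_def]; omega
        rw [brumain_xx_eq_ww_lower l k ht, mul_assoc, mul_assoc]
        have hU : xx l k t⁻¹ ∈ BB K n := (le_sup_left : UU K n ≤ BB K n) (brumain_xx_mem_UU hlk' _)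
        exact BB_mul_BNB hU
          (ww_mul_BNB hn hlk (neg_ne_zero.mpr (inv_ne_zero ht)) (BB_mul_BNB hU hg))
    · have hd2 : 2 ≤ d := by omega
      have hm : (l : ℕ) + 1 < n := by
        have := k.isLt
        omega
      let m : Fin n := ⟨(l : ℕ) + 1, hm⟩
      have hkm : k ≠ m := by
        intro h
        have := congrArg Fin.val h
        simp only [m] at this
        omega
      have hml : m ≠ l := by
        intro h
        have := congrArg Fin.val h
        simp only [m] at this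
        omega
      have hkl' : k ≠ l := by
        intro h
        have := congrArg Fin.val h
        omega
      have h3 := xx_comm3 hkm hml hkl' t (1 : K)
      rw [mul_one] at h3
      rw [← h3, xx_inv, xx_inv, mul_assoc, mul_assoc, mul_assoc]
      have e1 : (k : ℕ) = (m : ℕ) + (d - 1) := by
        simp only [m]; omega
      have e2 : (m : ℕ) = (l : ℕ) + 1 := rfl
      exact ih (d - 1) (by omega) k m e1 (by omega) t
        (ih 1 (by omega) m l e2 (by omega) 1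
          (ih (d - 1) (by omega) k m e1 (by omega) (-t)
            (ih 1 (by omega) m l e2 (by omega) (-1) hg)))

theorem lower_mul_BNB (hn : 3 ≤ n) (k l : Fin n) (hlk : l < k) (t : K) {g : St K n}
    (hg : g ∈ BNB K n) : xx k l t * g ∈ BNB K n := by
  have h : (l : ℕ) < (k : ℕ) := hlk
  exact brumain_lower_aux hn ((k : ℕ) - (l : ℕ)) k l (by omega) (by omega) t hg

theorem brumain_gen (hn : 3 ≤ n) {i j : Fin n} (hij : i ≠ j) (t : K) {g : St K n}
    (hg : g ∈ BNB K n) : xx i j t * g ∈ BNB K n := by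
  rcases lt_or_gt_of_ne hij with h | h
  · exact BB_mul_BNB ((le_sup_left : UU K n ≤ BB K n) (brumain_xx_mem_UU h t)) hg
  · exact lower_mul_BNB hn i j h t hg

theorem mem_BNB (hn : 3 ≤ n) (g : St K n) :
    ∃ b ∈ BB K n, ∃ ν ∈ NN K n, ∃ b' ∈ BB K n, g = b * ν * b' := by
  have hg : g ∈ Subgroup.closure {g : St K n | ∃ (i j : Fin n) (t : K), i ≠ j ∧ g = xx i j t} := by
    rw [closure_xx]; trivial
  have key : ∀ x ∈ BNB K n, g * x ∈ BNB K n ∧ g⁻¹ * x ∈ BNB K n := by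
    induction hg using Subgroup.closure_induction with
    | mem y hy =>
      obtain ⟨i, j, t, hij, rfl⟩ := hy
      intro x hx
      refine ⟨brumain_gen hn hij t hx, ?_⟩
      rw [xx_inv]
      exact brumain_gen hn hij (-t) hx
    | one =>
      intro x hx
      simp only [inv_one, one_mul]
      exact ⟨hx, hx⟩
    | mul a b _ _ ha hb =>
      intro x hx
      refine ⟨?_, ?_⟩
      · rw [mul_assoc]; exact (ha _ (hb x hx).1).1
      · rw [_root_.mul_inv_rev, mul_assoc]; exact (hb _ (ha x hx).2).2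
    | inv a _ ha =>
      intro x hx
      rw [inv_inv]
      exact ⟨(ha x hx).2, (ha x hx).1⟩
  have := (key 1 brumain_one_mem).1
  rw [mul_one] at this
  exact this

end Cfsg.Agent.Lib.Helper41.Stn
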