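import Mathlib
import Cfsg.Agent.Lib.Helper38.SylThreeA
import Cfsg.Agent.Lib.Helper72.SmallSupport

set_option autoImplicit false

/-! A perfect non-solvable subgroup normalised by an overgroup of a Sylow 3-subgroup of `Perm α`
is not centralised by all 3-cycles of that overgroup. -/

namespace Cfsg.Agent.Lib.Helper38.SylThree

open Equiv Equiv.Perm Subgroup
open scoped Pointwise commutatorElement

variable {α : Type*} [Fintype α] [DecidableEq α]

theorem apply_mem_support_of_comm {c k : Perm α} (hk : k * c = c * k) {y : α}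
    (hy : y ∈ c.support) : k y ∈ c.support := by
  rw [Perm.mem_support] at hy ⊢
  intro h
  apply hy
  have h1 : c (k y) = k (c y) := by
    have := congrArg (fun f : Perm α => f y) hk
    simpa [Perm.mul_apply] using this.symm
  rw [h1] at h
  exact k.injective h

theorem inv_comm_of_comm {c k : Perm α} (hk : k * c = c * k) : k⁻¹ * c = c * k⁻¹ := by
  have : c = k⁻¹ * c * k := by rw [mul_assoc, ← hk, ← mul_assoc, inv_mul_cancel, one_mul]
  calc k⁻¹ * c = k⁻¹ * c * k * k⁻¹ := by group
    _ = c * k⁻¹ := by rw [← this]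

theorem comm_on_support {c k k' : Perm α} (hc : c.IsThreeCycle) (hk : k * c = c * k)
    (hk' : k' * c = c * k') {y : α} (hy : y ∈ c.support) : k (k' y) = k' (k y) := by
  have hy' : c y ≠ y := Perm.mem_support.mp hy
  have hky : c (k y) ≠ k y := Perm.mem_support.mp (apply_mem_support_of_comm hk hy)
  have hk'y : c (k' y) ≠ k' y := Perm.mem_support.mp (apply_mem_support_of_comm hk' hy)
  obtain ⟨i, hi⟩ := hc.isCycle.exists_pow_eq hy' hky
  obtain ⟨j, hj⟩ := hc.isCycle.exists_pow_eq hy' hk'y
  have hci : k * c ^ j = c ^ j * k := (Commute.pow_right (show Commute k c from hk) j).eq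
  have hcj : k' * c ^ i = c ^ i * k' := (Commute.pow_right (show Commute k' c from hk') i).eq
  have e1 : k (k' y) = (c ^ j) ((c ^ i) y) := by
    rw [← hj, ← Perm.mul_apply, hci, Perm.mul_apply, ← hi]
  have e2 : k' (k y) = (c ^ i) ((c ^ j) y) := by
    rw [← hi, ← Perm.mul_apply, hcj, Perm.mul_apply, ← hj]
  rw [e1, e2, ← Perm.mul_apply, ← Perm.mul_apply, ← pow_add, ← pow_add, add_comm]

/-- **Lemma B.** -/
theorem exists_threeCycle_not_centralizing (H K : Subgroup (Perm α)) (P : Sylow 3 (Perm α))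
    (hPH : (P : Subgroup (Perm α)) ≤ H) (hKperf : ⁅K, K⁆ = K) (hKns : ¬ IsSolvable K) :
    ∃ c ∈ H, c.IsThreeCycle ∧ c ∉ centralizer (K : Set (Perm α)) := by
  classical
  by_contra hcon
  push Not at hcon
  -- points covered by 3-cycles of H
  set U : Finset α := Finset.univ.filter (fun x => ∃ c ∈ H, c.IsThreeCycle ∧ x ∈ c.support) with hU
  have hUmem : ∀ x, x ∈ U ↔ ∃ c ∈ H, c.IsThreeCycle ∧ x ∈ c.support := by
    intro x; rw [hU, Finset.mem_filter]; simp
  have hVinv : ∀ g ∈ P, ∀ x ∈ Uᶜ, g x ∈ Uᶜ := by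
    intro g hg x hx
    rw [Finset.mem_compl] at hx ⊢
    intro hgx
    apply hx
    obtain ⟨c, hcH, hc3, hcs⟩ := (hUmem _).mp hgx
    rw [hUmem]
    refine ⟨g⁻¹ * c * g⁻¹⁻¹, H.mul_mem (H.mul_mem (H.inv_mem (hPH hg)) hcH) (H.inv_mem (H.inv_mem (hPH hg))),
      isThreeCycle_conj _ _ hc3, ?_⟩
    rw [mem_support_conj, inv_inv]
    exact hcs
  have hVcard : Uᶜ.card ≤ 2 := by
    by_contra h
    have h3 : 3 ≤ Uᶜ.card := by omega
    obtain ⟨d, hdP, hd3, hds⟩ := exists_threeCycle_in_sylow P Uᶜ hVinv h3
    have hne : d.support.Nonempty := by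
      rw [← Finset.card_pos, hd3.card_support]; norm_num
    obtain ⟨y, hy⟩ := hne
    have h1 := hds hy
    rw [Finset.mem_compl] at h1
    exact h1 ((hUmem y).mpr ⟨d, hPH hdP, hd3, hy⟩)
  -- K fixes U pointwise
  have hKfix : ∀ k ∈ K, ∀ y ∈ U, k y = y := by
    -- the fixator of U
    let T : Subgroup (Perm α) :=
      { carrier := {g | ∀ y ∈ U, g y = y}
        mul_mem' := by
          intro a b ha hb y hy
          rw [Perm.mul_apply, hb y hy, ha y hy]
        one_mem' := by intro y _; rfl
        inv_mem' := by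
          intro a ha y hy
          have := ha y hy
          rw [Perm.inv_eq_iff_eq]
          exact this.symm }
    have hKT : ⁅K, K⁆ ≤ T := by
      rw [Subgroup.commutator_le]
      intro k hk k' hk' y hy
      obtain ⟨c, hcH, hc3, hcs⟩ := (hUmem y).mp hy
      have hcc := hcon c hcH hc3
      rw [Subgroup.mem_centralizer_iff] at hcc
      have hkc : k * c = c * k := hcc k hk
      have hk'c : k' * c = c * k' := hcc k' hk'
      have hw : k⁻¹ (k'⁻¹ y) ∈ c.support :=
        apply_mem_support_of_comm (inv_comm_of_comm hkc)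
          (apply_mem_support_of_comm (inv_comm_of_comm hk'c) hcs)
      have h1 := comm_on_support hc3 hkc hk'c hw
      show (⁅k, k'⁆ : Perm α) y = y
      rw [commutatorElement_def, Perm.mul_apply, Perm.mul_apply, Perm.mul_apply, h1]
      simp
    rw [hKperf] at hKT
    intro k hk y hy
    exact hKT hk y hy
  -- hence K lives on at most two points and is solvable
  apply hKns
  have hle : K ≤ (Perm.ofSubtype : Perm {x // x ∈ Uᶜ} →* Perm α).range := by
    intro k hk
    rw [Perm.mem_range_ofSubtype_iff]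
    intro x hx
    simp only [Finset.mem_coe, Perm.mem_support] at hx
    show x ∈ Uᶜ
    rw [Finset.mem_compl]
    intro hxU
    exact hx (hKfix k hk x hxU)
  have hsolv : IsSolvable ↥((Perm.ofSubtype : Perm {x // x ∈ Uᶜ} →* Perm α).range) :=
    Cfsg.Agent.Lib.Helper72.range_ofSubtype_solvable Uᶜ (by omega)
  exact @Group.isSolvable_of_isSolvable_injective _ _ _ _ (Subgroup.inclusion hle)
    (Subgroup.inclusion_injective hle) hsolv

end Cfsg.Agent.Lib.Helper38.SylThree
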