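import Mathlib
import Cfsg.Agent.Lib.Helper38.SylThreeA
import Cfsg.Agent.Lib.Helper72.SmallSupport
import Cfsg.Agent.Lib.Helper35.AltAutJordan
import Cfsg.Agent.Lib.Helper22.PResQuasi
import Cfsg.Agent.Lib.Helper21.Components

set_option autoImplicit false

/-! A quasisimple subgroup of `Perm α` normalised but not centralised by a 3-cycle is the alternating
group on a subset of at least five points. -/

namespace Cfsg.Agent.Lib.Helper38.SylThree

open Equiv Equiv.Perm Subgroup
open scoped Pointwise commutatorElement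

variable {α : Type*} [Fintype α] [DecidableEq α]

/-- the alternating group on a subset, inside `Perm α` -/
def altOn (Q : Finset α) : Subgroup (Perm α) :=
  (alternatingGroup {x // x ∈ Q}).map (Perm.ofSubtype : Perm {x // x ∈ Q} →* Perm α)

theorem mem_altOn_iff (Q : Finset α) (g : Perm α) :
    g ∈ altOn Q ↔ g.support ⊆ Q ∧ Perm.sign g = 1 := by
  unfold altOn
  constructor
  · rintro ⟨s, hs, rfl⟩
    refine ⟨?_, ?_⟩
    · intro x hx
      rw [Perm.mem_support_ofSubtype] at hx
      exact hx.1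
    · rw [Perm.sign_ofSubtype]
      exact Perm.mem_alternatingGroup.mp hs
  · rintro ⟨hs, hsign⟩
    have hr : g ∈ (Perm.ofSubtype : Perm {x // x ∈ Q} →* Perm α).range := by
      rw [Perm.mem_range_ofSubtype_iff]
      intro x hx
      exact hs hx
    obtain ⟨s, rfl⟩ := hr
    refine ⟨s, ?_, rfl⟩
    rw [SetLike.mem_coe, Perm.mem_alternatingGroup, ← Perm.sign_ofSubtype]
    exact hsign

theorem altOn_le_range (Q : Finset α) :
    altOn Q ≤ (Perm.ofSubtype : Perm {x // x ∈ Q} →* Perm α).range := by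
  unfold altOn
  rintro _ ⟨s, -, rfl⟩
  exact ⟨s, rfl⟩

/-- **Lemma C.** -/
theorem eq_altOn_of_threeCycle (K : Subgroup (Perm α)) (hK : Cfsg.IsQuasisimple ↥K) (c : Perm α)
    (hc : c.IsThreeCycle) (hcN : c ∈ normalizer (K : Set (Perm α)))
    (hcC : c ∉ centralizer (K : Set (Perm α))) :
    ∃ Q : Finset α, 5 ≤ Q.card ∧ K = altOn Q := by
  classical
  have hKns : ¬ Group.IsSolvable ↥K := Cfsg.Agent.Lib.Helper21.quasisimple_not_solvable hK
  -- [K, ⟨c⟩] = K
  have hYK : zpowers c ≤ normalizer (K : Set (Perm α)) := by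
    rw [zpowers_le]; exact hcN
  have hKY : ¬ zpowers c ≤ centralizer (K : Set (Perm α)) := fun h => hcC (h (mem_zpowers c))
  have hcomm : ⁅K, zpowers c⁆ = K :=
    Cfsg.Agent.Lib.Helper22.quasisimple_commutator_eq_self_of_not_le_centralizer hK hYK hKY
  -- the conjugates of c under K
  set Sset : Set (Perm α) := {g | ∃ k ∈ K, g = k * c * k⁻¹} with hSset
  have hcS : c ∈ Sset := ⟨1, K.one_mem, by simp⟩
  have hS3 : ∀ g ∈ Sset, g.IsThreeCycle := by
    rintro _ ⟨k, -, rfl⟩
    exact isThreeCycle_conj k c hc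
  set N : Subgroup (Perm α) := closure Sset with hN
  have hKN : K ≤ N := by
    rw [← hcomm, Subgroup.commutator_le]
    intro k hk y hy
    obtain ⟨i, rfl⟩ := mem_zpowers_iff.mp hy
    have h1 : (⁅k, c ^ i⁆ : Perm α) = (k * c * k⁻¹) ^ i * (c ^ i)⁻¹ := by
      rw [commutatorElement_def, conj_zpow]
    rw [h1]
    exact N.mul_mem (N.zpow_mem (subset_closure ⟨k, hk, rfl⟩) i)
      (N.inv_mem (N.zpow_mem (subset_closure hcS) i))
  have hNnorm : N ≤ normalizer (K : Set (Perm α)) := by
    rw [hN, closure_le]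
    rintro _ ⟨k, hk, rfl⟩
    exact (normalizer (K : Set (Perm α))).mul_mem ((normalizer (K : Set (Perm α))).mul_mem (le_normalizer hk) hcN)
      ((normalizer (K : Set (Perm α))).inv_mem (le_normalizer hk))
  -- the union of the supports
  set Q : Finset α := Finset.univ.filter (fun x => ∃ k ∈ K, x ∈ (k * c * k⁻¹).support) with hQ
  have hQmem : ∀ x, x ∈ Q ↔ ∃ k ∈ K, x ∈ (k * c * k⁻¹).support := by
    intro x; rw [hQ, Finset.mem_filter]; simp
  have hSsupp : ∀ g ∈ Sset, g.support ⊆ Q := by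
    rintro _ ⟨k, hk, rfl⟩ x hx
    exact (hQmem x).mpr ⟨k, hk, hx⟩
  have hSrange : ∀ g ∈ Sset, g ∈ (Perm.ofSubtype : Perm {x // x ∈ Q} →* Perm α).range := by
    intro g hg
    rw [Perm.mem_range_ofSubtype_iff]
    intro x hx
    exact hSsupp g hg hx
  -- generators on the subtype
  set Sq : Set (Perm {x // x ∈ Q}) := {s | Perm.ofSubtype s ∈ Sset} with hSq
  have hSq3 : ∀ s ∈ Sq, s.IsThreeCycle := by
    intro s hs
    have := hS3 _ hs
    unfold Perm.IsThreeCycle at this ⊢
    rwa [Perm.cycleType_ofSubtype] at this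
  have himage : (Perm.ofSubtype : Perm {x // x ∈ Q} →* Perm α) '' Sq = Sset := by
    ext g
    constructor
    · rintro ⟨s, hs, rfl⟩; exact hs
    · intro hg
      obtain ⟨s, rfl⟩ := hSrange g hg
      exact ⟨s, hg, rfl⟩
  have hNmap : N = (closure Sq).map (Perm.ofSubtype : Perm {x // x ∈ Q} →* Perm α) := by
    rw [MonoidHom.map_closure, himage]
  -- base point
  have hne : c.support.Nonempty := by
    rw [← Finset.card_pos, hc.card_support]; norm_num
  obtain ⟨y0, hy0⟩ := hne
  have hy0Q : y0 ∈ Q := (hQmem y0).mpr ⟨1, K.one_mem, by simpa using hy0⟩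
  have hcN' : c ∈ N := subset_closure hcS
  have hreach : ∀ x : {x // x ∈ Q}, ∃ s ∈ closure Sq, s ⟨y0, hy0Q⟩ = x := by
    rintro ⟨x, hx⟩
    obtain ⟨k, hk, hxk⟩ := (hQmem x).mp hx
    rw [mem_support_conj] at hxk
    obtain ⟨i, hi⟩ := hc.isCycle.exists_pow_eq (Perm.mem_support.mp hy0) (Perm.mem_support.mp hxk)
    have hgN : k * c ^ i ∈ N := N.mul_mem (hKN hk) (N.pow_mem hcN' i)
    rw [hNmap] at hgN
    obtain ⟨s, hs, hse⟩ := hgN
    refine ⟨s, hs, ?_⟩
    apply Subtype.ext
    have h1 : (Perm.ofSubtype s) y0 = s ⟨y0, hy0Q⟩ := Perm.ofSubtype_apply_of_mem s hy0Q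
    rw [← h1]
    have h2 : (Perm.ofSubtype s) y0 = (k * c ^ i) y0 := by
      rw [← hse]
    rw [h2, Perm.mul_apply, hi]
    show k (k⁻¹ x) = x
    simp
  have htrans : MulAction.IsPretransitive (closure Sq) {x // x ∈ Q} := by
    constructor
    intro x y
    obtain ⟨s, hs, hsx⟩ := hreach x
    obtain ⟨t, ht, hty⟩ := hreach y
    refine ⟨⟨t * s⁻¹, (closure Sq).mul_mem ht ((closure Sq).inv_mem hs)⟩, ?_⟩
    show (t * s⁻¹) x = y
    rw [← hsx, Perm.mul_apply, show s⁻¹ (s ⟨y0, hy0Q⟩) = ⟨y0, hy0Q⟩ by simp, hty]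
  have hSqne : Sq.Nonempty := by
    obtain ⟨s, hs⟩ := hSrange c hcS
    exact ⟨s, by rw [hSq, Set.mem_setOf_eq, hs]; exact hcS⟩
  have halt : alternatingGroup {x // x ∈ Q} ≤ closure Sq :=
    Cfsg.Agent.Lib.Helper35.alternatingGroup_le_of_closure_threeCycles Sq hSq3 hSqne htrans
  have halt' : closure Sq ≤ alternatingGroup {x // x ∈ Q} := by
    rw [closure_le]
    intro s hs
    exact Perm.mem_alternatingGroup.mpr (hSq3 s hs).sign
  have hNalt : N = altOn Q := by
    rw [hNmap, le_antisymm halt' halt]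
    rfl
  -- |Q| ≥ 5
  have hQ5 : 5 ≤ Q.card := by
    by_contra h
    apply hKns
    have hle : K ≤ (Perm.ofSubtype : Perm {x // x ∈ Q} →* Perm α).range :=
      hKN.trans (hNalt ▸ altOn_le_range Q)
    have hsolv : Group.IsSolvable ↥((Perm.ofSubtype : Perm {x // x ∈ Q} →* Perm α).range) :=
      Cfsg.Agent.Lib.Helper72.range_ofSubtype_solvable Q (by omega)
    exact @Group.isSolvable_of_isSolvable_injective _ _ _ _ (Subgroup.inclusion hle)
      (Subgroup.inclusion_injective hle) hsolv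
  refine ⟨Q, hQ5, ?_⟩
  -- simplicity of the alternating group on Q
  have hsimple : IsSimpleGroup ↥(alternatingGroup {x // x ∈ Q}) := by
    apply alternatingGroup.isSimpleGroup
    rw [Nat.card_eq_fintype_card, Fintype.card_coe]
    exact hQ5
  let φ : ↥(alternatingGroup {x // x ∈ Q}) →* Perm α :=
    (Perm.ofSubtype : Perm {x // x ∈ Q} →* Perm α).comp (alternatingGroup {x // x ∈ Q}).subtype
  have hφrange : φ.range = altOn Q := by
    unfold altOn
    rw [MonoidHom.range_comp, Subgroup.range_subtype]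
  have hK0n : (K.comap φ).Normal := by
    constructor
    intro k0 hk0 a
    rw [mem_comap] at hk0 ⊢
    rw [map_mul, map_mul, map_inv]
    have haN : φ a ∈ normalizer (K : Set (Perm α)) := by
      apply hNnorm
      rw [hNalt, ← hφrange]
      exact ⟨a, rfl⟩
    exact (mem_normalizer_iff.mp haN (φ k0)).mp hk0
  have hKr : K ≤ φ.range := by rw [hφrange, ← hNalt]; exact hKN
  rcases hK0n.eq_bot_or_eq_top with h0 | h0
  · exfalso
    apply hKns
    have hKbot : K = ⊥ := by
      rw [← map_comap_eq_self hKr, h0, Subgroup.map_bot]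
    rw [hKbot]
    exact Group.isSolvable_of_comm (fun a b => Subsingleton.elim _ _)
  · rw [← map_comap_eq_self hKr, h0, ← MonoidHom.range_eq_map, hφrange]

end Cfsg.Agent.Lib.Helper38.SylThree
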