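import Mathlib
import Cfsg.Agent.Lib.Helper38.SylThreeA
import Cfsg.Agent.Lib.Helper38.SylThreeB
import Cfsg.Agent.Lib.Helper38.SylThreeC
import Cfsg.Agent.Lib.Helper22.FStar
import Cfsg.Agent.Lib.Helper22.CompSystem

set_option autoImplicit false

/-! Overgroups of a Sylow 3-subgroup of `Perm (Fin n)` with quasisimple generalized Fitting subgroup. -/

namespace Cfsg.Agent.Lib.Helper38.SylThree

open Equiv Equiv.Perm Subgroup
open scoped Pointwise commutatorElement

variable {α : Type*} [Fintype α] [DecidableEq α]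

/-- a 3-cycle inside `altOn Q` moving a given point of `Q` (`|Q| ≥ 3`) -/
theorem exists_threeCycle_altOn (Q : Finset α) (h3 : 3 ≤ Q.card) (y : α) (hy : y ∈ Q) :
    ∃ t ∈ altOn Q, t y ≠ y := by
  have h2 : 1 < (Q.erase y).card := by
    rw [Finset.card_erase_of_mem hy]; omega
  obtain ⟨b, hb, c, hc, hbc⟩ := Finset.one_lt_card.mp h2
  rw [Finset.mem_erase] at hb hc
  have hyb : y ≠ b := fun h => hb.1 h.symm
  have hyc : y ≠ c := fun h => hc.1 h.symm
  have ht3 : (swap y b * swap y c).IsThreeCycle := isThreeCycle_swap_mul_swap_same hyb hyc hbc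
  refine ⟨swap y b * swap y c, ?_, ?_⟩
  · rw [mem_altOn_iff]
    refine ⟨?_, ht3.sign⟩
    intro x hx
    have := (support_mul_le _ _) hx
    simp only [Finset.sup_eq_union, Finset.mem_union, support_swap hyb, support_swap hyc,
      Finset.mem_insert, Finset.mem_singleton] at this
    rcases this with (rfl | rfl) | (rfl | rfl)
    · exact hy
    · exact hb.2
    · exact hy
    · exact hc.2
  · rw [Perm.mul_apply, swap_apply_left, swap_apply_of_ne_of_ne hyc.symm hbc.symm]
    exact hyc.symm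

/-- elements normalising `altOn Q` (`|Q| ≥ 3`) preserve the complement of `Q` -/
theorem apply_mem_compl_of_normalizer (Q : Finset α) (h3 : 3 ≤ Q.card) (g : Perm α)
    (hg : g ∈ normalizer ((altOn Q : Subgroup (Perm α)) : Set (Perm α))) (x : α) (hx : x ∈ Qᶜ) :
    g x ∈ Qᶜ := by
  rw [Finset.mem_compl] at hx ⊢
  intro hgx
  obtain ⟨t, ht, hty⟩ := exists_threeCycle_altOn Q h3 (g x) hgx
  have h1 : g⁻¹ * t * g⁻¹⁻¹ ∈ altOn Q :=
    (mem_normalizer_iff.mp ((normalizer ((altOn Q : Subgroup (Perm α)) : Set (Perm α))).inv_mem hg) t).mp ht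
  have h2 : x ∈ (g⁻¹ * t * g⁻¹⁻¹).support := by
    rw [mem_support_conj, inv_inv, Perm.mem_support]
    exact hty
  exact hx (((mem_altOn_iff Q _).mp h1).1 h2)

/-- **Main theorem.** -/
theorem main (n : ℕ) (hn : 5 ≤ n) (H : Subgroup (Equiv.Perm (Fin n)))
    (hF : Cfsg.IsQuasisimple ↥(Cfsg.generalizedFittingSubgroup ↥H))
    (hS : ∃ P : Sylow 3 (Equiv.Perm (Fin n)), (P : Subgroup (Equiv.Perm (Fin n))) ≤ H) :
    ∃ m : ℕ, (m = n - 2 ∨ m = n - 1 ∨ m = n) ∧
      Nonempty (↥(Cfsg.generalizedFittingSubgroup ↥H) ≃* ↥(alternatingGroup (Fin m))) := by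
  classical
  obtain ⟨P, hPH⟩ := hS
  set Fs := Cfsg.generalizedFittingSubgroup ↥H with hFs
  set K : Subgroup (Perm (Fin n)) := Fs.map H.subtype with hKdef
  have e1 : ↥Fs ≃* ↥K := Fs.equivMapOfInjective H.subtype H.subtype_injective
  have hKq : Cfsg.IsQuasisimple ↥K := Cfsg.Agent.Lib.Helper21.quasisimple_of_mulEquiv e1 hF
  have hFsn : Fs.Normal := Cfsg.Agent.Lib.Helper22.generalizedFittingSubgroup_normal ↥H
  have hKH : K ≤ H := by
    rintro _ ⟨x, -, rfl⟩
    exact x.2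
  have hHnorm : H ≤ normalizer (K : Set (Perm (Fin n))) := by
    intro h hh
    rw [mem_normalizer_iff]
    intro k
    constructor
    · rintro ⟨x, hx, rfl⟩
      refine ⟨⟨h, hh⟩ * x * ⟨h, hh⟩⁻¹, hFsn.conj_mem x hx ⟨h, hh⟩, rfl⟩
    · rintro ⟨x, hx, hxe⟩
      refine ⟨⟨h, hh⟩⁻¹ * x * ⟨h, hh⟩, ?_, ?_⟩
      · have := hFsn.conj_mem x hx ⟨h, hh⟩⁻¹
        simpa using this
      · have h1 : (H.subtype x : Perm (Fin n)) = h * k * h⁻¹ := hxe
        show (H.subtype (⟨h, hh⟩⁻¹ * x * ⟨h, hh⟩) : Perm (Fin n)) = k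
        rw [map_mul, map_mul, map_inv, h1]
        show h⁻¹ * (h * k * h⁻¹) * h = k
        group
  have hKperf : ⁅K, K⁆ = K := Cfsg.Agent.Lib.Helper22.quasisimple_commutator_self hKq
  have hKns : ¬ Group.IsSolvable ↥K := Cfsg.Agent.Lib.Helper21.quasisimple_not_solvable hKq
  obtain ⟨c, hcH, hc3, hcC⟩ := exists_threeCycle_not_centralizing H K P hPH hKperf hKns
  obtain ⟨Q, hQ5, hKQ⟩ := eq_altOn_of_threeCycle K hKq c hc3 (hHnorm hcH) hcC
  -- the complement of Q has at most two points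
  have hcompl : Qᶜ.card ≤ 2 := by
    by_contra h
    have h3 : 3 ≤ Qᶜ.card := by omega
    have hinv : ∀ g ∈ P, ∀ x ∈ Qᶜ, g x ∈ Qᶜ := by
      intro g hg x hx
      apply apply_mem_compl_of_normalizer Q (by omega) g _ x hx
      rw [← hKQ]
      exact hHnorm (hPH hg)
    obtain ⟨d, hdP, hd3, hds⟩ := exists_threeCycle_in_sylow P Qᶜ hinv h3
    have hdH : d ∈ H := hPH hdP
    -- d centralises K
    have hdcent : (⟨d, hdH⟩ : ↥H) ∈ centralizer (Fs : Set ↥H) := by
      rw [mem_centralizer_iff]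
      intro x hx
      apply Subtype.ext
      show (x : Perm (Fin n)) * d = d * (x : Perm (Fin n))
      have hxK : (x : Perm (Fin n)) ∈ altOn Q := by
        rw [← hKQ]; exact ⟨x, hx, rfl⟩
      have hxs := ((mem_altOn_iff Q _).mp hxK).1
      have hdisj : Perm.Disjoint (x : Perm (Fin n)) d := by
        rw [Perm.disjoint_iff_disjoint_support, Finset.disjoint_left]
        intro y hy hy'
        have := hds hy'
        rw [Finset.mem_compl] at this
        exact this (hxs hy)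
      exact hdisj.commute.eq
    have hdFs : (⟨d, hdH⟩ : ↥H) ∈ Fs :=
      Cfsg.Agent.Lib.Helper22.centralizer_generalizedFitting_le ↥H hdcent
    have hdK : d ∈ altOn Q := by
      rw [← hKQ]; exact ⟨⟨d, hdH⟩, hdFs, rfl⟩
    have hne : d.support.Nonempty := by
      rw [← Finset.card_pos, hd3.card_support]; norm_num
    obtain ⟨y, hy⟩ := hne
    have h1 := hds hy
    rw [Finset.mem_compl] at h1
    exact h1 (((mem_altOn_iff Q _).mp hdK).1 hy)
  have hcard : Q.card + Qᶜ.card = n := by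
    rw [Finset.card_add_card_compl, Fintype.card_fin]
  refine ⟨Q.card, by omega, ?_⟩
  -- the isomorphism
  have e2 : ↥(alternatingGroup {x // x ∈ Q}) ≃* ↥(altOn Q) :=
    (alternatingGroup {x // x ∈ Q}).equivMapOfInjective
      (Perm.ofSubtype : Perm {x // x ∈ Q} →* Perm (Fin n)) Perm.ofSubtype_injective
  have e3 : ↥K ≃* ↥(altOn Q) := MulEquiv.subgroupCongr hKQ
  have e4 : ↥(alternatingGroup {x // x ∈ Q}) ≃* ↥(alternatingGroup (Fin Q.card)) :=
    Equiv.altCongrHom Q.equivFin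
  exact ⟨e1.trans (e3.trans (e2.symm.trans e4))⟩

end Cfsg.Agent.Lib.Helper38.SylThree
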