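import Mathlib

set_option autoImplicit false

/-! For a `2`-subgroup `R` of a symmetric group there is an involution commuting with `R` whose
fixed points are exactly the fixed points of `R`. -/

namespace Cfsg.Agent.Lib.Helper38.SylTwo

open Equiv Equiv.Perm

variable {α : Type*} [Fintype α] [DecidableEq α]

/-- For a `2`-subgroup `R` and a point `x` moved by `R`, there is an involution supported exactly
on the orbit of `x` and commuting with `R`. -/
theorem exists_orbit_involution (R : Subgroup (Perm α)) (hR : IsPGroup 2 R) (x : α)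
    (hx : ∃ r ∈ R, r x ≠ x) :
    ∃ z : Perm α, z * z = 1 ∧ (∀ r ∈ R, r * z = z * r) ∧
      ∀ y, z y ≠ y ↔ ∃ r ∈ R, r x = y := by
  classical
  have : Fact (Nat.Prime 2) := ⟨Nat.prime_two⟩
  set O : Set α := MulAction.orbit ↥R x with hO
  let φ : ↥R →* Perm ↥O := MulAction.toPermHom ↥R ↥O
  have hφ : ∀ (r : ↥R) (y : ↥O), ((φ r y : ↥O) : α) = (r : Perm α) (y : α) := fun r y => rfl
  have hpg : IsPGroup 2 ↥φ.range := hR.of_surjective φ.rangeRestrict φ.rangeRestrict_surjective
  have hnt : Nontrivial ↥φ.range := by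
    obtain ⟨r, hr, hrx⟩ := hx
    refine ⟨⟨⟨φ ⟨r, hr⟩, ⟨_, rfl⟩⟩, 1, ?_⟩⟩
    intro h
    have h1 : φ ⟨r, hr⟩ = 1 := congrArg Subtype.val h
    have h2 := congrArg (fun σ : Perm ↥O => ((σ ⟨x, MulAction.mem_orbit_self x⟩ : ↥O) : α)) h1
    simp only [hφ, Perm.coe_one, id_eq] at h2
    exact hrx h2
  have hcnt : Nontrivial (Subgroup.center ↥φ.range) := hpg.center_nontrivial
  have hcpg : IsPGroup 2 (Subgroup.center ↥φ.range) := hpg.to_subgroup _
  have hdvd : 2 ∣ Nat.card (Subgroup.center ↥φ.range) := by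
    rcases hcpg.card_eq_or_dvd with h | h
    · exfalso
      have := (Nat.card_eq_one_iff_unique.mp h).1
      exact not_subsingleton _ this
    · exact h
  obtain ⟨c, hc⟩ := exists_prime_orderOf_dvd_card' 2 hdvd
  -- the permutation of the orbit
  set zb : Perm ↥O := ((c : ↥φ.range) : Perm ↥O) with hzb
  have hzb2 : zb * zb = 1 := by
    have h1 : c ^ 2 = 1 := by rw [← hc]; exact pow_orderOf_eq_one c
    have h2 := congrArg (fun t : Subgroup.center ↥φ.range => ((t : ↥φ.range) : Perm ↥O)) h1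
    simpa [pow_two] using h2
  have hzb1 : zb ≠ 1 := by
    intro h
    have : c = 1 := by
      apply Subtype.ext; apply Subtype.ext; exact h
    rw [this, orderOf_one] at hc
    omega
  have hzbcomm : ∀ r : ↥R, φ r * zb = zb * φ r := by
    intro r
    have h1 := Subgroup.mem_center_iff.mp c.2 ⟨φ r, ⟨r, rfl⟩⟩
    have h2 := congrArg (fun t : ↥φ.range => (t : Perm ↥O)) h1
    exact h2
  -- zb has no fixed points
  have hzbfix : ∀ y : ↥O, zb y ≠ y := by
    intro y hy
    apply hzb1
    ext w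
    -- w = r • y
    have hw : (w : α) ∈ MulAction.orbit ↥R (y : α) := by
      have h1 : MulAction.orbit ↥R (y : α) = MulAction.orbit ↥R x := MulAction.orbit_eq_iff.mpr y.2
      rw [h1]; exact w.2
    obtain ⟨r, hr⟩ := hw
    have hw' : w = φ r y := by
      apply Subtype.ext
      rw [hφ]; exact hr.symm
    rw [hw']
    have h1 : zb (φ r y) = (zb * φ r) y := rfl
    rw [h1, ← hzbcomm r, Perm.mul_apply, hy]
    simp
  refine ⟨ofSubtype zb, ?_, ?_, ?_⟩
  · rw [← map_mul, hzb2, map_one]
  · intro r hr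
    ext y
    simp only [Perm.mul_apply]
    by_cases hy : y ∈ O
    · have hry : r y ∈ O := by
        obtain ⟨s, hs⟩ := hy
        refine ⟨⟨r, hr⟩ * s, ?_⟩
        have hs' : s • x = y := hs
        show ((⟨r, hr⟩ : ↥R) * s) • x = r y
        rw [mul_smul, hs']; rfl
      rw [ofSubtype_apply_of_mem zb hy, ofSubtype_apply_of_mem zb hry]
      have h1 : (⟨r y, hry⟩ : ↥O) = φ ⟨r, hr⟩ ⟨y, hy⟩ := Subtype.ext rfl
      rw [h1]
      have h2 : zb (φ ⟨r, hr⟩ ⟨y, hy⟩) = (zb * φ ⟨r, hr⟩) ⟨y, hy⟩ := rfl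
      rw [h2, ← hzbcomm, Perm.mul_apply, hφ]
    · have hry : r y ∉ O := by
        intro h
        apply hy
        obtain ⟨s, hs⟩ := h
        refine ⟨(⟨r, hr⟩ : ↥R)⁻¹ * s, ?_⟩
        have hs' : s • x = r y := hs
        show ((⟨r, hr⟩ : ↥R)⁻¹ * s) • x = y
        rw [mul_smul, hs']
        show (r⁻¹ : Perm α) (r y) = y
        simp
      rw [ofSubtype_apply_of_not_mem zb hy, ofSubtype_apply_of_not_mem zb hry]
  · intro y
    constructor
    · intro hy
      by_contra hcon
      apply hy
      apply ofSubtype_apply_of_not_mem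
      intro hyO
      apply hcon
      obtain ⟨s, hs⟩ := hyO
      exact ⟨s.1, s.2, hs⟩
    · rintro ⟨r, hr, rfl⟩
      have hy : r x ∈ O := ⟨⟨r, hr⟩, rfl⟩
      rw [ofSubtype_apply_of_mem zb hy]
      intro h
      exact hzbfix ⟨r x, hy⟩ (Subtype.ext h)

/-- For a `2`-subgroup `R` of `Perm α` there is an involution `z` commuting with `R` whose fixed
points are exactly the common fixed points of `R`. -/
theorem exists_fpf_involution (R : Subgroup (Perm α)) (hR : IsPGroup 2 R) :
    ∃ z : Perm α, z * z = 1 ∧ (∀ r ∈ R, r * z = z * r) ∧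
      ∀ y, z y = y ↔ ∀ r ∈ R, r y = y := by
  classical
  let s := MulAction.orbitRel ↥R α
  let rep : α → α := fun y => Quotient.out (Quotient.mk s y)
  have hrep0 : ∀ y, rep y ∈ MulAction.orbit ↥R y := by
    intro y
    have h1 : s (rep y) y := Quotient.exact (Quotient.out_eq (Quotient.mk s y))
    exact (MulAction.orbitRel_apply).mp h1
  have hrep : ∀ y, ∃ r ∈ R, r y = rep y := by
    intro y
    obtain ⟨r, hr⟩ := hrep0 y
    exact ⟨r.1, r.2, hr⟩
  have hrepc : ∀ y, ∀ r ∈ R, rep (r y) = rep y := by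
    intro y r hr
    have h1 : Quotient.mk s (r y) = Quotient.mk s y := by
      apply Quotient.sound
      exact (MulAction.orbitRel_apply).mpr ⟨⟨r, hr⟩, rfl⟩
    show Quotient.out (Quotient.mk s (r y)) = Quotient.out (Quotient.mk s y)
    rw [h1]
  let zc : α → Perm α := fun x =>
    if h : ∃ r ∈ R, r x ≠ x then Classical.choose (exists_orbit_involution R hR x h) else 1
  have hzc2 : ∀ x, zc x * zc x = 1 := by
    intro x
    by_cases h : ∃ r ∈ R, r x ≠ x
    · simp only [zc, dif_pos h]
      exact (Classical.choose_spec (exists_orbit_involution R hR x h)).1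
    · simp only [zc, dif_neg h, mul_one]
  have hzccomm : ∀ x, ∀ r ∈ R, r * zc x = zc x * r := by
    intro x r hr
    by_cases h : ∃ r ∈ R, r x ≠ x
    · simp only [zc, dif_pos h]
      exact (Classical.choose_spec (exists_orbit_involution R hR x h)).2.1 r hr
    · simp only [zc, dif_neg h, mul_one, one_mul]
  have hzcmove : ∀ x y, zc x y ≠ y ↔ (∃ r ∈ R, r x ≠ x) ∧ ∃ r ∈ R, r x = y := by
    intro x y
    by_cases h : ∃ r ∈ R, r x ≠ x
    · simp only [zc, dif_pos h]
      rw [(Classical.choose_spec (exists_orbit_involution R hR x h)).2.2 y]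
      exact ⟨fun h' => ⟨h, h'⟩, fun h' => h'.2⟩
    · simp only [zc, dif_neg h, Perm.coe_one, id_eq, ne_eq, not_true_eq_false, false_iff]
      intro h'
      exact h h'.1
  let f : α → α := fun y => zc (rep y) y
  have hforb : ∀ y, ∃ r ∈ R, r y = f y := by
    intro y
    by_cases hy : zc (rep y) y = y
    · exact ⟨1, R.one_mem, by simp [f, hy]⟩
    · have h1 : zc (rep y) (zc (rep y) y) ≠ zc (rep y) y := by
        intro h
        exact hy ((zc (rep y)).injective h)
      obtain ⟨-, r1, hr1, hr1y⟩ := (hzcmove (rep y) (zc (rep y) y)).mp h1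
      obtain ⟨r2, hr2, hr2y⟩ := hrep y
      refine ⟨r1 * r2, R.mul_mem hr1 hr2, ?_⟩
      rw [Perm.mul_apply, hr2y, hr1y]
  have hfrep : ∀ y, rep (f y) = rep y := by
    intro y
    obtain ⟨r, hr, hry⟩ := hforb y
    rw [← hry]
    exact hrepc y r hr
  have hf : Function.Involutive f := by
    intro y
    show zc (rep (f y)) (f y) = y
    rw [hfrep]
    show (zc (rep y) * zc (rep y)) y = y
    rw [hzc2]; rfl
  refine ⟨hf.toPerm f, ?_, ?_, ?_⟩
  · ext y
    show f (f y) = y
    exact hf y
  · intro r hr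
    ext y
    show r (f y) = f (r y)
    show r (zc (rep y) y) = zc (rep (r y)) (r y)
    rw [hrepc y r hr]
    have h1 : r (zc (rep y) y) = (r * zc (rep y)) y := rfl
    rw [h1, hzccomm _ r hr]; rfl
  · intro y
    show f y = y ↔ _
    have h0 : f y = y ↔ ¬ (zc (rep y) y ≠ y) := by
      simp only [f, ne_eq, not_not]
    rw [h0, hzcmove]
    constructor
    · intro h r hr
      have h1 : ∀ r ∈ R, r (rep y) = rep y := by
        intro r' hr'
        by_contra hcon
        apply h
        refine ⟨⟨r', hr', hcon⟩, ?_⟩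
        obtain ⟨r2, hr2, hr2y⟩ := hrep y
        refine ⟨r2⁻¹, R.inv_mem hr2, ?_⟩
        rw [← hr2y]; simp
      obtain ⟨r2, hr2, hr2y⟩ := hrep y
      have h2 : rep y = y := by
        have := h1 r2⁻¹ (R.inv_mem hr2)
        rw [← hr2y] at this
        simp at this
        rw [← hr2y]
        exact this.symm
      rw [← h2]
      exact h1 r hr
    · intro h hcon
      obtain ⟨⟨r, hr, hrne⟩, -⟩ := hcon
      obtain ⟨r2, hr2, hr2y⟩ := hrep y
      apply hrne
      have h2 : rep y = y := by rw [← hr2y]; exact h r2 hr2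
      rw [h2]
      exact h r hr

end Cfsg.Agent.Lib.Helper38.SylTwo
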