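import Mathlib
import Cfsg.Agent.Lib.Helper38.SylTwoB
import Cfsg.Agent.Lib.Helper38.SylTwoD
import Cfsg.Agent.Lib.Helper38.SylTwoE

set_option autoImplicit false
set_option linter.unusedSectionVars false
set_option linter.unusedVariables false

/-! The three cases of the forward direction. -/

namespace Cfsg.Agent.Lib.Helper38.SylTwo

open Equiv Equiv.Perm
open Cfsg.Agent.Lib.Helper38.SylThree (setStab mem_setStab_of_forall)

variable {α : Type*} [Fintype α] [DecidableEq α]

/-- the double transposition `(a b)(za zb)` commutes with the involution `z` -/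
theorem dtrans_mem_cent (z : Perm α) (hz : z * z = 1) (a b : α)
    (hnd : [a, b, z a, z b].Nodup) :
    swap a b * swap (z a) (z b) ∈ cent z := by
  rw [mem_cent]
  have h1 : z * swap a b = swap (z a) (z b) * z := mul_swap_eq_swap_mul z a b
  have hzz : ∀ x, z (z x) = x := by
    intro x
    have := congrArg (fun σ : Perm α => σ x) hz
    simpa using this
  have h2 : z * swap (z a) (z b) = swap a b * z := by
    rw [mul_swap_eq_swap_mul, hzz, hzz]
  have hcomm : swap a b * swap (z a) (z b) = swap (z a) (z b) * swap a b :=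
    (disjoint_swap_swap hnd).commute.eq
  calc swap a b * swap (z a) (z b) * z = swap a b * (swap (z a) (z b) * z) := by rw [mul_assoc]
    _ = swap a b * (z * swap a b) := by rw [h1]
    _ = (swap a b * z) * swap a b := by rw [mul_assoc]
    _ = (z * swap (z a) (z b)) * swap a b := by rw [h2]
    _ = z * (swap (z a) (z b) * swap a b) := by rw [mul_assoc]
    _ = z * (swap a b * swap (z a) (z b)) := by rw [hcomm]

theorem dtrans_apply (z : Perm α) (a b : α) (hnd : [a, b, z a, z b].Nodup) :
    (swap a b * swap (z a) (z b)) a = b := by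
  simp only [List.nodup_cons, List.mem_cons, List.not_mem_nil, or_false, not_or,
    List.nodup_nil, and_true] at hnd
  obtain ⟨⟨h1, h2, h3⟩, ⟨h4, h5⟩, h6⟩ := hnd
  rw [Perm.mul_apply, swap_apply_of_ne_of_ne h2 h3, swap_apply_left]

theorem dtrans_apply_of_ne (z : Perm α) (a b u : α) (h1 : u ≠ a) (h2 : u ≠ b) (h3 : u ≠ z a)
    (h4 : u ≠ z b) : (swap a b * swap (z a) (z b)) u = u := by
  rw [Perm.mul_apply, swap_apply_of_ne_of_ne h3 h4, swap_apply_of_ne_of_ne h1 h2]

/-- for a fixed point free involution `z` the list `[a, b, z a, z b]` has no duplicates as soon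
as `b ≠ a` and `b ≠ z a`. -/
theorem nodup_of_fpf (z : Perm α) (hz : z * z = 1) (hfpf : ∀ y, z y ≠ y) (a b : α) (hab : a ≠ b)
    (hb : b ≠ z a) : [a, b, z a, z b].Nodup := by
  have hzz : ∀ x, z (z x) = x := by
    intro x
    have := congrArg (fun σ : Perm α => σ x) hz
    simpa using this
  have h1 : a ≠ z a := (hfpf a).symm
  have h2 : a ≠ z b := by
    intro h
    apply hb
    rw [h, hzz]
  have h3 : b ≠ z b := (hfpf b).symm
  have h4 : z a ≠ z b := fun h => hab (z.injective h)
  simp [hab, h1, h2, hb, h3, h4]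

/-- some even permutation does not commute with a fixed point free involution -/
theorem exists_alt_not_mem_cent (z : Perm α) (hz : z * z = 1) (hfpf : ∀ y, z y ≠ y)
    (h3 : 3 ≤ Fintype.card α) : ∃ c ∈ alternatingGroup α, c ∉ cent z := by
  have hzz : ∀ x, z (z x) = x := by
    intro x
    have := congrArg (fun σ : Perm α => σ x) hz
    simpa using this
  have hne : Nonempty α := by
    rw [← Fintype.card_pos_iff]; omega
  obtain ⟨a⟩ := hne
  obtain ⟨b, -, hba, hbza⟩ := exists_third (Finset.univ : Finset α) (by simpa using h3) a (z a)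
  -- the 3-cycle a ↦ za ↦ b ↦ a
  refine ⟨swap a b * swap a (z a), threeCycle_mem_alt (Ne.symm hba) (hfpf a).symm hbza, ?_⟩
  rw [mem_cent]
  intro h
  have h1 := congrArg (fun σ : Perm α => σ a) h
  simp only [Perm.mul_apply] at h1
  -- c (z a) = b, z (c a) = z (z a) = a
  rw [swap_apply_right, swap_apply_left, swap_apply_left, swap_apply_of_ne_of_ne (hfpf a) hbza.symm,
    hzz] at h1
  exact hba h1

/-- some even permutation does not preserve a partition into two parts with at least two and at
least one element -/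
theorem exists_alt_not_mem_pairStab (Δ : Finset α) (h2 : 2 ≤ Δ.card) (h1 : 1 ≤ Δᶜ.card) :
    ∃ c ∈ alternatingGroup α, c ∉ pairStab Δ := by
  obtain ⟨u, hu, v, hv, huv⟩ := Finset.one_lt_card.mp (by omega : 1 < Δ.card)
  obtain ⟨q, hq⟩ := Finset.card_pos.mp (by omega : 0 < Δᶜ.card)
  rw [Finset.mem_compl] at hq
  have huq : u ≠ q := fun h => hq (h ▸ hu)
  have hvq : v ≠ q := fun h => hq (h ▸ hv)
  -- the 3-cycle u ↦ v ↦ q ↦ u
  refine ⟨swap u q * swap u v, threeCycle_mem_alt huq huv hvq.symm, ?_⟩
  have hcu : (swap u q * swap u v) u = v := cyc3_apply huv hvq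
  have hcv : (swap u q * swap u v) v = q := by
    rw [Perm.mul_apply, swap_apply_right, swap_apply_left]
  rintro (h | h)
  · have := (h v).mpr hv
    rw [hcv] at this
    exact hq this
  · have := (h u).mp (by rw [hcu]; exact hv)
    exact this hu

/-- a 3-cycle supported inside `Δ` or inside `Δᶜ` preserves `Δ` -/
theorem mem_setStab_of_support (Δ : Finset α) (c : Perm α)
    (h : c.support ⊆ Δ ∨ c.support ⊆ Δᶜ) : c ∈ setStab Δ := by
  apply mem_setStab_of_forall
  intro x hx
  by_cases hxs : x ∈ c.support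
  · rcases h with h | h
    · exact h (Perm.apply_mem_support.mpr hxs)
    · have := h hxs
      rw [Finset.mem_compl] at this
      exact absurd hx this
  · rw [Perm.notMem_support.mp hxs]; exact hx

/-- **Case A**: `R` is transitive. -/
theorem caseA (G : Subgroup (Perm α)) (hA : alternatingGroup α ≤ G) (R : Subgroup (Perm α))
    (hR2 : IsPGroup 2 R) (hRG : R ≤ G) (htr : ∀ x y : α, ∃ r ∈ R, r x = y)
    (h5 : 5 ≤ Fintype.card α) (h6 : Fintype.card α ≠ 6)
    (M : Subgroup (Perm α)) (hMG : M < G)
    (hsub : ∀ H : Subgroup (Perm α), R ≤ H → H < G → H ≤ M) : False := by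
  classical
  obtain ⟨z, hz, hzR, hzfix⟩ := exists_fpf_involution R hR2
  have hzz : ∀ x, z (z x) = x := by
    intro x
    have := congrArg (fun σ : Perm α => σ x) hz
    simpa using this
  have hfpf : ∀ y, z y ≠ y := by
    intro y hy
    have h1 := (hzfix y).mp hy
    obtain ⟨w, -, hwy, -⟩ := exists_third (Finset.univ : Finset α) (by simp; omega) y y
    obtain ⟨r, hr, hry⟩ := htr y w
    rw [h1 r hr] at hry
    exact hwy hry.symm
  obtain ⟨Δ, hΔcard, hRΔ⟩ := exists_half_partition R hR2 htr (by omega)
  have hΔ4 : 4 ≤ Δ.card := by omega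
  have hΔc : Δᶜ.card = Δ.card := by
    have := Finset.card_add_card_compl Δ
    omega
  -- the two overgroups
  have hH1 : G ⊓ cent z ≤ M := by
    apply hsub
    · intro r hr
      exact ⟨hRG hr, hzR r hr⟩
    · refine lt_of_le_of_ne inf_le_left ?_
      intro h
      obtain ⟨c, hcA, hc⟩ := exists_alt_not_mem_cent z hz hfpf (by omega)
      have : c ∈ G ⊓ cent z := by rw [h]; exact hA hcA
      exact hc this.2
  have hH2 : G ⊓ pairStab Δ ≤ M := by
    apply hsub
    · intro r hr
      exact ⟨hRG hr, hRΔ hr⟩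
    · refine lt_of_le_of_ne inf_le_left ?_
      intro h
      obtain ⟨c, hcA, hc⟩ := exists_alt_not_mem_pairStab Δ (by omega) (by omega)
      have : c ∈ G ⊓ pairStab Δ := by rw [h]; exact hA hcA
      exact hc this.2
  -- the mixing element
  obtain ⟨a, ha⟩ := Finset.card_pos.mp (by omega : 0 < Δ.card)
  obtain ⟨b, hb, hba, hbza⟩ := exists_third Δᶜ (by omega) a (z a)
  rw [Finset.mem_compl] at hb
  have hnd := nodup_of_fpf z hz hfpf a b (Ne.symm hba) hbza
  obtain ⟨u, hu, hu1, hu2, hu3⟩ : ∃ u ∈ Δ, u ≠ a ∧ u ≠ z a ∧ u ≠ z b := by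
    by_contra hcon
    push Not at hcon
    have : Δ ⊆ {a, z a, z b} := by
      intro w hw
      by_cases h1 : w = a
      · simp [h1]
      · by_cases h2 : w = z a
        · simp [h2]
        · simp [hcon w hw h1 h2]
    have h1 := Finset.card_le_card this
    have h2 : ({a, z a, z b} : Finset α).card ≤ 3 := Finset.card_le_three
    omega
  have hub : u ≠ b := fun h => hb (h ▸ hu)
  set g := swap a b * swap (z a) (z b) with hg
  have hgM : g ∈ M := hH1 ⟨hA (swap_mul_swap_mem_alt (Ne.symm hba) (fun h => hba (z.injective h).symm)),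
    dtrans_mem_cent z hz a b hnd⟩
  have hgu : g u = u := dtrans_apply_of_ne z a b u hu1 hub hu2 hu3
  have hga : g a = b := dtrans_apply z a b hnd
  have hAM : alternatingGroup α ≤ M := by
    apply alt_le_of_threeCycles M Δ (by omega) (by omega) ?_ g hgM u a hu ha hu1
    · rw [hgu]; exact hu
    · rw [hga]; exact hb
    · intro c hc hsupp
      apply hH2
      exact ⟨hA hc.mem_alternatingGroup, setStab_le_pairStab Δ (mem_setStab_of_support Δ c hsupp)⟩
  -- contradiction
  rcases eq_alt_or_top hA with hG | hG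
  · rw [hG] at hMG
    exact (not_le_of_gt hMG) hAM
  · -- G = ⊤: M contains the odd permutation swap a (z a)
    have hsw : swap a (z a) ∈ M := by
      apply hH1
      refine ⟨by rw [hG]; trivial, ?_⟩
      show swap a (z a) ∈ cent z
      rw [mem_cent, mul_swap_eq_swap_mul z a (z a), hzz, swap_comm]
    have hMtop : M = ⊤ := by
      rcases eq_alt_or_top hAM with h | h
      · exfalso
        rw [h, Perm.mem_alternatingGroup, Perm.sign_swap (hfpf a).symm] at hsw
        exact absurd hsw (by decide)
      · exact h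
    rw [hG, hMtop] at hMG
    exact lt_irrefl _ hMG

end Cfsg.Agent.Lib.Helper38.SylTwo
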