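import Mathlib
import Cfsg.Agent.Lib.Helper38.SylTwoF

set_option autoImplicit false
set_option linter.unusedSectionVars false
set_option linter.unusedVariables false

/-! The forward direction: a unique maximal overgroup forces `n = 2 ^ k + 1`. -/

namespace Cfsg.Agent.Lib.Helper38.SylTwo

open Equiv Equiv.Perm
open Cfsg.Agent.Lib.Helper61.Miller (IsSyl)
open Cfsg.Agent.Lib.Helper38.SylThree (setStab mem_setStab_of_forall)

variable {α : Type*} [Fintype α] [DecidableEq α]

/-- **Case B1**: two orbits, no fixed points, `M` is the stabiliser of one of them. -/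
theorem caseB1 (G : Subgroup (Perm α)) (hA : alternatingGroup α ≤ G) (R : Subgroup (Perm α))
    (hR2 : IsPGroup 2 R) (hRG : R ≤ G) (O : Finset α)
    (hfix : ∀ y, ∃ r ∈ R, r y ≠ y) (hO : O.Nonempty) (hOc : 2 ≤ Oᶜ.card)
    (h3 : 3 ≤ Fintype.card α)
    (M : Subgroup (Perm α))
    (hsub : ∀ H : Subgroup (Perm α), R ≤ H → H < G → H ≤ M) (hM : M = G ⊓ setStab O) :
    False := by
  classical
  obtain ⟨z, hz, hzR, hzfix⟩ := exists_fpf_involution R hR2
  have hfpf : ∀ y, z y ≠ y := by
    intro y hy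
    have h1 := (hzfix y).mp hy
    obtain ⟨r, hr, hry⟩ := hfix y
    exact hry (h1 r hr)
  have hH1 : G ⊓ cent z ≤ M := by
    apply hsub
    · intro r hr
      exact ⟨hRG hr, hzR r hr⟩
    · refine lt_of_le_of_ne inf_le_left ?_
      intro h
      obtain ⟨c, hcA, hc⟩ := exists_alt_not_mem_cent z hz hfpf h3
      have : c ∈ G ⊓ cent z := by rw [h]; exact hA hcA
      exact hc this.2
  obtain ⟨a, ha⟩ := hO
  obtain ⟨b, hb, hbza⟩ : ∃ b ∈ Oᶜ, b ≠ z a := by
    obtain ⟨b1, hb1, b2, hb2, hb12⟩ := Finset.one_lt_card.mp (by omega : 1 < Oᶜ.card)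
    by_cases h : b1 = z a
    · exact ⟨b2, hb2, fun h' => hb12 (h.trans h'.symm)⟩
    · exact ⟨b1, hb1, h⟩
  rw [Finset.mem_compl] at hb
  have hab : a ≠ b := fun h => hb (h ▸ ha)
  have hnd := nodup_of_fpf z hz hfpf a b hab hbza
  have hgM : swap a b * swap (z a) (z b) ∈ M :=
    hH1 ⟨hA (swap_mul_swap_mem_alt hab (fun h => hab (z.injective h))),
      dtrans_mem_cent z hz a b hnd⟩
  rw [hM] at hgM
  have h1 := (hgM.2 a).mpr ha
  rw [dtrans_apply z a b hnd] at h1
  exact hb h1

/-- two disjoint invariant sets not covering everything cannot both have `M` as stabiliser -/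
theorem two_sets (G : Subgroup (Perm α)) (hA : alternatingGroup α ≤ G)
    (h5 : 5 ≤ Fintype.card α) (M : Subgroup (Perm α))
    (s t : Finset α) (hMs : M = G ⊓ setStab s) (hMt : M = G ⊓ setStab t)
    (ht : t.Nonempty) (hst : Disjoint s t) (hstc : (s ∪ t)ᶜ.Nonempty) : False := by
  classical
  obtain ⟨p, hp⟩ := ht
  obtain ⟨q, hq⟩ := hstc
  rw [Finset.mem_compl, Finset.mem_union, not_or] at hq
  have hps : p ∉ s := fun h => (Finset.disjoint_left.mp hst) h hp
  have hpq : p ≠ q := fun h => hq.2 (h ▸ hp)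
  -- two further points with the same membership in s
  obtain ⟨u, v, huv, hup, huq, hvp, hvq, huvs⟩ :
      ∃ u v : α, u ≠ v ∧ u ≠ p ∧ u ≠ q ∧ v ≠ p ∧ v ≠ q ∧ (u ∈ s ↔ v ∈ s) := by
    set T : Finset α := (Finset.univ.erase p).erase q with hT
    have hTcard : 3 ≤ T.card := by
      rw [hT, Finset.card_erase_of_mem (by simp [Ne.symm hpq]), Finset.card_erase_of_mem (by simp)]
      simp only [Finset.card_univ]; omega
    have hTmem : ∀ w, w ∈ T ↔ w ≠ q ∧ w ≠ p := by
      intro w; simp [hT]
    have hsplit : (T.filter (· ∈ s)).card + (T.filter (· ∉ s)).card = T.card :=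
      Finset.card_filter_add_card_filter_not (· ∈ s)
    rcases Nat.lt_or_ge 1 (T.filter (· ∈ s)).card with h | h
    · obtain ⟨u, hu, v, hv, huv⟩ := Finset.one_lt_card.mp h
      rw [Finset.mem_filter, hTmem] at hu hv
      exact ⟨u, v, huv, hu.1.2, hu.1.1, hv.1.2, hv.1.1, by tauto⟩
    · obtain ⟨u, hu, v, hv, huv⟩ := Finset.one_lt_card.mp (by omega : 1 < (T.filter (· ∉ s)).card)
      rw [Finset.mem_filter, hTmem] at hu hv
      exact ⟨u, v, huv, hu.1.2, hu.1.1, hv.1.2, hv.1.1, by tauto⟩
  set h := swap p q * swap u v with hh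
  have hhA : h ∈ alternatingGroup α := swap_mul_swap_mem_alt hpq huv
  have hhs : h ∈ setStab s := by
    apply mem_setStab_of_forall
    intro x hx
    have hxp : x ≠ p := fun h => hps (h ▸ hx)
    have hxq : x ≠ q := fun h => hq.1 (h ▸ hx)
    rw [hh, Perm.mul_apply]
    by_cases hxu : x = u
    · rw [hxu, swap_apply_left, swap_apply_of_ne_of_ne hvp hvq]
      exact huvs.mp (hxu ▸ hx)
    · by_cases hxv : x = v
      · rw [hxv, swap_apply_right, swap_apply_of_ne_of_ne hup huq]
        exact huvs.mpr (hxv ▸ hx)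
      · rw [swap_apply_of_ne_of_ne hxu hxv, swap_apply_of_ne_of_ne hxp hxq]
        exact hx
  have hhM : h ∈ M := by rw [hMs]; exact ⟨hA hhA, hhs⟩
  rw [hMt] at hhM
  have h1 := (hhM.2 p).mpr hp
  have h2 : h p = q := by
    rw [hh, Perm.mul_apply, swap_apply_of_ne_of_ne (Ne.symm hup) (Ne.symm hvp), swap_apply_left]
  rw [h2] at h1
  exact hq.2 h1

/-- **The forward direction.** -/
theorem forward (G : Subgroup (Perm α)) (hA : alternatingGroup α ≤ G)
    (hCS : ∀ s : Finset α, s.Nonempty → sᶜ.Nonempty → Fintype.card α ≠ 2 * s.card →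
      IsMaxIn G (G ⊓ setStab s))
    (h5 : 5 ≤ Fintype.card α) (h6 : Fintype.card α ≠ 6)
    (R : Subgroup (Perm α)) (hR : IsSyl 2 G R) (M : Subgroup (Perm α)) (hM : IsMaxIn G M)
    (hRM : R ≤ M) (huniq : ∀ M', IsMaxIn G M' → R ≤ M' → M' = M) :
    ∃ k, 2 ≤ k ∧ Fintype.card α = 2 ^ k + 1 := by
  classical
  have : Fact (Nat.Prime 2) := ⟨Nat.prime_two⟩
  have hR2 : IsPGroup 2 R := hR.isPGroup
  have hRG : R ≤ G := hR.1
  have hsub : ∀ H : Subgroup (Perm α), R ≤ H → H < G → H ≤ M := by
    intro H hRH hHG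
    obtain ⟨K, hK, hHK⟩ := exists_isMaxIn_ge hHG
    rw [← huniq K hK (le_trans hRH hHK)]
    exact hHK
  have hMs : ∀ s : Finset α, (∀ r ∈ R, ∀ x ∈ s, r x ∈ s) → s.Nonempty → sᶜ.Nonempty →
      Fintype.card α ≠ 2 * s.card → M = G ⊓ setStab s := by
    intro s hinv hs hsc hcard
    have h1 := hCS s hs hsc hcard
    have h2 : G ⊓ setStab s ≤ M := by
      apply hsub _ _ h1.1
      intro r hr
      exact ⟨hRG hr, mem_setStab_of_forall s r (hinv r hr)⟩
    exact h1.eq_of_le h2 hM.1
  have hne : Nonempty α := by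
    rw [← Fintype.card_pos_iff]; omega
  obtain ⟨x0⟩ := hne
  by_cases hO1 : orb R x0 = Finset.univ
  · -- transitive
    exfalso
    apply caseA G hA R hR2 hRG ?_ h5 h6 M hM.1 hsub
    intro x y
    have hx : x ∈ orb R x0 := by rw [hO1]; exact Finset.mem_univ _
    have hy : y ∈ orb R x0 := by rw [hO1]; exact Finset.mem_univ _
    obtain ⟨r, hr, rfl⟩ := mem_orb.mp hx
    obtain ⟨s, hs, rfl⟩ := mem_orb.mp hy
    refine ⟨s * r⁻¹, R.mul_mem hs (R.inv_mem hr), ?_⟩
    simp
  · obtain ⟨x1, hx1⟩ : ∃ x1, x1 ∉ orb R x0 := by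
      by_contra hcon
      push Not at hcon
      exact hO1 (Finset.eq_univ_iff_forall.mpr hcon)
    have hd12 : Disjoint (orb R x0) (orb R x1) := orb_disjoint hx1
    by_cases hO12 : orb R x0 ∪ orb R x1 = Finset.univ
    · -- two orbits
      have hcard : (orb R x0).card + (orb R x1).card = Fintype.card α := by
        rw [← Finset.card_union_of_disjoint hd12, hO12, Finset.card_univ]
      have hcompl : (orb R x0)ᶜ = orb R x1 := by
        ext w
        rw [Finset.mem_compl]
        constructor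
        · intro hw
          have : w ∈ orb R x0 ∪ orb R x1 := by rw [hO12]; exact Finset.mem_univ _
          rcases Finset.mem_union.mp this with h | h
          · exact absurd h hw
          · exact h
        · intro hw hw'
          exact (Finset.disjoint_left.mp hd12) hw' hw
      obtain ⟨k0, hk0⟩ := card_orb_pow R hR2 x0
      obtain ⟨k1, hk1⟩ := card_orb_pow R hR2 x1
      by_cases hc0 : (orb R x0).card = 1
      · refine ⟨k1, ?_, by omega⟩
        by_contra hk
        have : k1 = 0 ∨ k1 = 1 := by omega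
        rcases this with h | h <;> rw [h] at hk1 <;> omega
      by_cases hc1 : (orb R x1).card = 1
      · refine ⟨k0, ?_, by omega⟩
        by_contra hk
        have : k0 = 0 ∨ k0 = 1 := by omega
        rcases this with h | h <;> rw [h] at hk0 <;> omega
      exfalso
      -- no fixed points
      have hfix : ∀ y, ∃ r ∈ R, r y ≠ y := by
        intro y
        by_contra hcon
        push Not at hcon
        have : y ∈ orb R x0 ∪ orb R x1 := by rw [hO12]; exact Finset.mem_univ _
        rcases Finset.mem_union.mp this with h | h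
        · rw [orb_eq_singleton_of_fixed h hcon, Finset.card_singleton] at hc0
          exact hc0 rfl
        · rw [orb_eq_singleton_of_fixed h hcon, Finset.card_singleton] at hc1
          exact hc1 rfl
      have hpos0 : 0 < (orb R x0).card := Finset.card_pos.mpr ⟨x0, self_mem_orb R x0⟩
      have hpos1 : 0 < (orb R x1).card := Finset.card_pos.mpr ⟨x1, self_mem_orb R x1⟩
      by_cases hhalf : Fintype.card α = 2 * (orb R x0).card
      · -- the whole set has 2-power size, so R would be transitive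
        have huniv : (Finset.univ : Finset α).card = 2 ^ (k0 + 1) := by
          rw [Finset.card_univ, hhalf, hk0, pow_succ]; ring
        have htr := syl_transitive hR Finset.univ (k0 + 1) huniv (fun _ _ _ _ => Finset.mem_univ _)
          (by
            intro x _ y _
            by_cases hxy : x = y
            · exact ⟨1, G.one_mem, by simp [hxy]⟩
            · obtain ⟨w, -, hwx, hwy⟩ := exists_third (Finset.univ : Finset α)
                (by simp; omega) x y
              exact ⟨swap x w * swap x y, hA (threeCycle_mem_alt (Ne.symm hwx) hxy hwy),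
                cyc3_apply hxy (Ne.symm hwy)⟩)
        obtain ⟨r, hr, hrx⟩ := htr x0 (Finset.mem_univ _) x1 (Finset.mem_univ _)
        exact hx1 (mem_orb.mpr ⟨r, hr, hrx⟩)
      · have hMO := hMs (orb R x0) (orb_inv R x0) ⟨x0, self_mem_orb R x0⟩
          ⟨x1, by rw [hcompl]; exact self_mem_orb R x1⟩ hhalf
        apply caseB1 G hA R hR2 hRG (orb R x0) hfix ⟨x0, self_mem_orb R x0⟩ ?_ (by omega) M hsub hMO
        rw [hcompl]; omega
    · -- at least three orbits
      exfalso
      obtain ⟨x2, hx2⟩ : ∃ x2, x2 ∉ orb R x0 ∪ orb R x1 := by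
        by_contra hcon
        push Not at hcon
        exact hO12 (Finset.eq_univ_iff_forall.mpr hcon)
      rw [Finset.mem_union, not_or] at hx2
      have hd02 : Disjoint (orb R x0) (orb R x2) := orb_disjoint hx2.1
      have hd12' : Disjoint (orb R x1) (orb R x2) := orb_disjoint hx2.2
      have hm0 := self_mem_orb R x0
      have hm1 := self_mem_orb R x1
      have hm2 := self_mem_orb R x2
      have hpos0 : 0 < (orb R x0).card := Finset.card_pos.mpr ⟨x0, hm0⟩
      have hpos1 : 0 < (orb R x1).card := Finset.card_pos.mpr ⟨x1, hm1⟩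
      have hpos2 : 0 < (orb R x2).card := Finset.card_pos.mpr ⟨x2, hm2⟩
      have hsum : (orb R x0).card + (orb R x1).card + (orb R x2).card ≤ Fintype.card α := by
        have h1 : Disjoint (orb R x0 ∪ orb R x1) (orb R x2) := by
          rw [Finset.disjoint_union_left]; exact ⟨hd02, hd12'⟩
        rw [← Finset.card_union_of_disjoint hd12, ← Finset.card_union_of_disjoint h1,
          ← Finset.card_univ]
        exact Finset.card_le_card (Finset.subset_univ _)
      -- membership facts for complements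
      have hc0 : (orb R x0)ᶜ.Nonempty := ⟨x1, by rw [Finset.mem_compl]; exact hx1⟩
      have hc1 : (orb R x1)ᶜ.Nonempty :=
        ⟨x0, by rw [Finset.mem_compl]; exact fun h => (Finset.disjoint_left.mp hd12) hm0 h⟩
      have hc2 : (orb R x2)ᶜ.Nonempty :=
        ⟨x0, by rw [Finset.mem_compl]; exact fun h => (Finset.disjoint_left.mp hd02) hm0 h⟩
      have hu01 : ((orb R x0) ∪ (orb R x1))ᶜ.Nonempty :=
        ⟨x2, by rw [Finset.mem_compl, Finset.mem_union, not_or]; exact hx2⟩
      have hu02 : ((orb R x0) ∪ (orb R x2))ᶜ.Nonempty := by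
        refine ⟨x1, ?_⟩
        rw [Finset.mem_compl, Finset.mem_union, not_or]
        exact ⟨hx1, fun h => (Finset.disjoint_left.mp hd12') hm1 h⟩
      have hu12 : ((orb R x1) ∪ (orb R x2))ᶜ.Nonempty := by
        refine ⟨x0, ?_⟩
        rw [Finset.mem_compl, Finset.mem_union, not_or]
        exact ⟨fun h => (Finset.disjoint_left.mp hd12) hm0 h,
          fun h => (Finset.disjoint_left.mp hd02) hm0 h⟩
      by_cases hh0 : Fintype.card α = 2 * (orb R x0).card
      · have hh1 : Fintype.card α ≠ 2 * (orb R x1).card := by omega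
        have hh2 : Fintype.card α ≠ 2 * (orb R x2).card := by omega
        exact two_sets G hA h5 M _ _ (hMs _ (orb_inv R x1) ⟨x1, hm1⟩ hc1 hh1)
          (hMs _ (orb_inv R x2) ⟨x2, hm2⟩ hc2 hh2) ⟨x2, hm2⟩ hd12' hu12
      · by_cases hh1 : Fintype.card α = 2 * (orb R x1).card
        · have hh2 : Fintype.card α ≠ 2 * (orb R x2).card := by omega
          exact two_sets G hA h5 M _ _ (hMs _ (orb_inv R x0) ⟨x0, hm0⟩ hc0 hh0)
            (hMs _ (orb_inv R x2) ⟨x2, hm2⟩ hc2 hh2) ⟨x2, hm2⟩ hd02 hu02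
        · exact two_sets G hA h5 M _ _ (hMs _ (orb_inv R x0) ⟨x0, hm0⟩ hc0 hh0)
            (hMs _ (orb_inv R x1) ⟨x1, hm1⟩ hc1 hh1) ⟨x1, hm1⟩ hd12 hu01

end Cfsg.Agent.Lib.Helper38.SylTwo
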