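import Mathlib
import Cfsg.Agent.Lib.Helper38.SylTwoG
import Cfsg.Agent.Lib.Helper61.Marg11

set_option autoImplicit false
set_option linter.unusedSectionVars false
set_option linter.unusedVariables false

/-! The backward direction: for `n = 2 ^ k + 1` the point stabiliser is the unique maximal
subgroup containing a Sylow 2-subgroup. -/

namespace Cfsg.Agent.Lib.Helper38.SylTwo

open Equiv Equiv.Perm
open Cfsg.Agent.Lib.Helper61.Miller (IsSyl exists_isSyl)
open Cfsg.Agent.Lib.Helper61.Marggraf (TwoTrans IsJ marggraf)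
open Cfsg.Agent.Lib.Helper38.SylThree (setStab mem_setStab_of_forall)

universe u

/-- a proper subgroup of a finite simple group has index `m` with `|Γ|` dividing `m!` -/
theorem card_dvd_factorial_index {Γ : Type*} [Group Γ] [Finite Γ] [IsSimpleGroup Γ]
    (H : Subgroup Γ) (hH : H ≠ ⊤) : Nat.card Γ ∣ (H.index).factorial := by
  have hker : (MulAction.toPermHom Γ (Γ ⧸ H)).ker = ⊥ := by
    rcases (MulAction.toPermHom Γ (Γ ⧸ H)).normal_ker.eq_bot_or_eq_top with h | h
    · exact h
    · exfalso
      apply hH
      rw [eq_top_iff, ← h, ← Subgroup.normalCore_eq_ker]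
      exact Subgroup.normalCore_le H
  have hinj : Function.Injective (MulAction.toPermHom Γ (Γ ⧸ H)) :=
    (MonoidHom.ker_eq_bot_iff _).mp hker
  have := Subgroup.card_dvd_of_injective _ hinj
  rwa [Nat.card_perm, ← Subgroup.index_eq_card] at this

variable {α : Type u} [Fintype α] [DecidableEq α]

/-- the subgroup of even permutations fixing every point outside `B` -/
def altFix (B : Finset α) : Subgroup (Perm α) where
  carrier := {g | g ∈ alternatingGroup α ∧ ∀ x, x ∉ B → g x = x}
  mul_mem' := by
    rintro a b ⟨ha, ha'⟩ ⟨hb, hb'⟩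
    refine ⟨(alternatingGroup α).mul_mem ha hb, fun x hx => ?_⟩
    rw [Perm.mul_apply, hb' x hx, ha' x hx]
  one_mem' := ⟨(alternatingGroup α).one_mem, fun _ _ => rfl⟩
  inv_mem' := by
    rintro a ⟨ha, ha'⟩
    refine ⟨(alternatingGroup α).inv_mem ha, fun x hx => ?_⟩
    rw [Perm.inv_eq_iff_eq, ha' x hx]

/-- the 3-cycle on `x, y, w` fixes every other point -/
theorem cyc3_apply_of_ne {x y w t : α} (htx : t ≠ x) (hty : t ≠ y) (htw : t ≠ w) :
    (swap x w * swap x y) t = t := by
  rw [Perm.mul_apply, swap_apply_of_ne_of_ne htx hty, swap_apply_of_ne_of_ne htx htw]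

/-- **The backward direction.** -/
theorem backward (G : Subgroup (Perm α)) (hA : alternatingGroup α ≤ G)
    (hCS : ∀ s : Finset α, s.Nonempty → sᶜ.Nonempty → Fintype.card α ≠ 2 * s.card →
      IsMaxIn G (G ⊓ setStab s))
    (k : ℕ) (hk : 2 ≤ k) (hn : Fintype.card α = 2 ^ k + 1)
    (R : Subgroup (Perm α)) (hR : IsSyl 2 G R) :
    ∃ M, IsMaxIn G M ∧ R ≤ M ∧ ∀ M', IsMaxIn G M' → R ≤ M' → M' = M := by
  classical
  have : Fact (Nat.Prime 2) := ⟨Nat.prime_two⟩
  have hR2 : IsPGroup 2 R := hR.isPGroup
  have hRG : R ≤ G := hR.1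
  have h4k : 4 ≤ 2 ^ k := by
    calc 4 = 2 ^ 2 := by norm_num
      _ ≤ 2 ^ k := Nat.pow_le_pow_right (by norm_num) hk
  have h5 : 5 ≤ Fintype.card α := by omega
  -- a fixed point
  obtain ⟨a, ha⟩ := hR2.nonempty_fixed_point_of_prime_not_dvd_card α (by
    rw [Nat.card_eq_fintype_card, hn]
    intro h
    have h1 : 2 ∣ 2 ^ k := dvd_pow_self 2 (by omega)
    have := (Nat.dvd_add_right h1).mp h
    omega)
  have hRa : ∀ r ∈ R, r a = a := fun r hr => ha ⟨r, hr⟩
  -- the point stabiliser
  have hM0 : IsMaxIn G (G ⊓ setStab {a}) := by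
    apply hCS
    · exact ⟨a, Finset.mem_singleton_self a⟩
    · have : 0 < ({a} : Finset α)ᶜ.card := by
        rw [Finset.card_compl, Finset.card_singleton]; omega
      exact Finset.card_pos.mp this
    · rw [Finset.card_singleton]; omega
  have hstab : ∀ g : Perm α, g ∈ setStab {a} ↔ g a = a := by
    intro g
    constructor
    · intro hg
      have := (hg a).mpr (Finset.mem_singleton_self a)
      exact Finset.mem_singleton.mp this
    · intro hg
      apply mem_setStab_of_forall
      intro x hx
      rw [Finset.mem_singleton] at hx ⊢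
      rw [hx, hg]
  have hRM0 : R ≤ G ⊓ setStab {a} := fun r hr => ⟨hRG hr, (hstab r).mpr (hRa r hr)⟩
  -- R is transitive on the other points
  set S : Finset α := Finset.univ.erase a with hS
  have hScard : S.card = 2 ^ k := by
    rw [hS, Finset.card_erase_of_mem (Finset.mem_univ _), Finset.card_univ, hn]; simp
  have hSmem : ∀ x, x ∈ S ↔ x ≠ a := by intro x; simp [hS]
  have hRtr : ∀ x ∈ S, ∀ y ∈ S, ∃ r ∈ R, r x = y := by
    apply syl_transitive (IsSyl.of_le hR hRM0 inf_le_left) S k hScard
    · intro h hh x hx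
      rw [hSmem] at hx ⊢
      intro hxa
      apply hx
      have h1 := (hstab h).mp hh.2
      exact h.injective (hxa.trans h1.symm)
    · intro x hx y hy
      by_cases hxy : x = y
      · exact ⟨1, (G ⊓ setStab {a}).one_mem, by simp [hxy]⟩
      · obtain ⟨w, hw, hwx, hwy⟩ := exists_third S (by omega) x y
        rw [hSmem] at hx hy hw
        refine ⟨swap x w * swap x y, ⟨hA (threeCycle_mem_alt (Ne.symm hwx) hxy hwy), ?_⟩,
          cyc3_apply hxy (Ne.symm hwy)⟩
        show swap x w * swap x y ∈ setStab {a}
        rw [hstab]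
        exact cyc3_apply_of_ne (Ne.symm hx) (Ne.symm hy) (Ne.symm hw)
  refine ⟨G ⊓ setStab {a}, hM0, hRM0, ?_⟩
  intro M' hM' hRM'
  by_cases hfix : ∀ m ∈ M', m a = a
  · have hle : M' ≤ G ⊓ setStab {a} := fun m hm => ⟨hM'.1.le hm, (hstab m).mpr (hfix m hm)⟩
    exact (hM'.eq_of_le hle hM0.1).symm
  · exfalso
    push Not at hfix
    obtain ⟨m, hm, hma⟩ := hfix
    -- transitivity towards a
    have hto : ∀ x, ∃ g ∈ M', g x = a := by
      intro x
      by_cases hx : x = a
      · exact ⟨1, M'.one_mem, by simp [hx]⟩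
      · obtain ⟨r, hr, hrx⟩ := hRtr x ((hSmem x).mpr hx) (m a) ((hSmem _).mpr hma)
        refine ⟨m⁻¹ * r, M'.mul_mem (M'.inv_mem hm) (hRM' hr), ?_⟩
        rw [Perm.mul_apply, hrx]; simp
    have hTT : TwoTrans M' := by
      intro p q p' q' hpq hpq'
      obtain ⟨g1, hg1, hg1p⟩ := hto p
      obtain ⟨g2, hg2, hg2p⟩ := hto p'
      have h1 : g1 q ≠ a := fun h => hpq (g1.injective (hg1p.trans h.symm))
      have h2 : g2 q' ≠ a := fun h => hpq' (g2.injective (hg2p.trans h.symm))
      obtain ⟨r, hr, hrq⟩ := hRtr _ ((hSmem _).mpr h1) _ ((hSmem _).mpr h2)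
      refine ⟨g2⁻¹ * r * g1, M'.mul_mem (M'.mul_mem (M'.inv_mem hg2) (hRM' hr)) hg1, ?_, ?_⟩
      · rw [Perm.mul_apply, Perm.mul_apply, hg1p, hRa r hr, ← hg2p]; simp
      · rw [Perm.mul_apply, Perm.mul_apply, hrq]; simp
    rcases eq_alt_or_top hA with hG | hG
    · -- G = A_n
      by_cases hk2 : k = 2
      · -- n = 5
        have hn5 : Fintype.card α = 5 := by rw [hn, hk2]; norm_num
        have hnt : Nontrivial α := by
          rw [← Fintype.one_lt_card_iff_nontrivial]; omega
        have hcardA : Nat.card ↥(alternatingGroup α) = 60 := by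
          rw [nat_card_alternatingGroup, Nat.card_eq_fintype_card, hn5]
          decide
        have hsimple : IsSimpleGroup ↥(alternatingGroup α) :=
          alternatingGroup.isSimpleGroup (by rw [Nat.card_eq_fintype_card]; omega)
        have hM'A : M' ≤ alternatingGroup α := hG ▸ hM'.1.le
        have hne : M'.subgroupOf (alternatingGroup α) ≠ ⊤ := by
          intro h
          rw [Subgroup.subgroupOf_eq_top] at h
          exact (not_le_of_gt (hG ▸ hM'.1)) h
        have hdvd := card_dvd_factorial_index (M'.subgroupOf (alternatingGroup α)) hne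
        have hcardM : Nat.card (M'.subgroupOf (alternatingGroup α)) = Nat.card M' :=
          Nat.card_congr (Subgroup.subgroupOfEquivOfLe hM'A).toEquiv
        have hidx := Subgroup.index_mul_card (M'.subgroupOf (alternatingGroup α))
        rw [hcardM, hcardA] at hidx
        rw [hcardA] at hdvd
        -- 4 ∣ |M'|
        have h4 : 4 ∣ Nat.card M' := by
          have h1 : Nat.card R ∣ Nat.card M' := Subgroup.card_dvd_of_le hRM'
          have h2 : 2 ^ 2 ∣ Nat.card R := by
            rw [hR.2]
            apply pow_dvd_pow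
            apply (Nat.prime_two.pow_dvd_iff_le_factorization (Nat.card_pos.ne')).mp
            rw [hG, hcardA]; norm_num
          exact dvd_trans (by norm_num at h2 ⊢; exact h2) h1
        -- 5 ∣ |M'|
        have h5' : 5 ∣ Nat.card M' := by
          have horb : MulAction.orbit ↥M' a = Set.univ := by
            rw [Set.eq_univ_iff_forall]
            intro x
            obtain ⟨g, hg, hgx⟩ := hto x
            refine ⟨⟨g⁻¹, M'.inv_mem hg⟩, ?_⟩
            show (g⁻¹ : Perm α) a = x
            rw [← hgx]; simp
          have h1 : (MulAction.stabilizer ↥M' a).index = 5 := by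
            rw [MulAction.index_stabilizer, horb, Set.ncard_univ, Nat.card_eq_fintype_card, hn5]
          rw [← h1]
          exact Subgroup.index_dvd_card _
        have h20 : 20 ∣ Nat.card M' :=
          Nat.Coprime.mul_dvd_of_dvd_of_dvd (by norm_num : Nat.Coprime 4 5) h4 h5'
        obtain ⟨c, hc⟩ := h20
        set i := (M'.subgroupOf (alternatingGroup α)).index with hi
        have hi3 : i * c = 3 := by
          rw [hc] at hidx
          have : 20 * (i * c) = 20 * 3 := by
            have e : 20 * (i * c) = i * (20 * c) := by ring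
            rw [e, hidx]
          exact Nat.eq_of_mul_eq_mul_left (by norm_num) this
        have hile : i ≤ 3 := by
          have hcpos : 0 < c := by
            rcases Nat.eq_zero_or_pos c with h | h
            · rw [h] at hi3; omega
            · exact h
          calc i = i * 1 := (mul_one i).symm
            _ ≤ i * c := Nat.mul_le_mul_left i hcpos
            _ = 3 := hi3
        have hfac : i.factorial ≤ 6 := by
          calc i.factorial ≤ (3 : ℕ).factorial := Nat.factorial_le hile
            _ = 6 := by decide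
        have hpos : 0 < i.factorial := Nat.factorial_pos i
        have := Nat.le_of_dvd hpos hdvd
        omega
      · -- n ≥ 9: Marggraf
        have hk3 : 3 ≤ k := by omega
        have h8k : 8 ≤ 2 ^ k := by
          calc 8 = 2 ^ 3 := by norm_num
            _ ≤ 2 ^ k := Nat.pow_le_pow_right (by norm_num) hk3
        obtain ⟨B0, hB0⟩ := Finset.exists_subset_card_eq
          (show 4 ≤ (Finset.univ : Finset α).card by rw [Finset.card_univ]; omega)
        obtain ⟨Q, hQ⟩ := exists_isSyl 2 (altFix B0)
        have hQtr : ∀ x ∈ B0, ∀ y ∈ B0, ∃ r ∈ Q, r x = y := by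
          apply syl_transitive hQ B0 2 (by rw [hB0.2]; norm_num)
          · intro h hh x hx
            by_contra hcon
            have h1 := hh.2 _ hcon
            have := h.injective h1
            rw [this] at hcon
            exact hcon hx
          · intro x hx y hy
            by_cases hxy : x = y
            · exact ⟨1, (altFix B0).one_mem, by simp [hxy]⟩
            · obtain ⟨w, hw, hwx, hwy⟩ := exists_third B0 (by omega) x y
              refine ⟨swap x w * swap x y, ⟨threeCycle_mem_alt (Ne.symm hwx) hxy hwy, ?_⟩,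
                cyc3_apply hxy (Ne.symm hwy)⟩
              intro t ht
              exact cyc3_apply_of_ne (fun h => ht (h ▸ hx)) (fun h => ht (h ▸ hy))
                (fun h => ht (h ▸ hw))
        have hQG : Q ≤ G := fun q hq => hA (hQ.1 hq).1
        obtain ⟨c, hcG, hc⟩ := hR.exists_conj_le hQG hQ.isPGroup
        set Γ : Finset α := B0.map (c⁻¹ : Perm α).toEmbedding with hΓ
        have hΓmem : ∀ x, x ∈ Γ ↔ c x ∈ B0 := by
          intro x
          rw [hΓ, Finset.mem_map]
          constructor
          · rintro ⟨y, hy, rfl⟩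
            simpa using hy
          · intro hx
            exact ⟨c x, hx, by simp⟩
        have hJ : IsJ M' Γ := by
          intro a' ha' b' hb'
          rw [hΓmem] at ha' hb'
          obtain ⟨y, hy, hyab⟩ := hQtr _ ha' _ hb'
          refine ⟨c⁻¹ * y * c, hRM' (hc y hy), ?_, ?_⟩
          · intro x hx
            rw [hΓmem] at hx
            rw [Perm.mul_apply, Perm.mul_apply, (hQ.1 hy).2 _ hx]; simp
          · rw [Perm.mul_apply, Perm.mul_apply, hyab]; simp
        have hAM := marggraf (Fintype.card α) α rfl M' hTT.qp Γ hJ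
          (by rw [hΓ, Finset.card_map, hB0.2]; norm_num)
          (by rw [hΓ, Finset.card_map, hB0.2]; omega)
        exact (not_le_of_gt (hG ▸ hM'.1)) hAM
    · -- G = ⊤: R contains a transposition
      obtain ⟨p, q, hpq⟩ : ∃ p q : α, p ≠ q := by
        have hnt : Nontrivial α := by
          rw [← Fintype.one_lt_card_iff_nontrivial]; omega
        exact exists_pair_ne α
      have hQ2 : IsPGroup 2 (Subgroup.zpowers (swap p q)) := by
        apply IsPGroup.of_card (n := 1)
        rw [Nat.card_zpowers, pow_one, Equiv.Perm.IsSwap.orderOf ⟨p, q, hpq, rfl⟩]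
      obtain ⟨c, hcG, hc⟩ := hR.exists_conj_le (by rw [hG]; exact le_top) hQ2
      have hsw : swap (c⁻¹ p) (c⁻¹ q) ∈ M' := by
        have h1 := hRM' (hc (swap p q) (Subgroup.mem_zpowers _))
        rw [swap_apply_apply]
        simpa using h1
      have hpq' : c⁻¹ p ≠ c⁻¹ q := fun h => hpq ((c⁻¹ : Perm α).injective h)
      have hall : ∀ σ : Perm α, σ.IsSwap → σ ∈ M' := by
        rintro σ ⟨x, y, hxy, rfl⟩
        obtain ⟨g, hg, hgx, hgy⟩ := hTT _ _ x y hpq' hxy
        have h1 := M'.mul_mem (M'.mul_mem hg hsw) (M'.inv_mem hg)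
        rw [← swap_apply_apply, hgx, hgy] at h1
        exact h1
      have htop : M' = ⊤ := by
        rw [eq_top_iff, ← closure_isSwap, Subgroup.closure_le]
        exact hall
      rw [hG, htop] at hM'
      exact lt_irrefl _ hM'.1

end Cfsg.Agent.Lib.Helper38.SylTwo
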