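import Mathlib
import Cfsg.Agent.Lib.Helper38.SylTwoH

set_option autoImplicit false
set_option linter.unusedSectionVars false
set_option linter.unusedVariables false

/-! Assembly: Sylow 2-subgroups of `S_n` and `A_n` lie in a unique maximal subgroup iff
`n = 2 ^ k + 1`. -/

namespace Cfsg.Agent.Lib.Helper38.SylTwo

open Equiv Equiv.Perm
open Cfsg.Agent.Lib.Helper61.Miller (IsSyl)

theorem main_top (n : ℕ) (hn : 5 ≤ n) (h6 : n ≠ 6) (R : Sylow 2 (Perm (Fin n))) :
    (∃! M : Subgroup (Perm (Fin n)), IsCoatom M ∧ (R : Subgroup (Perm (Fin n))) ≤ M) ↔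
      ∃ k : ℕ, 2 ≤ k ∧ n = 2 ^ k + 1 := by
  have : Fact (Nat.Prime 2) := ⟨Nat.prime_two⟩
  have hR : IsSyl 2 (⊤ : Subgroup (Perm (Fin n))) (R : Subgroup (Perm (Fin n))) :=
    ⟨le_top, by rw [Subgroup.card_top]; exact R.card_eq_multiplicity⟩
  have hcard : Fintype.card (Fin n) = n := Fintype.card_fin n
  constructor
  · rintro ⟨M, ⟨hM, hRM⟩, huniq⟩
    obtain ⟨k, hk, hkn⟩ := forward (⊤ : Subgroup (Perm (Fin n))) le_top
      (fun s hs hsc hc => hCS_top s hs hsc hc) (by omega) (by omega) _ hR M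
      ((isCoatom_iff_isMaxIn_top M).mp hM) hRM
      (fun M' hM' hRM' => huniq M' ⟨(isCoatom_iff_isMaxIn_top M').mpr hM', hRM'⟩)
    exact ⟨k, hk, by omega⟩
  · rintro ⟨k, hk, hkn⟩
    obtain ⟨M, hM, hRM, huniq⟩ := backward (⊤ : Subgroup (Perm (Fin n))) le_top
      (fun s hs hsc hc => hCS_top s hs hsc hc) k hk (by omega) _ hR
    refine ⟨M, ⟨(isCoatom_iff_isMaxIn_top M).mpr hM, hRM⟩, ?_⟩
    rintro M' ⟨hM', hRM'⟩
    exact huniq M' ((isCoatom_iff_isMaxIn_top M').mp hM') hRM'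

theorem main_alt_aux (n : ℕ) (hn : 5 ≤ n) (h6 : n ≠ 6) (A : Subgroup (Perm (Fin n)))
    (hAeq : A = alternatingGroup (Fin n)) (R : Sylow 2 ↥A) :
    (∃! M : Subgroup ↥A, IsCoatom M ∧ (R : Subgroup ↥A) ≤ M) ↔
      ∃ k : ℕ, 2 ≤ k ∧ n = 2 ^ k + 1 := by
  have : Fact (Nat.Prime 2) := ⟨Nat.prime_two⟩
  set R' : Subgroup (Perm (Fin n)) := (R : Subgroup ↥A).map A.subtype with hR'
  have hR : IsSyl 2 A R' := by
    refine ⟨Subgroup.map_subtype_le _, ?_⟩
    rw [hR', Subgroup.card_map_of_injective A.subtype_injective]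
    exact R.card_eq_multiplicity
  have hAle : alternatingGroup (Fin n) ≤ A := by rw [hAeq]
  have hCS : ∀ s : Finset (Fin n), s.Nonempty → sᶜ.Nonempty → Fintype.card (Fin n) ≠ 2 * s.card →
      IsMaxIn A (A ⊓ Cfsg.Agent.Lib.Helper38.SylThree.setStab s) := by
    intro s hs hsc hc
    rw [hAeq]
    exact hCS_alt s hs hsc hc
  have hcard : Fintype.card (Fin n) = n := Fintype.card_fin n
  have hback : ∀ K : Subgroup ↥A, (K.map A.subtype).subgroupOf A = K := fun K =>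
    Subgroup.comap_map_eq_self_of_injective A.subtype_injective K
  have hle : ∀ K : Subgroup ↥A, ((R : Subgroup ↥A) ≤ K ↔ R' ≤ K.map A.subtype) := by
    intro K
    constructor
    · intro h
      exact Subgroup.map_mono h
    · intro h x hx
      have h1 : (x : Perm (Fin n)) ∈ K.map A.subtype := h ⟨x, hx, rfl⟩
      obtain ⟨y, hy, hyx⟩ := h1
      have : y = x := Subtype.ext hyx
      rwa [← this]
  constructor
  · rintro ⟨M, ⟨hM, hRM⟩, huniq⟩
    obtain ⟨k, hk, hkn⟩ := forward A hAle hCS (by omega) (by omega) R' hR (M.map A.subtype)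
      ((isCoatom_iff_isMaxIn_map A M).mp hM) ((hle M).mp hRM)
      (by
        intro M2 hM2 hRM2
        have hM2A : M2 ≤ A := hM2.1.le
        have hmap : (M2.subgroupOf A).map A.subtype = M2 := by
          rw [Subgroup.subgroupOf_map_subtype, inf_of_le_left hM2A]
        have h1 : IsCoatom (M2.subgroupOf A) := by
          rw [isCoatom_iff_isMaxIn_map, hmap]; exact hM2
        have h2 : (R : Subgroup ↥A) ≤ M2.subgroupOf A := by
          rw [hle, hmap]; exact hRM2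
        have h3 := huniq _ ⟨h1, h2⟩
        rw [← h3, hmap])
    exact ⟨k, hk, by omega⟩
  · rintro ⟨k, hk, hkn⟩
    obtain ⟨M0, hM0, hRM0, huniq⟩ := backward A hAle hCS k hk (by omega) R' hR
    have hM0A : M0 ≤ A := hM0.1.le
    have hmap : (M0.subgroupOf A).map A.subtype = M0 := by
      rw [Subgroup.subgroupOf_map_subtype, inf_of_le_left hM0A]
    refine ⟨M0.subgroupOf A, ⟨?_, ?_⟩, ?_⟩
    · rw [isCoatom_iff_isMaxIn_map, hmap]; exact hM0
    · rw [hle, hmap]; exact hRM0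
    · rintro M2 ⟨hM2, hRM2⟩
      have h1 := huniq (M2.map A.subtype) ((isCoatom_iff_isMaxIn_map A M2).mp hM2) ((hle M2).mp hRM2)
      rw [← h1, hback]

theorem main_alt (n : ℕ) (hn : 5 ≤ n) (h6 : n ≠ 6) (R : Sylow 2 ↥(alternatingGroup (Fin n))) :
    (∃! M : Subgroup ↥(alternatingGroup (Fin n)),
        IsCoatom M ∧ (R : Subgroup ↥(alternatingGroup (Fin n))) ≤ M) ↔
      ∃ k : ℕ, 2 ≤ k ∧ n = 2 ^ k + 1 :=
  main_alt_aux n hn h6 (alternatingGroup (Fin n)) rfl R

end Cfsg.Agent.Lib.Helper38.SylTwo
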