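import Mathlib
import Cfsg.Agent.Lib.Helper99.SympForm
import Cfsg.Agent.Lib.Helper59.TqDefs
import Cfsg.Agent.Lib.Helper48.TqDEREVENDefs

/-! # TQ-DEREVEN, leaf DE-MODA (helper38, for helper48's sub-hive of helper59's Tq hive)

`dereven_nd`, `dereven_isom`, `dereven_g_pow`: the model form is nondegenerate, the model map is an
isometry, and the powers of the model map. -/

set_option autoImplicit false

namespace Cfsg.Agent.Lib.Helper59.Tq

open Module Polynomial
open Cfsg.Agent.Lib.Helper99

section leaves2

variable {F : Type*} [Field F] {W : Type*} [AddCommGroup W] [Module F W]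
  {C : Type*} [AddCommGroup C] [Module F C]

/-- a power of an isometry is an isometry -/
theorem demoda_pow_isom (Q0 : QuadraticForm F W) (y : Module.End F W)
    (hy : ∀ v, Q0 (y v) = Q0 v) (k : ℕ) (v : W) : Q0 ((y ^ k) v) = Q0 v := by
  induction k generalizing v with
  | zero => rw [pow_zero, Module.End.one_apply]
  | succ k ih => rw [pow_succ, Module.End.mul_apply, ih, hy]

/-- DE-MODA (1): the model form is nondegenerate -/
theorem dereven_nd (Q0 : QuadraticForm F W) (Qc : QuadraticForm F C) (N : ℕ)
    (h0 : Nd (QuadraticMap.polarBilin Q0) ⊤) (hc : Nd (QuadraticMap.polarBilin Qc) ⊤) :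
    Nd (QuadraticMap.polarBilin (dereven_Q Q0 Qc N)) ⊤ := by
  classical
  intro u _ hu
  have hu' : ∀ v : (Fin N → W) × C,
      ∑ l, QuadraticMap.polar Q0 (u.1 l) (v.1 l) + QuadraticMap.polar Qc u.2 v.2 = 0 := by
    intro v
    have := hu v Submodule.mem_top
    rwa [QuadraticMap.polarBilin_apply_apply, dereven_polar] at this
  apply Prod.ext
  · funext l
    show u.1 l = 0
    apply h0 (u.1 l) Submodule.mem_top
    intro w' _
    have h1 := hu' (Pi.single l w', 0)
    rw [QuadraticMap.polarBilin_apply_apply]
    have h2 : ∑ l', QuadraticMap.polar Q0 (u.1 l') ((Pi.single l w' : Fin N → W) l') =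
        QuadraticMap.polar Q0 (u.1 l) w' := by
      rw [Finset.sum_eq_single l]
      · rw [Pi.single_eq_same]
      · intro l' _ hl'
        rw [Pi.single_eq_of_ne hl', QuadraticMap.polar_zero_right]
      · intro h
        exact absurd (Finset.mem_univ l) h
    simp only at h1
    rw [h2, QuadraticMap.polar_zero_right, add_zero] at h1
    exact h1
  · show u.2 = 0
    apply hc u.2 Submodule.mem_top
    intro c' _
    have h1 := hu' (0, c')
    rw [QuadraticMap.polarBilin_apply_apply]
    have h2 : ∑ l', QuadraticMap.polar Q0 (u.1 l') ((0 : Fin N → W) l') = 0 := by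
      apply Finset.sum_eq_zero
      intro l' _
      rw [Pi.zero_apply, QuadraticMap.polar_zero_right]
    simp only at h1
    rw [h2, zero_add] at h1
    exact h1

/-- DE-MODA (2): the model map is an isometry -/
theorem dereven_isom (Q0 : QuadraticForm F W) (Qc : QuadraticForm F C) {N : ℕ}
    (y : Module.End F W) (hy : ∀ v, Q0 (y v) = Q0 v) (s : Fin N → ℕ) (m : (Fin N → W) × C) :
    dereven_Q Q0 Qc N (dereven_g C y s m) = dereven_Q Q0 Qc N m := by
  rw [dereven_Q_apply, dereven_Q_apply, dereven_g_apply]
  congr 1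
  apply Finset.sum_congr rfl
  intro l _
  show Q0 (dereven_gR y s m.1 l) = Q0 (m.1 l)
  rw [dereven_gR_apply, demoda_pow_isom Q0 y hy]

/-- DE-MODA (3): powers of the model map -/
theorem dereven_g_pow {N : ℕ} (y : Module.End F W) (s : Fin N → ℕ) (n : ℕ)
    (m : (Fin N → W) × C) :
    ((dereven_g C y s) ^ n) m = (fun l => ((y ^ s l) ^ n) (m.1 l), m.2) := by
  induction n generalizing m with
  | zero =>
    rw [pow_zero, Module.End.one_apply]
    apply Prod.ext
    · funext l
      show m.1 l = ((y ^ s l) ^ 0) (m.1 l)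
      rw [pow_zero, Module.End.one_apply]
    · rfl
  | succ n ih =>
    rw [pow_succ, Module.End.mul_apply, ih, dereven_g_apply]
    apply Prod.ext
    · funext l
      show ((y ^ s l) ^ n) (dereven_gR y s m.1 l) = ((y ^ s l) ^ (n + 1)) (m.1 l)
      rw [dereven_gR_apply, pow_succ, Module.End.mul_apply]
    · rfl

end leaves2

end Cfsg.Agent.Lib.Helper59.Tq
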