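import Mathlib
import Cfsg.Agent.Lib.Helper38.SelfNormA

set_option autoImplicit false
set_option linter.unusedSectionVars false

/-! Permutations supported in a finset, restriction of a permutation to an invariant finset, and the
decomposition of a permutation along the orbits of a group. -/

namespace Cfsg.Agent.Lib.Helper38.Wr

open Equiv Equiv.Perm
open Cfsg.Agent.Lib.Helper38.SylThree (setStab mem_setStab_of_forall)
open Cfsg.Agent.Lib.Helper38.SylTwo
open Cfsg.Agent.Lib.Helper38.SelfNorm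

variable {α : Type*} [Fintype α] [DecidableEq α]

/-- permutations supported in `Δ` -/
def suppIn (Δ : Finset α) : Subgroup (Perm α) where
  carrier := {g | ∀ x, x ∉ Δ → g x = x}
  mul_mem' := by
    intro a b ha hb x hx
    rw [Perm.mul_apply, hb x hx, ha x hx]
  one_mem' := by intro x _; rfl
  inv_mem' := by
    intro a ha x hx
    rw [Perm.inv_eq_iff_eq, ha x hx]

theorem mem_suppIn (Δ : Finset α) (g : Perm α) : g ∈ suppIn Δ ↔ ∀ x, x ∉ Δ → g x = x := Iff.rfl

theorem suppIn_le_setStab (Δ : Finset α) : suppIn Δ ≤ setStab Δ := by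
  intro g hg
  rw [mem_setStab_iff]
  intro x
  constructor
  · intro hgx
    by_contra hx
    rw [hg x hx] at hgx
    exact hx hgx
  · intro hx
    by_contra hgx
    have h1 := hg (g x) hgx
    have h2 := g.injective h1
    rw [h2] at hgx
    exact hgx hx

theorem suppIn_mono {Δ Δ' : Finset α} (h : Δ ⊆ Δ') : suppIn Δ ≤ suppIn Δ' :=
  fun _ hg x hx => hg x (fun hx' => hx (h hx'))

theorem suppIn_univ : suppIn (Finset.univ : Finset α) = ⊤ := by
  rw [eq_top_iff]
  intro g _ x hx
  exact absurd (Finset.mem_univ x) hx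

theorem setStab_compl (Δ : Finset α) : setStab Δᶜ = setStab Δ := by
  ext g
  rw [mem_setStab_iff, mem_setStab_iff]
  constructor
  · intro hg x
    have := hg x
    simp only [Finset.mem_compl] at this
    tauto
  · intro hg x
    have := hg x
    simp only [Finset.mem_compl]
    tauto

theorem apply_mem_of_mem_setStab {Δ : Finset α} {g : Perm α} (hg : g ∈ setStab Δ) {x : α}
    (hx : x ∈ Δ) : g x ∈ Δ := ((mem_setStab_iff Δ g).1 hg x).2 hx

theorem apply_not_mem_of_mem_setStab {Δ : Finset α} {g : Perm α} (hg : g ∈ setStab Δ) {x : α}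
    (hx : x ∉ Δ) : g x ∉ Δ := fun h => hx (((mem_setStab_iff Δ g).1 hg x).1 h)

/-- restriction of a permutation to an invariant set -/
noncomputable def res (Δ : Finset α) (g : Perm α) : Perm α := by
  classical
  exact if h : g ∈ setStab Δ then
    ofSubtype (g.subtypePerm (p := fun x => x ∈ Δ) ((mem_setStab_iff Δ g).1 h)) else 1

theorem res_apply_of_mem {Δ : Finset α} {g : Perm α} (hg : g ∈ setStab Δ) {x : α} (hx : x ∈ Δ) :
    res Δ g x = g x := by
  unfold res
  rw [dif_pos hg]
  exact ofSubtype_subtypePerm_of_mem (p := fun x => x ∈ Δ) _ hx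

theorem res_apply_of_not_mem (Δ : Finset α) (g : Perm α) {x : α} (hx : x ∉ Δ) :
    res Δ g x = x := by
  unfold res
  split_ifs with hg
  · exact ofSubtype_subtypePerm_of_not_mem (p := fun x => x ∈ Δ) _ hx
  · rfl

theorem res_mem_suppIn (Δ : Finset α) (g : Perm α) : res Δ g ∈ suppIn Δ :=
  fun _ hx => res_apply_of_not_mem Δ g hx

theorem res_mul {Δ : Finset α} {g h : Perm α} (hg : g ∈ setStab Δ) (hh : h ∈ setStab Δ) :
    res Δ (g * h) = res Δ g * res Δ h := by
  ext x
  by_cases hx : x ∈ Δ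
  · have hhx : h x ∈ Δ := apply_mem_of_mem_setStab hh hx
    rw [res_apply_of_mem ((setStab Δ).mul_mem hg hh) hx, Perm.mul_apply, Perm.mul_apply,
      res_apply_of_mem hh hx, res_apply_of_mem hg hhx]
  · rw [res_apply_of_not_mem _ _ hx, Perm.mul_apply, res_apply_of_not_mem _ _ hx,
      res_apply_of_not_mem _ _ hx]

theorem res_one (Δ : Finset α) : res Δ (1 : Perm α) = 1 := by
  ext x
  by_cases hx : x ∈ Δ
  · rw [res_apply_of_mem (one_mem _) hx]
  · rw [res_apply_of_not_mem _ _ hx]; rfl

theorem res_eq_self {Δ : Finset α} {g : Perm α} (hg : g ∈ suppIn Δ) : res Δ g = g := by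
  ext x
  by_cases hx : x ∈ Δ
  · rw [res_apply_of_mem (suppIn_le_setStab Δ hg) hx]
  · rw [res_apply_of_not_mem _ _ hx, hg x hx]

/-- restriction as a homomorphism on the setwise stabiliser -/
noncomputable def resHom (Δ : Finset α) : ↥(setStab Δ) →* Perm α where
  toFun g := res Δ g
  map_one' := res_one Δ
  map_mul' g h := res_mul g.2 h.2

theorem resHom_apply (Δ : Finset α) (g : ↥(setStab Δ)) : resHom Δ g = res Δ g := rfl

theorem res_inv {Δ : Finset α} {g : Perm α} (hg : g ∈ setStab Δ) :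
    res Δ g⁻¹ = (res Δ g)⁻¹ := by
  have := map_inv (resHom Δ) ⟨g, hg⟩
  exact this

theorem res_mul_res {Δ₁ Δ₂ : Finset α} (hd : Disjoint Δ₁ Δ₂) {g : Perm α}
    (hg₁ : g ∈ setStab Δ₁) (hg₂ : g ∈ setStab Δ₂) (hg : g ∈ suppIn (Δ₁ ∪ Δ₂)) :
    res Δ₁ g * res Δ₂ g = g := by
  ext x
  rw [Perm.mul_apply]
  by_cases hx₁ : x ∈ Δ₁
  · have hx₂ : x ∉ Δ₂ := Finset.disjoint_left.1 hd hx₁
    rw [res_apply_of_not_mem _ _ hx₂, res_apply_of_mem hg₁ hx₁]
  · by_cases hx₂ : x ∈ Δ₂
    · have hgx : g x ∈ Δ₂ := apply_mem_of_mem_setStab hg₂ hx₂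
      have hgx₁ : g x ∉ Δ₁ := Finset.disjoint_right.1 hd hgx
      rw [res_apply_of_mem hg₂ hx₂, res_apply_of_not_mem _ _ hgx₁]
    · rw [res_apply_of_not_mem _ _ hx₂, res_apply_of_not_mem _ _ hx₁]
      symm
      apply hg
      rw [Finset.mem_union]
      tauto

theorem res_mul_res_compl {Δ : Finset α} {g : Perm α} (hg : g ∈ setStab Δ) :
    res Δ g * res Δᶜ g = g := by
  apply res_mul_res disjoint_compl_right hg (by rw [setStab_compl]; exact hg)
  intro x hx
  exfalso
  apply hx
  rw [Finset.mem_union, Finset.mem_compl]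
  tauto

theorem commute_of_disjoint {Δ₁ Δ₂ : Finset α} (hd : Disjoint Δ₁ Δ₂) {g h : Perm α}
    (hg : g ∈ suppIn Δ₁) (hh : h ∈ suppIn Δ₂) : g * h = h * g := by
  ext x
  rw [Perm.mul_apply, Perm.mul_apply]
  by_cases hx₁ : x ∈ Δ₁
  · have hx₂ : x ∉ Δ₂ := Finset.disjoint_left.1 hd hx₁
    have hgx : g x ∈ Δ₁ := apply_mem_of_mem_setStab (suppIn_le_setStab _ hg) hx₁
    have hgx₂ : g x ∉ Δ₂ := Finset.disjoint_left.1 hd hgx
    rw [hh x hx₂, hh (g x) hgx₂]
  · by_cases hx₂ : x ∈ Δ₂
    · have hhx : h x ∈ Δ₂ := apply_mem_of_mem_setStab (suppIn_le_setStab _ hh) hx₂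
      have hhx₁ : h x ∉ Δ₁ := Finset.disjoint_right.1 hd hhx
      rw [hg x hx₁, hg (h x) hhx₁]
    · rw [hh x hx₂, hg x hx₁, hh x hx₂]

theorem eq_one_of_mem_suppIn_of_disjoint {Δ₁ Δ₂ : Finset α} (hd : Disjoint Δ₁ Δ₂) {g : Perm α}
    (h₁ : g ∈ suppIn Δ₁) (h₂ : g ∈ suppIn Δ₂) : g = 1 := by
  ext x
  by_cases hx : x ∈ Δ₁
  · exact h₂ x (Finset.disjoint_left.1 hd hx)
  · exact h₁ x hx

theorem conj_mem_suppIn {Δ : Finset α} {g : Perm α} (hg : g ∈ suppIn Δ) (w : Perm α) :
    w * g * w⁻¹ ∈ suppIn (Δ.image w) := by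
  intro x hx
  have h1 : w⁻¹ x ∉ Δ := by
    intro h
    apply hx
    rw [Finset.mem_image]
    exact ⟨w⁻¹ x, h, by simp⟩
  rw [Perm.mul_apply, Perm.mul_apply, hg _ h1]
  simp

theorem conj_mem_setStab {Δ : Finset α} {g : Perm α} (hg : g ∈ setStab Δ) (w : Perm α) :
    w * g * w⁻¹ ∈ setStab (Δ.image w) := by
  apply mem_setStab_of_forall
  intro x hx
  obtain ⟨y, hy, rfl⟩ := Finset.mem_image.1 hx
  rw [Finset.mem_image]
  refine ⟨g y, apply_mem_of_mem_setStab hg hy, ?_⟩
  simp

theorem conj_res {Δ : Finset α} {g : Perm α} (hg : g ∈ setStab Δ) (w : Perm α) :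
    w * res Δ g * w⁻¹ = res (Δ.image w) (w * g * w⁻¹) := by
  have hmem := conj_mem_setStab hg w
  ext x
  by_cases hx : x ∈ Δ.image w
  · obtain ⟨y, hy, rfl⟩ := Finset.mem_image.1 hx
    rw [res_apply_of_mem hmem hx]
    simp only [Perm.mul_apply]
    have e : w⁻¹ (w y) = y := by simp
    rw [e, res_apply_of_mem hg hy]
  · rw [res_apply_of_not_mem _ _ hx]
    have h1 : w⁻¹ x ∉ Δ := by
      intro h; apply hx; rw [Finset.mem_image]; exact ⟨w⁻¹ x, h, by simp⟩
    simp only [Perm.mul_apply]
    rw [res_apply_of_not_mem _ _ h1]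
    simp

/-- two restrictions to the same set agree if the permutations agree there -/
theorem res_congr {Δ : Finset α} {g h : Perm α} (hg : g ∈ setStab Δ) (hh : h ∈ setStab Δ)
    (heq : ∀ x ∈ Δ, g x = h x) : res Δ g = res Δ h := by
  ext x
  by_cases hx : x ∈ Δ
  · rw [res_apply_of_mem hg hx, res_apply_of_mem hh hx, heq x hx]
  · rw [res_apply_of_not_mem _ _ hx, res_apply_of_not_mem _ _ hx]

theorem res_eq_one_of_fix {Δ : Finset α} {g : Perm α} (heq : ∀ x ∈ Δ, g x = x) : res Δ g = 1 := by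
  have hg : g ∈ setStab Δ := mem_setStab_of_forall Δ g (fun x hx => by rw [heq x hx]; exact hx)
  ext x
  by_cases hx : x ∈ Δ
  · rw [res_apply_of_mem hg hx, heq x hx]; rfl
  · rw [res_apply_of_not_mem _ _ hx]; rfl

/-- **Orbit decomposition.** A permutation preserving the orbits of `T`, all of whose restrictions
to the orbits lie in a subgroup `H`, lies in `H`. -/
theorem mem_of_orb_res (T H : Subgroup (Perm α)) :
    ∀ (n : ℕ) (z : Perm α), z.support.card = n → (∀ y, z ∈ setStab (orb T y)) →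
      (∀ y, res (orb T y) z ∈ H) → z ∈ H := by
  intro n
  induction n using Nat.strong_induction_on with
  | _ n ih =>
    intro z hn hz h
    by_cases h1 : z = 1
    · rw [h1]; exact one_mem _
    obtain ⟨x, hx⟩ : ∃ x, z x ≠ x := by
      by_contra hcon
      push Not at hcon
      exact h1 (Perm.ext hcon)
    have hzO : z ∈ setStab (orb T x) := hz x
    have hzO' : z ∈ setStab (orb T x)ᶜ := by rw [setStab_compl]; exact hzO
    have hzeq : res (orb T x) z * res (orb T x)ᶜ z = z := res_mul_res_compl hzO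
    have hsub : (res (orb T x)ᶜ z).support ⊆ z.support := by
      intro y hy
      rw [Perm.mem_support] at hy ⊢
      by_cases hyO : y ∈ (orb T x)ᶜ
      · rw [res_apply_of_mem hzO' hyO] at hy
        exact hy
      · exact absurd (res_apply_of_not_mem _ _ hyO) hy
    have hxn : x ∉ (res (orb T x)ᶜ z).support := by
      rw [Perm.mem_support, not_not]
      apply res_apply_of_not_mem
      rw [Finset.mem_compl, not_not]
      exact self_mem_orb T x
    have hlt : (res (orb T x)ᶜ z).support.card < n := by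
      rw [← hn]
      apply Finset.card_lt_card
      rw [Finset.ssubset_iff_of_subset hsub]
      exact ⟨x, Perm.mem_support.2 hx, hxn⟩
    have hz' : ∀ y, res (orb T x)ᶜ z ∈ setStab (orb T y) := by
      intro y
      apply mem_setStab_of_forall
      intro w hw
      by_cases hwO : w ∈ orb T x
      · rw [res_apply_of_not_mem _ _ (by rw [Finset.mem_compl, not_not]; exact hwO)]
        exact hw
      · rw [res_apply_of_mem hzO' (by rw [Finset.mem_compl]; exact hwO)]
        exact apply_mem_of_mem_setStab (hz y) hw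
    have h' : ∀ y, res (orb T y) (res (orb T x)ᶜ z) ∈ H := by
      intro y
      by_cases hy : y ∈ orb T x
      · rw [orb_eq_of_mem hy]
        have : res (orb T x) (res (orb T x)ᶜ z) = 1 := by
          apply res_eq_one_of_fix
          intro w hw
          apply res_apply_of_not_mem
          rw [Finset.mem_compl, not_not]
          exact hw
        rw [this]
        exact one_mem _
      · have hd := orb_disjoint hy
        have : res (orb T y) (res (orb T x)ᶜ z) = res (orb T y) z := by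
          apply res_congr (hz' y) (hz y)
          intro w hw
          apply res_apply_of_mem hzO'
          rw [Finset.mem_compl]
          exact Finset.disjoint_right.1 hd hw
        rw [this]
        exact h y
    have hmem := ih _ hlt (res (orb T x)ᶜ z) rfl hz' h'
    rw [← hzeq]
    exact H.mul_mem (h x) hmem

theorem mem_of_orb_res' (T H : Subgroup (Perm α)) (z : Perm α) (hz : ∀ y, z ∈ setStab (orb T y))
    (h : ∀ y, res (orb T y) z ∈ H) : z ∈ H :=
  mem_of_orb_res T H _ z rfl hz h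

theorem mem_setStab_orb {T : Subgroup (Perm α)} {z : Perm α} (hz : z ∈ T) (y : α) :
    z ∈ setStab (orb T y) :=
  mem_setStab_of_forall _ _ (orb_inv T y z hz)

end Cfsg.Agent.Lib.Helper38.Wr
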