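import Mathlib
import Cfsg.Agent.Lib.Helper38.WrA

set_option autoImplicit false
set_option linter.unusedSectionVars false

/-! Maximal `2`-subgroups of the symmetric group on a finset: closure under restriction to
invariant subsets, and the relative half partition of a transitive `2`-group. -/

namespace Cfsg.Agent.Lib.Helper38.Wr

open Equiv Equiv.Perm
open Cfsg.Agent.Lib.Helper38.SylThree (setStab mem_setStab_of_forall)
open Cfsg.Agent.Lib.Helper38.SylTwo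
open Cfsg.Agent.Lib.Helper38.SelfNorm

variable {α : Type*} [Fintype α] [DecidableEq α]

/-- `W` is a maximal `2`-subgroup among the permutations supported in `Δ` -/
def IsMax2 (Δ : Finset α) (W : Subgroup (Perm α)) : Prop :=
  W ≤ suppIn Δ ∧ IsPGroup 2 W ∧
    ∀ R : Subgroup (Perm α), R ≤ suppIn Δ → IsPGroup 2 R → W ≤ R → R ≤ W

/-- commuting `2`-groups generate a `2`-group -/
theorem isPGroup_sup_of_commute {H K : Subgroup (Perm α)} (hH : IsPGroup 2 H) (hK : IsPGroup 2 K)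
    (hc : ∀ a ∈ H, ∀ b ∈ K, a * b = b * a) : IsPGroup 2 (H ⊔ K : Subgroup (Perm α)) := by
  have : Fact (Nat.Prime 2) := ⟨Nat.prime_two⟩
  apply IsPGroup.to_sup_of_normal_right' hH hK
  intro a ha
  rw [Subgroup.mem_normalizer_iff]
  intro b
  constructor
  · intro hb
    have e : a * b * a⁻¹ = b := by rw [hc a ha b hb]; group
    rw [e]; exact hb
  · intro hb
    have h1 := hc a ha _ hb
    have h2 : a * (a * b * a⁻¹) = a * b := by rw [h1]; group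
    have h3 := mul_left_cancel h2
    rw [← h3]; exact hb

theorem res_mem_suppIn_of_mem {Δ Δ₁ : Finset α} {w : Perm α} (hs : w ∈ setStab Δ₁)
    (hw : w ∈ suppIn Δ) : res Δ₁ w ∈ suppIn Δ := by
  intro x hx
  by_cases h1 : x ∈ Δ₁
  · rw [res_apply_of_mem hs h1]; exact hw x hx
  · exact res_apply_of_not_mem _ _ h1

/-- a maximal `2`-subgroup is closed under restriction to invariant sets -/
theorem res_mem {Δ : Finset α} {W : Subgroup (Perm α)} (hW : IsMax2 Δ W) (Δ₁ : Finset α)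
    (hinv : W ≤ setStab Δ₁) {w : Perm α} (hw : w ∈ W) : res Δ₁ w ∈ W := by
  have hinv' : W ≤ setStab Δ₁ᶜ := by rw [setStab_compl]; exact hinv
  set N₁ : Subgroup (Perm α) := (W.subgroupOf (setStab Δ₁)).map (resHom Δ₁) with hN₁
  set N₂ : Subgroup (Perm α) := (W.subgroupOf (setStab Δ₁ᶜ)).map (resHom Δ₁ᶜ) with hN₂
  have hN₁p : IsPGroup 2 N₁ := (hW.2.1.comap_subtype).map _
  have hN₂p : IsPGroup 2 N₂ := (hW.2.1.comap_subtype).map _
  have mem₁ : ∀ g, g ∈ N₁ ↔ ∃ v ∈ W, res Δ₁ v = g := by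
    intro g
    rw [hN₁, Subgroup.mem_map]
    constructor
    · rintro ⟨v, hv, rfl⟩
      exact ⟨v.1, Subgroup.mem_subgroupOf.1 hv, rfl⟩
    · rintro ⟨v, hv, rfl⟩
      exact ⟨⟨v, hinv hv⟩, Subgroup.mem_subgroupOf.2 hv, rfl⟩
  have mem₂ : ∀ g, g ∈ N₂ ↔ ∃ v ∈ W, res Δ₁ᶜ v = g := by
    intro g
    rw [hN₂, Subgroup.mem_map]
    constructor
    · rintro ⟨v, hv, rfl⟩
      exact ⟨v.1, Subgroup.mem_subgroupOf.1 hv, rfl⟩
    · rintro ⟨v, hv, rfl⟩
      exact ⟨⟨v, hinv' hv⟩, Subgroup.mem_subgroupOf.2 hv, rfl⟩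
  have hc : ∀ a ∈ N₁, ∀ b ∈ N₂, a * b = b * a := by
    intro a ha b hb
    obtain ⟨v, -, rfl⟩ := (mem₁ a).1 ha
    obtain ⟨v', -, rfl⟩ := (mem₂ b).1 hb
    exact commute_of_disjoint disjoint_compl_right (res_mem_suppIn _ _) (res_mem_suppIn _ _)
  have hp := isPGroup_sup_of_commute hN₁p hN₂p hc
  have hle : N₁ ⊔ N₂ ≤ suppIn Δ := by
    apply sup_le
    · intro g hg
      obtain ⟨v, hv, rfl⟩ := (mem₁ g).1 hg
      exact res_mem_suppIn_of_mem (hinv hv) (hW.1 hv)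
    · intro g hg
      obtain ⟨v, hv, rfl⟩ := (mem₂ g).1 hg
      exact res_mem_suppIn_of_mem (hinv' hv) (hW.1 hv)
  have hWle : W ≤ N₁ ⊔ N₂ := by
    intro v hv
    rw [← res_mul_res_compl (hinv hv)]
    exact Subgroup.mul_mem _ (Subgroup.mem_sup_left ((mem₁ _).2 ⟨v, hv, rfl⟩))
      (Subgroup.mem_sup_right ((mem₂ _).2 ⟨v, hv, rfl⟩))
  have h := hW.2.2 _ hle hp hWle
  exact h (Subgroup.mem_sup_left ((mem₁ _).2 ⟨w, hw, rfl⟩))

/-- the constituent on an invariant subset is again a maximal `2`-subgroup -/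
theorem IsMax2.inf_suppIn {Δ : Finset α} {W : Subgroup (Perm α)} (hW : IsMax2 Δ W) (Δ₁ : Finset α)
    (hsub : Δ₁ ⊆ Δ) (hinv : W ≤ setStab Δ₁) : IsMax2 Δ₁ (W ⊓ suppIn Δ₁) := by
  have hinv' : W ≤ setStab Δ₁ᶜ := by rw [setStab_compl]; exact hinv
  refine ⟨inf_le_right, hW.2.1.to_inf_left, ?_⟩
  intro R hR hRp hle
  have hc : ∀ a ∈ R, ∀ b ∈ W ⊓ suppIn Δ₁ᶜ, a * b = b * a :=
    fun a ha b hb => commute_of_disjoint disjoint_compl_right (hR ha) hb.2
  have hp := isPGroup_sup_of_commute hRp (hW.2.1.to_inf_left (K := suppIn Δ₁ᶜ)) hc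
  have hle' : R ⊔ (W ⊓ suppIn Δ₁ᶜ) ≤ suppIn Δ :=
    sup_le (hR.trans (suppIn_mono hsub)) (inf_le_left.trans hW.1)
  have hWle : W ≤ R ⊔ (W ⊓ suppIn Δ₁ᶜ) := by
    intro v hv
    rw [← res_mul_res_compl (hinv hv)]
    exact Subgroup.mul_mem _
      (Subgroup.mem_sup_left (hle ⟨res_mem hW Δ₁ hinv hv, res_mem_suppIn _ _⟩))
      (Subgroup.mem_sup_right ⟨res_mem hW Δ₁ᶜ hinv' hv, res_mem_suppIn _ _⟩)
  have h := hW.2.2 _ hle' hp hWle
  intro r hr
  exact ⟨h (Subgroup.mem_sup_left hr), hR hr⟩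

theorem isMax2_of_sylow (S : Sylow 2 (Perm α)) :
    IsMax2 (Finset.univ : Finset α) (S : Subgroup (Perm α)) := by
  refine ⟨by rw [suppIn_univ]; exact le_top, S.isPGroup', ?_⟩
  intro R _ hRp hle
  exact (S.is_maximal' hRp hle).le

/-- transitive maximal `2`-subgroup on `Δ` -/
def TS (Δ : Finset α) (W : Subgroup (Perm α)) : Prop :=
  IsMax2 Δ W ∧ ∀ x ∈ Δ, ∀ y ∈ Δ, ∃ w ∈ W, w x = y

theorem orb_subset {Δ : Finset α} {W : Subgroup (Perm α)} (hW : W ≤ suppIn Δ) {x : α}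
    (hx : x ∈ Δ) : orb W x ⊆ Δ := by
  intro y hy
  obtain ⟨w, hw, rfl⟩ := mem_orb.1 hy
  exact apply_mem_of_mem_setStab (suppIn_le_setStab Δ (hW hw)) hx

theorem le_setStab_orb (W : Subgroup (Perm α)) (x : α) : W ≤ setStab (orb W x) :=
  fun _ hw => mem_setStab_orb hw x

/-- the constituent of a maximal `2`-subgroup on an orbit -/
theorem ts_orb {Δ : Finset α} {W : Subgroup (Perm α)} (hW : IsMax2 Δ W) {x : α} (hx : x ∈ Δ) :
    TS (orb W x) (W ⊓ suppIn (orb W x)) := by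
  refine ⟨hW.inf_suppIn _ (orb_subset hW.1 hx) (le_setStab_orb W x), ?_⟩
  intro y hy y' hy'
  obtain ⟨w, hw, rfl⟩ := mem_orb.1 hy
  obtain ⟨w', hw', rfl⟩ := mem_orb.1 hy'
  have hv : w' * w⁻¹ ∈ W := W.mul_mem hw' (W.inv_mem hw)
  refine ⟨res (orb W x) (w' * w⁻¹), ⟨res_mem hW _ (le_setStab_orb W x) hv, res_mem_suppIn _ _⟩, ?_⟩
  rw [res_apply_of_mem (le_setStab_orb W x hv) hy]
  simp

/-- A transitive `2`-group on an invariant set with at least two points preserves a partition of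
it into two halves. -/
theorem exists_half (R : Subgroup (Perm α)) (hR : IsPGroup 2 R) (Δ : Finset α)
    (hinv : R ≤ setStab Δ) (htr : ∀ x ∈ Δ, ∀ y ∈ Δ, ∃ r ∈ R, r x = y) (h2 : 2 ≤ Δ.card) :
    ∃ Δ₁ : Finset α, Δ₁ ⊆ Δ ∧ Δ.card = 2 * Δ₁.card ∧
      ∀ r ∈ R, (∀ y ∈ Δ, (r y ∈ Δ₁ ↔ y ∈ Δ₁)) ∨ (∀ y ∈ Δ, (r y ∈ Δ₁ ↔ y ∉ Δ₁)) := by
  classical
  have : Fact (Nat.Prime 2) := ⟨Nat.prime_two⟩
  obtain ⟨x0, hx0, y0, hy0, hxy0⟩ := Finset.one_lt_card.1 (by omega : 1 < Δ.card)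
  obtain ⟨m, hm⟩ := IsPGroup.iff_card.mp hR
  set St := MulAction.stabilizer ↥R x0 with hSt
  have hSt_dvd : Nat.card St ∣ 2 ^ m := by rw [← hm]; exact Subgroup.card_subgroup_dvd_card _
  obtain ⟨j, hjm, hj⟩ := (Nat.dvd_prime_pow Nat.prime_two).mp hSt_dvd
  have hjlt : j < m := by
    rcases Nat.lt_or_ge j m with h | h
    · exact h
    · exfalso
      have hjm' : j = m := le_antisymm hjm h
      have htop : St = ⊤ := by
        apply Subgroup.eq_top_of_card_eq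
        rw [hj, hm, hjm']
      obtain ⟨r, hr, hrx⟩ := htr x0 hx0 y0 hy0
      have hmem : (⟨r, hr⟩ : ↥R) ∈ St := by rw [htop]; trivial
      rw [hSt, MulAction.mem_stabilizer_iff] at hmem
      apply hxy0
      rw [← hrx]
      exact hmem.symm
  obtain ⟨K, hKcard, hStK⟩ := Sylow.exists_subgroup_card_pow_prime_le 2
    (show 2 ^ (m - 1) ∣ Nat.card ↥R by rw [hm]; exact pow_dvd_pow 2 (Nat.sub_le m 1)) St hj
    (by omega)
  have hKidx : K.index = 2 := by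
    have h1 := Subgroup.index_mul_card K
    rw [hKcard, hm] at h1
    have h3 : (2 : ℕ) ^ m = 2 * 2 ^ (m - 1) := by
      rw [← pow_succ']; congr 1; omega
    rw [h3] at h1
    exact Nat.eq_of_mul_eq_mul_right (by positivity) h1
  set Δ₁ : Finset α := Δ.filter (fun y => ∃ k : ↥R, k ∈ K ∧ (k : Perm α) x0 = y) with hΔ₁
  have memΔ : ∀ s : ↥R, ((s : Perm α) x0 ∈ Δ₁ ↔ s ∈ K) := by
    intro s
    rw [hΔ₁, Finset.mem_filter]
    constructor
    · rintro ⟨-, k, hk, hks⟩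
      have h1 : s⁻¹ * k ∈ St := by
        rw [hSt, MulAction.mem_stabilizer_iff]
        show ((s⁻¹ * k : ↥R) : Perm α) x0 = x0
        rw [Subgroup.coe_mul, Perm.mul_apply, hks]
        simp
      have h2 := hStK h1
      have h3 : s = k * (s⁻¹ * k)⁻¹ := by group
      rw [h3]
      exact K.mul_mem hk (K.inv_mem h2)
    · intro hs
      exact ⟨apply_mem_of_mem_setStab (hinv s.2) hx0, s, hs, rfl⟩
  have key : ∀ r : ↥R, ∀ y ∈ Δ, ((r : Perm α) y ∈ Δ₁ ↔ (y ∈ Δ₁ ↔ r ∈ K)) := by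
    intro r y hy
    obtain ⟨s, hs, rfl⟩ := htr x0 hx0 y hy
    have h1 : (r : Perm α) (s x0) = ((r * ⟨s, hs⟩ : ↥R) : Perm α) x0 := rfl
    rw [h1, memΔ, Subgroup.mul_mem_iff_of_index_two hKidx]
    have h2 := memΔ ⟨s, hs⟩
    simp only at h2
    rw [h2]
    tauto
  have hdich : ∀ r ∈ R, (∀ y ∈ Δ, (r y ∈ Δ₁ ↔ y ∈ Δ₁)) ∨ (∀ y ∈ Δ, (r y ∈ Δ₁ ↔ y ∉ Δ₁)) := by
    intro r hr
    by_cases hrK : (⟨r, hr⟩ : ↥R) ∈ K
    · left
      intro y hy
      have := key ⟨r, hr⟩ y hy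
      simp only at this
      rw [this]; tauto
    · right
      intro y hy
      have := key ⟨r, hr⟩ y hy
      simp only at this
      rw [this]; tauto
  refine ⟨Δ₁, Finset.filter_subset _ _, ?_, hdich⟩
  obtain ⟨r0, hr0⟩ : ∃ r0 : ↥R, r0 ∉ K := by
    by_contra hcon
    push Not at hcon
    have : K = ⊤ := by rw [eq_top_iff]; intro r _; exact hcon r
    rw [this, Subgroup.index_top] at hKidx
    omega
  have hswap : ∀ y ∈ Δ, ((r0 : Perm α) y ∈ Δ₁ ↔ y ∉ Δ₁) := by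
    intro y hy
    rw [key r0 y hy]; tauto
  have hsd : Δ \ Δ₁ = Δ₁.image (r0 : Perm α) := by
    ext w
    rw [Finset.mem_sdiff, Finset.mem_image]
    constructor
    · rintro ⟨hwΔ, hw⟩
      have hpre : (r0 : Perm α)⁻¹ w ∈ Δ :=
        apply_mem_of_mem_setStab ((setStab Δ).inv_mem (hinv r0.2)) hwΔ
      refine ⟨(r0 : Perm α)⁻¹ w, ?_, by simp⟩
      by_contra hcon
      have := (hswap _ hpre).mpr hcon
      simp at this
      exact hw this
    · rintro ⟨y, hy, rfl⟩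
      have hyΔ : y ∈ Δ := Finset.filter_subset _ _ hy
      refine ⟨apply_mem_of_mem_setStab (hinv r0.2) hyΔ, ?_⟩
      intro hcon
      exact ((hswap y hyΔ).mp hcon) hy
  have h1 : (Δ \ Δ₁).card = Δ₁.card := by
    rw [hsd, Finset.card_image_of_injective _ (r0 : Perm α).injective]
  have h3 := Finset.card_sdiff_add_card_eq_card (Finset.filter_subset
    (fun y => ∃ k : ↥R, k ∈ K ∧ (k : Perm α) x0 = y) Δ)
  rw [← hΔ₁] at h3
  omega

end Cfsg.Agent.Lib.Helper38.Wr
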