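import Mathlib
import Cfsg.Agent.Lib.Helper38.WrB

set_option autoImplicit false
set_option linter.unusedSectionVars false

/-! The wreath structure of a transitive maximal `2`-subgroup of the symmetric group on a finset:
the two half constituents are again transitive maximal `2`-subgroups. -/

namespace Cfsg.Agent.Lib.Helper38.Wr

open Equiv Equiv.Perm
open Cfsg.Agent.Lib.Helper38.SylThree (setStab mem_setStab_of_forall)
open Cfsg.Agent.Lib.Helper38.SylTwo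
open Cfsg.Agent.Lib.Helper38.SelfNorm

theorem exists_mul_of_mem_sup {G : Type*} [Group G] {H K : Subgroup G}
    (hc : ∀ a ∈ H, ∀ b ∈ K, a * b = b * a) {x : G} (hx : x ∈ H ⊔ K) :
    ∃ a ∈ H, ∃ b ∈ K, x = a * b := by
  let S : Subgroup G :=
    { carrier := {x | ∃ a ∈ H, ∃ b ∈ K, x = a * b}
      mul_mem' := by
        rintro _ _ ⟨a, ha, b, hb, rfl⟩ ⟨a', ha', b', hb', rfl⟩
        refine ⟨a * a', H.mul_mem ha ha', b * b', K.mul_mem hb hb', ?_⟩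
        have := hc a' ha' b hb
        calc a * b * (a' * b') = a * (b * a') * b' := by group
          _ = a * (a' * b) * b' := by rw [this]
          _ = a * a' * (b * b') := by group
      one_mem' := ⟨1, H.one_mem, 1, K.one_mem, by simp⟩
      inv_mem' := by
        rintro _ ⟨a, ha, b, hb, rfl⟩
        refine ⟨a⁻¹, H.inv_mem ha, b⁻¹, K.inv_mem hb, ?_⟩
        have := hc a⁻¹ (H.inv_mem ha) b⁻¹ (K.inv_mem hb)
        rw [mul_inv_rev, this] }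
  have hle : H ⊔ K ≤ S :=
    sup_le (fun a ha => ⟨a, ha, 1, K.one_mem, by simp⟩) (fun b hb => ⟨1, H.one_mem, b, hb, by simp⟩)
  exact hle hx

theorem mem_normalizer_of_conj {G : Type*} [Group G] [Finite G] {N : Subgroup G} {w : G}
    (h : ∀ n ∈ N, w * n * w⁻¹ ∈ N) : w ∈ Subgroup.normalizer (N : Set G) := by
  have hpow : ∀ j : ℕ, ∀ n ∈ N, w ^ j * n * (w ^ j)⁻¹ ∈ N := by
    intro j
    induction j with
    | zero => intro n hn; simpa using hn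
    | succ j ih =>
      intro n hn
      have e : w ^ (j + 1) * n * (w ^ (j + 1))⁻¹ = w ^ j * (w * n * w⁻¹) * (w ^ j)⁻¹ := by
        rw [pow_succ]; group
      rw [e]
      exact ih _ (h n hn)
  have hk : 0 < orderOf w := orderOf_pos w
  have hinv : w ^ (orderOf w - 1) = w⁻¹ := by
    apply eq_inv_of_mul_eq_one_left
    rw [← pow_succ, Nat.sub_add_cancel hk, pow_orderOf_eq_one]
  rw [Subgroup.mem_normalizer_iff]
  intro n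
  constructor
  · exact h n
  · intro hn
    have h1 := hpow (orderOf w - 1) _ hn
    rw [hinv] at h1
    have e : w⁻¹ * (w * n * w⁻¹) * w⁻¹⁻¹ = n := by group
    rwa [e] at h1

variable {α : Type*} [Fintype α] [DecidableEq α]

theorem image_eq_of_mem_setStab {Δ : Finset α} {w : Perm α} (hw : w ∈ setStab Δ) :
    Δ.image w = Δ := by
  apply Finset.eq_of_subset_of_card_le
  · intro y hy
    obtain ⟨x, hx, rfl⟩ := Finset.mem_image.1 hy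
    exact apply_mem_of_mem_setStab hw hx
  · rw [Finset.card_image_of_injective _ w.injective]

theorem image_eq_of_maps {Δ₁ Δ₂ : Finset α} (hc : Δ₁.card = Δ₂.card) {w : Perm α}
    (hw : ∀ x ∈ Δ₁, w x ∈ Δ₂) : Δ₁.image w = Δ₂ := by
  apply Finset.eq_of_subset_of_card_le
  · intro y hy
    obtain ⟨x, hx, rfl⟩ := Finset.mem_image.1 hy
    exact hw x hx
  · rw [Finset.card_image_of_injective _ w.injective, hc]

/-- the data of a half partition of `Δ` preserved by `W` -/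
structure HalfCtx (Δ : Finset α) (W : Subgroup (Perm α)) (Δ₁ Δ₂ : Finset α) (σ : Perm α) :
    Prop where
  max : IsMax2 Δ W
  union : Δ₁ ∪ Δ₂ = Δ
  disj : Disjoint Δ₁ Δ₂
  card_eq : Δ₁.card = Δ₂.card
  σ_mem : σ ∈ W
  σ_map₁ : ∀ x ∈ Δ₁, σ x ∈ Δ₂
  σ_map₂ : ∀ x ∈ Δ₂, σ x ∈ Δ₁
  dich : ∀ w ∈ W, (w ∈ setStab Δ₁ ∧ w ∈ setStab Δ₂) ∨
    ((∀ x ∈ Δ₁, w x ∈ Δ₂) ∧ (∀ x ∈ Δ₂, w x ∈ Δ₁))
  ne₁ : Δ₁.Nonempty

namespace HalfCtx

variable {Δ : Finset α} {W : Subgroup (Perm α)} {Δ₁ Δ₂ : Finset α} {σ : Perm α}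

theorem ne₂ (h : HalfCtx Δ W Δ₁ Δ₂ σ) : Δ₂.Nonempty := by
  rw [← Finset.card_pos, ← h.card_eq, Finset.card_pos]
  exact h.ne₁

theorem symm (h : HalfCtx Δ W Δ₁ Δ₂ σ) : HalfCtx Δ W Δ₂ Δ₁ σ where
  max := h.max
  union := by rw [Finset.union_comm]; exact h.union
  disj := h.disj.symm
  card_eq := h.card_eq.symm
  σ_mem := h.σ_mem
  σ_map₁ := h.σ_map₂
  σ_map₂ := h.σ_map₁
  dich := by
    intro w hw
    rcases h.dich w hw with h1 | h1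
    · exact Or.inl ⟨h1.2, h1.1⟩
    · exact Or.inr ⟨h1.2, h1.1⟩
  ne₁ := h.ne₂

theorem sub₁ (h : HalfCtx Δ W Δ₁ Δ₂ σ) : Δ₁ ⊆ Δ := by
  rw [← h.union]; exact Finset.subset_union_left

theorem sub₂ (h : HalfCtx Δ W Δ₁ Δ₂ σ) : Δ₂ ⊆ Δ := h.symm.sub₁

/-- a preserver is not a swapper -/
theorem not_swap (h : HalfCtx Δ W Δ₁ Δ₂ σ) {w : Perm α} (hw : w ∈ setStab Δ₁)
    (hs : ∀ x ∈ Δ₁, w x ∈ Δ₂) : False := by
  obtain ⟨x, hx⟩ := h.ne₁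
  exact Finset.disjoint_left.1 h.disj (apply_mem_of_mem_setStab hw hx) (hs x hx)

theorem pres_of_apply (h : HalfCtx Δ W Δ₁ Δ₂ σ) {w : Perm α} (hw : w ∈ W) {x : α} (hx : x ∈ Δ₁)
    (hwx : w x ∈ Δ₁) : w ∈ setStab Δ₁ ∧ w ∈ setStab Δ₂ := by
  rcases h.dich w hw with h1 | h1
  · exact h1
  · exact absurd hwx (Finset.disjoint_right.1 h.disj (h1.1 x hx))

theorem swap_of_apply (h : HalfCtx Δ W Δ₁ Δ₂ σ) {w : Perm α} (hw : w ∈ W) {x : α} (hx : x ∈ Δ₁)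
    (hwx : w x ∈ Δ₂) : (∀ x ∈ Δ₁, w x ∈ Δ₂) ∧ (∀ x ∈ Δ₂, w x ∈ Δ₁) := by
  rcases h.dich w hw with h1 | h1
  · exact absurd hwx (Finset.disjoint_left.1 h.disj (apply_mem_of_mem_setStab h1.1 hx))
  · exact h1

/-- the product of two swappers is a preserver -/
theorem pres_of_swap_mul (h : HalfCtx Δ W Δ₁ Δ₂ σ) {v w : Perm α} (hv : v ∈ W) (hw : w ∈ W)
    (hvs : ∀ x ∈ Δ₁, v x ∈ Δ₂) (hws : ∀ x ∈ Δ₂, w x ∈ Δ₁) :
    w * v ∈ setStab Δ₁ ∧ w * v ∈ setStab Δ₂ := by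
  obtain ⟨x, hx⟩ := h.ne₁
  apply h.pres_of_apply (W.mul_mem hw hv) hx
  rw [Perm.mul_apply]
  exact hws _ (hvs x hx)

/-- `σ⁻¹ w` is a preserver for a swapper `w` -/
theorem pres_inv_mul (h : HalfCtx Δ W Δ₁ Δ₂ σ) {w : Perm α} (hw : w ∈ W)
    (hws : ∀ x ∈ Δ₁, w x ∈ Δ₂) : σ⁻¹ * w ∈ setStab Δ₁ ∧ σ⁻¹ * w ∈ setStab Δ₂ := by
  have hmem : σ⁻¹ * w ∈ W := W.mul_mem (W.inv_mem h.σ_mem) hw
  rcases h.dich _ hmem with h1 | h1
  · exact h1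
  · exfalso
    obtain ⟨x, hx⟩ := h.ne₁
    have h2 := h1.1 x hx
    have h3 := h.σ_map₂ _ h2
    rw [Perm.mul_apply] at h3
    have e : σ (σ⁻¹ (w x)) = w x := by simp
    rw [e] at h3
    exact Finset.disjoint_left.1 h.disj h3 (hws x hx)

theorem le_suppIn_union (h : HalfCtx Δ W Δ₁ Δ₂ σ) : W ≤ suppIn (Δ₁ ∪ Δ₂) := by
  rw [h.union]; exact h.max.1

/-- restrictions of preservers to the halves stay in `W` -/
theorem res_mem_half (h : HalfCtx Δ W Δ₁ Δ₂ σ) {m : Perm α} (hm : m ∈ W)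
    (hm₁ : m ∈ setStab Δ₁) (hm₂ : m ∈ setStab Δ₂) : res Δ₁ m ∈ W ∧ res Δ₂ m ∈ W := by
  have : Fact (Nat.Prime 2) := ⟨Nat.prime_two⟩
  set M : Subgroup (Perm α) := W ⊓ setStab Δ₁ ⊓ setStab Δ₂ with hM
  have hMp : IsPGroup 2 M := (h.max.2.1.to_inf_left).to_inf_left
  have hM₁ : M ≤ setStab Δ₁ := fun g hg => hg.1.2
  have hM₂ : M ≤ setStab Δ₂ := fun g hg => hg.2
  set N₁ : Subgroup (Perm α) := (M.subgroupOf (setStab Δ₁)).map (resHom Δ₁) with hN₁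
  set N₂ : Subgroup (Perm α) := (M.subgroupOf (setStab Δ₂)).map (resHom Δ₂) with hN₂
  have hN₁p : IsPGroup 2 N₁ := (hMp.comap_subtype).map _
  have hN₂p : IsPGroup 2 N₂ := (hMp.comap_subtype).map _
  have mem₁ : ∀ g, g ∈ N₁ ↔ ∃ v ∈ M, res Δ₁ v = g := by
    intro g
    rw [hN₁, Subgroup.mem_map]
    constructor
    · rintro ⟨v, hv, rfl⟩
      exact ⟨v.1, Subgroup.mem_subgroupOf.1 hv, rfl⟩
    · rintro ⟨v, hv, rfl⟩
      exact ⟨⟨v, hM₁ hv⟩, Subgroup.mem_subgroupOf.2 hv, rfl⟩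
  have mem₂ : ∀ g, g ∈ N₂ ↔ ∃ v ∈ M, res Δ₂ v = g := by
    intro g
    rw [hN₂, Subgroup.mem_map]
    constructor
    · rintro ⟨v, hv, rfl⟩
      exact ⟨v.1, Subgroup.mem_subgroupOf.1 hv, rfl⟩
    · rintro ⟨v, hv, rfl⟩
      exact ⟨⟨v, hM₂ hv⟩, Subgroup.mem_subgroupOf.2 hv, rfl⟩
  have hc : ∀ a ∈ N₁, ∀ b ∈ N₂, a * b = b * a := by
    intro a ha b hb
    obtain ⟨v, -, rfl⟩ := (mem₁ a).1 ha
    obtain ⟨v', -, rfl⟩ := (mem₂ b).1 hb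
    exact commute_of_disjoint h.disj (res_mem_suppIn _ _) (res_mem_suppIn _ _)
  have hp : IsPGroup 2 (N₁ ⊔ N₂ : Subgroup (Perm α)) := isPGroup_sup_of_commute hN₁p hN₂p hc
  have hle : N₁ ⊔ N₂ ≤ suppIn Δ := by
    apply sup_le
    · intro g hg
      obtain ⟨v, hv, rfl⟩ := (mem₁ g).1 hg
      exact suppIn_mono h.sub₁ (res_mem_suppIn _ _)
    · intro g hg
      obtain ⟨v, hv, rfl⟩ := (mem₂ g).1 hg
      exact suppIn_mono h.sub₂ (res_mem_suppIn _ _)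
  -- conjugation by elements of W
  have hconjM : ∀ w ∈ W, ∀ v ∈ M, w * v * w⁻¹ ∈ M := by
    intro w hw v hv
    have hvW : w * v * w⁻¹ ∈ W := W.mul_mem (W.mul_mem hw hv.1.1) (W.inv_mem hw)
    rcases h.dich w hw with h1 | h1
    · exact ⟨⟨hvW, (setStab Δ₁).mul_mem ((setStab Δ₁).mul_mem h1.1 hv.1.2)
        ((setStab Δ₁).inv_mem h1.1)⟩,
        (setStab Δ₂).mul_mem ((setStab Δ₂).mul_mem h1.2 hv.2) ((setStab Δ₂).inv_mem h1.2)⟩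
    · have e₁ := image_eq_of_maps h.card_eq h1.1
      have e₂ := image_eq_of_maps h.card_eq.symm h1.2
      have c₁ := conj_mem_setStab hv.1.2 w
      have c₂ := conj_mem_setStab hv.2 w
      rw [e₁] at c₁
      rw [e₂] at c₂
      exact ⟨⟨hvW, c₂⟩, c₁⟩
  have hconj : ∀ w ∈ W, ∀ n ∈ N₁ ⊔ N₂, w * n * w⁻¹ ∈ N₁ ⊔ N₂ := by
    intro w hw n hn
    obtain ⟨a, ha, b, hb, rfl⟩ := exists_mul_of_mem_sup hc hn
    obtain ⟨v, hv, rfl⟩ := (mem₁ a).1 ha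
    obtain ⟨v', hv', rfl⟩ := (mem₂ b).1 hb
    have e : w * (res Δ₁ v * res Δ₂ v') * w⁻¹ =
        (w * res Δ₁ v * w⁻¹) * (w * res Δ₂ v' * w⁻¹) := by group
    rw [e, conj_res (hM₁ hv), conj_res (hM₂ hv')]
    rcases h.dich w hw with h1 | h1
    · rw [image_eq_of_mem_setStab h1.1, image_eq_of_mem_setStab h1.2]
      exact Subgroup.mul_mem _ (Subgroup.mem_sup_left ((mem₁ _).2 ⟨_, hconjM w hw v hv, rfl⟩))
        (Subgroup.mem_sup_right ((mem₂ _).2 ⟨_, hconjM w hw v' hv', rfl⟩))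
    · rw [image_eq_of_maps h.card_eq h1.1, image_eq_of_maps h.card_eq.symm h1.2]
      exact Subgroup.mul_mem _ (Subgroup.mem_sup_right ((mem₂ _).2 ⟨_, hconjM w hw v hv, rfl⟩))
        (Subgroup.mem_sup_left ((mem₁ _).2 ⟨_, hconjM w hw v' hv', rfl⟩))
  have hnorm : W ≤ Subgroup.normalizer ((N₁ ⊔ N₂ : Subgroup (Perm α)) : Set (Perm α)) :=
    fun w hw => mem_normalizer_of_conj (hconj w hw)
  have hp2 : IsPGroup 2 (W ⊔ (N₁ ⊔ N₂) : Subgroup (Perm α)) :=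
    IsPGroup.to_sup_of_normal_right' h.max.2.1 hp hnorm
  have hfin := h.max.2.2 _ (sup_le h.max.1 hle) hp2 le_sup_left
  have hmM : m ∈ M := ⟨⟨hm, hm₁⟩, hm₂⟩
  exact ⟨hfin (Subgroup.mem_sup_right (Subgroup.mem_sup_left ((mem₁ _).2 ⟨m, hmM, rfl⟩))),
    hfin (Subgroup.mem_sup_right (Subgroup.mem_sup_right ((mem₂ _).2 ⟨m, hmM, rfl⟩)))⟩

/-- a preserver is the product of its two restrictions -/
theorem res_mul_res_eq (h : HalfCtx Δ W Δ₁ Δ₂ σ) {m : Perm α} (hm : m ∈ W)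
    (hm₁ : m ∈ setStab Δ₁) (hm₂ : m ∈ setStab Δ₂) : res Δ₁ m * res Δ₂ m = m :=
  res_mul_res h.disj hm₁ hm₂ (h.le_suppIn_union hm)

/-- transitivity of the first half constituent -/
theorem trans₁ (h : HalfCtx Δ W Δ₁ Δ₂ σ) (htr : ∀ x ∈ Δ, ∀ y ∈ Δ, ∃ w ∈ W, w x = y) :
    ∀ x ∈ Δ₁, ∀ y ∈ Δ₁, ∃ w ∈ W ⊓ suppIn Δ₁, w x = y := by
  intro x hx y hy
  obtain ⟨w, hw, rfl⟩ := htr x (h.sub₁ hx) y (h.sub₁ hy)
  have hp := h.pres_of_apply hw hx hy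
  refine ⟨res Δ₁ w, ⟨(h.res_mem_half hw hp.1 hp.2).1, res_mem_suppIn _ _⟩, ?_⟩
  exact res_apply_of_mem hp.1 hx

/-- maximality of the first half constituent -/
theorem isMax2₁ (h : HalfCtx Δ W Δ₁ Δ₂ σ) : IsMax2 Δ₁ (W ⊓ suppIn Δ₁) := by
  have : Fact (Nat.Prime 2) := ⟨Nat.prime_two⟩
  refine ⟨inf_le_right, h.max.2.1.to_inf_left, ?_⟩
  intro R₁ hR₁ hR₁p hle
  set R₂ : Subgroup (Perm α) := R₁.map (MulAut.conj σ).toMonoidHom with hR₂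
  have memR₂ : ∀ g, g ∈ R₂ ↔ ∃ r ∈ R₁, σ * r * σ⁻¹ = g := by
    intro g
    rw [hR₂, Subgroup.mem_map]
    constructor
    · rintro ⟨r, hr, rfl⟩
      exact ⟨r, hr, rfl⟩
    · rintro ⟨r, hr, rfl⟩
      exact ⟨r, hr, rfl⟩
  have hR₂p : IsPGroup 2 R₂ := hR₁p.map _
  have eσ := image_eq_of_maps h.card_eq h.σ_map₁
  have hR₂s : R₂ ≤ suppIn Δ₂ := by
    intro g hg
    obtain ⟨r, hr, rfl⟩ := (memR₂ g).1 hg
    have := conj_mem_suppIn (hR₁ hr) σ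
    rwa [eσ] at this
  have hc : ∀ a ∈ R₁, ∀ b ∈ R₂, a * b = b * a :=
    fun a ha b hb => commute_of_disjoint h.disj (hR₁ ha) (hR₂s hb)
  have hp : IsPGroup 2 (R₁ ⊔ R₂ : Subgroup (Perm α)) := isPGroup_sup_of_commute hR₁p hR₂p hc
  have hle' : R₁ ⊔ R₂ ≤ suppIn Δ :=
    sup_le (hR₁.trans (suppIn_mono h.sub₁)) (hR₂s.trans (suppIn_mono h.sub₂))
  -- preservers conjugate `R₁` into itself
  have hpres₁ : ∀ w ∈ W, w ∈ setStab Δ₁ → w ∈ setStab Δ₂ → ∀ r ∈ R₁, w * r * w⁻¹ ∈ R₁ := by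
    intro w hw hw₁ hw₂ r hr
    have hres := h.res_mem_half hw hw₁ hw₂
    have heq := h.res_mul_res_eq hw hw₁ hw₂
    have hcomm : res Δ₂ w * r = r * res Δ₂ w :=
      (commute_of_disjoint h.disj (hR₁ hr) (res_mem_suppIn Δ₂ w)).symm
    have e : w * r * w⁻¹ = res Δ₁ w * r * (res Δ₁ w)⁻¹ := by
      have e2 : w * r * w⁻¹ = res Δ₁ w * (res Δ₂ w * r) * (res Δ₂ w)⁻¹ * (res Δ₁ w)⁻¹ := by
        conv_lhs => rw [← heq]
        group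
      rw [e2, hcomm]
      group
    rw [e]
    have hin : res Δ₁ w ∈ R₁ := hle ⟨hres.1, res_mem_suppIn _ _⟩
    exact R₁.mul_mem (R₁.mul_mem hin hr) (R₁.inv_mem hin)
  -- σ⁻¹ w σ is a preserver for a preserver w
  have hσconj : ∀ w ∈ W, w ∈ setStab Δ₁ → w ∈ setStab Δ₂ →
      σ⁻¹ * w * σ ∈ setStab Δ₁ ∧ σ⁻¹ * w * σ ∈ setStab Δ₂ := by
    intro w hw hw₁ hw₂
    have hmem : σ⁻¹ * w * σ ∈ W := W.mul_mem (W.mul_mem (W.inv_mem h.σ_mem) hw) h.σ_mem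
    rcases h.dich _ hmem with h1 | h1
    · exact h1
    · exfalso
      obtain ⟨x, hx⟩ := h.ne₁
      have h2 := h1.1 x hx
      have h3 := h.σ_map₂ _ h2
      rw [Perm.mul_apply, Perm.mul_apply] at h3
      have e : σ (σ⁻¹ (w (σ x))) = w (σ x) := by simp
      rw [e] at h3
      have h4 := apply_mem_of_mem_setStab hw₂ (h.σ_map₁ x hx)
      exact Finset.disjoint_left.1 h.disj h3 h4
  have hpres : ∀ w ∈ W, w ∈ setStab Δ₁ → w ∈ setStab Δ₂ →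
      ∀ n ∈ R₁ ⊔ R₂, w * n * w⁻¹ ∈ R₁ ⊔ R₂ := by
    intro w hw hw₁ hw₂ n hn
    obtain ⟨a, ha, b, hb, rfl⟩ := exists_mul_of_mem_sup hc hn
    obtain ⟨r, hr, rfl⟩ := (memR₂ b).1 hb
    have e : w * (a * (σ * r * σ⁻¹)) * w⁻¹ =
        (w * a * w⁻¹) * (σ * ((σ⁻¹ * w * σ) * r * (σ⁻¹ * w * σ)⁻¹) * σ⁻¹) := by group
    rw [e]
    have hw' := hσconj w hw hw₁ hw₂
    have hmem : σ⁻¹ * w * σ ∈ W := W.mul_mem (W.mul_mem (W.inv_mem h.σ_mem) hw) h.σ_mem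
    exact Subgroup.mul_mem _ (Subgroup.mem_sup_left (hpres₁ w hw hw₁ hw₂ a ha))
      (Subgroup.mem_sup_right ((memR₂ _).2 ⟨_, hpres₁ _ hmem hw'.1 hw'.2 r hr, rfl⟩))
  have hσσ := h.pres_of_swap_mul h.σ_mem h.σ_mem h.σ_map₁ h.σ_map₂
  have hσn : ∀ n ∈ R₁ ⊔ R₂, σ * n * σ⁻¹ ∈ R₁ ⊔ R₂ := by
    intro n hn
    obtain ⟨a, ha, b, hb, rfl⟩ := exists_mul_of_mem_sup hc hn
    obtain ⟨r, hr, rfl⟩ := (memR₂ b).1 hb
    have e : σ * (a * (σ * r * σ⁻¹)) * σ⁻¹ =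
        (σ * a * σ⁻¹) * ((σ * σ) * r * (σ * σ)⁻¹) := by group
    rw [e]
    exact Subgroup.mul_mem _ (Subgroup.mem_sup_right ((memR₂ _).2 ⟨a, ha, rfl⟩))
      (Subgroup.mem_sup_left (hpres₁ _ (W.mul_mem h.σ_mem h.σ_mem) hσσ.1 hσσ.2 r hr))
  have hnorm : W ≤ Subgroup.normalizer ((R₁ ⊔ R₂ : Subgroup (Perm α)) : Set (Perm α)) := by
    intro w hw
    rcases h.dich w hw with h1 | h1
    · exact mem_normalizer_of_conj (hpres w hw h1.1 h1.2)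
    · have h2 := h.pres_inv_mul hw h1.1
      have hmem : σ⁻¹ * w ∈ W := W.mul_mem (W.inv_mem h.σ_mem) hw
      have e : w = σ * (σ⁻¹ * w) := by group
      rw [e]
      exact Subgroup.mul_mem _ (mem_normalizer_of_conj hσn)
        (mem_normalizer_of_conj (hpres _ hmem h2.1 h2.2))
  have hp2 : IsPGroup 2 (W ⊔ (R₁ ⊔ R₂) : Subgroup (Perm α)) :=
    IsPGroup.to_sup_of_normal_right' h.max.2.1 hp hnorm
  have hfin := h.max.2.2 _ (sup_le h.max.1 hle') hp2 le_sup_left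
  intro r hr
  exact ⟨hfin (Subgroup.mem_sup_right (Subgroup.mem_sup_left hr)), hR₁ hr⟩

theorem ts₁ (h : HalfCtx Δ W Δ₁ Δ₂ σ) (htr : ∀ x ∈ Δ, ∀ y ∈ Δ, ∃ w ∈ W, w x = y) :
    TS Δ₁ (W ⊓ suppIn Δ₁) := ⟨h.isMax2₁, h.trans₁ htr⟩

theorem ts₂ (h : HalfCtx Δ W Δ₁ Δ₂ σ) (htr : ∀ x ∈ Δ, ∀ y ∈ Δ, ∃ w ∈ W, w x = y) :
    TS Δ₂ (W ⊓ suppIn Δ₂) := h.symm.ts₁ htr

end HalfCtx

/-- **Wreath structure.** A transitive maximal `2`-subgroup on at least two points has a half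
partition. -/
theorem exists_halfCtx {Δ : Finset α} {W : Subgroup (Perm α)} (hW : TS Δ W) (h2 : 2 ≤ Δ.card) :
    ∃ Δ₁ Δ₂ σ, HalfCtx Δ W Δ₁ Δ₂ σ := by
  have hinv : W ≤ setStab Δ := hW.1.1.trans (suppIn_le_setStab Δ)
  obtain ⟨Δ₁, hsub, hcard, hdich⟩ := exists_half W hW.1.2.1 Δ hinv hW.2 h2
  have hsd : Δ₁ ∪ (Δ \ Δ₁) = Δ := Finset.union_sdiff_of_subset hsub
  have hdisj : Disjoint Δ₁ (Δ \ Δ₁) := Finset.disjoint_sdiff
  have hc2 : (Δ \ Δ₁).card = Δ₁.card := by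
    have := Finset.card_sdiff_add_card_eq_card hsub
    omega
  have hne₁ : Δ₁.Nonempty := by
    rw [← Finset.card_pos]; omega
  have hne₂ : (Δ \ Δ₁).Nonempty := by
    rw [← Finset.card_pos]; omega
  have hd : ∀ w ∈ W, (w ∈ setStab Δ₁ ∧ w ∈ setStab (Δ \ Δ₁)) ∨
      ((∀ x ∈ Δ₁, w x ∈ Δ \ Δ₁) ∧ (∀ x ∈ Δ \ Δ₁, w x ∈ Δ₁)) := by
    intro w hw
    have hwΔ := hinv hw
    rcases hdich w hw with h1 | h1
    · left
      have hw₁ : w ∈ setStab Δ₁ := by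
        rw [mem_setStab_iff]
        intro y
        by_cases hy : y ∈ Δ
        · exact h1 y hy
        · rw [hW.1.1 hw y hy]
      refine ⟨hw₁, ?_⟩
      apply mem_setStab_of_forall
      intro x hx
      rw [Finset.mem_sdiff] at hx ⊢
      exact ⟨apply_mem_of_mem_setStab hwΔ hx.1, apply_not_mem_of_mem_setStab hw₁ hx.2⟩
    · right
      constructor
      · intro x hx
        rw [Finset.mem_sdiff]
        refine ⟨apply_mem_of_mem_setStab hwΔ (hsub hx), ?_⟩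
        rw [h1 x (hsub hx)]
        exact fun hcon => hcon hx
      · intro x hx
        rw [Finset.mem_sdiff] at hx
        rw [h1 x hx.1]
        exact hx.2
  obtain ⟨x₁, hx₁⟩ := hne₁
  obtain ⟨x₂, hx₂⟩ := hne₂
  obtain ⟨σ, hσ, hσx⟩ := hW.2 x₁ (hsub hx₁) x₂ (Finset.sdiff_subset hx₂)
  have hσs : (∀ x ∈ Δ₁, σ x ∈ Δ \ Δ₁) ∧ (∀ x ∈ Δ \ Δ₁, σ x ∈ Δ₁) := by
    rcases hd σ hσ with h1 | h1
    · exfalso
      have := apply_mem_of_mem_setStab h1.1 hx₁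
      rw [hσx] at this
      exact (Finset.mem_sdiff.1 hx₂).2 this
    · exact h1
  exact ⟨Δ₁, Δ \ Δ₁, σ, ⟨hW.1, hsd, hdisj, hc2.symm, hσ, hσs.1, hσs.2, hd, ⟨x₁, hx₁⟩⟩⟩

end Cfsg.Agent.Lib.Helper38.Wr
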