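import Mathlib
import Cfsg.Agent.Lib.Helper38.WrC

set_option autoImplicit false
set_option linter.unusedSectionVars false

/-! Properties of transitive maximal `2`-subgroups: the centre has order two, there are odd
elements, no nontrivial central product decomposition. First part: the centre. -/

namespace Cfsg.Agent.Lib.Helper38.Wr

open Equiv Equiv.Perm
open Cfsg.Agent.Lib.Helper38.SylThree (setStab mem_setStab_of_forall)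
open Cfsg.Agent.Lib.Helper38.SylTwo
open Cfsg.Agent.Lib.Helper38.SelfNorm

variable {α : Type*} [Fintype α] [DecidableEq α]

/-- `w` interchanges `Δ₁` and `Δ₂` -/
def Swp (Δ₁ Δ₂ : Finset α) (w : Perm α) : Prop :=
  (∀ x ∈ Δ₁, w x ∈ Δ₂) ∧ (∀ x ∈ Δ₂, w x ∈ Δ₁)

theorem Swp.symm {Δ₁ Δ₂ : Finset α} {w : Perm α} (h : Swp Δ₁ Δ₂ w) : Swp Δ₂ Δ₁ w := ⟨h.2, h.1⟩

theorem eq_of_mul_eq_mul {Δ₁ Δ₂ : Finset α} (hd : Disjoint Δ₁ Δ₂) {a a' b b' : Perm α}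
    (ha : a ∈ suppIn Δ₁) (ha' : a' ∈ suppIn Δ₁) (hb : b ∈ suppIn Δ₂) (hb' : b' ∈ suppIn Δ₂)
    (e : a * b = a' * b') : a = a' ∧ b = b' := by
  have h1 : a'⁻¹ * a = b' * b⁻¹ := by
    have : a'⁻¹ * (a * b) * b⁻¹ = a'⁻¹ * (a' * b') * b⁻¹ := by rw [e]
    calc a'⁻¹ * a = a'⁻¹ * (a * b) * b⁻¹ := by group
      _ = a'⁻¹ * (a' * b') * b⁻¹ := this
      _ = b' * b⁻¹ := by group
  have h2 : a'⁻¹ * a = 1 := by
    apply eq_one_of_mem_suppIn_of_disjoint hd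
    · exact (suppIn Δ₁).mul_mem ((suppIn Δ₁).inv_mem ha') ha
    · rw [h1]; exact (suppIn Δ₂).mul_mem hb' ((suppIn Δ₂).inv_mem hb)
  have h3 : a = a' := by
    have : a = a' * (a'⁻¹ * a) := by group
    rw [this, h2, mul_one]
  refine ⟨h3, ?_⟩
  rw [h3] at e
  exact mul_left_cancel e

namespace HalfCtx

variable {Δ : Finset α} {W : Subgroup (Perm α)} {Δ₁ Δ₂ : Finset α} {σ : Perm α}

theorem swp_or (h : HalfCtx Δ W Δ₁ Δ₂ σ) {w : Perm α} (hw : w ∈ W) :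
    (w ∈ setStab Δ₁ ∧ w ∈ setStab Δ₂) ∨ Swp Δ₁ Δ₂ w := h.dich w hw

theorem σ_swp (h : HalfCtx Δ W Δ₁ Δ₂ σ) : Swp Δ₁ Δ₂ σ := ⟨h.σ_map₁, h.σ_map₂⟩

theorem swp_inv (h : HalfCtx Δ W Δ₁ Δ₂ σ) {w : Perm α} (hw : w ∈ W) (hs : Swp Δ₁ Δ₂ w) :
    Swp Δ₁ Δ₂ w⁻¹ := by
  rcases h.dich _ (W.inv_mem hw) with h1 | h1
  · exfalso
    have := (setStab Δ₁).inv_mem h1.1
    rw [inv_inv] at this
    exact h.not_swap this hs.1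
  · exact h1

theorem conj_mem (h : HalfCtx Δ W Δ₁ Δ₂ σ) {w : Perm α} (hw : w ∈ W) (hs : Swp Δ₁ Δ₂ w)
    {g : Perm α} (hg : g ∈ W ⊓ suppIn Δ₁) : w * g * w⁻¹ ∈ W ⊓ suppIn Δ₂ := by
  refine ⟨W.mul_mem (W.mul_mem hw hg.1) (W.inv_mem hw), ?_⟩
  have := conj_mem_suppIn hg.2 w
  rwa [image_eq_of_maps h.card_eq hs.1] at this

theorem swp_mul_pres (h : HalfCtx Δ W Δ₁ Δ₂ σ) {v w : Perm α} (hv : v ∈ W) (hw : w ∈ W)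
    (hvs : Swp Δ₁ Δ₂ v) (hws : Swp Δ₁ Δ₂ w) : w * v ∈ setStab Δ₁ ∧ w * v ∈ setStab Δ₂ :=
  h.pres_of_swap_mul hv hw hvs.1 hws.2

theorem card_union (h : HalfCtx Δ W Δ₁ Δ₂ σ) : Δ.card = 2 * Δ₁.card := by
  rw [← h.union, Finset.card_union_of_disjoint h.disj, ← h.card_eq]; ring

end HalfCtx

/-- a half partition together with the central involutions of the two halves -/
structure ZCtx (Δ : Finset α) (W : Subgroup (Perm α)) (Δ₁ Δ₂ : Finset α) (σ ζ₁ ζ₂ : Perm α) :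
    Prop where
  half : HalfCtx Δ W Δ₁ Δ₂ σ
  mem₁ : ζ₁ ∈ W ⊓ suppIn Δ₁
  mem₂ : ζ₂ ∈ W ⊓ suppIn Δ₂
  ne₁ : ζ₁ ≠ 1
  ne₂ : ζ₂ ≠ 1
  cen₁ : ∀ w ∈ W ⊓ suppIn Δ₁, ζ₁ * w = w * ζ₁
  cen₂ : ∀ w ∈ W ⊓ suppIn Δ₂, ζ₂ * w = w * ζ₂
  uniq₁ : ∀ z ∈ W ⊓ suppIn Δ₁, (∀ w ∈ W ⊓ suppIn Δ₁, z * w = w * z) → z = 1 ∨ z = ζ₁
  uniq₂ : ∀ z ∈ W ⊓ suppIn Δ₂, (∀ w ∈ W ⊓ suppIn Δ₂, z * w = w * z) → z = 1 ∨ z = ζ₂

namespace ZCtx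

variable {Δ : Finset α} {W : Subgroup (Perm α)} {Δ₁ Δ₂ : Finset α} {σ ζ₁ ζ₂ : Perm α}

theorem symm (c : ZCtx Δ W Δ₁ Δ₂ σ ζ₁ ζ₂) : ZCtx Δ W Δ₂ Δ₁ σ ζ₂ ζ₁ where
  half := c.half.symm
  mem₁ := c.mem₂
  mem₂ := c.mem₁
  ne₁ := c.ne₂
  ne₂ := c.ne₁
  cen₁ := c.cen₂
  cen₂ := c.cen₁
  uniq₁ := c.uniq₂
  uniq₂ := c.uniq₁

/-- a swapper conjugates `ζ₁` to `ζ₂` -/
theorem conj_zeta (c : ZCtx Δ W Δ₁ Δ₂ σ ζ₁ ζ₂) {w : Perm α} (hw : w ∈ W) (hs : Swp Δ₁ Δ₂ w) :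
    w * ζ₁ * w⁻¹ = ζ₂ := by
  have hin := c.half.conj_mem hw hs c.mem₁
  have hwi := c.half.swp_inv hw hs
  have hcen : ∀ g ∈ W ⊓ suppIn Δ₂, (w * ζ₁ * w⁻¹) * g = g * (w * ζ₁ * w⁻¹) := by
    intro g hg
    have hg' : w⁻¹ * g * w⁻¹⁻¹ ∈ W ⊓ suppIn Δ₁ :=
      c.half.symm.conj_mem (W.inv_mem hw) hwi.symm hg
    have hc := c.cen₁ _ hg'
    rw [inv_inv] at hc
    calc w * ζ₁ * w⁻¹ * g = w * (ζ₁ * (w⁻¹ * g * w)) * w⁻¹ := by group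
      _ = w * ((w⁻¹ * g * w) * ζ₁) * w⁻¹ := by rw [hc]
      _ = g * (w * ζ₁ * w⁻¹) := by group
  rcases c.uniq₂ _ hin hcen with h1 | h1
  · exfalso
    apply c.ne₁
    have e : ζ₁ = w⁻¹ * (w * ζ₁ * w⁻¹) * w := by group
    rw [e, h1]; group
  · exact h1

theorem zeta_comm (c : ZCtx Δ W Δ₁ Δ₂ σ ζ₁ ζ₂) : ζ₁ * ζ₂ = ζ₂ * ζ₁ :=
  commute_of_disjoint c.half.disj c.mem₁.2 c.mem₂.2

theorem zeta_ne (c : ZCtx Δ W Δ₁ Δ₂ σ ζ₁ ζ₂) : ζ₁ ≠ ζ₂ := by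
  intro e
  apply c.ne₁
  apply eq_one_of_mem_suppIn_of_disjoint c.half.disj c.mem₁.2
  rw [e]; exact c.mem₂.2

theorem zeta_inv (c : ZCtx Δ W Δ₁ Δ₂ σ ζ₁ ζ₂) : ζ₁⁻¹ = ζ₁ := by
  have hmem : ζ₁⁻¹ ∈ W ⊓ suppIn Δ₁ := Subgroup.inv_mem _ c.mem₁
  have hcen : ∀ w ∈ W ⊓ suppIn Δ₁, ζ₁⁻¹ * w = w * ζ₁⁻¹ := by
    intro w hw
    have := c.cen₁ w hw
    calc ζ₁⁻¹ * w = ζ₁⁻¹ * (w * ζ₁) * ζ₁⁻¹ := by group
      _ = ζ₁⁻¹ * (ζ₁ * w) * ζ₁⁻¹ := by rw [this]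
      _ = w * ζ₁⁻¹ := by group
  rcases c.uniq₁ _ hmem hcen with h1 | h1
  · exfalso
    apply c.ne₁
    rw [← inv_inv ζ₁, h1, inv_one]
  · exact h1

theorem mul_ne_one (c : ZCtx Δ W Δ₁ Δ₂ σ ζ₁ ζ₂) : ζ₁ * ζ₂ ≠ 1 := by
  intro e
  apply c.ne₁
  apply eq_one_of_mem_suppIn_of_disjoint c.half.disj c.mem₁.2
  have : ζ₁ = ζ₂⁻¹ := eq_inv_of_mul_eq_one_left e
  rw [this]
  exact Subgroup.inv_mem _ c.mem₂.2

theorem mul_mem (c : ZCtx Δ W Δ₁ Δ₂ σ ζ₁ ζ₂) : ζ₁ * ζ₂ ∈ W := W.mul_mem c.mem₁.1 c.mem₂.1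

/-- `ζ₁ ζ₂` is central in `W` -/
theorem central (c : ZCtx Δ W Δ₁ Δ₂ σ ζ₁ ζ₂) {w : Perm α} (hw : w ∈ W) :
    ζ₁ * ζ₂ * w = w * (ζ₁ * ζ₂) := by
  rcases c.half.dich w hw with h1 | h1
  · have hres := c.half.res_mem_half hw h1.1 h1.2
    have heq := c.half.res_mul_res_eq hw h1.1 h1.2
    have e11 := c.cen₁ _ ⟨hres.1, res_mem_suppIn Δ₁ w⟩
    have e22 := c.cen₂ _ ⟨hres.2, res_mem_suppIn Δ₂ w⟩
    have e12 : ζ₁ * res Δ₂ w = res Δ₂ w * ζ₁ :=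
      commute_of_disjoint c.half.disj c.mem₁.2 (res_mem_suppIn Δ₂ w)
    have e21 : ζ₂ * res Δ₁ w = res Δ₁ w * ζ₂ :=
      (commute_of_disjoint c.half.disj (res_mem_suppIn Δ₁ w) c.mem₂.2).symm
    rw [← heq]
    calc ζ₁ * ζ₂ * (res Δ₁ w * res Δ₂ w) = ζ₁ * (ζ₂ * res Δ₁ w) * res Δ₂ w := by group
      _ = ζ₁ * (res Δ₁ w * ζ₂) * res Δ₂ w := by rw [e21]
      _ = (ζ₁ * res Δ₁ w) * (ζ₂ * res Δ₂ w) := by group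
      _ = (res Δ₁ w * ζ₁) * (res Δ₂ w * ζ₂) := by rw [e11, e22]
      _ = res Δ₁ w * (ζ₁ * res Δ₂ w) * ζ₂ := by group
      _ = res Δ₁ w * (res Δ₂ w * ζ₁) * ζ₂ := by rw [e12]
      _ = res Δ₁ w * res Δ₂ w * (ζ₁ * ζ₂) := by group
  · have e1 := c.conj_zeta hw h1
    have e2 := c.symm.conj_zeta hw h1.symm
    have e3 : w * (ζ₁ * ζ₂) * w⁻¹ = ζ₁ * ζ₂ := by
      calc w * (ζ₁ * ζ₂) * w⁻¹ = (w * ζ₁ * w⁻¹) * (w * ζ₂ * w⁻¹) := by group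
        _ = ζ₂ * ζ₁ := by rw [e1, e2]
        _ = ζ₁ * ζ₂ := c.zeta_comm.symm
    calc ζ₁ * ζ₂ * w = (w * (ζ₁ * ζ₂) * w⁻¹) * w := by rw [e3]
      _ = w * (ζ₁ * ζ₂) := by group

/-- the centre of `W` is `{1, ζ₁ ζ₂}` -/
theorem unique (c : ZCtx Δ W Δ₁ Δ₂ σ ζ₁ ζ₂) {z : Perm α} (hz : z ∈ W)
    (hcen : ∀ w ∈ W, z * w = w * z) : z = 1 ∨ z = ζ₁ * ζ₂ := by
  rcases c.half.dich z hz with h1 | h1
  · have hres := c.half.res_mem_half hz h1.1 h1.2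
    have heq := c.half.res_mul_res_eq hz h1.1 h1.2
    have hz₁ : res Δ₁ z ∈ W ⊓ suppIn Δ₁ := ⟨hres.1, res_mem_suppIn Δ₁ z⟩
    have hz₂ : res Δ₂ z ∈ W ⊓ suppIn Δ₂ := ⟨hres.2, res_mem_suppIn Δ₂ z⟩
    -- z₁ central in W₁
    have hc₁ : ∀ g ∈ W ⊓ suppIn Δ₁, res Δ₁ z * g = g * res Δ₁ z := by
      intro g hg
      have e := hcen g hg.1
      rw [← heq] at e
      have ecomm : res Δ₂ z * g = g * res Δ₂ z :=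
        (commute_of_disjoint c.half.disj hg.2 (res_mem_suppIn Δ₂ z)).symm
      have e' : (res Δ₁ z * g) * res Δ₂ z = (g * res Δ₁ z) * res Δ₂ z := by
        calc (res Δ₁ z * g) * res Δ₂ z = res Δ₁ z * (g * res Δ₂ z) := by group
          _ = res Δ₁ z * (res Δ₂ z * g) := by rw [ecomm]
          _ = res Δ₁ z * res Δ₂ z * g := by group
          _ = g * (res Δ₁ z * res Δ₂ z) := e
          _ = (g * res Δ₁ z) * res Δ₂ z := by group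
      exact mul_right_cancel e'
    have hc₂ : ∀ g ∈ W ⊓ suppIn Δ₂, res Δ₂ z * g = g * res Δ₂ z := by
      intro g hg
      have e := hcen g hg.1
      rw [← heq] at e
      have ecomm : res Δ₁ z * g = g * res Δ₁ z :=
        commute_of_disjoint c.half.disj (res_mem_suppIn Δ₁ z) hg.2
      have e' : res Δ₁ z * (res Δ₂ z * g) = res Δ₁ z * (g * res Δ₂ z) := by
        calc res Δ₁ z * (res Δ₂ z * g) = res Δ₁ z * res Δ₂ z * g := by group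
          _ = g * (res Δ₁ z * res Δ₂ z) := e
          _ = (g * res Δ₁ z) * res Δ₂ z := by group
          _ = (res Δ₁ z * g) * res Δ₂ z := by rw [ecomm]
          _ = res Δ₁ z * (g * res Δ₂ z) := by group
      exact mul_left_cancel e'
    -- σ z σ⁻¹ = z
    have hσ := hcen σ c.half.σ_mem
    have hσ' : σ * z * σ⁻¹ = z := by rw [← hσ]; group
    have hs := c.half.σ_swp
    have hA : σ * res Δ₂ z * σ⁻¹ ∈ W ⊓ suppIn Δ₁ := c.half.symm.conj_mem c.half.σ_mem hs.symm hz₂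
    have hB : σ * res Δ₁ z * σ⁻¹ ∈ W ⊓ suppIn Δ₂ := c.half.conj_mem c.half.σ_mem hs hz₁
    have e4 : (σ * res Δ₂ z * σ⁻¹) * (σ * res Δ₁ z * σ⁻¹) = res Δ₁ z * res Δ₂ z := by
      have ecomm : res Δ₂ z * res Δ₁ z = res Δ₁ z * res Δ₂ z :=
        (commute_of_disjoint c.half.disj hz₁.2 hz₂.2).symm
      calc (σ * res Δ₂ z * σ⁻¹) * (σ * res Δ₁ z * σ⁻¹)
          = σ * (res Δ₂ z * res Δ₁ z) * σ⁻¹ := by group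
        _ = σ * (res Δ₁ z * res Δ₂ z) * σ⁻¹ := by rw [ecomm]
        _ = σ * z * σ⁻¹ := by rw [heq]
        _ = z := hσ'
        _ = res Δ₁ z * res Δ₂ z := heq.symm
    have e5 := eq_of_mul_eq_mul c.half.disj hA.2 hz₁.2 hB.2 hz₂.2 e4
    rcases c.uniq₂ _ hz₂ hc₂ with h2 | h2
    · left
      have : res Δ₁ z = 1 := by rw [← e5.1, h2]; group
      rw [← heq, this, h2, mul_one]
    · right
      have : res Δ₁ z = ζ₁ := by rw [← e5.1, h2]; exact c.symm.conj_zeta c.half.σ_mem hs.symm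
      rw [← heq, this, h2]
  · exfalso
    have e1 := c.conj_zeta hz h1
    have e2 := hcen ζ₁ c.mem₁.1
    have e3 : z * ζ₁ * z⁻¹ = ζ₁ := by rw [e2]; group
    exact c.zeta_ne (e3.symm.trans e1)

/-- `ζ₁ ζ₂` is an even permutation -/
theorem even (c : ZCtx Δ W Δ₁ Δ₂ σ ζ₁ ζ₂) : ζ₁ * ζ₂ ∈ alternatingGroup α := by
  rw [Equiv.Perm.mem_alternatingGroup]
  have e1 := c.conj_zeta c.half.σ_mem c.half.σ_swp
  rw [← e1]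
  simp only [Equiv.Perm.sign_mul, Equiv.Perm.sign_inv]
  have h1 : sign σ * sign σ = 1 := Int.units_mul_self _
  have h2 : sign ζ₁ * sign ζ₁ = 1 := Int.units_mul_self _
  calc sign ζ₁ * (sign σ * sign ζ₁ * sign σ) = (sign σ * sign σ) * (sign ζ₁ * sign ζ₁) := by
        rw [mul_comm (sign σ) (sign ζ₁)]
        ac_rfl
    _ = 1 := by rw [h1, h2, one_mul]

end ZCtx

end Cfsg.Agent.Lib.Helper38.Wr
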