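import Mathlib
import Cfsg.Agent.Lib.Helper38.WrD

set_option autoImplicit false
set_option linter.unusedSectionVars false

/-! Properties of transitive maximal `2`-subgroups, second part: no nontrivial central product
decomposition; the induction. -/

namespace Cfsg.Agent.Lib.Helper38.Wr

open Equiv Equiv.Perm
open Cfsg.Agent.Lib.Helper38.SylThree (setStab mem_setStab_of_forall)
open Cfsg.Agent.Lib.Helper38.SylTwo
open Cfsg.Agent.Lib.Helper38.SelfNorm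

variable {α : Type*} [Fintype α] [DecidableEq α]

namespace ZCtx

variable {Δ : Finset α} {W : Subgroup (Perm α)} {Δ₁ Δ₂ : Finset α} {σ ζ₁ ζ₂ : Perm α}

/-- the first restriction of a preserver in a normal subgroup commuting with a swapper is central -/
theorem pres_central_half (c : ZCtx Δ W Δ₁ Δ₂ σ ζ₁ ζ₂) {B : Subgroup (Perm α)} (hB : B ≤ W)
    (hBn : ∀ w ∈ W, ∀ b ∈ B, w * b * w⁻¹ ∈ B) {a₀ : Perm α} (hs : Swp Δ₁ Δ₂ a₀)
    (hcomm : ∀ b ∈ B, a₀ * b = b * a₀) {b : Perm α} (hb : b ∈ B)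
    (hb₁ : b ∈ setStab Δ₁) (hb₂ : b ∈ setStab Δ₂) : res Δ₁ b = 1 ∨ res Δ₁ b = ζ₁ := by
  have hbW := hB hb
  have hres := c.half.res_mem_half hbW hb₁ hb₂
  have heq := c.half.res_mul_res_eq hbW hb₁ hb₂
  apply c.uniq₁ _ ⟨hres.1, res_mem_suppIn Δ₁ b⟩
  intro g hg
  have hcB : b * (g * b⁻¹ * g⁻¹) ∈ B := B.mul_mem hb (hBn g hg.1 _ (B.inv_mem hb))
  have ecomm : res Δ₂ b * g = g * res Δ₂ b :=
    (commute_of_disjoint c.half.disj hg.2 (res_mem_suppIn Δ₂ b)).symm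
  have ec : b * (g * b⁻¹ * g⁻¹) = res Δ₁ b * g * (res Δ₁ b)⁻¹ * g⁻¹ := by
    conv_lhs => rw [← heq]
    calc res Δ₁ b * res Δ₂ b * (g * (res Δ₁ b * res Δ₂ b)⁻¹ * g⁻¹)
        = res Δ₁ b * (res Δ₂ b * g) * (res Δ₂ b)⁻¹ * (res Δ₁ b)⁻¹ * g⁻¹ := by group
      _ = res Δ₁ b * (g * res Δ₂ b) * (res Δ₂ b)⁻¹ * (res Δ₁ b)⁻¹ * g⁻¹ := by rw [ecomm]
      _ = res Δ₁ b * g * (res Δ₁ b)⁻¹ * g⁻¹ := by group
  have hc1 : res Δ₁ b * g * (res Δ₁ b)⁻¹ * g⁻¹ ∈ suppIn Δ₁ :=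
    Subgroup.mul_mem _ (Subgroup.mul_mem _ (Subgroup.mul_mem _ (res_mem_suppIn _ _) hg.2)
      (Subgroup.inv_mem _ (res_mem_suppIn _ _))) (Subgroup.inv_mem _ hg.2)
  have hc2 : res Δ₁ b * g * (res Δ₁ b)⁻¹ * g⁻¹ ∈ suppIn Δ₂ := by
    have h1 := hcomm _ hcB
    have h2 : a₀ * (b * (g * b⁻¹ * g⁻¹)) * a₀⁻¹ = b * (g * b⁻¹ * g⁻¹) := by rw [h1]; group
    rw [← ec, ← h2, ec]
    have := conj_mem_suppIn hc1 a₀
    rwa [image_eq_of_maps c.half.card_eq hs.1] at this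
  have h1 := eq_one_of_mem_suppIn_of_disjoint c.half.disj hc1 hc2
  calc res Δ₁ b * g = (res Δ₁ b * g * (res Δ₁ b)⁻¹ * g⁻¹) * (g * res Δ₁ b) := by group
    _ = g * res Δ₁ b := by rw [h1, one_mul]

/-- a preserver in a normal subgroup commuting with a swapper is central -/
theorem pres_central (c : ZCtx Δ W Δ₁ Δ₂ σ ζ₁ ζ₂) {B : Subgroup (Perm α)} (hB : B ≤ W)
    (hBn : ∀ w ∈ W, ∀ b ∈ B, w * b * w⁻¹ ∈ B) {a₀ : Perm α} (ha₀ : a₀ ∈ W) (hs : Swp Δ₁ Δ₂ a₀)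
    (hcomm : ∀ b ∈ B, a₀ * b = b * a₀) {b : Perm α} (hb : b ∈ B)
    (hb₁ : b ∈ setStab Δ₁) (hb₂ : b ∈ setStab Δ₂) : b = 1 ∨ b = ζ₁ * ζ₂ := by
  have hbW := hB hb
  have hres := c.half.res_mem_half hbW hb₁ hb₂
  have heq := c.half.res_mul_res_eq hbW hb₁ hb₂
  have h₁ := c.pres_central_half hB hBn hs hcomm hb hb₁ hb₂
  have h₂ := c.symm.pres_central_half hB hBn hs.symm hcomm hb hb₂ hb₁
  have hz₁ : res Δ₁ b ∈ W ⊓ suppIn Δ₁ := ⟨hres.1, res_mem_suppIn Δ₁ b⟩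
  have hz₂ : res Δ₂ b ∈ W ⊓ suppIn Δ₂ := ⟨hres.2, res_mem_suppIn Δ₂ b⟩
  have hσ := hcomm b hb
  have hσ' : a₀ * b * a₀⁻¹ = b := by rw [hσ]; group
  have hA : a₀ * res Δ₂ b * a₀⁻¹ ∈ W ⊓ suppIn Δ₁ := c.half.symm.conj_mem ha₀ hs.symm hz₂
  have hB' : a₀ * res Δ₁ b * a₀⁻¹ ∈ W ⊓ suppIn Δ₂ := c.half.conj_mem ha₀ hs hz₁
  have e4 : (a₀ * res Δ₂ b * a₀⁻¹) * (a₀ * res Δ₁ b * a₀⁻¹) = res Δ₁ b * res Δ₂ b := by
    have ecomm : res Δ₂ b * res Δ₁ b = res Δ₁ b * res Δ₂ b :=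
      (commute_of_disjoint c.half.disj hz₁.2 hz₂.2).symm
    calc (a₀ * res Δ₂ b * a₀⁻¹) * (a₀ * res Δ₁ b * a₀⁻¹)
        = a₀ * (res Δ₂ b * res Δ₁ b) * a₀⁻¹ := by group
      _ = a₀ * (res Δ₁ b * res Δ₂ b) * a₀⁻¹ := by rw [ecomm]
      _ = a₀ * b * a₀⁻¹ := by rw [heq]
      _ = b := hσ'
      _ = res Δ₁ b * res Δ₂ b := heq.symm
  have e5 := eq_of_mul_eq_mul c.half.disj hA.2 hz₁.2 hB'.2 hz₂.2 e4
  rcases h₂ with h2 | h2
  · left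
    have : res Δ₁ b = 1 := by rw [← e5.1, h2]; group
    rw [← heq, this, h2, mul_one]
  · right
    have : res Δ₁ b = ζ₁ := by rw [← e5.1, h2]; exact c.symm.conj_zeta ha₀ hs.symm
    rw [← heq, this, h2]

/-- a subgroup all of whose preservers are central is abelian -/
theorem abelian_of (c : ZCtx Δ W Δ₁ Δ₂ σ ζ₁ ζ₂) {A : Subgroup (Perm α)} (hA : A ≤ W)
    (hpc : ∀ a ∈ A, a ∈ setStab Δ₁ → a ∈ setStab Δ₂ → a = 1 ∨ a = ζ₁ * ζ₂) :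
    ∀ a ∈ A, ∀ a' ∈ A, a * a' = a' * a := by
  have hcen : ∀ a ∈ A, a ∈ setStab Δ₁ → a ∈ setStab Δ₂ → ∀ w ∈ W, a * w = w * a := by
    intro a ha h1 h2 w hw
    rcases hpc a ha h1 h2 with rfl | rfl
    · simp
    · exact c.central hw
  intro a ha a' ha'
  rcases c.half.dich a (hA ha) with h1 | h1
  · exact hcen a ha h1.1 h1.2 a' (hA ha')
  · rcases c.half.dich a' (hA ha') with h2 | h2
    · exact (hcen a' ha' h2.1 h2.2 a (hA ha)).symm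
    · have hinv := c.half.swp_inv (hA ha) h1
      have hp := c.half.swp_mul_pres (hA ha') (W.inv_mem (hA ha)) h2 hinv
      have hpA : a⁻¹ * a' ∈ A := A.mul_mem (A.inv_mem ha) ha'
      have hpc' := hcen _ hpA hp.1 hp.2 a (hA ha)
      calc a * a' = a * (a * (a⁻¹ * a')) := by group
        _ = a * ((a⁻¹ * a') * a) := by rw [hpc']
        _ = a' * a := by group

/-- no nontrivial central product decomposition -/
theorem cp (c : ZCtx Δ W Δ₁ Δ₂ σ ζ₁ ζ₂) (hnonab : ∃ a ∈ W, ∃ b ∈ W, a * b ≠ b * a)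
    (A B : Subgroup (Perm α)) (hA : A ≤ W) (hB : B ≤ W)
    (hAn : ∀ w ∈ W, ∀ a ∈ A, w * a * w⁻¹ ∈ A) (hBn : ∀ w ∈ W, ∀ b ∈ B, w * b * w⁻¹ ∈ B)
    (hc : ∀ a ∈ A, ∀ b ∈ B, a * b = b * a) (hAB : ∀ w ∈ W, ∃ a ∈ A, ∃ b ∈ B, w = a * b) :
    A = W ∨ B = W := by
  -- if `A` has a swapper and `B` has none then `A = W`
  have aux : ∀ (A B : Subgroup (Perm α)), A ≤ W → B ≤ W →
      (∀ w ∈ W, ∀ a ∈ A, w * a * w⁻¹ ∈ A) → (∀ w ∈ W, ∀ b ∈ B, w * b * w⁻¹ ∈ B) →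
      (∀ a ∈ A, ∀ b ∈ B, a * b = b * a) → (∀ w ∈ W, ∃ a ∈ A, ∃ b ∈ B, w = a * b ∨ w = b * a) →
      ∀ a₀ ∈ A, Swp Δ₁ Δ₂ a₀ → A = W ∨ ∃ b₀ ∈ B, Swp Δ₁ Δ₂ b₀ := by
    intro A B hA hB hAn hBn hc hAB a₀ ha₀ hs
    by_cases hex : ∃ b₀ ∈ B, Swp Δ₁ Δ₂ b₀
    · exact Or.inr hex
    left
    apply le_antisymm hA
    have hζA : ζ₁ * ζ₂ ∈ A := by
      have h1 : a₀ * (ζ₁ * a₀⁻¹ * ζ₁⁻¹) ∈ A :=
        A.mul_mem ha₀ (hAn ζ₁ c.mem₁.1 _ (A.inv_mem ha₀))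
      have e : a₀ * (ζ₁ * a₀⁻¹ * ζ₁⁻¹) = ζ₁ * ζ₂ := by
        have e1 := c.conj_zeta (hA ha₀) hs
        calc a₀ * (ζ₁ * a₀⁻¹ * ζ₁⁻¹) = (a₀ * ζ₁ * a₀⁻¹) * ζ₁⁻¹ := by group
          _ = ζ₂ * ζ₁ := by rw [e1, c.zeta_inv]
          _ = ζ₁ * ζ₂ := c.zeta_comm.symm
      rwa [e] at h1
    intro w hw
    obtain ⟨a, ha, b, hb, e⟩ := hAB w hw
    have hbA : b ∈ A := by
      rcases c.half.dich b (hB hb) with h1 | h1
      · rcases c.pres_central hB hBn (hA ha₀) hs (fun b hb => hc a₀ ha₀ b hb) hb h1.1 h1.2 with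
          rfl | rfl
        · exact A.one_mem
        · exact hζA
      · exact absurd ⟨b, hb, h1⟩ hex
    rcases e with rfl | rfl
    · exact A.mul_mem ha hbA
    · exact A.mul_mem hbA ha
  have hAB' : ∀ w ∈ W, ∃ a ∈ A, ∃ b ∈ B, w = a * b ∨ w = b * a := by
    intro w hw
    obtain ⟨a, ha, b, hb, e⟩ := hAB w hw
    exact ⟨a, ha, b, hb, Or.inl e⟩
  have hBA' : ∀ w ∈ W, ∃ b ∈ B, ∃ a ∈ A, w = b * a ∨ w = a * b := by
    intro w hw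
    obtain ⟨a, ha, b, hb, e⟩ := hAB w hw
    exact ⟨b, hb, a, ha, Or.inr e⟩
  have hc' : ∀ b ∈ B, ∀ a ∈ A, b * a = a * b := fun b hb a ha => (hc a ha b hb).symm
  -- both have swappers: contradiction
  have contra : ∀ a₀ ∈ A, Swp Δ₁ Δ₂ a₀ → ∀ b₀ ∈ B, Swp Δ₁ Δ₂ b₀ → False := by
    intro a₀ ha₀ hsa b₀ hb₀ hsb
    have hpB : ∀ b ∈ B, b ∈ setStab Δ₁ → b ∈ setStab Δ₂ → b = 1 ∨ b = ζ₁ * ζ₂ :=
      fun b hb h1 h2 => c.pres_central hB hBn (hA ha₀) hsa (fun b hb => hc a₀ ha₀ b hb) hb h1 h2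
    have hpA : ∀ a ∈ A, a ∈ setStab Δ₁ → a ∈ setStab Δ₂ → a = 1 ∨ a = ζ₁ * ζ₂ :=
      fun a ha h1 h2 => c.pres_central hA hAn (hB hb₀) hsb (fun a ha => hc' b₀ hb₀ a ha) ha h1 h2
    have abA := c.abelian_of hA hpA
    have abB := c.abelian_of hB hpB
    obtain ⟨w, hw, w', hw', hne⟩ := hnonab
    apply hne
    obtain ⟨a, ha, b, hb, rfl⟩ := hAB w hw
    obtain ⟨a', ha', b', hb', rfl⟩ := hAB w' hw'
    calc a * b * (a' * b') = a * (b * a') * b' := by group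
      _ = a * (a' * b) * b' := by rw [hc' b hb a' ha']
      _ = (a * a') * (b * b') := by group
      _ = (a' * a) * (b' * b) := by rw [abA a ha a' ha', abB b hb b' hb']
      _ = a' * (a * b') * b := by group
      _ = a' * (b' * a) * b := by rw [hc a ha b' hb']
      _ = a' * b' * (a * b) := by group
  obtain ⟨a₀, ha₀, b₀, hb₀, e⟩ := hAB σ c.half.σ_mem
  rcases c.half.dich a₀ (hA ha₀) with h1 | h1
  · rcases c.half.dich b₀ (hB hb₀) with h2 | h2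
    · exfalso
      have : σ ∈ setStab Δ₁ := by rw [e]; exact (setStab Δ₁).mul_mem h1.1 h2.1
      exact c.half.not_swap this c.half.σ_map₁
    · rcases aux B A hB hA hBn hAn hc' hBA' b₀ hb₀ h2 with h3 | ⟨a₁, ha₁, hs₁⟩
      · exact Or.inr h3
      · exact (contra a₁ ha₁ hs₁ b₀ hb₀ h2).elim
  · rcases aux A B hA hB hAn hBn hc hAB' a₀ ha₀ h1 with h3 | ⟨b₁, hb₁, hs₁⟩
    · exact Or.inl h3
    · exact (contra a₀ ha₀ h1 b₁ hb₁ hs₁).elim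

end ZCtx

/-- the package of properties of a transitive maximal `2`-subgroup -/
structure Props (Δ : Finset α) (W : Subgroup (Perm α)) : Prop where
  zeta : ∃ ζ ∈ W, ζ ≠ 1 ∧ (∀ w ∈ W, ζ * w = w * ζ) ∧
      (∀ z ∈ W, (∀ w ∈ W, z * w = w * z) → z = 1 ∨ z = ζ) ∧
      (4 ≤ Δ.card → ζ ∈ alternatingGroup α) ∧
      (4 ≤ Δ.card → ∃ x ∈ W, ∃ y ∈ W, x * y * x⁻¹ * y⁻¹ = ζ)
  odd : ∃ t ∈ W, t ∉ alternatingGroup α
  nonab : 4 ≤ Δ.card → ∃ a ∈ W, ∃ b ∈ W, a * b ≠ b * a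
  cp : ∀ A B : Subgroup (Perm α), A ≤ W → B ≤ W →
      (∀ w ∈ W, ∀ a ∈ A, w * a * w⁻¹ ∈ A) → (∀ w ∈ W, ∀ b ∈ B, w * b * w⁻¹ ∈ B) →
      (∀ a ∈ A, ∀ b ∈ B, a * b = b * a) → (∀ w ∈ W, ∃ a ∈ A, ∃ b ∈ B, w = a * b) →
      A = W ∨ B = W

theorem props_base {Δ : Finset α} {W : Subgroup (Perm α)} {Δ₁ Δ₂ : Finset α} {σ : Perm α}
    (h : HalfCtx Δ W Δ₁ Δ₂ σ) (h1 : Δ₁.card = 1) : Props Δ W := by
  obtain ⟨a, ha⟩ := Finset.card_eq_one.1 h1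
  obtain ⟨b, hb⟩ := Finset.card_eq_one.1 (h.card_eq ▸ h1)
  have hab : a ≠ b := by
    intro e
    have := h.disj
    rw [ha, hb, e] at this
    simp at this
  have hcard : Δ.card = 2 := by rw [h.card_union, h1]
  have hpres1 : ∀ m ∈ W, m ∈ setStab Δ₁ → m ∈ setStab Δ₂ → m = 1 := by
    intro m hm h1 h2
    ext x
    by_cases hxa : x = a
    · have := apply_mem_of_mem_setStab h1 (show x ∈ Δ₁ by rw [ha, hxa]; simp)
      rw [ha, Finset.mem_singleton] at this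
      rw [this, hxa]; rfl
    · by_cases hxb : x = b
      · have := apply_mem_of_mem_setStab h2 (show x ∈ Δ₂ by rw [hb, hxb]; simp)
        rw [hb, Finset.mem_singleton] at this
        rw [this, hxb]; rfl
      · have hx : x ∉ Δ := by
          rw [← h.union, ha, hb]
          simp [hxa, hxb]
        rw [h.max.1 hm x hx]; rfl
  have hWel : ∀ w ∈ W, w = 1 ∨ w = σ := by
    intro w hw
    rcases h.dich w hw with h1 | h1
    · exact Or.inl (hpres1 w hw h1.1 h1.2)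
    · right
      have h2 := h.pres_inv_mul hw h1.1
      have h3 := hpres1 _ (W.mul_mem (W.inv_mem h.σ_mem) hw) h2.1 h2.2
      calc w = σ * (σ⁻¹ * w) := by group
        _ = σ := by rw [h3, mul_one]
  have hσa : σ a = b := by
    have := h.σ_map₁ a (by rw [ha]; simp)
    rwa [hb, Finset.mem_singleton] at this
  have hσb : σ b = a := by
    have := h.σ_map₂ b (by rw [hb]; simp)
    rwa [ha, Finset.mem_singleton] at this
  have hσne : σ ≠ 1 := by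
    intro e
    rw [e] at hσa
    exact hab hσa
  have hσeq : σ = swap a b := by
    ext x
    by_cases hxa : x = a
    · rw [hxa, hσa, swap_apply_left]
    · by_cases hxb : x = b
      · rw [hxb, hσb, swap_apply_right]
      · have hx : x ∉ Δ := by
          rw [← h.union, ha, hb]
          simp [hxa, hxb]
        rw [h.max.1 h.σ_mem x hx, swap_apply_of_ne_of_ne hxa hxb]
  have hcomm : ∀ w ∈ W, σ * w = w * σ := by
    intro w hw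
    rcases hWel w hw with rfl | rfl
    · simp
    · rfl
  refine ⟨⟨σ, h.σ_mem, hσne, hcomm, fun z hz _ => hWel z hz, fun h4 => by omega,
    fun h4 => by omega⟩,
    ⟨σ, h.σ_mem, ?_⟩, fun h4 => by omega, ?_⟩
  · rw [Equiv.Perm.mem_alternatingGroup, hσeq, Equiv.Perm.sign_swap hab]
    decide
  · intro A B hA hB _ _ _ hAB
    obtain ⟨a₀, ha₀, b₀, hb₀, e⟩ := hAB σ h.σ_mem
    rcases hWel a₀ (hA ha₀) with h1 | h1
    · right
      rw [h1, one_mul] at e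
      apply le_antisymm hB
      intro w hw
      rcases hWel w hw with rfl | rfl
      · exact B.one_mem
      · rw [e]; exact hb₀
    · left
      apply le_antisymm hA
      intro w hw
      rcases hWel w hw with rfl | rfl
      · exact A.one_mem
      · rw [← h1]; exact ha₀

theorem props_step {Δ : Finset α} {W : Subgroup (Perm α)} {Δ₁ Δ₂ : Finset α} {σ : Perm α}
    (h : HalfCtx Δ W Δ₁ Δ₂ σ) (p₁ : Props Δ₁ (W ⊓ suppIn Δ₁)) (p₂ : Props Δ₂ (W ⊓ suppIn Δ₂)) :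
    Props Δ W := by
  obtain ⟨ζ₁, hζ₁W, hζ₁ne, hζ₁c, hζ₁u, -, -⟩ := p₁.zeta
  obtain ⟨ζ₂, hζ₂W, hζ₂ne, hζ₂c, hζ₂u, -, -⟩ := p₂.zeta
  have c : ZCtx Δ W Δ₁ Δ₂ σ ζ₁ ζ₂ := ⟨h, hζ₁W, hζ₂W, hζ₁ne, hζ₂ne, hζ₁c, hζ₂c, hζ₁u, hζ₂u⟩
  have hnonab : ∃ a ∈ W, ∃ b ∈ W, a * b ≠ b * a := by
    refine ⟨σ, h.σ_mem, ζ₁, hζ₁W.1, ?_⟩
    intro e
    have e1 := c.conj_zeta h.σ_mem h.σ_swp
    have e2 : σ * ζ₁ * σ⁻¹ = ζ₁ := by rw [e]; group
    exact c.zeta_ne (e2.symm.trans e1)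
  refine ⟨⟨ζ₁ * ζ₂, c.mul_mem, c.mul_ne_one, fun w hw => c.central hw,
    fun z hz hcen => c.unique hz hcen, fun _ => c.even, fun _ => ?_⟩, ?_, fun _ => hnonab, ?_⟩
  · refine ⟨σ, h.σ_mem, ζ₁, hζ₁W.1, ?_⟩
    have e1 := c.conj_zeta h.σ_mem h.σ_swp
    calc σ * ζ₁ * σ⁻¹ * ζ₁⁻¹ = ζ₂ * ζ₁ := by rw [e1, c.zeta_inv]
      _ = ζ₁ * ζ₂ := c.zeta_comm.symm
  · obtain ⟨t, ht, hodd⟩ := p₁.odd
    exact ⟨t, ht.1, hodd⟩
  · intro A B hA hB hAn hBn hc hAB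
    exact c.cp hnonab A B hA hB hAn hBn hc hAB

/-- **Properties of transitive maximal `2`-subgroups.** -/
theorem props_of_ts : ∀ (n : ℕ) (Δ : Finset α) (W : Subgroup (Perm α)), Δ.card = n → 2 ≤ n →
    TS Δ W → Props Δ W := by
  intro n
  induction n using Nat.strong_induction_on with
  | _ n ih =>
    intro Δ W hn h2 hW
    obtain ⟨Δ₁, Δ₂, σ, h⟩ := exists_halfCtx hW (by omega)
    have hcard := h.card_union
    have hpos : 0 < Δ₁.card := Finset.card_pos.2 h.ne₁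
    by_cases h1 : Δ₁.card = 1
    · exact props_base h h1
    · have hlt : Δ₁.card < n := by omega
      have hlt' : Δ₂.card < n := by rw [← h.card_eq]; exact hlt
      have p₁ := ih _ hlt Δ₁ _ rfl (by omega) (h.ts₁ hW.2)
      have p₂ := ih _ hlt' Δ₂ _ rfl (by rw [← h.card_eq]; omega) (h.ts₂ hW.2)
      exact props_step h p₁ p₂

theorem TS.props {Δ : Finset α} {W : Subgroup (Perm α)} (hW : TS Δ W) (h2 : 2 ≤ Δ.card) :
    Props Δ W := props_of_ts _ Δ W rfl h2 hW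

end Cfsg.Agent.Lib.Helper38.Wr
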