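import Mathlib
import Cfsg.Prelude.Def_TwoFusion
import Cfsg.Agent.Lib.Helper38.WrE

set_option autoImplicit false
set_option linter.unusedSectionVars false

/-! Direct decompositions of the even part of a maximal `2`-subgroup of the symmetric group:
projection to an orbit, and indecomposability when restriction to an orbit is injective. -/

namespace Cfsg.Agent.Lib.Helper38.Wr

open Equiv Equiv.Perm
open Cfsg.Agent.Lib.Helper38.SylThree (setStab mem_setStab_of_forall)
open Cfsg.Agent.Lib.Helper38.SylTwo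
open Cfsg.Agent.Lib.Helper38.SelfNorm

variable {α : Type*} [Fintype α] [DecidableEq α]

theorem mul_mem_alt_of_not {u v : Perm α} (hu : u ∉ alternatingGroup α)
    (hv : v ∉ alternatingGroup α) : u * v ∈ alternatingGroup α := by
  rw [Equiv.Perm.mem_alternatingGroup] at *
  rcases Int.units_eq_one_or (sign u) with h | h
  · exact absurd h hu
  rcases Int.units_eq_one_or (sign v) with h' | h'
  · exact absurd h' hv
  rw [Equiv.Perm.sign_mul, h, h']; rfl

theorem not_mem_alt_mul {u v : Perm α} (hu : u ∉ alternatingGroup α)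
    (hv : v ∈ alternatingGroup α) : u * v ∉ alternatingGroup α := by
  intro h
  apply hu
  have := Subgroup.mul_mem _ h (Subgroup.inv_mem _ hv)
  simpa using this

theorem not_mem_alt_mul' {u v : Perm α} (hu : u ∈ alternatingGroup α)
    (hv : v ∉ alternatingGroup α) : u * v ∉ alternatingGroup α := by
  intro h
  apply hv
  have := Subgroup.mul_mem _ (Subgroup.inv_mem _ hu) h
  simpa using this

section dp
variable {P A B : Subgroup (Perm α)}

theorem dp_exists (h : Cfsg.IsInternalDirectProduct A B P) {p : Perm α} (hp : p ∈ P) :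
    ∃ a ∈ A, ∃ b ∈ B, p = a * b := by
  obtain ⟨-, -, hc, -, hs⟩ := h
  rw [← hs] at hp
  exact exists_mul_of_mem_sup hc hp

theorem dp_symm (h : Cfsg.IsInternalDirectProduct A B P) : Cfsg.IsInternalDirectProduct B A P :=
  ⟨h.2.1, h.1, fun b hb a ha => (h.2.2.1 a ha b hb).symm, by rw [inf_comm]; exact h.2.2.2.1,
    by rw [sup_comm]; exact h.2.2.2.2⟩

theorem dp_normal (h : Cfsg.IsInternalDirectProduct A B P) {p : Perm α} (hp : p ∈ P) {a : Perm α}
    (ha : a ∈ A) : p * a * p⁻¹ ∈ A := by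
  obtain ⟨a', ha', b', hb', rfl⟩ := dp_exists h hp
  have hc := h.2.2.1 a ha b' hb'
  have e : a' * b' * a * (a' * b')⁻¹ = a' * a * a'⁻¹ := by
    calc a' * b' * a * (a' * b')⁻¹ = a' * (b' * a) * b'⁻¹ * a'⁻¹ := by group
      _ = a' * (a * b') * b'⁻¹ * a'⁻¹ := by rw [hc]
      _ = a' * a * a'⁻¹ := by group
  rw [e]; exact A.mul_mem (A.mul_mem ha' ha) (A.inv_mem ha')

end dp

/-- projection of a subgroup to an invariant set -/
noncomputable def proj (O : Finset α) (A : Subgroup (Perm α)) : Subgroup (Perm α) :=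
  (A.subgroupOf (setStab O)).map (resHom O)

theorem mem_proj {O : Finset α} {A : Subgroup (Perm α)} (hA : A ≤ setStab O) {g : Perm α} :
    g ∈ proj O A ↔ ∃ a ∈ A, res O a = g := by
  unfold proj
  rw [Subgroup.mem_map]
  constructor
  · rintro ⟨v, hv, rfl⟩
    exact ⟨v.1, Subgroup.mem_subgroupOf.1 hv, rfl⟩
  · rintro ⟨v, hv, rfl⟩
    exact ⟨⟨v, hA hv⟩, Subgroup.mem_subgroupOf.2 hv, rfl⟩

theorem res_conj {O : Finset α} {p a : Perm α} (hp : p ∈ setStab O) (ha : a ∈ setStab O) :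
    res O (p * a * p⁻¹) = res O p * res O a * (res O p)⁻¹ := by
  rw [res_mul ((setStab O).mul_mem hp ha) ((setStab O).inv_mem hp), res_mul hp ha, res_inv hp]

/-- perturbing by commuting elements does not change a commutator -/
theorem comm_pert {G : Type*} [Group G] {p q c c' : G} (h1 : c * q = q * c) (h2 : c * c' = c' * c)
    (h3 : c' * p⁻¹ = p⁻¹ * c') :
    (p * c) * (q * c') * (p * c)⁻¹ * (q * c')⁻¹ = p * q * p⁻¹ * q⁻¹ := by
  calc (p * c) * (q * c') * (p * c)⁻¹ * (q * c')⁻¹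
      = p * (c * q) * c' * (c⁻¹ * p⁻¹) * (c'⁻¹ * q⁻¹) := by group
    _ = p * (q * c) * c' * (c⁻¹ * p⁻¹) * (c'⁻¹ * q⁻¹) := by rw [h1]
    _ = p * q * (c * c') * c⁻¹ * p⁻¹ * c'⁻¹ * q⁻¹ := by group
    _ = p * q * (c' * c) * c⁻¹ * p⁻¹ * c'⁻¹ * q⁻¹ := by rw [h2]
    _ = p * q * (c' * p⁻¹) * c'⁻¹ * q⁻¹ := by group
    _ = p * q * (p⁻¹ * c') * c'⁻¹ * q⁻¹ := by rw [h3]
    _ = p * q * p⁻¹ * q⁻¹ := by group

section orbit
variable {T P A B : Subgroup (Perm α)}

theorem le_setStab_orb' (hP : P ≤ T) (x : α) : P ≤ setStab (orb T x) :=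
  hP.trans (le_setStab_orb T x)

/-- the projections of the factors of a direct decomposition of `P` to an orbit on which `P`
induces the full constituent: one of them is everything -/
theorem cp_orbit (hT : IsMax2 Finset.univ T) (hP : P ≤ T)
    (hdp : Cfsg.IsInternalDirectProduct A B P) (x : α) (h2 : 2 ≤ (orb T x).card)
    (hlift : ∀ w ∈ T ⊓ suppIn (orb T x), ∃ p ∈ P, res (orb T x) p = w) :
    proj (orb T x) A = T ⊓ suppIn (orb T x) ∨ proj (orb T x) B = T ⊓ suppIn (orb T x) := by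
  have hTO := le_setStab_orb T x
  have hPO := le_setStab_orb' hP x
  have hAO : A ≤ setStab (orb T x) := hdp.1.trans hPO
  have hBO : B ≤ setStab (orb T x) := hdp.2.1.trans hPO
  have hts : TS (orb T x) (T ⊓ suppIn (orb T x)) := ts_orb hT (Finset.mem_univ x)
  have props := hts.props h2
  have key : ∀ (A : Subgroup (Perm α)), A ≤ P → (∀ p ∈ P, ∀ a ∈ A, p * a * p⁻¹ ∈ A) →
      proj (orb T x) A ≤ T ⊓ suppIn (orb T x) ∧
      ∀ w ∈ T ⊓ suppIn (orb T x), ∀ g ∈ proj (orb T x) A, w * g * w⁻¹ ∈ proj (orb T x) A := by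
    intro A hA hn
    have hAO : A ≤ setStab (orb T x) := hA.trans hPO
    constructor
    · intro g hg
      obtain ⟨a, ha, rfl⟩ := (mem_proj hAO).1 hg
      exact ⟨res_mem hT _ hTO (hP (hA ha)), res_mem_suppIn _ _⟩
    · intro w hw g hg
      obtain ⟨a, ha, rfl⟩ := (mem_proj hAO).1 hg
      obtain ⟨p, hp, rfl⟩ := hlift w hw
      rw [← res_conj (hPO hp) (hAO ha)]
      exact (mem_proj hAO).2 ⟨_, hn p hp a ha, rfl⟩
  have kA := key A hdp.1 (fun p hp a ha => dp_normal hdp hp ha)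
  have kB := key B hdp.2.1 (fun p hp b hb => dp_normal (dp_symm hdp) hp hb)
  apply props.cp _ _ kA.1 kB.1 kA.2 kB.2
  · intro g hg g' hg'
    obtain ⟨a, ha, rfl⟩ := (mem_proj hAO).1 hg
    obtain ⟨b, hb, rfl⟩ := (mem_proj hBO).1 hg'
    rw [← res_mul (hAO ha) (hBO hb), ← res_mul (hBO hb) (hAO ha), hdp.2.2.1 a ha b hb]
  · intro w hw
    obtain ⟨p, hp, rfl⟩ := hlift w hw
    obtain ⟨a, ha, b, hb, rfl⟩ := dp_exists hdp hp
    exact ⟨_, (mem_proj hAO).2 ⟨a, ha, rfl⟩, _, (mem_proj hBO).2 ⟨b, hb, rfl⟩,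
      res_mul (hAO ha) (hBO hb)⟩

/-- if the projection of `A` is the full constituent, the projections of elements of `B` are
central in it -/
theorem cen_of_proj_eq (hP : P ≤ T) (hdp : Cfsg.IsInternalDirectProduct A B P) (x : α)
    (h : proj (orb T x) A = T ⊓ suppIn (orb T x)) :
    ∀ b ∈ B, ∀ w ∈ T ⊓ suppIn (orb T x), res (orb T x) b * w = w * res (orb T x) b := by
  have hPO := le_setStab_orb' hP x
  have hAO : A ≤ setStab (orb T x) := hdp.1.trans hPO
  have hBO : B ≤ setStab (orb T x) := hdp.2.1.trans hPO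
  intro b hb w hw
  rw [← h] at hw
  obtain ⟨a, ha, rfl⟩ := (mem_proj hAO).1 hw
  rw [← res_mul (hAO ha) (hBO hb), ← res_mul (hBO hb) (hAO ha), hdp.2.2.1 a ha b hb]

/-- **Indecomposability from an injective projection.** -/
theorem indec_of_inj (hT : IsMax2 Finset.univ T) (hP : P ≤ T)
    (hdp : Cfsg.IsInternalDirectProduct A B P) (x : α) (h2 : 2 ≤ (orb T x).card)
    (hlift : ∀ w ∈ T ⊓ suppIn (orb T x), ∃ p ∈ P, res (orb T x) p = w)
    (hinj : ∀ p ∈ P, res (orb T x) p = 1 → p = 1) : A = ⊥ ∨ B = ⊥ := by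
  have hPO := le_setStab_orb' hP x
  have hTO := le_setStab_orb T x
  have key : ∀ (A B : Subgroup (Perm α)), Cfsg.IsInternalDirectProduct A B P →
      proj (orb T x) A = T ⊓ suppIn (orb T x) → B = ⊥ := by
    intro A B hdp h
    have hAO : A ≤ setStab (orb T x) := hdp.1.trans hPO
    have hBO : B ≤ setStab (orb T x) := hdp.2.1.trans hPO
    rw [eq_bot_iff]
    intro b hb
    have hbW : res (orb T x) b ∈ T ⊓ suppIn (orb T x) :=
      ⟨res_mem hT _ hTO (hP (hdp.2.1 hb)), res_mem_suppIn _ _⟩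
    rw [← h] at hbW
    obtain ⟨a, ha, e⟩ := (mem_proj hAO).1 hbW
    have h1 : res (orb T x) (a⁻¹ * b) = 1 := by
      rw [res_mul ((setStab _).inv_mem (hAO ha)) (hBO hb), res_inv (hAO ha), e]
      group
    have h2 := hinj _ (P.mul_mem (P.inv_mem (hdp.1 ha)) (hdp.2.1 hb)) h1
    have h3 : b = a := by
      calc b = a * (a⁻¹ * b) := by group
        _ = a := by rw [h2, mul_one]
    have h4 : b ∈ A ⊓ B := ⟨h3 ▸ ha, hb⟩
    rw [hdp.2.2.2.1] at h4
    exact h4
  rcases cp_orbit hT hP hdp x h2 hlift with h | h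
  · exact Or.inr (key A B hdp h)
  · exact Or.inl (key B A (dp_symm hdp) h)

end orbit

end Cfsg.Agent.Lib.Helper38.Wr
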