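import Mathlib
import Cfsg.Prelude.Def_TwoFusion
import Cfsg.Agent.Lib.Helper38.WrF

set_option autoImplicit false
set_option linter.unusedSectionVars false

/-! Indecomposability of the even part of a maximal `2`-subgroup with at least two orbits of size
at least four and no orbit of size two. -/

namespace Cfsg.Agent.Lib.Helper38.Wr

open Equiv Equiv.Perm
open Cfsg.Agent.Lib.Helper38.SylThree (setStab mem_setStab_of_forall)
open Cfsg.Agent.Lib.Helper38.SylTwo
open Cfsg.Agent.Lib.Helper38.SelfNorm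

variable {α : Type*} [Fintype α] [DecidableEq α]

theorem res_eq_one_of_disjoint {O O' : Finset α} (hd : Disjoint O O') {s : Perm α}
    (hs : s ∈ suppIn O') : res O s = 1 :=
  res_eq_one_of_fix (fun z hz => hs z (Finset.disjoint_left.1 hd hz))

theorem res_comm4 {O : Finset α} {p q : Perm α} (hp : p ∈ setStab O) (hq : q ∈ setStab O) :
    res O (p * q * p⁻¹ * q⁻¹) = res O p * res O q * (res O p)⁻¹ * (res O q)⁻¹ := by
  rw [res_mul ((setStab O).mul_mem ((setStab O).mul_mem hp hq) ((setStab O).inv_mem hp))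
    ((setStab O).inv_mem hq), res_mul ((setStab O).mul_mem hp hq) ((setStab O).inv_mem hp),
    res_mul hp hq, res_inv hp, res_inv hq]

theorem res_singleton {T : Subgroup (Perm α)} {z : α} (h1 : (orb T z).card = 1) {t : Perm α}
    (ht : t ∈ T) : res (orb T z) t = 1 := by
  apply res_eq_one_of_fix
  intro w hw
  obtain ⟨v, hv⟩ := Finset.card_eq_one.1 h1
  have hw' := apply_mem_of_mem_setStab (mem_setStab_orb ht z) hw
  rw [hv, Finset.mem_singleton] at hw hw'
  rw [hw', hw]

/-- the elements of `B` project to central elements of the constituent on the orbit of `x` -/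
def CenB (T B : Subgroup (Perm α)) (x : α) : Prop :=
  ∀ b ∈ B, ∀ w ∈ T ⊓ suppIn (orb T x), res (orb T x) b * w = w * res (orb T x) b

/-- a direct decomposition of the even part of a maximal `2`-subgroup without orbits of size two
and with at least two orbits of size at least four -/
structure MCtx (T A B : Subgroup (Perm α)) : Prop where
  max : IsMax2 Finset.univ T
  sizes : ∀ x, (orb T x).card = 1 ∨ 4 ≤ (orb T x).card
  dp : Cfsg.IsInternalDirectProduct A B (T ⊓ alternatingGroup α)
  two : ∃ x y, 4 ≤ (orb T x).card ∧ 4 ≤ (orb T y).card ∧ y ∉ orb T x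

namespace MCtx

variable {T A B : Subgroup (Perm α)}

theorem symm (c : MCtx T A B) : MCtx T B A := ⟨c.max, c.sizes, dp_symm c.dp, c.two⟩

theorem exists_other (c : MCtx T A B) (x : α) : ∃ y, 4 ≤ (orb T y).card ∧ y ∉ orb T x := by
  obtain ⟨x₀, y₀, hx₀, hy₀, hne⟩ := c.two
  by_cases h : x₀ ∈ orb T x
  · refine ⟨y₀, hy₀, ?_⟩
    rw [← orb_eq_of_mem h]
    exact hne
  · exact ⟨x₀, hx₀, h⟩

theorem props (c : MCtx T A B) {x : α} (hx : 4 ≤ (orb T x).card) :
    Props (orb T x) (T ⊓ suppIn (orb T x)) :=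
  (ts_orb c.max (Finset.mem_univ x)).props (by omega)

theorem lift' (c : MCtx T A B) {x y : α} (hy : y ∉ orb T x) {s : Perm α}
    (hs : s ∈ T ⊓ suppIn (orb T y)) (hso : s ∉ alternatingGroup α) {w : Perm α}
    (hw : w ∈ T ⊓ suppIn (orb T x)) :
    ∃ e : ℕ, w * s ^ e ∈ T ⊓ alternatingGroup α ∧ res (orb T x) (w * s ^ e) = w := by
  have hd := orb_disjoint hy
  have hres : ∀ e : ℕ, res (orb T x) (w * s ^ e) = w := by
    intro e
    have hse : s ^ e ∈ suppIn (orb T y) := Subgroup.pow_mem _ hs.2 e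
    rw [res_mul (suppIn_le_setStab _ hw.2) (le_setStab_orb T x (Subgroup.pow_mem _ hs.1 e)),
      res_eq_self hw.2, res_eq_one_of_disjoint hd hse, mul_one]
  by_cases hwe : w ∈ alternatingGroup α
  · refine ⟨0, ?_, hres 0⟩
    rw [pow_zero, mul_one]
    exact ⟨hw.1, hwe⟩
  · refine ⟨1, ?_, hres 1⟩
    rw [pow_one]
    exact ⟨T.mul_mem hw.1 hs.1, mul_mem_alt_of_not hwe hso⟩

theorem lift (c : MCtx T A B) {x : α} (hx : 4 ≤ (orb T x).card) :
    ∀ w ∈ T ⊓ suppIn (orb T x), ∃ p ∈ T ⊓ alternatingGroup α, res (orb T x) p = w := by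
  intro w hw
  obtain ⟨y, hy4, hy⟩ := c.exists_other x
  obtain ⟨s, hs, hso⟩ := (c.props hy4).odd
  obtain ⟨e, he, hr⟩ := c.lift' hy hs hso hw
  exact ⟨_, he, hr⟩

theorem dich (c : MCtx T A B) {x : α} (hx : 4 ≤ (orb T x).card) : CenB T B x ∨ CenB T A x := by
  rcases cp_orbit c.max inf_le_left c.dp x (by omega) (c.lift hx) with h | h
  · exact Or.inl (cen_of_proj_eq inf_le_left c.dp x h)
  · exact Or.inr (cen_of_proj_eq inf_le_left (dp_symm c.dp) x h)

theorem cen_cases (c : MCtx T A B) {x : α} (hx : 4 ≤ (orb T x).card) (hc : CenB T B x)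
    {b : Perm α} (hb : b ∈ B) :
    res (orb T x) b = 1 ∨ (res (orb T x) b ∈ alternatingGroup α ∧
      ∃ u ∈ T ⊓ suppIn (orb T x), ∃ v ∈ T ⊓ suppIn (orb T x),
        u * v * u⁻¹ * v⁻¹ = res (orb T x) b) := by
  obtain ⟨ζ, hζW, -, -, hu, hev, hcm⟩ := (c.props hx).zeta
  have hbW : res (orb T x) b ∈ T ⊓ suppIn (orb T x) :=
    ⟨res_mem c.max _ (le_setStab_orb T x) (c.dp.2.1 hb).1, res_mem_suppIn _ _⟩
  rcases hu _ hbW (hc b hb) with h | h
  · exact Or.inl h
  · right
    rw [h]
    exact ⟨hev hx, hcm hx⟩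

theorem even_of_cen (c : MCtx T A B) {x : α} (hx : 4 ≤ (orb T x).card) (hc : CenB T B x)
    {b : Perm α} (hb : b ∈ B) : res (orb T x) b ∈ alternatingGroup α := by
  rcases c.cen_cases hx hc hb with h | h
  · rw [h]; exact one_mem _
  · exact h.1

theorem mixed_false (c : MCtx T A B) {x y : α} (hx : 4 ≤ (orb T x).card)
    (hy4 : 4 ≤ (orb T y).card) (hy : y ∉ orb T x) (hcx : CenB T B x) (hcy : CenB T A y) :
    False := by
  obtain ⟨s, hs, hso⟩ := (c.props hx).odd
  obtain ⟨s', hs', hso'⟩ := (c.props hy4).odd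
  have hd := orb_disjoint hy
  have hg : s * s' ∈ T ⊓ alternatingGroup α :=
    ⟨T.mul_mem hs.1 hs'.1, mul_mem_alt_of_not hso hso'⟩
  obtain ⟨a, ha, b, hb, e⟩ := dp_exists c.dp hg
  have haP := c.dp.1 ha
  have hbP := c.dp.2.1 hb
  have hTO := le_setStab_orb T x
  have e1 : res (orb T x) (s * s') = s := by
    rw [res_mul (hTO hs.1) (hTO hs'.1), res_eq_self hs.2, res_eq_one_of_disjoint hd hs'.2, mul_one]
  have e2 : res (orb T x) a * res (orb T x) b = s := by
    rw [← res_mul (hTO haP.1) (hTO hbP.1), ← e, e1]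
  have hbe := c.even_of_cen hx hcx hb
  have hao : res (orb T x) a ∉ alternatingGroup α := by
    intro h
    apply hso
    rw [← e2]
    exact Subgroup.mul_mem _ h hbe
  have hTO' : T ≤ setStab (orb T x)ᶜ := by rw [setStab_compl]; exact hTO
  have ha'T : res (orb T x)ᶜ a ∈ T := res_mem c.max _ hTO' haP.1
  have ha' : res (orb T x)ᶜ a ∈ alternatingGroup α := by
    apply mem_of_orb_res' T
    · intro z; exact mem_setStab_orb ha'T z
    · intro z
      by_cases hz : z ∈ orb T x
      · rw [orb_eq_of_mem hz]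
        have h1 : res (orb T x) (res (orb T x)ᶜ a) = 1 := by
          apply res_eq_one_of_fix
          intro w hw
          apply res_apply_of_not_mem
          rw [Finset.mem_compl, not_not]; exact hw
        rw [h1]; exact one_mem _
      · have hdz := orb_disjoint hz
        have e3 : res (orb T z) (res (orb T x)ᶜ a) = res (orb T z) a := by
          apply res_congr (mem_setStab_orb ha'T z) (mem_setStab_orb haP.1 z)
          intro w hw
          apply res_apply_of_mem (hTO' haP.1)
          rw [Finset.mem_compl]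
          exact Finset.disjoint_right.1 hdz hw
        rw [e3]
        rcases c.sizes z with h1 | h4
        · rw [res_singleton h1 haP.1]; exact one_mem _
        · by_cases hzy : z ∈ orb T y
          · rw [orb_eq_of_mem hzy]
            exact c.symm.even_of_cen hy4 hcy ha
          · rcases c.dich h4 with hcb | hca
            · have hdy := orb_disjoint hzy
              have hTz := le_setStab_orb T z
              have e4 : res (orb T z) (s * s') = 1 := by
                rw [res_mul (hTz hs.1) (hTz hs'.1), res_eq_one_of_disjoint hdz.symm hs.2,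
                  res_eq_one_of_disjoint hdy.symm hs'.2, mul_one]
              have e5 : res (orb T z) a * res (orb T z) b = 1 := by
                rw [← res_mul (hTz haP.1) (hTz hbP.1), ← e, e4]
              have e6 : res (orb T z) a = (res (orb T z) b)⁻¹ := eq_inv_of_mul_eq_one_left e5
              rw [e6]
              exact Subgroup.inv_mem _ (c.even_of_cen h4 hcb hb)
            · exact c.symm.even_of_cen h4 hca ha
  apply hao
  have e7 : res (orb T x) a * res (orb T x)ᶜ a = a := res_mul_res_compl (hTO haP.1)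
  rw [eq_mul_inv_of_mul_eq e7]
  exact Subgroup.mul_mem _ haP.2 (Subgroup.inv_mem _ ha')

theorem allCenB (c : MCtx T A B) {x₀ : α} (hx₀ : 4 ≤ (orb T x₀).card) (hc₀ : CenB T B x₀) :
    ∀ y, 4 ≤ (orb T y).card → CenB T B y := by
  intro y hy4
  by_cases hy : y ∈ orb T x₀
  · unfold CenB
    rw [orb_eq_of_mem hy]
    exact hc₀
  · rcases c.dich hy4 with h | h
    · exact h
    · exact (c.mixed_false hx₀ hy4 hy hc₀ h).elim

theorem B_bot (c : MCtx T A B) (hall : ∀ y, 4 ≤ (orb T y).card → CenB T B y) : B = ⊥ := by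
  have hcenT : ∀ b ∈ B, ∀ t ∈ T, b * t = t * b := by
    intro b hb t ht
    have hbT := (c.dp.2.1 hb).1
    have hk : b * t * b⁻¹ * t⁻¹ ∈ (⊥ : Subgroup (Perm α)) := by
      apply mem_of_orb_res' T
      · intro z
        exact mem_setStab_orb
          (T.mul_mem (T.mul_mem (T.mul_mem hbT ht) (T.inv_mem hbT)) (T.inv_mem ht)) z
      · intro z
        have hTz := le_setStab_orb T z
        rw [res_comm4 (hTz hbT) (hTz ht), Subgroup.mem_bot]
        rcases c.sizes z with h1 | h4
        · rw [res_singleton h1 hbT, res_singleton h1 ht]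
          group
        · have hc := hall z h4 b hb (res (orb T z) t)
            ⟨res_mem c.max _ hTz ht, res_mem_suppIn _ _⟩
          rw [hc]
          group
    rw [Subgroup.mem_bot] at hk
    calc b * t = (b * t * b⁻¹ * t⁻¹) * (t * b) := by group
      _ = t * b := by rw [hk, one_mul]
  have hζA : ∀ x, 4 ≤ (orb T x).card → ∀ u ∈ T ⊓ suppIn (orb T x),
      ∀ v ∈ T ⊓ suppIn (orb T x), u * v * u⁻¹ * v⁻¹ ∈ A := by
    intro x hx u hu v hv
    obtain ⟨y, hy4, hy⟩ := c.exists_other x
    obtain ⟨s, hs, hso⟩ := (c.props hy4).odd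
    obtain ⟨e, hp, -⟩ := c.lift' hy hs hso hu
    obtain ⟨f, hq, -⟩ := c.lift' hy hs hso hv
    have hd := orb_disjoint hy
    have hse : s ^ e ∈ suppIn (orb T y) := Subgroup.pow_mem _ hs.2 e
    have hsf : s ^ f ∈ suppIn (orb T y) := Subgroup.pow_mem _ hs.2 f
    have k1 : (u * s ^ e) * (v * s ^ f) * (u * s ^ e)⁻¹ * (v * s ^ f)⁻¹ =
        u * v * u⁻¹ * v⁻¹ := by
      apply comm_pert
      · exact (commute_of_disjoint hd hv.2 hse).symm
      · exact ((Commute.refl s).pow_pow e f).eq
      · exact (commute_of_disjoint hd (Subgroup.inv_mem _ hu.2) hsf).symm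
    obtain ⟨a, ha, b, hb, e1⟩ := dp_exists c.dp hp
    obtain ⟨a', ha', b', hb', e2⟩ := dp_exists c.dp hq
    have k2 : (a * b) * (a' * b') * (a * b)⁻¹ * (a' * b')⁻¹ = a * a' * a⁻¹ * a'⁻¹ := by
      apply comm_pert
      · exact (c.dp.2.2.1 a' ha' b hb).symm
      · exact hcenT b hb b' (c.dp.2.1 hb').1
      · exact (c.dp.2.2.1 a⁻¹ (A.inv_mem ha) b' hb').symm
    rw [← k1, e1, e2, k2]
    exact A.mul_mem (A.mul_mem (A.mul_mem ha ha') (A.inv_mem ha)) (A.inv_mem ha')
  rw [eq_bot_iff]
  intro b hb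
  have hbA : b ∈ A := by
    apply mem_of_orb_res' T
    · intro z; exact mem_setStab_orb (c.dp.2.1 hb).1 z
    · intro z
      rcases c.sizes z with h1 | h4
      · rw [res_singleton h1 (c.dp.2.1 hb).1]; exact A.one_mem
      · rcases c.cen_cases h4 (hall z h4) hb with h | ⟨-, u, hu, v, hv, e⟩
        · rw [h]; exact A.one_mem
        · rw [← e]; exact hζA z h4 u hu v hv
  have h3 : b ∈ A ⊓ B := ⟨hbA, hb⟩
  rw [c.dp.2.2.2.1] at h3
  exact h3

/-- **Indecomposability, several large orbits.** -/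
theorem indec_multi (c : MCtx T A B) : A = ⊥ ∨ B = ⊥ := by
  obtain ⟨x, y, hx, -, -⟩ := c.two
  rcases c.dich hx with h | h
  · exact Or.inr (c.B_bot (c.allCenB hx h))
  · exact Or.inl (c.symm.B_bot (c.symm.allCenB hx h))

end MCtx

end Cfsg.Agent.Lib.Helper38.Wr
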