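import Mathlib
import Cfsg.Prelude.Def_TwoFusion
import Cfsg.Agent.Lib.Helper38.WrG

set_option autoImplicit false
set_option linter.unusedSectionVars false

/-! Indecomposability of the even part of a maximal `2`-subgroup with a single orbit of size at
least eight (and fixed points), or with a single large orbit and an orbit of size two. -/

namespace Cfsg.Agent.Lib.Helper38.Wr

open Equiv Equiv.Perm
open Cfsg.Agent.Lib.Helper38.SylThree (setStab mem_setStab_of_forall)
open Cfsg.Agent.Lib.Helper38.SylTwo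
open Cfsg.Agent.Lib.Helper38.SelfNorm

variable {α : Type*} [Fintype α] [DecidableEq α]

/-- a permutation supported on two points is trivial or the transposition -/
theorem mem_suppIn_pair {a b : α} (hab : a ≠ b) {g : Perm α} (hg : g ∈ suppIn {a, b}) :
    g = 1 ∨ g = swap a b := by
  have hs := suppIn_le_setStab _ hg
  have ha : g a ∈ ({a, b} : Finset α) := apply_mem_of_mem_setStab hs (by simp)
  have hb : g b ∈ ({a, b} : Finset α) := apply_mem_of_mem_setStab hs (by simp)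
  rw [Finset.mem_insert, Finset.mem_singleton] at ha hb
  have hne : g a ≠ g b := fun e => hab (g.injective e)
  rcases ha with ha | ha
  · left
    have hb' : g b = b := by
      rcases hb with hb | hb
      · exact absurd (ha.trans hb.symm) hne
      · exact hb
    ext x
    by_cases hxa : x = a
    · rw [hxa, ha]; rfl
    · by_cases hxb : x = b
      · rw [hxb, hb']; rfl
      · rw [hg x (by simp [hxa, hxb])]; rfl
  · right
    have hb' : g b = a := by
      rcases hb with hb | hb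
      · exact hb
      · exact absurd (ha.trans hb.symm) hne
    ext x
    by_cases hxa : x = a
    · rw [hxa, ha, swap_apply_left]
    · by_cases hxb : x = b
      · rw [hxb, hb', swap_apply_right]
      · rw [hg x (by simp [hxa, hxb]), swap_apply_of_ne_of_ne hxa hxb]

theorem eq_one_of_mem_suppIn_two {Δ : Finset α} (h : Δ.card = 2) {g : Perm α}
    (hg : g ∈ suppIn Δ) (he : g ∈ alternatingGroup α) : g = 1 := by
  obtain ⟨a, b, hab, rfl⟩ := Finset.card_eq_two.1 h
  rcases mem_suppIn_pair hab hg with h1 | h1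
  · exact h1
  · exfalso
    rw [Equiv.Perm.mem_alternatingGroup, h1, Equiv.Perm.sign_swap hab] at he
    revert he
    decide

theorem commute_of_mem_suppIn_two {Δ : Finset α} (h : Δ.card = 2) {g g' : Perm α}
    (hg : g ∈ suppIn Δ) (hg' : g' ∈ suppIn Δ) : g * g' = g' * g := by
  obtain ⟨a, b, hab, rfl⟩ := Finset.card_eq_two.1 h
  rcases mem_suppIn_pair hab hg with h1 | h1 <;> rcases mem_suppIn_pair hab hg' with h2 | h2 <;>
    rw [h1, h2]
  · simp
  · simp

theorem apply_eq_of_card_orb_one {T : Subgroup (Perm α)} {y : α} (h : (orb T y).card = 1)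
    {t : Perm α} (ht : t ∈ T) : t y = y := by
  obtain ⟨v, hv⟩ := Finset.card_eq_one.1 h
  have h1 : y ∈ orb T y := self_mem_orb T y
  have h2 : t y ∈ orb T y := mem_orb.2 ⟨t, ht, rfl⟩
  rw [hv, Finset.mem_singleton] at h1 h2
  rw [h2, h1]

/-- the centre of `P`, as a subgroup of the ambient group -/
def cenIn (P : Subgroup (Perm α)) : Subgroup (Perm α) :=
  P ⊓ Subgroup.centralizer (P : Set (Perm α))

theorem mem_cenIn {P : Subgroup (Perm α)} {z : Perm α} :
    z ∈ cenIn P ↔ z ∈ P ∧ ∀ p ∈ P, p * z = z * p := by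
  unfold cenIn
  rw [Subgroup.mem_inf, Subgroup.mem_centralizer_iff]
  rfl

namespace ZCtx

variable {Δ : Finset α} {W : Subgroup (Perm α)} {Δ₁ Δ₂ : Finset α} {σ ζ₁ ζ₂ : Perm α}

/-- the centre of the even part of `W` is `{1, ζ₁ ζ₂}` -/
theorem even_center (c : ZCtx Δ W Δ₁ Δ₂ σ ζ₁ ζ₂) (hζ₁ : ζ₁ ∈ alternatingGroup α)
    {t₁ : Perm α} (ht₁ : t₁ ∈ W ⊓ suppIn Δ₁) (hodd : t₁ ∉ alternatingGroup α)
    {z : Perm α} (hz : z ∈ cenIn (W ⊓ alternatingGroup α)) : z = 1 ∨ z = ζ₁ * ζ₂ := by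
  set P : Subgroup (Perm α) := W ⊓ alternatingGroup α with hP
  have hB : cenIn P ≤ W := fun b hb => ((mem_cenIn.1 hb).1).1
  have hBn : ∀ w ∈ W, ∀ b ∈ cenIn P, w * b * w⁻¹ ∈ cenIn P := by
    intro w hw b hb
    obtain ⟨hbP, hbc⟩ := mem_cenIn.1 hb
    rw [mem_cenIn]
    refine ⟨⟨W.mul_mem (W.mul_mem hw hbP.1) (W.inv_mem hw),
      alternatingGroup.normal.conj_mem b hbP.2 w⟩, ?_⟩
    intro p hp
    have hp' : w⁻¹ * p * w ∈ P := by
      refine ⟨W.mul_mem (W.mul_mem (W.inv_mem hw) hp.1) hw, ?_⟩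
      have := alternatingGroup.normal.conj_mem p hp.2 w⁻¹
      rwa [inv_inv] at this
    have e := hbc _ hp'
    calc p * (w * b * w⁻¹) = w * ((w⁻¹ * p * w) * b) * w⁻¹ := by group
      _ = w * (b * (w⁻¹ * p * w)) * w⁻¹ := by rw [e]
      _ = w * b * w⁻¹ * p := by group
  -- an even swapper
  obtain ⟨s, hsP, hs⟩ : ∃ s ∈ P, Swp Δ₁ Δ₂ s := by
    by_cases hσ : σ ∈ alternatingGroup α
    · exact ⟨σ, ⟨c.half.σ_mem, hσ⟩, c.half.σ_swp⟩
    · refine ⟨σ * t₁, ⟨W.mul_mem c.half.σ_mem ht₁.1, mul_mem_alt_of_not hσ hodd⟩, ?_, ?_⟩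
      · intro x hx
        rw [Perm.mul_apply]
        exact c.half.σ_map₁ _ (apply_mem_of_mem_setStab (suppIn_le_setStab _ ht₁.2) hx)
      · intro x hx
        rw [Perm.mul_apply, ht₁.2 x (Finset.disjoint_right.1 c.half.disj hx)]
        exact c.half.σ_map₂ x hx
  have hcomm : ∀ b ∈ cenIn P, s * b = b * s := fun b hb => (mem_cenIn.1 hb).2 s hsP
  rcases c.half.dich z (hB hz) with h1 | h1
  · exact c.pres_central hB hBn hsP.1 hs hcomm hz h1.1 h1.2
  · exfalso
    have e1 := c.conj_zeta (hB hz) h1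
    have e2 := (mem_cenIn.1 hz).2 ζ₁ ⟨c.mem₁.1, hζ₁⟩
    have e3 : z * ζ₁ * z⁻¹ = ζ₁ := by rw [← e2]; group
    exact c.zeta_ne (e3.symm.trans e1)

end ZCtx

/-- a nontrivial `2`-subgroup that is a direct factor of `P` contains a nontrivial central element
of `P` -/
theorem exists_central_of_dp {P A B : Subgroup (Perm α)} (hP : IsPGroup 2 P)
    (hdp : Cfsg.IsInternalDirectProduct A B P) (hA : A ≠ ⊥) :
    ∃ a ∈ A, a ≠ 1 ∧ a ∈ cenIn P := by
  have : Fact (Nat.Prime 2) := ⟨Nat.prime_two⟩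
  have hAp : IsPGroup 2 A := hP.to_le hdp.1
  have hnt : Nontrivial ↥A := (Subgroup.nontrivial_iff_ne_bot A).2 hA
  have hc := hAp.center_nontrivial
  obtain ⟨z, hz⟩ := exists_ne (1 : Subgroup.center ↥A)
  refine ⟨((z : ↥A) : Perm α), (z : ↥A).2, ?_, ?_⟩
  · intro e
    apply hz
    apply Subtype.ext
    apply Subtype.ext
    exact e
  · rw [mem_cenIn]
    refine ⟨hdp.1 (z : ↥A).2, ?_⟩
    intro p hp
    obtain ⟨a', ha', b', hb', rfl⟩ := dp_exists hdp hp
    have h1 : a' * ((z : ↥A) : Perm α) = ((z : ↥A) : Perm α) * a' := by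
      have := Subgroup.mem_center_iff.1 z.2 ⟨a', ha'⟩
      exact congrArg Subtype.val this
    have h2 := hdp.2.2.1 _ (z : ↥A).2 b' hb'
    calc a' * b' * ((z : ↥A) : Perm α) = a' * (b' * ((z : ↥A) : Perm α)) := by group
      _ = a' * (((z : ↥A) : Perm α) * b') := by rw [h2]
      _ = (a' * ((z : ↥A) : Perm α)) * b' := by group
      _ = ((z : ↥A) : Perm α) * (a' * b') := by rw [h1]; group

/-- **Indecomposability, transitive case.** The even part of a transitive maximal `2`-subgroup on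
at least eight points is directly indecomposable. -/
theorem indec_ts {Δ : Finset α} {W A B : Subgroup (Perm α)} (hW : TS Δ W) (h8 : 8 ≤ Δ.card)
    (hdp : Cfsg.IsInternalDirectProduct A B (W ⊓ alternatingGroup α)) : A = ⊥ ∨ B = ⊥ := by
  obtain ⟨Δ₁, Δ₂, σ, h⟩ := exists_halfCtx hW (by omega)
  have hcard := h.card_union
  have h4 : 4 ≤ Δ₁.card := by omega
  have h4' : 4 ≤ Δ₂.card := by rw [← h.card_eq]; exact h4
  have p₁ := (h.ts₁ hW.2).props (by omega)
  have p₂ := (h.ts₂ hW.2).props (by omega)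
  obtain ⟨ζ₁, hζ₁W, hζ₁ne, hζ₁c, hζ₁u, hζ₁e, -⟩ := p₁.zeta
  obtain ⟨ζ₂, hζ₂W, hζ₂ne, hζ₂c, hζ₂u, -, -⟩ := p₂.zeta
  have c : ZCtx Δ W Δ₁ Δ₂ σ ζ₁ ζ₂ := ⟨h, hζ₁W, hζ₂W, hζ₁ne, hζ₂ne, hζ₁c, hζ₂c, hζ₁u, hζ₂u⟩
  obtain ⟨t₁, ht₁, hodd⟩ := p₁.odd
  have hPp : IsPGroup 2 (W ⊓ alternatingGroup α : Subgroup (Perm α)) := hW.1.2.1.to_inf_left
  by_contra hne
  push Not at hne
  have key : ∀ A B : Subgroup (Perm α),
      Cfsg.IsInternalDirectProduct A B (W ⊓ alternatingGroup α) → A ≠ ⊥ → ζ₁ * ζ₂ ∈ A := by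
    intro A B hdp hA
    obtain ⟨a, ha, ha1, hac⟩ := exists_central_of_dp hPp hdp hA
    rcases c.even_center (hζ₁e h4) ht₁ hodd hac with h1 | h1
    · exact absurd h1 ha1
    · rw [← h1]; exact ha
  have h1 := key A B hdp hne.1
  have h2 := key B A (dp_symm hdp) hne.2
  have h3 : ζ₁ * ζ₂ ∈ A ⊓ B := ⟨h1, h2⟩
  rw [hdp.2.2.2.1, Subgroup.mem_bot] at h3
  exact c.mul_ne_one h3

section orbit
variable {T A B : Subgroup (Perm α)}

/-- **Indecomposability, a single orbit of size at least eight.** -/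
theorem indec_single (hT : IsMax2 Finset.univ T) (x : α) (h8 : 8 ≤ (orb T x).card)
    (hall : ∀ y, y ∈ orb T x ∨ (orb T y).card = 1)
    (hdp : Cfsg.IsInternalDirectProduct A B (T ⊓ alternatingGroup α)) : A = ⊥ ∨ B = ⊥ := by
  have hle : T ≤ suppIn (orb T x) := by
    intro t ht y hy
    rcases hall y with h | h
    · exact absurd h hy
    · exact apply_eq_of_card_orb_one h ht
  have hts : TS (orb T x) (T ⊓ suppIn (orb T x)) := ts_orb hT (Finset.mem_univ x)
  rw [inf_eq_left.2 hle] at hts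
  exact indec_ts hts h8 hdp

/-- **Indecomposability, a single large orbit and an orbit of size two.** -/
theorem indec_two (hT : IsMax2 Finset.univ T) (x q : α) (hx : 4 ≤ (orb T x).card)
    (hq : (orb T q).card = 2)
    (hall : ∀ y, y ∈ orb T x ∨ y ∈ orb T q ∨ (orb T y).card = 1)
    (hdp : Cfsg.IsInternalDirectProduct A B (T ⊓ alternatingGroup α)) : A = ⊥ ∨ B = ⊥ := by
  have hqx : q ∉ orb T x := by
    intro h
    rw [orb_eq_of_mem h] at hq
    omega
  have hd := orb_disjoint hqx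
  apply indec_of_inj hT inf_le_left hdp x (by omega)
  · intro w hw
    obtain ⟨τ, hτ, hτo⟩ := ((ts_orb hT (Finset.mem_univ q)).props (by omega)).odd
    by_cases hwe : w ∈ alternatingGroup α
    · exact ⟨w, ⟨hw.1, hwe⟩, res_eq_self hw.2⟩
    · refine ⟨w * τ, ⟨T.mul_mem hw.1 hτ.1, mul_mem_alt_of_not hwe hτo⟩, ?_⟩
      rw [res_mul (suppIn_le_setStab _ hw.2) (le_setStab_orb T x hτ.1), res_eq_self hw.2,
        res_eq_one_of_disjoint hd hτ.2, mul_one]
  · intro p hp h1
    have hps : p ∈ suppIn (orb T q) := by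
      intro y hy
      rcases hall y with h | h | h
      · have := res_apply_of_mem (le_setStab_orb T x hp.1) h
        rw [h1] at this
        exact this.symm
      · exact absurd h hy
      · exact apply_eq_of_card_orb_one h hp.1
    exact eq_one_of_mem_suppIn_two hq hps hp.2

end orbit

end Cfsg.Agent.Lib.Helper38.Wr
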