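import Mathlib
import Cfsg.Prelude.Def_TwoFusion
import Cfsg.Agent.Lib.Helper38.WrH

set_option autoImplicit false
set_option linter.unusedSectionVars false

/-! Direct decompositions of the even part of a maximal `2`-subgroup: the case of two large orbits
and an orbit of size two, and the case of a single orbit of size four. -/

namespace Cfsg.Agent.Lib.Helper38.Wr

open Equiv Equiv.Perm
open Cfsg.Agent.Lib.Helper38.SylThree (setStab mem_setStab_of_forall)
open Cfsg.Agent.Lib.Helper38.SylTwo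
open Cfsg.Agent.Lib.Helper38.SelfNorm

variable {α : Type*} [Fintype α] [DecidableEq α]

section two
variable {T : Subgroup (Perm α)}

/-- **Decomposition, two large orbits and an orbit of size two.** -/
theorem dec_two (hT : IsMax2 Finset.univ T) (x y q : α) (hx : 4 ≤ (orb T x).card)
    (hy : 4 ≤ (orb T y).card) (hyx : y ∉ orb T x) (hq : (orb T q).card = 2) :
    ∃ A B : Subgroup (Perm α), A ≠ ⊥ ∧ B ≠ ⊥ ∧
      Cfsg.IsInternalDirectProduct A B (T ⊓ alternatingGroup α) := by
  have hqx : q ∉ orb T x := by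
    intro h
    rw [orb_eq_of_mem h] at hq
    omega
  have hd := orb_disjoint hqx
  have hdy := orb_disjoint hyx
  have hTO := le_setStab_orb T x
  have hTO' : T ≤ setStab (orb T x)ᶜ := by rw [setStab_compl]; exact hTO
  have hsub₂ : orb T q ⊆ (orb T x)ᶜ := by
    intro v hv
    rw [Finset.mem_compl]
    exact Finset.disjoint_right.1 hd hv
  have hsuby : orb T y ⊆ (orb T x)ᶜ := by
    intro v hv
    rw [Finset.mem_compl]
    exact Finset.disjoint_right.1 hdy hv
  set A : Subgroup (Perm α) := T ⊓ alternatingGroup α ⊓ suppIn (orb T x ∪ orb T q) with hA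
  set B : Subgroup (Perm α) := T ⊓ alternatingGroup α ⊓ suppIn (orb T x)ᶜ with hB
  obtain ⟨ζ, hζW, hζne, -, -, hζe, -⟩ := ((ts_orb hT (Finset.mem_univ x)).props (by omega)).zeta
  obtain ⟨ζ', hζ'W, hζ'ne, -, -, hζ'e, -⟩ := ((ts_orb hT (Finset.mem_univ y)).props (by omega)).zeta
  obtain ⟨τ, hτ, hτo⟩ := ((ts_orb hT (Finset.mem_univ q)).props (by omega)).odd
  refine ⟨A, B, ?_, ?_, inf_le_left, inf_le_left, ?_, ?_, ?_⟩
  · intro h
    have hm : ζ ∈ A := ⟨⟨hζW.1, hζe hx⟩, suppIn_mono Finset.subset_union_left hζW.2⟩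
    rw [h, Subgroup.mem_bot] at hm
    exact hζne hm
  · intro h
    have hm : ζ' ∈ B := ⟨⟨hζ'W.1, hζ'e hy⟩, suppIn_mono hsuby hζ'W.2⟩
    rw [h, Subgroup.mem_bot] at hm
    exact hζ'ne hm
  · -- commute
    intro a ha b hb
    have haT : a ∈ T := ha.1.1
    have hbT : b ∈ T := hb.1.1
    have hk : a * b * a⁻¹ * b⁻¹ ∈ (⊥ : Subgroup (Perm α)) := by
      apply mem_of_orb_res' T
      · intro z
        exact mem_setStab_orb
          (T.mul_mem (T.mul_mem (T.mul_mem haT hbT) (T.inv_mem haT)) (T.inv_mem hbT)) z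
      · intro z
        have hTz := le_setStab_orb T z
        rw [res_comm4 (hTz haT) (hTz hbT), Subgroup.mem_bot]
        by_cases hzx : z ∈ orb T x
        · rw [orb_eq_of_mem hzx, res_eq_one_of_disjoint disjoint_compl_right hb.2]
          group
        · by_cases hzq : z ∈ orb T q
          · rw [orb_eq_of_mem hzq]
            have e := commute_of_mem_suppIn_two hq (res_mem_suppIn (orb T q) a)
              (res_mem_suppIn (orb T q) b)
            rw [e]
            group
          · have hdz : Disjoint (orb T z) (orb T x ∪ orb T q) := by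
              rw [Finset.disjoint_union_right]
              exact ⟨(orb_disjoint hzx).symm, (orb_disjoint hzq).symm⟩
            rw [res_eq_one_of_disjoint hdz ha.2]
            group
    rw [Subgroup.mem_bot] at hk
    calc a * b = (a * b * a⁻¹ * b⁻¹) * (b * a) := by group
      _ = b * a := by rw [hk, one_mul]
  · -- trivial intersection
    rw [eq_bot_iff]
    intro g hg
    rw [Subgroup.mem_bot]
    have hgs : g ∈ suppIn (orb T q) := by
      intro v hv
      by_cases hvx : v ∈ orb T x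
      · exact hg.2.2 v (by rw [Finset.mem_compl, not_not]; exact hvx)
      · exact hg.1.2 v (by rw [Finset.mem_union]; tauto)
    exact eq_one_of_mem_suppIn_two hq hgs hg.1.1.2
  · -- generation
    apply le_antisymm (sup_le inf_le_left inf_le_left)
    intro g hg
    have hwT : res (orb T x) g ∈ T := res_mem hT _ hTO hg.1
    have hrT : res (orb T x)ᶜ g ∈ T := res_mem hT _ hTO' hg.1
    have heq : res (orb T x) g * res (orb T x)ᶜ g = g := res_mul_res_compl (hTO hg.1)
    have hws : res (orb T x) g ∈ suppIn (orb T x ∪ orb T q) :=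
      suppIn_mono Finset.subset_union_left (res_mem_suppIn _ _)
    by_cases hwe : res (orb T x) g ∈ alternatingGroup α
    · have hre : res (orb T x)ᶜ g ∈ alternatingGroup α := by
        have := hg.2
        rw [← heq] at this
        exact (Subgroup.mul_mem_cancel_left _ hwe).1 this
      rw [← heq]
      exact Subgroup.mul_mem_sup ⟨⟨hwT, hwe⟩, hws⟩ ⟨⟨hrT, hre⟩, res_mem_suppIn _ _⟩
    · have hro : res (orb T x)ᶜ g ∉ alternatingGroup α := by
        intro hre
        apply hwe
        have := hg.2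
        rw [← heq] at this
        exact (Subgroup.mul_mem_cancel_right _ hre).1 this
      have hτi : τ⁻¹ ∉ alternatingGroup α := by rw [Subgroup.inv_mem_iff]; exact hτo
      have e : g = (res (orb T x) g * τ) * (τ⁻¹ * res (orb T x)ᶜ g) := by
        conv_lhs => rw [← heq]
        group
      rw [e]
      apply Subgroup.mul_mem_sup
      · exact ⟨⟨T.mul_mem hwT hτ.1, mul_mem_alt_of_not hwe hτo⟩,
          Subgroup.mul_mem _ hws (suppIn_mono Finset.subset_union_right hτ.2)⟩
      · exact ⟨⟨T.mul_mem (T.inv_mem hτ.1) hrT, mul_mem_alt_of_not hτi hro⟩,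
          Subgroup.mul_mem _ (Subgroup.inv_mem _ (suppIn_mono hsub₂ hτ.2)) (res_mem_suppIn _ _)⟩

end two

/-- the subgroup `{1, z}` for an involution `z` -/
def invSub (z : Perm α) (hz : z * z = 1) : Subgroup (Perm α) where
  carrier := {g | g = 1 ∨ g = z}
  mul_mem' := by
    rintro a b (rfl | rfl) (rfl | rfl)
    · left; simp
    · right; simp
    · right; simp
    · left; exact hz
  one_mem' := Or.inl rfl
  inv_mem' := by
    rintro a (rfl | rfl)
    · left; simp
    · right; exact inv_eq_of_mul_eq_one_left hz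

theorem mem_invSub {z : Perm α} {hz : z * z = 1} {g : Perm α} :
    g ∈ invSub z hz ↔ g = 1 ∨ g = z := Iff.rfl

/-- an involution interchanging two disjoint pairs and fixing everything else is even -/
theorem swp_invol_even {Δ₁ Δ₂ : Finset α} (hd : Disjoint Δ₁ Δ₂) (h1 : Δ₁.card = 2)
    (h2 : Δ₂.card = 2) {u : Perm α} (hu : u ∈ suppIn (Δ₁ ∪ Δ₂)) (hs : Swp Δ₁ Δ₂ u)
    (huu : u * u = 1) : u ∈ alternatingGroup α := by
  have : Fact (Nat.Prime 2) := ⟨Nat.prime_two⟩
  have hsupp : u.support = Δ₁ ∪ Δ₂ := by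
    ext v
    rw [Perm.mem_support, Finset.mem_union]
    constructor
    · intro hv
      by_contra hcon
      apply hv
      apply hu
      rw [Finset.mem_union]
      exact hcon
    · rintro (hv | hv)
      · intro e
        have := hs.1 v hv
        rw [e] at this
        exact Finset.disjoint_left.1 hd hv this
      · intro e
        have := hs.2 v hv
        rw [e] at this
        exact Finset.disjoint_left.1 hd this hv
  have hne : u ≠ 1 := by
    intro e
    have : u.support.card = 4 := by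
      rw [hsupp, Finset.card_union_of_disjoint hd, h1, h2]
    rw [e, Perm.support_one, Finset.card_empty] at this
    omega
  have hord : orderOf u = 2 := orderOf_eq_prime (by rw [pow_two]; exact huu) hne
  obtain ⟨k, hk⟩ := Equiv.Perm.cycleType_prime_order (σ := u) (by rw [hord]; exact Nat.prime_two)
  rw [hord] at hk
  have hsum := Equiv.Perm.sum_cycleType u
  rw [hk, hsupp, Finset.card_union_of_disjoint hd, h1, h2, Multiset.sum_replicate,
    smul_eq_mul] at hsum
  have hk1 : k = 1 := by omega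
  rw [Equiv.Perm.mem_alternatingGroup, Equiv.Perm.sign_of_cycleType, hk, Multiset.sum_replicate,
    Multiset.card_replicate, hk1]
  decide

theorem eq_of_mem_suppIn_two {Δ : Finset α} (h : Δ.card = 2) {g g' : Perm α}
    (hg : g ∈ suppIn Δ) (hg' : g' ∈ suppIn Δ) (hne : g' ≠ 1) : g = 1 ∨ g = g' := by
  obtain ⟨a, b, hab, rfl⟩ := Finset.card_eq_two.1 h
  rcases mem_suppIn_pair hab hg' with h1 | h1
  · exact absurd h1 hne
  · rw [h1]
    exact mem_suppIn_pair hab hg

/-- **Decomposition, transitive case of degree four.** -/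
theorem dec_ts4 {Δ : Finset α} {W : Subgroup (Perm α)} (hW : TS Δ W) (h4 : Δ.card = 4) :
    ∃ A B : Subgroup (Perm α), A ≠ ⊥ ∧ B ≠ ⊥ ∧
      Cfsg.IsInternalDirectProduct A B (W ⊓ alternatingGroup α) := by
  obtain ⟨Δ₁, Δ₂, σ, h⟩ := exists_halfCtx hW (by omega)
  have hcard := h.card_union
  have h2 : Δ₁.card = 2 := by omega
  have h2' : Δ₂.card = 2 := by rw [← h.card_eq]; exact h2
  have p₁ := (h.ts₁ hW.2).props (by omega)
  have p₂ := (h.ts₂ hW.2).props (by omega)
  obtain ⟨ζ₁, hζ₁W, hζ₁ne, hζ₁c, hζ₁u, -, -⟩ := p₁.zeta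
  obtain ⟨ζ₂, hζ₂W, hζ₂ne, hζ₂c, hζ₂u, -, -⟩ := p₂.zeta
  have c : ZCtx Δ W Δ₁ Δ₂ σ ζ₁ ζ₂ := ⟨h, hζ₁W, hζ₂W, hζ₁ne, hζ₂ne, hζ₁c, hζ₂c, hζ₁u, hζ₂u⟩
  have ho₁ : ζ₁ ∉ alternatingGroup α := fun he => hζ₁ne (eq_one_of_mem_suppIn_two h2 hζ₁W.2 he)
  have ho₂ : ζ₂ ∉ alternatingGroup α := fun he => hζ₂ne (eq_one_of_mem_suppIn_two h2' hζ₂W.2 he)
  have hζe : ζ₁ * ζ₂ ∈ alternatingGroup α := mul_mem_alt_of_not ho₁ ho₂
  have hζζ : (ζ₁ * ζ₂) * (ζ₁ * ζ₂) = 1 := by
    have e1 : ζ₁ * ζ₁ = 1 := by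
      have := c.zeta_inv
      calc ζ₁ * ζ₁ = ζ₁⁻¹ * ζ₁ := by rw [this]
        _ = 1 := by group
    have e2 : ζ₂ * ζ₂ = 1 := by
      have := c.symm.zeta_inv
      calc ζ₂ * ζ₂ = ζ₂⁻¹ * ζ₂ := by rw [this]
        _ = 1 := by group
    calc (ζ₁ * ζ₂) * (ζ₁ * ζ₂) = ζ₁ * (ζ₂ * ζ₁) * ζ₂ := by group
      _ = ζ₁ * (ζ₁ * ζ₂) * ζ₂ := by rw [c.zeta_comm]
      _ = (ζ₁ * ζ₁) * (ζ₂ * ζ₂) := by group
      _ = 1 := by rw [e1, e2, one_mul]
  -- even preservers
  have hpres : ∀ p ∈ W ⊓ alternatingGroup α, p ∈ setStab Δ₁ → p ∈ setStab Δ₂ →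
      p = 1 ∨ p = ζ₁ * ζ₂ := by
    intro p hp hp₁ hp₂
    have hres := h.res_mem_half hp.1 hp₁ hp₂
    have heq := h.res_mul_res_eq hp.1 hp₁ hp₂
    rcases eq_of_mem_suppIn_two h2 (res_mem_suppIn Δ₁ p) hζ₁W.2 hζ₁ne with e1 | e1 <;>
      rcases eq_of_mem_suppIn_two h2' (res_mem_suppIn Δ₂ p) hζ₂W.2 hζ₂ne with e2 | e2
    · left; rw [← heq, e1, e2, mul_one]
    · exfalso
      apply ho₂
      have := hp.2
      rwa [← heq, e1, e2, one_mul] at this
    · exfalso
      apply ho₁
      have := hp.2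
      rwa [← heq, e1, e2, mul_one] at this
    · right; rw [← heq, e1, e2]
  -- an even swapper
  obtain ⟨s, hsP, hs⟩ : ∃ s ∈ W ⊓ alternatingGroup α, Swp Δ₁ Δ₂ s := by
    by_cases hσ : σ ∈ alternatingGroup α
    · exact ⟨σ, ⟨h.σ_mem, hσ⟩, h.σ_swp⟩
    · refine ⟨σ * ζ₁, ⟨W.mul_mem h.σ_mem hζ₁W.1, mul_mem_alt_of_not hσ ho₁⟩, ?_, ?_⟩
      · intro x hx
        rw [Perm.mul_apply]
        exact h.σ_map₁ _ (apply_mem_of_mem_setStab (suppIn_le_setStab _ hζ₁W.2) hx)
      · intro x hx
        rw [Perm.mul_apply, hζ₁W.2 x (Finset.disjoint_right.1 h.disj hx)]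
        exact h.σ_map₂ x hx
  -- it is an involution
  have hss : s * s = 1 := by
    have hp := h.swp_mul_pres hsP.1 hsP.1 hs hs
    rcases hpres _ (Subgroup.mul_mem _ hsP hsP) hp.1 hp.2 with e | e
    · exact e
    · exfalso
      -- then `s ζ₁` is an odd involution interchanging the halves
      have e1 := c.conj_zeta hsP.1 hs
      have huu : (s * ζ₁) * (s * ζ₁) = 1 := by
        have hz1 : ζ₁ * ζ₁ = 1 := by
          have := c.zeta_inv
          calc ζ₁ * ζ₁ = ζ₁⁻¹ * ζ₁ := by rw [this]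
            _ = 1 := by group
        have hz2 : ζ₂ * ζ₂ = 1 := by
          have := c.symm.zeta_inv
          calc ζ₂ * ζ₂ = ζ₂⁻¹ * ζ₂ := by rw [this]
            _ = 1 := by group
        calc (s * ζ₁) * (s * ζ₁) = (s * ζ₁ * s⁻¹) * (s * s) * ζ₁ := by group
          _ = ζ₂ * (ζ₁ * ζ₂) * ζ₁ := by rw [e1, e]
          _ = ζ₂ * (ζ₂ * ζ₁) * ζ₁ := by rw [c.zeta_comm]
          _ = (ζ₂ * ζ₂) * (ζ₁ * ζ₁) := by group
          _ = 1 := by rw [hz1, hz2, one_mul]
      have hsw : Swp Δ₁ Δ₂ (s * ζ₁) := by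
        constructor
        · intro x hx
          rw [Perm.mul_apply]
          exact hs.1 _ (apply_mem_of_mem_setStab (suppIn_le_setStab _ hζ₁W.2) hx)
        · intro x hx
          rw [Perm.mul_apply, hζ₁W.2 x (Finset.disjoint_right.1 h.disj hx)]
          exact hs.2 x hx
      have hmem : s * ζ₁ ∈ suppIn (Δ₁ ∪ Δ₂) := h.le_suppIn_union (W.mul_mem hsP.1 hζ₁W.1)
      have heven := swp_invol_even h.disj h2 h2' hmem hsw huu
      exact not_mem_alt_mul' hsP.2 ho₁ heven
  have hsne : s ≠ 1 := by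
    intro e
    obtain ⟨x, hx⟩ := h.ne₁
    have := hs.1 x hx
    rw [e] at this
    exact Finset.disjoint_left.1 h.disj hx this
  have hζpres : ζ₁ * ζ₂ ∈ setStab Δ₁ := by
    apply mem_setStab_of_forall
    intro x hx
    rw [Perm.mul_apply, hζ₂W.2 x (Finset.disjoint_left.1 h.disj hx)]
    exact apply_mem_of_mem_setStab (suppIn_le_setStab _ hζ₁W.2) hx
  have hζs : ζ₁ * ζ₂ ≠ s := by
    intro e
    rw [e] at hζpres
    exact h.not_swap hζpres hs.1
  refine ⟨invSub (ζ₁ * ζ₂) hζζ, invSub s hss, ?_, ?_, ?_, ?_, ?_, ?_, ?_⟩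
  · intro e
    have hm : ζ₁ * ζ₂ ∈ invSub (ζ₁ * ζ₂) hζζ := Or.inr rfl
    rw [e, Subgroup.mem_bot] at hm
    exact c.mul_ne_one hm
  · intro e
    have hm : s ∈ invSub s hss := Or.inr rfl
    rw [e, Subgroup.mem_bot] at hm
    exact hsne hm
  · rintro g (rfl | rfl)
    · exact one_mem _
    · exact ⟨c.mul_mem, hζe⟩
  · rintro g (rfl | rfl)
    · exact one_mem _
    · exact hsP
  · rintro a (rfl | rfl) b (rfl | rfl)
    · rfl
    · simp
    · simp
    · exact c.central hsP.1
  · rw [eq_bot_iff]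
    rintro g ⟨h1 | h1, h2 | h2⟩
    · rw [Subgroup.mem_bot]; exact h1
    · rw [Subgroup.mem_bot]; exact h1
    · rw [Subgroup.mem_bot]; exact h2
    · exact absurd (h1.symm.trans h2) hζs
  · apply le_antisymm
    · apply sup_le
      · rintro g (rfl | rfl)
        · exact one_mem _
        · exact ⟨c.mul_mem, hζe⟩
      · rintro g (rfl | rfl)
        · exact one_mem _
        · exact hsP
    · intro p hp
      rcases h.dich p hp.1 with hd | hd
      · exact Subgroup.mem_sup_left (hpres p hp hd.1 hd.2)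
      · have hpp := h.swp_mul_pres hp.1 hsP.1 hd hs
        have hmem := hpres _ (Subgroup.mul_mem _ hsP hp) hpp.1 hpp.2
        have e : p = s * (s * p) := by
          calc p = (s * s) * p := by rw [hss, one_mul]
            _ = s * (s * p) := by group
        rw [e]
        exact Subgroup.mul_mem _ (Subgroup.mem_sup_right (Or.inr rfl)) (Subgroup.mem_sup_left hmem)

/-- **Decomposition, a single orbit of size four.** -/
theorem dec_four {T : Subgroup (Perm α)} (hT : IsMax2 Finset.univ T) (x : α)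
    (h4 : (orb T x).card = 4) (hall : ∀ y, y ∈ orb T x ∨ (orb T y).card = 1) :
    ∃ A B : Subgroup (Perm α), A ≠ ⊥ ∧ B ≠ ⊥ ∧
      Cfsg.IsInternalDirectProduct A B (T ⊓ alternatingGroup α) := by
  have hle : T ≤ suppIn (orb T x) := by
    intro t ht y hy
    rcases hall y with h | h
    · exact absurd h hy
    · exact apply_eq_of_card_orb_one h ht
  have hts : TS (orb T x) (T ⊓ suppIn (orb T x)) := ts_orb hT (Finset.mem_univ x)
  rw [inf_eq_left.2 hle] at hts
  exact dec_ts4 hts h4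

end Cfsg.Agent.Lib.Helper38.Wr
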