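import Mathlib
import Cfsg.Agent.Lib.Helper38.WrA

set_option autoImplicit false
set_option linter.unusedSectionVars false

/-! Counting the orbits of a `2`-group of permutations whose orbits have pairwise distinct sizes. -/

namespace Cfsg.Agent.Lib.Helper38.Wr

open Equiv Equiv.Perm
open Cfsg.Agent.Lib.Helper38.SylTwo
open Cfsg.Agent.Lib.Helper38.SelfNorm

variable {α : Type*} [Fintype α] [DecidableEq α]

/-- counting by orbits inside an invariant set -/
theorem dvd_card_of_orb_on (R : Subgroup (Perm α)) (F : Finset α)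
    (hF : ∀ x ∈ F, orb R x ⊆ F) (d : ℕ) (h : ∀ x ∈ F, d ∣ (orb R x).card) : d ∣ F.card := by
  classical
  rw [Finset.card_eq_sum_card_image (fun x => orb R x) F]
  apply Finset.dvd_sum
  intro O hO
  obtain ⟨x, hx, rfl⟩ := Finset.mem_image.mp hO
  have : F.filter (fun y => orb R y = orb R x) = orb R x := by
    ext y
    simp only [Finset.mem_filter]
    constructor
    · rintro ⟨-, hy⟩
      rw [← hy]; exact self_mem_orb R y
    · intro hy
      exact ⟨hF x hx hy, orb_eq_of_mem hy⟩
  rw [this]
  exact h x hx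

section
variable {T : Subgroup (Perm α)}

theorem orb_sizes (hp : IsPGroup 2 T) (x : α) :
    (orb T x).card = 1 ∨ (orb T x).card = 2 ∨ 4 ∣ (orb T x).card := by
  obtain ⟨k, hk⟩ := card_orb_pow T hp x
  rw [hk]
  rcases Nat.lt_or_ge k 2 with h | h
  · interval_cases k
    · left; rfl
    · right; left; rfl
  · right; right
    exact pow_dvd_pow 2 h

theorem four_dvd_of_le (hp : IsPGroup 2 T) {x : α} (h : 4 ≤ (orb T x).card) :
    4 ∣ (orb T x).card := by
  rcases orb_sizes hp x with h1 | h1 | h1
  · omega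
  · omega
  · exact h1

theorem one_or_four_le (hp : IsPGroup 2 T) (hno : ¬ ∃ q, (orb T q).card = 2) (x : α) :
    (orb T x).card = 1 ∨ 4 ≤ (orb T x).card := by
  rcases orb_sizes hp x with h1 | h1 | h1
  · exact Or.inl h1
  · exact absurd ⟨x, h1⟩ hno
  · right
    have : 0 < (orb T x).card := Finset.card_pos.2 ⟨x, self_mem_orb T x⟩
    exact Nat.le_of_dvd this h1

theorem eight_le (hp : IsPGroup 2 T) {x : α} (h4 : 4 ≤ (orb T x).card)
    (hne : (orb T x).card ≠ 4) : 8 ≤ (orb T x).card := by
  obtain ⟨k, hk⟩ := card_orb_pow T hp x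
  rw [hk] at h4 hne ⊢
  have h3 : 3 ≤ k := by
    by_contra hcon
    push Not at hcon
    interval_cases k <;> omega
  calc 8 = 2 ^ 3 := by norm_num
    _ ≤ 2 ^ k := Nat.pow_le_pow_right (by norm_num) h3

/-- the points with large orbits -/
noncomputable def big (T : Subgroup (Perm α)) : Finset α := by
  classical
  exact Finset.univ.filter (fun x => 4 ≤ (orb T x).card)

theorem mem_big {x : α} : x ∈ big T ↔ 4 ≤ (orb T x).card := by
  classical
  simp [big]

theorem orb_subset_big {x : α} (hx : x ∈ big T) : orb T x ⊆ big T := by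
  intro y hy
  rw [mem_big] at hx ⊢
  rw [orb_eq_of_mem hy]
  exact hx

theorem four_dvd_big (hp : IsPGroup 2 T) : 4 ∣ (big T).card :=
  dvd_card_of_orb_on T (big T) (fun _ hx => orb_subset_big hx) 4
    (fun _ hx => four_dvd_of_le hp (mem_big.1 hx))

/-- the decomposition of the degree -/
theorem count (hp : IsPGroup 2 T)
    (hdist : ∀ x y, (orb T x).card = (orb T y).card → y ∈ orb T x) :
    ∃ c₁ c₂ : ℕ, c₁ ≤ 1 ∧ (c₂ = 0 ∨ c₂ = 2) ∧ (c₂ = 2 ↔ ∃ q, (orb T q).card = 2) ∧
      c₁ + c₂ + (big T).card = Fintype.card α := by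
  classical
  set F1 : Finset α := Finset.univ.filter (fun x => (orb T x).card = 1) with hF1
  set F2 : Finset α := Finset.univ.filter (fun x => (orb T x).card = 2) with hF2
  have h1 : F1.card ≤ 1 := by
    rw [Finset.card_le_one]
    intro a ha b hb
    rw [hF1, Finset.mem_filter] at ha hb
    have hba := hdist a b (ha.2.trans hb.2.symm)
    obtain ⟨v, hv⟩ := Finset.card_eq_one.1 ha.2
    have h1 : a ∈ orb T a := self_mem_orb T a
    rw [hv, Finset.mem_singleton] at h1 hba
    rw [h1, hba]
  have h2 : ∀ q, (orb T q).card = 2 → F2 = orb T q := by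
    intro q hq
    ext v
    rw [hF2, Finset.mem_filter]
    constructor
    · rintro ⟨-, hv⟩
      exact hdist q v (hq.trans hv.symm)
    · intro hv
      refine ⟨Finset.mem_univ v, ?_⟩
      rw [orb_eq_of_mem hv]; exact hq
  have h2' : (F2.card = 0 ∨ F2.card = 2) ∧ (F2.card = 2 ↔ ∃ q, (orb T q).card = 2) := by
    by_cases hex : ∃ q, (orb T q).card = 2
    · obtain ⟨q, hq⟩ := hex
      have : F2.card = 2 := by rw [h2 q hq]; exact hq
      exact ⟨Or.inr this, fun _ => ⟨q, hq⟩, fun _ => this⟩
    · have : F2.card = 0 := by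
        rw [Finset.card_eq_zero, Finset.eq_empty_iff_forall_notMem]
        intro v hv
        rw [hF2, Finset.mem_filter] at hv
        exact hex ⟨v, hv.2⟩
      refine ⟨Or.inl this, fun h => by omega, fun h => absurd h hex⟩
  refine ⟨F1.card, F2.card, h1, h2'.1, h2'.2, ?_⟩
  set G : Finset α := Finset.univ.filter (fun x => ¬ (orb T x).card = 1) with hG
  have e1 : F1.card + G.card = (Finset.univ : Finset α).card :=
    Finset.card_filter_add_card_filter_not _
  have e2 : (G.filter (fun x => (orb T x).card = 2)).card +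
      (G.filter (fun x => ¬ (orb T x).card = 2)).card = G.card :=
    Finset.card_filter_add_card_filter_not _
  have e3 : G.filter (fun x => (orb T x).card = 2) = F2 := by
    ext v
    simp only [Finset.mem_filter, Finset.mem_univ, true_and, hF2, hG]
    constructor
    · exact fun h => h.2
    · intro h
      exact ⟨by omega, h⟩
  have e4 : G.filter (fun x => ¬ (orb T x).card = 2) = big T := by
    ext v
    rw [mem_big]
    simp only [Finset.mem_filter, Finset.mem_univ, true_and, hG]
    constructor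
    · rintro ⟨h, h'⟩
      rcases orb_sizes hp v with h1 | h1 | h1
      · exact absurd h1 h
      · exact absurd h1 h'
      · have : 0 < (orb T v).card := Finset.card_pos.2 ⟨v, self_mem_orb T v⟩
        exact Nat.le_of_dvd this h1
    · intro h
      constructor <;> omega
  rw [e3, e4] at e2
  rw [Finset.card_univ] at e1
  omega

/-- the number of points in large orbits -/
theorem card_big (hp : IsPGroup 2 T)
    (hdist : ∀ x y, (orb T x).card = (orb T y).card → y ∈ orb T x) :
    (big T).card = 4 * (Fintype.card α / 4) := by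
  obtain ⟨c₁, c₂, h1, h2, -, hs⟩ := count hp hdist
  obtain ⟨m, hm⟩ := four_dvd_big hp
  rcases h2 with h2 | h2 <;> omega

theorem exists_two_iff (hp : IsPGroup 2 T)
    (hdist : ∀ x y, (orb T x).card = (orb T y).card → y ∈ orb T x) :
    (∃ q, (orb T q).card = 2) ↔ (Fintype.card α % 4 = 2 ∨ Fintype.card α % 4 = 3) := by
  obtain ⟨c₁, c₂, h1, h2, h3, hs⟩ := count hp hdist
  obtain ⟨m, hm⟩ := four_dvd_big hp
  rw [← h3]
  rcases h2 with h2 | h2 <;> omega

theorem exists_big (hp : IsPGroup 2 T)
    (hdist : ∀ x y, (orb T x).card = (orb T y).card → y ∈ orb T x)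
    (hn : 4 ≤ Fintype.card α) : ∃ x, 4 ≤ (orb T x).card := by
  obtain ⟨c₁, c₂, h1, h2, -, hs⟩ := count hp hdist
  have hpos : 0 < (big T).card := by
    rcases h2 with h2 | h2 <;> omega
  obtain ⟨x, hx⟩ := Finset.card_pos.1 hpos
  exact ⟨x, mem_big.1 hx⟩

/-- a single large orbit -/
theorem big_eq_of_single {x : α} (hx : 4 ≤ (orb T x).card)
    (hall : ∀ y, 4 ≤ (orb T y).card → y ∈ orb T x) : big T = orb T x := by
  apply Finset.Subset.antisymm
  · intro y hy
    exact hall y (mem_big.1 hy)
  · exact orb_subset_big (mem_big.2 hx)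

/-- with two large orbits, the number of points in large orbits is not a power of two -/
theorem card_big_ne_pow (hp : IsPGroup 2 T)
    (hdist : ∀ x y, (orb T x).card = (orb T y).card → y ∈ orb T x) {x y : α}
    (hx : 4 ≤ (orb T x).card) (hy : 4 ≤ (orb T y).card) (hyx : y ∉ orb T x) (r : ℕ) :
    (big T).card ≠ 2 ^ r := by
  classical
  intro hr
  have hne : (big T).Nonempty := ⟨x, mem_big.2 hx⟩
  obtain ⟨x₀, hx₀, hmin⟩ := Finset.exists_min_image (big T) (fun v => (orb T v).card) hne
  obtain ⟨j, hj⟩ := card_orb_pow T hp x₀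
  have hsub : orb T x₀ ⊆ big T := orb_subset_big hx₀
  have hinv : ∀ v ∈ big T \ orb T x₀, orb T v ⊆ big T \ orb T x₀ := by
    intro v hv w hw
    rw [Finset.mem_sdiff] at hv ⊢
    refine ⟨orb_subset_big hv.1 hw, ?_⟩
    intro hw0
    apply hv.2
    have e1 : orb T w = orb T v := orb_eq_of_mem hw
    have e2 : orb T w = orb T x₀ := orb_eq_of_mem hw0
    rw [← e2, e1]
    exact self_mem_orb T v
  have hdvd : 2 ^ (j + 1) ∣ (big T \ orb T x₀).card := by
    apply dvd_card_of_orb_on T _ hinv
    intro v hv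
    rw [Finset.mem_sdiff] at hv
    obtain ⟨i, hi⟩ := card_orb_pow T hp v
    have hle := hmin v hv.1
    rw [hj, hi] at hle
    have hji : j ≤ i := (Nat.pow_le_pow_iff_right (by norm_num)).mp hle
    have hne : j ≠ i := by
      intro e
      apply hv.2
      apply hdist
      rw [hj, hi, e]
    rw [hi]
    exact pow_dvd_pow 2 (by omega)
  have hsum := Finset.card_sdiff_add_card_eq_card hsub
  rw [hr, hj] at hsum
  have hzero : (big T \ orb T x₀).card = 0 := by
    rcases Nat.lt_or_ge j r with hjr | hjr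
    · exfalso
      have h1 : 2 ^ (j + 1) ∣ 2 ^ r := pow_dvd_pow 2 hjr
      rw [← hsum] at h1
      have h2 : 2 ^ (j + 1) ∣ 2 ^ j := (Nat.dvd_add_right hdvd).1 h1
      have h3 := Nat.le_of_dvd (by positivity) h2
      have h4 : 2 ^ j < 2 ^ (j + 1) := Nat.pow_lt_pow_right (by norm_num) (by omega)
      omega
    · have : 2 ^ r ≤ 2 ^ j := Nat.pow_le_pow_right (by norm_num) hjr
      omega
  rw [Finset.card_eq_zero, Finset.sdiff_eq_empty_iff_subset] at hzero
  have hx' : x ∈ orb T x₀ := hzero (mem_big.2 hx)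
  have hy' : y ∈ orb T x₀ := hzero (mem_big.2 hy)
  apply hyx
  rw [orb_eq_of_mem hx']
  exact hy'

end

end Cfsg.Agent.Lib.Helper38.Wr
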