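import Mathlib
import Cfsg.Prelude.Def_TwoFusion
import Cfsg.Agent.Lib.Helper38.WrI
import Cfsg.Agent.Lib.Helper38.WrJ

set_option autoImplicit false
set_option linter.unusedSectionVars false

/-! Direct decomposability of the even part of a Sylow `2`-subgroup of a symmetric group. -/

namespace Cfsg.Agent.Lib.Helper38.Wr

open Equiv Equiv.Perm
open Cfsg.Agent.Lib.Helper38.SylTwo
open Cfsg.Agent.Lib.Helper38.SelfNorm
open Cfsg.Agent.Lib.Helper61.Miller (IsSyl)

variable {α : Type*} [Fintype α] [DecidableEq α]

theorem main_perm (S : Sylow 2 (Perm α)) (hn : 4 ≤ Fintype.card α) :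
    (∃ A B : Subgroup (Perm α), A ≠ ⊥ ∧ B ≠ ⊥ ∧
      Cfsg.IsInternalDirectProduct A B ((S : Subgroup (Perm α)) ⊓ alternatingGroup α)) ↔
    (Fintype.card α = 4 ∨ Fintype.card α = 5 ∨
      ((Fintype.card α % 4 = 2 ∨ Fintype.card α % 4 = 3) ∧
        ∀ r : ℕ, 4 * (Fintype.card α / 4) ≠ 2 ^ r)) := by
  have : Fact (Nat.Prime 2) := ⟨Nat.prime_two⟩
  set T : Subgroup (Perm α) := (S : Subgroup (Perm α)) with hTdef
  have hmax : IsMax2 Finset.univ T := isMax2_of_sylow S
  have hp : IsPGroup 2 T := hmax.2.1
  have hsyl : IsSyl 2 ⊤ T := ⟨le_top, by rw [Subgroup.card_top]; exact S.card_eq_multiplicity⟩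
  have hdist : ∀ x y, (orb T x).card = (orb T y).card → y ∈ orb T x :=
    fun x y h => orb_distinct ⊤ le_top (Or.inl rfl) T hsyl x y h
  have hbig := card_big hp hdist
  have htwo := exists_two_iff hp hdist
  obtain ⟨x, hx⟩ := exists_big hp hdist hn
  by_cases hmulti : ∃ x y, 4 ≤ (orb T x).card ∧ 4 ≤ (orb T y).card ∧ y ∉ orb T x
  · obtain ⟨x, y, hx, hy, hyx⟩ := hmulti
    have hnp := card_big_ne_pow hp hdist hx hy hyx
    rw [hbig] at hnp
    have hn4 : Fintype.card α ≠ 4 := by
      intro e
      apply hnp 2
      rw [e]
      norm_num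
    have hn5 : Fintype.card α ≠ 5 := by
      intro e
      apply hnp 2
      rw [e]
      norm_num
    by_cases hq : ∃ q, (orb T q).card = 2
    · obtain ⟨q, hq⟩ := hq
      constructor
      · intro _
        exact Or.inr (Or.inr ⟨htwo.1 ⟨q, hq⟩, hnp⟩)
      · intro _
        exact dec_two hmax x y q hx hy hyx hq
    · have h03 : ¬ (Fintype.card α % 4 = 2 ∨ Fintype.card α % 4 = 3) := fun h => hq (htwo.2 h)
      constructor
      · rintro ⟨A, B, hA, hB, hdp⟩
        exfalso
        have c : MCtx T A B := ⟨hmax, one_or_four_le hp hq, hdp, ⟨x, y, hx, hy, hyx⟩⟩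
        rcases c.indec_multi with h | h
        · exact hA h
        · exact hB h
      · rintro (h | h | h)
        · exact absurd h hn4
        · exact absurd h hn5
        · exact absurd h.1 h03
  · push Not at hmulti
    have hall4 : ∀ y, 4 ≤ (orb T y).card → y ∈ orb T x := fun y hy => hmulti x y hx hy
    have hbe := big_eq_of_single hx hall4
    have hcard : (orb T x).card = 4 * (Fintype.card α / 4) := by rw [← hbe]; exact hbig
    obtain ⟨k, hk⟩ := card_orb_pow T hp x
    by_cases hq : ∃ q, (orb T q).card = 2
    · obtain ⟨q, hq⟩ := hq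
      have h23 := htwo.1 ⟨q, hq⟩
      have hall : ∀ y, y ∈ orb T x ∨ y ∈ orb T q ∨ (orb T y).card = 1 := by
        intro y
        rcases orb_sizes hp y with h | h | h
        · exact Or.inr (Or.inr h)
        · exact Or.inr (Or.inl (hdist q y (hq.trans h.symm)))
        · left
          apply hall4
          have : 0 < (orb T y).card := Finset.card_pos.2 ⟨y, self_mem_orb T y⟩
          exact Nat.le_of_dvd this h
      constructor
      · rintro ⟨A, B, hA, hB, hdp⟩
        exfalso
        rcases indec_two hmax x q hx hq hall hdp with h | h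
        · exact hA h
        · exact hB h
      · rintro (h | h | h)
        · omega
        · omega
        · exact absurd (hcard.symm.trans hk) (h.2 k)
    · have h01 : ¬ (Fintype.card α % 4 = 2 ∨ Fintype.card α % 4 = 3) := fun h => hq (htwo.2 h)
      have hall : ∀ y, y ∈ orb T x ∨ (orb T y).card = 1 := by
        intro y
        rcases one_or_four_le hp hq y with h | h
        · exact Or.inr h
        · exact Or.inl (hall4 y h)
      by_cases h4 : (orb T x).card = 4
      · have h45 : Fintype.card α = 4 ∨ Fintype.card α = 5 := by omega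
        constructor
        · intro _
          rcases h45 with h | h
          · exact Or.inl h
          · exact Or.inr (Or.inl h)
        · intro _
          exact dec_four hmax x h4 hall
      · have h8 := eight_le hp hx h4
        constructor
        · rintro ⟨A, B, hA, hB, hdp⟩
          exfalso
          rcases indec_single hmax x h8 hall hdp with h | h
          · exact hA h
          · exact hB h
        · rintro (h | h | h)
          · omega
          · omega
          · exact absurd h.1 h01

end Cfsg.Agent.Lib.Helper38.Wr
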