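import Mathlib
import Cfsg.Prelude.Def_TwoFusion
import Cfsg.Agent.Lib.Helper38.WrK

set_option autoImplicit false
set_option linter.unusedSectionVars false

/-! Direct decomposability of the Sylow `2`-subgroups of the alternating groups: transfer from the
symmetric group. -/

namespace Cfsg.Agent.Lib.Helper38.Wr

open Equiv Equiv.Perm

theorem dp_map_iff {G H : Type*} [Group G] [Group H] {f : G →* H} (hf : Function.Injective f)
    (S₁ S₂ S : Subgroup G) :
    Cfsg.IsInternalDirectProduct (S₁.map f) (S₂.map f) (S.map f) ↔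
      Cfsg.IsInternalDirectProduct S₁ S₂ S := by
  unfold Cfsg.IsInternalDirectProduct
  rw [Subgroup.map_le_map_iff_of_injective hf, Subgroup.map_le_map_iff_of_injective hf,
    ← Subgroup.map_inf _ _ f hf, Subgroup.map_eq_bot_iff_of_injective _ hf, ← Subgroup.map_sup,
    (Subgroup.map_injective hf).eq_iff]
  have hc : (∀ a ∈ S₁.map f, ∀ b ∈ S₂.map f, a * b = b * a) ↔
      (∀ a ∈ S₁, ∀ b ∈ S₂, a * b = b * a) := by
    constructor
    · intro h a ha b hb
      apply hf
      rw [map_mul, map_mul]
      exact h _ (Subgroup.mem_map_of_mem f ha) _ (Subgroup.mem_map_of_mem f hb)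
    · rintro h _ ⟨a, ha, rfl⟩ _ ⟨b, hb, rfl⟩
      rw [← map_mul, ← map_mul, h a ha b hb]
  rw [hc]

variable {α : Type*} [Fintype α] [DecidableEq α]

/-- a Sylow `2`-subgroup of the alternating group is the even part of a Sylow `2`-subgroup of the
symmetric group -/
theorem exists_sylow_perm (P : Sylow 2 (alternatingGroup α)) :
    ∃ S : Sylow 2 (Perm α), (P : Subgroup (alternatingGroup α)).map (alternatingGroup α).subtype =
      (S : Subgroup (Perm α)) ⊓ alternatingGroup α := by
  have : Fact (Nat.Prime 2) := ⟨Nat.prime_two⟩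
  have hP' : IsPGroup 2 ((P : Subgroup (alternatingGroup α)).map (alternatingGroup α).subtype) :=
    P.isPGroup'.map _
  obtain ⟨S, hS⟩ := IsPGroup.exists_le_sylow hP'
  refine ⟨S, ?_⟩
  apply le_antisymm
  · exact le_inf hS (Subgroup.map_subtype_le _)
  · set Q : Subgroup (alternatingGroup α) :=
      ((S : Subgroup (Perm α)) ⊓ alternatingGroup α).subgroupOf (alternatingGroup α) with hQ
    have hQp : IsPGroup 2 Q := (S.isPGroup'.to_inf_left).comap_subtype
    have hPQ : (P : Subgroup (alternatingGroup α)) ≤ Q := by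
      intro p hp
      rw [hQ, Subgroup.mem_subgroupOf]
      exact ⟨hS (Subgroup.mem_map_of_mem _ hp), p.2⟩
    have hQP := P.is_maximal' hQp hPQ
    rw [← hQP, hQ, Subgroup.map_subgroupOf_eq_of_le inf_le_right]

/-- **Direct decomposability of the Sylow `2`-subgroups of the alternating groups.** -/
theorem main_alt (P : Sylow 2 (alternatingGroup α)) (hn : 4 ≤ Fintype.card α) :
    (∃ S₁ S₂ : Subgroup (alternatingGroup α), S₁ ≠ ⊥ ∧ S₂ ≠ ⊥ ∧
      Cfsg.IsInternalDirectProduct S₁ S₂ (P : Subgroup (alternatingGroup α))) ↔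
    (Fintype.card α = 4 ∨ Fintype.card α = 5 ∨
      ((Fintype.card α % 4 = 2 ∨ Fintype.card α % 4 = 3) ∧
        ∀ r : ℕ, 4 * (Fintype.card α / 4) ≠ 2 ^ r)) := by
  obtain ⟨S, hS⟩ := exists_sylow_perm P
  rw [← main_perm S hn]
  have hf : Function.Injective (alternatingGroup α).subtype := Subgroup.subtype_injective _
  constructor
  · rintro ⟨S₁, S₂, h1, h2, hdp⟩
    refine ⟨S₁.map (alternatingGroup α).subtype, S₂.map (alternatingGroup α).subtype, ?_, ?_, ?_⟩
    · rw [Ne, Subgroup.map_eq_bot_iff_of_injective _ hf]; exact h1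
    · rw [Ne, Subgroup.map_eq_bot_iff_of_injective _ hf]; exact h2
    · rw [← hS, dp_map_iff hf]; exact hdp
  · rintro ⟨A, B, hA, hB, hdp⟩
    have hAle : A ≤ alternatingGroup α := hdp.1.trans inf_le_right
    have hBle : B ≤ alternatingGroup α := hdp.2.1.trans inf_le_right
    have eA := Subgroup.map_subgroupOf_eq_of_le hAle
    have eB := Subgroup.map_subgroupOf_eq_of_le hBle
    refine ⟨A.subgroupOf (alternatingGroup α), B.subgroupOf (alternatingGroup α), ?_, ?_, ?_⟩
    · intro h
      apply hA
      rw [← eA, h, Subgroup.map_bot]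
    · intro h
      apply hB
      rw [← eB, h, Subgroup.map_bot]
    · rw [← dp_map_iff hf, eA, eB, hS]
      exact hdp

end Cfsg.Agent.Lib.Helper38.Wr
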